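import Cfsg.Agent.Lib.Signalizer.Plane

/-!
Commutators with an element of `A` in a solvable `p'`-subgroup.
-/

set_option autoImplicit false
set_option linter.style.haveILetI false
set_option linter.unusedVariables false
set_option linter.unusedSectionVars false

open scoped Pointwise commutatorElement
open Subgroup

namespace CfsgLib.Signalizer

variable {G : Type*} [Group G]

theorem le_normalizer_map_conj {X : Subgroup G} {a : G} (ha : a ∈ normalizer (X : Set G)) :
    X.map (MulAut.conj a).toMonoidHom = X := mem_normalizer_iff_map_conj_eq.mp ha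

theorem normalizer_inf_le_normalizer_commutator (X Y : Subgroup G) :
    normalizer (X : Set G) ⊓ normalizer (Y : Set G) ≤
      normalizer ((⁅X, Y⁆ : Subgroup G) : Set G) := by
  rintro a ⟨hX, hY⟩
  rw [mem_normalizer_iff_map_conj_eq, map_commutator]
  exact congrArg₂ (⁅·, ·⁆) (le_normalizer_map_conj hX) (le_normalizer_map_conj hY)

theorem le_normalizer_inf {X Y U : Subgroup G} (hX : U ≤ normalizer (X : Set G))
    (hY : U ≤ normalizer (Y : Set G)) : U ≤ normalizer ((X ⊓ Y : Subgroup G) : Set G) :=
  fun u hu => inf_normalizer_le_normalizer_inf ⟨hX hu, hY hu⟩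

theorem le_normalizer_sup {X Y U : Subgroup G} (hX : U ≤ normalizer (X : Set G))
    (hY : U ≤ normalizer (Y : Set G)) : U ≤ normalizer ((X ⊔ Y : Subgroup G) : Set G) :=
  (le_inf hX hY).trans (normalizer_inf_normalizer_le_normalizer_sup X Y)

theorem le_normalizer_iSup {ι : Sort*} {X : ι → Subgroup G} {U : Subgroup G}
    (h : ∀ i, U ≤ normalizer (X i : Set G)) : U ≤ normalizer ((⨆ i, X i : Subgroup G) : Set G) := by
  intro u hu
  rw [mem_normalizer_iff_map_conj_eq, Subgroup.map_iSup]
  exact iSup_congr fun i => le_normalizer_map_conj (h i hu)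

theorem le_normalizer_centralizer {X U : Subgroup G} (h : U ≤ normalizer (X : Set G)) :
    U ≤ normalizer ((centralizer (X : Set G) : Subgroup G) : Set G) := by
  rw [le_normalizer_iff]
  intro g hg x hx
  rw [mem_centralizer_iff] at hx ⊢
  intro s hs
  have h1 : g⁻¹ * s * g ∈ X := by
    simpa using (mem_normalizer_iff.mp (h (inv_mem hg)) s).mp hs
  calc s * (g * x * g⁻¹) = g * ((g⁻¹ * s * g) * x) * g⁻¹ := by group
    _ = g * (x * (g⁻¹ * s * g)) * g⁻¹ := by rw [hx _ h1]
    _ = g * x * g⁻¹ * s := by group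

theorem commutator_zpowers_le {K : Subgroup G} {k : G}
    (hk : k ∈ normalizer (K : Set G)) : ⁅K, zpowers k⁆ ≤ K :=
  CfsgLib.Solvable.commutator_le_of_normalizes (zpowers_le.mpr hk)

/-- The commutator with `k` centralizes what `k` centralizes. -/
theorem commutator_zpowers_le_centralizer {X Y : Subgroup G} {k : G}
    (hX : X ≤ normalizer (Y : Set G)) (hY : Y ≤ centralizer ({k} : Set G)) :
    ⁅X, zpowers k⁆ ≤ centralizer (Y : Set G) := by
  rw [← commutator_eq_bot_iff_le_centralizer]
  refine commutator_commutator_eq_bot_of_rotate ?_ ?_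
  · have h : ⁅zpowers k, Y⁆ = ⊥ := by
      rw [commutator_comm, commutator_eq_bot_iff_le_centralizer]
      rw [zpowers_eq_closure, centralizer_closure]
      exact hY
    rw [h, commutator_bot_left]
  · have h : ⁅⁅Y, X⁆, zpowers k⁆ ≤ ⁅Y, zpowers k⁆ :=
      commutator_mono (CfsgLib.Solvable.commutator_le_of_normalizes hX) le_rfl
    have h' : ⁅Y, zpowers k⁆ = ⊥ := by
      rw [commutator_eq_bot_iff_le_centralizer, zpowers_eq_closure, centralizer_closure]
      exact hY
    exact le_bot_iff.mp (h'.le.trans' h)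

theorem centralizer_zpowers (k : G) :
    centralizer (zpowers k : Set G) = centralizer ({k} : Set G) := by
  rw [zpowers_eq_closure, centralizer_closure]

theorem le_centralizer_singleton_of_commutator_eq_bot {K : Subgroup G} {k : G}
    (h : ⁅K, zpowers k⁆ = ⊥) : K ≤ centralizer ({k} : Set G) := by
  rw [← centralizer_zpowers]
  exact commutator_eq_bot_iff_le_centralizer.mp h

theorem commutator_eq_bot_of_le_centralizer_singleton {K : Subgroup G} {k : G}
    (h : K ≤ centralizer ({k} : Set G)) : ⁅K, zpowers k⁆ = ⊥ := by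
  rw [commutator_eq_bot_iff_le_centralizer, centralizer_zpowers]
  exact h

variable [Finite G] {p : ℕ} [hp : Fact p.Prime] {A : Subgroup G}

theorem zpowers_coprime (hA : Cfsg.IsElementaryAbelian p A) {K : Subgroup G}
    (hK : ¬ p ∣ Nat.card K) {k : G} (hk : k ∈ A) :
    (Nat.card (zpowers k)).Coprime (Nat.card K) :=
  (elementary_coprime hA hK).coprime_dvd_left (card_dvd_of_le (zpowers_le.mpr hk))

theorem zpowers_solvable_or (hA : Cfsg.IsElementaryAbelian p A) {K : Subgroup G} {k : G}
    (hk : k ∈ A) : Group.IsSolvable (zpowers k) ∨ Group.IsSolvable K :=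
  Or.inl (elementary_isSolvable (elementary_of_le hA (zpowers_le.mpr hk)))

theorem commutator_idem (hA : Cfsg.IsElementaryAbelian p A) {K : Subgroup G}
    (hK : ¬ p ∣ Nat.card K) (hAK : A ≤ normalizer (K : Set G)) {k : G} (hk : k ∈ A) :
    ⁅⁅K, zpowers k⁆, zpowers k⁆ = ⁅K, zpowers k⁆ :=
  CfsgLib.Solvable.commutator_commutator_eq ((zpowers_le.mpr hk).trans hAK)
    (zpowers_coprime hA hK hk) (zpowers_solvable_or hA hk)

theorem sup_centralizer_eq (hA : Cfsg.IsElementaryAbelian p A) {K : Subgroup G}
    (hK : ¬ p ∣ Nat.card K) (hAK : A ≤ normalizer (K : Set G)) {k : G} (hk : k ∈ A) :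
    ⁅K, zpowers k⁆ ⊔ (K ⊓ centralizer ({k} : Set G)) = K := by
  rw [← centralizer_zpowers]
  exact CfsgLib.Solvable.commutator_sup_centralizer ((zpowers_le.mpr hk).trans hAK)
    (zpowers_coprime hA hK hk) (zpowers_solvable_or hA hk)

theorem le_normalizer_commutator_elem (hA : Cfsg.IsElementaryAbelian p A) {K : Subgroup G}
    (hAK : A ≤ normalizer (K : Set G)) {k : G} (hk : k ∈ A) :
    A ≤ normalizer ((⁅K, zpowers k⁆ : Subgroup G) : Set G) := fun a ha =>
  normalizer_inf_le_normalizer_commutator _ _ ⟨hAK ha, centralizer_le_normalizer _ (by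
    rintro _ ⟨i, rfl⟩
    exact ((show Commute k a from elementary_commute hA hk ha).zpow_left i).eq)⟩

theorem le_normalizer_inf_centralizer_elem (hA : Cfsg.IsElementaryAbelian p A) {K : Subgroup G}
    (hAK : A ≤ normalizer (K : Set G)) {d : G} (hd : d ∈ A) :
    A ≤ normalizer ((K ⊓ centralizer ({d} : Set G) : Subgroup G) : Set G) :=
  le_normalizer_inf hAK ((le_centralizer_singleton hA hd).trans le_normalizer)

theorem le_normalizer_inf_centralizer (hA : Cfsg.IsElementaryAbelian p A) {K : Subgroup G}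
    (hAK : A ≤ normalizer (K : Set G)) {B : Subgroup G} (hB : B ≤ A) :
    A ≤ normalizer ((K ⊓ centralizer (B : Set G) : Subgroup G) : Set G) := by
  refine le_normalizer_inf hAK (le_normalizer_centralizer ?_)
  intro a ha
  exact centralizer_le_normalizer _ fun b hb => elementary_commute hA (hB hb) ha

/-- `[K,k]` lies in the subgroup generated by the centralizers of the elements of a line through
`k` outside `⟨k⟩`. -/
theorem commutator_le_iSup_centralizer (hA : Cfsg.IsElementaryAbelian p A) {L : Subgroup G}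
    (hL : L ≤ A) (hLc : ¬ IsCyclic L) {k : G} (hk : k ∈ L) {K : Subgroup G}
    (hKs : Group.IsSolvable K) (hK : ¬ p ∣ Nat.card K) (hAK : A ≤ normalizer (K : Set G)) :
    ⁅K, zpowers k⁆ ≤
      ⨆ d : {d : G // d ∈ L ∧ d ∉ zpowers k}, K ⊓ centralizer ({(d : G)} : Set G) := by
  set K₀ := ⨆ d : {d : G // d ∈ L ∧ d ∉ zpowers k}, K ⊓ centralizer ({(d : G)} : Set G) with hK₀
  have hK₀K : K₀ ≤ K := iSup_le fun d => inf_le_left
  have hkA := hL hk
  haveI := (elementary_of_le hA hL).1
  set Ds : ℕ → Subgroup G := fun i => (derivedSeries K i).map K.subtype with hDs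
  have hDK : ∀ i, Ds i ≤ K := fun i => map_subtype_le _
  have hKD : ∀ i, normalizer (K : Set G) ≤ normalizer (Ds i : Set G) := fun i => by
    intro g hg
    rw [mem_normalizer_iff_map_conj_eq]
    let e : K ≃* K :=
      (K.equivMapOfInjective (MulAut.conj g).toMonoidHom (MulAut.conj g).injective).trans
        (MulEquiv.subgroupCongr (le_normalizer_map_conj hg))
    have h1 : K.subtype.comp e.toMonoidHom = (MulAut.conj g).toMonoidHom.comp K.subtype :=
      MonoidHom.ext fun x => rfl
    calc ((derivedSeries K i).map K.subtype).map (MulAut.conj g).toMonoidHom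
        = ((derivedSeries K i).map e.toMonoidHom).map K.subtype := by rw [map_map, map_map, h1]
      _ = (derivedSeries K i).map K.subtype := by
          rw [characteristic_iff_map_eq.mp (derivedSeries_characteristic _ i) e]
  have claim : ∀ i, ⁅K, zpowers k⁆ ≤ K₀ ⊔ Ds i := by
    intro i
    induction i with
    | zero =>
      refine (commutator_zpowers_le (hAK hkA)).trans (le_sup_of_le_right ?_)
      simp [hDs, derivedSeries_zero, ← MonoidHom.range_eq_map]
    | succ i ih =>
      set U := Ds i with hU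
      set N := Ds (i + 1) with hN
      have hUN : ⁅U, U⁆ = N := by
        rw [hU, hN, hDs]
        simp [derivedSeries_succ, map_commutator]
      have hNU : N ≤ U := by
        rw [← hUN]
        exact CfsgLib.Solvable.commutator_le_of_normalizes le_normalizer
      have hKU : K ≤ normalizer (U : Set G) := le_normalizer.trans (hKD i)
      have hKN : K ≤ normalizer (N : Set G) := le_normalizer.trans (hKD (i + 1))
      set T := K₀ ⊔ N with hT
      have hTK : T ≤ K := sup_le hK₀K (hDK _)
      -- `[U,k]` lies in `T`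
      have hUT : ⁅U, zpowers k⁆ ≤ T ⊓ U := by
        have hW : N ≤ T ⊓ U := le_inf le_sup_right hNU
        have hUn : U ≤ normalizer ((T ⊓ U : Subgroup G) : Set G) := by
          rw [le_normalizer_iff]
          intro u hu w hw
          have h1 : u * w * u⁻¹ * w⁻¹ ∈ N := by
            rw [← hUN]
            exact commutator_mem_commutator hu hw.2
          have h2 := (T ⊓ U).mul_mem (hW h1) hw
          simpa [mul_assoc] using h2
        have hsub : U ≤ (T ⊓ U) ⊔ (U ⊓ centralizer ({k} : Set G)) := by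
          refine CfsgLib.Solvable.le_of_centralizer_le hLc ((hL.trans hAK).trans (hKD i))
            ((elementary_coprime hA hK).coprime_dvd_right (card_dvd_of_le (hDK i))
              |>.coprime_dvd_left (card_dvd_of_le hL)) fun d hd hd1 => ?_
          by_cases hdk : d ∈ zpowers k
          · have hz : zpowers d = zpowers k := eq_of_le_of_card_ge (zpowers_le.mpr hdk) (by
              rw [card_zpowers_elementary hA (hL hd) hd1]
              rw [Nat.card_zpowers]
              exact Nat.le_of_dvd hp.out.pos (orderOf_dvd_of_pow_eq_one (hA.2 k hkA)))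
            refine le_sup_of_le_right (le_of_eq ?_)
            rw [← centralizer_zpowers, hz, centralizer_zpowers]
          · refine le_sup_of_le_left (le_inf (le_sup_of_le_left ?_) inf_le_left)
            exact le_trans (inf_le_inf_right _ (hDK i)) (le_iSup (fun d :
              {d : G // d ∈ L ∧ d ∉ zpowers k} => K ⊓ centralizer ({(d : G)} : Set G)) ⟨d, hd, hdk⟩)
        rw [commutator_le]
        intro u hu z hz
        have hu' := hsub hu
        have hCn : U ⊓ centralizer ({k} : Set G) ≤ normalizer ((T ⊓ U : Subgroup G) : Set G) :=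
          inf_le_left.trans hUn
        obtain ⟨t, ht, c, hc, rfl⟩ := (CfsgLib.Solvable.mem_sup_of_le_normalizer hCn).mp hu'
        have hcz : Commute c z := by
          obtain ⟨j, rfl⟩ := hz
          exact (show Commute c k from mem_centralizer_singleton_iff.mp hc.2).zpow_right j
        have he : ⁅t * c, z⁆ = t * (z * t⁻¹ * z⁻¹) := by
          simp only [commutatorElement_def, mul_inv_rev]
          calc t * c * z * (c⁻¹ * t⁻¹) * z⁻¹ = t * (c * z * c⁻¹) * t⁻¹ * z⁻¹ := by group
            _ = t * (z * t⁻¹ * z⁻¹) := by rw [hcz.eq]; group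
        rw [he]
        refine (T ⊓ U).mul_mem ht ?_
        have hzA : z ∈ A := zpowers_le.mpr hkA hz
        refine le_normalizer_iff.mp (le_normalizer_inf (le_normalizer_sup
          (le_normalizer_iSup fun d => le_normalizer_inf_centralizer_elem hA hAK (hL d.2.1))
          (hAK.trans (hKD _))) (hAK.trans (hKD i))) z hzA _ (inv_mem ht)
      rw [← commutator_idem hA hK hAK hkA]
      refine (commutator_mono ih le_rfl).trans ?_
      rw [commutator_le]
      intro y hy z hz
      have hy' : y ∈ ((K₀ ⊔ U : Subgroup G) : Set G) := hy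
      rw [coe_mul_of_left_le_normalizer_right K₀ U (hK₀K.trans hKU)] at hy'
      obtain ⟨u, hu, x, hx, rfl⟩ := hy'
      have hzA : z ∈ A := zpowers_le.mpr hkA hz
      have h1 : ⁅x, z⁆ ∈ T := (hUT (commutator_mem_commutator hx hz)).1
      have hn : z * u⁻¹ * z⁻¹ ∈ K₀ := le_normalizer_iff.mp (le_normalizer_iSup fun d =>
        le_normalizer_inf_centralizer_elem hA hAK (hL d.2.1)) z hzA _ (K₀.inv_mem hu)
      rw [show ⁅u * x, z⁆ = u * ⁅x, z⁆ * u⁻¹ * (u * (z * u⁻¹ * z⁻¹)) by
        simp only [commutatorElement_def]; group]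
      exact T.mul_mem (T.mul_mem (T.mul_mem (mem_sup_left hu) h1) (mem_sup_left (K₀.inv_mem hu)))
        (mem_sup_left (K₀.mul_mem hu hn))
  obtain ⟨n, hn⟩ := hKs.solvable
  have h := claim n
  have hb : Ds n = ⊥ := by simp [hDs, hn]
  rwa [hb, sup_bot_eq] at h

/-- `[K,k]` lies in the subgroup generated by the `[C_K(d),k]`, `d` on a line through `k` outside
`⟨k⟩`, and that subgroup is normalized by `C_K(L)`. -/
theorem commutator_le_iSup_commutator (hA : Cfsg.IsElementaryAbelian p A) {L : Subgroup G}
    (hL : L ≤ A) (hLp : Nat.card L = p ^ 2) {k : G} (hk : k ∈ L) (hk1 : k ≠ 1) {K : Subgroup G}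
    (hKs : Group.IsSolvable K) (hK : ¬ p ∣ Nat.card K) (hAK : A ≤ normalizer (K : Set G)) :
    ⁅K, zpowers k⁆ ≤ ⨆ d : {d : G // d ∈ L ∧ d ∉ zpowers k},
      ⁅K ⊓ centralizer ({(d : G)} : Set G), zpowers k⁆ := by
  have hkA := hL hk
  have hLc : ¬ IsCyclic L := elementary_not_isCyclic (elementary_of_le hA hL) hLp.ge
  set S := ⨆ d : {d : G // d ∈ L ∧ d ∉ zpowers k},
      ⁅K ⊓ centralizer ({(d : G)} : Set G), zpowers k⁆ with hS
  have hdis : ∀ d : G, A ≤ normalizer ((K ⊓ centralizer ({d} : Set G) : Subgroup G) : Set G) →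
      k ∈ normalizer ((K ⊓ centralizer ({d} : Set G) : Subgroup G) : Set G) := fun d h => h hkA
  have hAd : ∀ d : {d : G // d ∈ L ∧ d ∉ zpowers k},
      A ≤ normalizer ((K ⊓ centralizer ({(d : G)} : Set G) : Subgroup G) : Set G) :=
    fun d => le_normalizer_inf_centralizer_elem hA hAK (hL d.2.1)
  have hAS : A ≤ normalizer (S : Set G) :=
    le_normalizer_iSup fun d => le_normalizer_commutator_elem hA (hAd d) hkA
  have hCS : ∀ x ∈ K, (∀ l ∈ L, l * x = x * l) → x ∈ normalizer (S : Set G) := by
    intro x hx hxL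
    refine le_normalizer_iSup (X := fun d : {d : G // d ∈ L ∧ d ∉ zpowers k} =>
      ⁅K ⊓ centralizer ({(d : G)} : Set G), zpowers k⁆) (U := zpowers x) (fun d => ?_) (mem_zpowers x)
    refine zpowers_le.mpr (normalizer_inf_le_normalizer_commutator _ _ ⟨?_, ?_⟩)
    · refine inf_normalizer_le_normalizer_inf ⟨le_normalizer hx, le_normalizer ?_⟩
      exact mem_centralizer_singleton_iff.mpr (hxL d d.2.1).symm
    · refine centralizer_le_normalizer _ ?_
      rintro _ ⟨i, rfl⟩
      exact ((show Commute k x from hxL k hk).zpow_left i).eq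
  have hSK : ∀ d : {d : G // d ∈ L ∧ d ∉ zpowers k},
      K ⊓ centralizer ({(d : G)} : Set G) ≤ normalizer (S : Set G) := by
    intro d
    have hK' : ¬ p ∣ Nat.card ↥(K ⊓ centralizer ({(d : G)} : Set G)) := not_dvd_of_le inf_le_left hK
    rw [← sup_centralizer_eq hA hK' (hAd d) hkA]
    refine sup_le ((le_iSup (fun e : {d : G // d ∈ L ∧ d ∉ zpowers k} =>
      ⁅K ⊓ centralizer ({(e : G)} : Set G), zpowers k⁆) d).trans le_normalizer) ?_
    rintro x ⟨⟨hxK, hxd⟩, hxk⟩
    refine hCS x hxK fun l hl => ?_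
    have hsup : zpowers k ⊔ zpowers (d : G) = L := by
      refine eq_of_le_of_card_ge (sup_le (zpowers_le.mpr hk) (zpowers_le.mpr d.2.1)) ?_
      rw [card_sup_zpowers_elementary hA (zpowers_le.mpr hkA) (hL d.2.1) d.2.2,
        card_zpowers_elementary hA hkA hk1, hLp, pow_two]
    have hle : L ≤ centralizer ({x} : Set G) := by
      rw [← hsup]
      refine sup_le (zpowers_le.mpr ?_) (zpowers_le.mpr ?_)
      · exact mem_centralizer_singleton_iff.mpr (hxk k rfl)
      · exact mem_centralizer_singleton_iff.mpr (hxd _ rfl)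
    exact mem_centralizer_singleton_iff.mp (hle hl)
  set K₀ := ⨆ d : {d : G // d ∈ L ∧ d ∉ zpowers k}, K ⊓ centralizer ({(d : G)} : Set G) with hK₀
  have h0 : ⁅K, zpowers k⁆ ≤ K₀ := commutator_le_iSup_centralizer hA hL hLc hk hKs hK hAK
  have hK₀S : K₀ ≤ normalizer (S : Set G) := iSup_le hSK
  rw [← commutator_idem hA hK hAK hkA]
  refine (commutator_mono h0 le_rfl).trans ?_
  rw [commutator_le]
  intro y hy z hz
  have hzA : z ∈ A := zpowers_le.mpr hkA hz
  revert hy
  rw [hK₀]
  intro hy
  induction hy using iSup_induction' with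
  | hp d u hu =>
    exact (le_iSup (fun e : {d : G // d ∈ L ∧ d ∉ zpowers k} =>
      ⁅K ⊓ centralizer ({(e : G)} : Set G), zpowers k⁆) d) (commutator_mem_commutator hu hz)
  | h1 => simp
  | hmul u v hu hv ih1 ih2 =>
    rw [show ⁅u * v, z⁆ = u * ⁅v, z⁆ * u⁻¹ * ⁅u, z⁆ by simp only [commutatorElement_def]; group]
    exact S.mul_mem (le_normalizer_iff.mp hK₀S u hu _ ih2) ih1

end CfsgLib.Signalizer
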