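import Cfsg.Agent.Lib.Signalizer.LocalCore
import Cfsg.Prelude.Def_Balance

/-!
Equivariant signalizer functors on a connected rank two commuting graph.
The solvable signalizer functor theorem enters as a hypothesis.
-/

set_option autoImplicit false
set_option linter.style.haveILetI false
set_option linter.unusedVariables false
set_option linter.unusedSectionVars false

open Subgroup CfsgLib.Components CfsgLib.Balance

namespace CfsgLib.Signalizer.Connected

variable {G : Type*} [Group G] [Finite G] {p : ℕ} [hp : Fact p.Prime]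

/-- The conclusion of the solvable signalizer functor theorem in `G`. -/
def FunctorTheorem (p : ℕ) (G : Type*) [Group G] : Prop :=
  ∀ (A : Subgroup G) (θ : G → Subgroup G), Cfsg.IsElementaryAbelian p A → p ^ 3 ≤ Nat.card A →
    Cfsg.IsSolvableSignalizerFunctor p A θ →
      ¬ p ∣ Nat.card ↥(Cfsg.signalizerClosure A θ) ∧
        ∀ a ∈ A, a ≠ 1 → Cfsg.signalizerClosure A θ ⊓ centralizer {a} = θ a

theorem pow_three_le_of_lt {A : Subgroup G} (hA : Cfsg.IsElementaryAbelian p A)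
    (h : p ^ 2 < Nat.card A) : p ^ 3 ≤ Nat.card A := by
  obtain ⟨n, hn⟩ := (elementary_isPGroup hA).exists_card_eq
  rw [hn] at h ⊢
  exact Nat.pow_le_pow_right hp.out.pos ((Nat.pow_lt_pow_iff_right hp.out.one_lt).mp h)

theorem exists_big {C : Subgroup G} (h : ¬ Cfsg.PRankLE p 2 C) :
    ∃ B ≤ C, Cfsg.IsElementaryAbelian p B ∧ p ^ 3 ≤ Nat.card B := by
  unfold Cfsg.PRankLE at h
  push Not at h
  obtain ⟨B, hB, hBp, hlt⟩ := h
  have hel : Cfsg.IsElementaryAbelian p (B.map C.subtype) := by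
    refine ⟨⟨⟨?_⟩⟩, ?_⟩
    · rintro ⟨_, a, ha, rfl⟩ ⟨_, b, hb, rfl⟩
      exact Subtype.ext (congrArg (fun z : B => ((z : C) : G))
        (hB.is_comm.comm ⟨a, ha⟩ ⟨b, hb⟩))
    · rintro _ ⟨a, ha, rfl⟩
      rw [← map_pow, hBp a ha, map_one]
  refine ⟨B.map C.subtype, map_subtype_le B, hel, pow_three_le_of_lt hel ?_⟩
  rwa [card_map_of_injective C.subtype_injective]

theorem not_rankLE_of_le {A C : Subgroup G} (hA : Cfsg.IsElementaryAbelian p A)
    (h3 : p ^ 3 ≤ Nat.card A) (hAC : A ≤ C) : ¬ Cfsg.PRankLE p 2 C := by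
  intro h
  have h1 := h (A.subgroupOf C) ⟨⟨fun a b => Subtype.ext (Subtype.ext
    (elementary_commute hA a.2 b.2))⟩⟩ fun a ha => Subtype.ext (hA.2 (a : G) ha)
  rw [Nat.card_congr (subgroupOfEquivOfLe hAC).toEquiv] at h1
  have h2 : p ^ 2 < p ^ 3 := Nat.pow_lt_pow_right hp.out.one_lt (by norm_num)
  omega

theorem le_centralizer_self {A : Subgroup G} (hA : Cfsg.IsElementaryAbelian p A) :
    A ≤ centralizer (A : Set G) := fun _ ha _ hb => elementary_commute hA hb ha

theorem elementary_sup {E F : Subgroup G} (hE : Cfsg.IsElementaryAbelian p E)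
    (hF : Cfsg.IsElementaryAbelian p F) (h : ∀ a ∈ E, ∀ b ∈ F, a * b = b * a) :
    Cfsg.IsElementaryAbelian p (E ⊔ F) := by
  have hEF : E ≤ centralizer (F : Set G) := fun a ha b hb => (h a ha b hb).symm
  have hc : E ⊔ F ≤ centralizer ((E ⊔ F : Subgroup G) : Set G) := by
    refine sup_le ?_ ?_
    · rw [le_centralizer_iff]
      exact sup_le (le_centralizer_self hE) (le_centralizer_iff.mp hEF)
    · rw [le_centralizer_iff]
      exact sup_le hEF (le_centralizer_self hF)
  refine ⟨⟨⟨fun a b => Subtype.ext (hc b.2 a a.2)⟩⟩, fun x hx => ?_⟩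
  rw [← SetLike.mem_coe, coe_mul_of_left_le_normalizer_right E F
    (hEF.trans (centralizer_le_normalizer _))] at hx
  obtain ⟨a, ha, b, hb, rfl⟩ := hx
  rw [(show Commute a b from h a ha b hb).mul_pow, hE.2 a ha, hF.2 b hb, one_mul]

theorem elementary_map {A : Subgroup G} (hA : Cfsg.IsElementaryAbelian p A) (f : G →* G) :
    Cfsg.IsElementaryAbelian p (A.map f) := by
  refine ⟨⟨⟨?_⟩⟩, ?_⟩
  · rintro ⟨_, a, ha, rfl⟩ ⟨_, b, hb, rfl⟩
    exact Subtype.ext (show f a * f b = f b * f a by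
      rw [← map_mul, ← map_mul, elementary_commute hA ha hb])
  · rintro _ ⟨a, ha, rfl⟩
    rw [← map_pow, hA.2 a ha, map_one]

theorem vertex_of_big {A : Subgroup G} (hA : Cfsg.IsElementaryAbelian p A)
    (h3 : p ^ 3 ≤ Nat.card A) : Cfsg.IsRankGraphVertex p 2 A :=
  ⟨hA, (Nat.pow_le_pow_right hp.out.pos (by norm_num)).trans h3,
    not_rankLE_of_le hA h3 (le_centralizer_self hA)⟩

theorem elementary_zpowers {a : G} (ha : orderOf a = p) :
    Cfsg.IsElementaryAbelian p (zpowers a) := by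
  refine ⟨inferInstance, ?_⟩
  rintro _ ⟨i, rfl⟩
  rw [← zpow_natCast, ← zpow_mul, mul_comm, zpow_mul, zpow_natCast, ← ha, pow_orderOf_eq_one,
    one_zpow]

variable {θ : G → Subgroup G}

/-- The elements on which the functor is defined. -/
def Dom (p : ℕ) (a : G) : Prop :=
  orderOf a = p ∧ ¬ Cfsg.PRankLE p 2 ↥(centralizer ({a} : Set G))

theorem dom_of_big {A : Subgroup G} (hA : Cfsg.IsElementaryAbelian p A)
    (h3 : p ^ 3 ≤ Nat.card A) {a : G} (ha : a ∈ A) (ha1 : a ≠ 1) : Dom p a :=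
  ⟨orderOf_eq_prime (hA.2 a ha) ha1, not_rankLE_of_le hA h3 (le_centralizer_singleton hA ha)⟩

section equivariant

variable (hF : FunctorTheorem p G)
  (hC : ∀ a : G, Dom p a →
    θ a ≤ centralizer ({a} : Set G) ∧ ¬ p ∣ Nat.card ↥(θ a) ∧ Group.IsSolvable ↥(θ a))
  (heq : ∀ a g : G, Dom p a → θ (g * a * g⁻¹) = (θ a).map (MulAut.conj g).toMonoidHom)
  (hbal : ∀ a b : G, Dom p a → Dom p b → a * b = b * a → θ a ⊓ centralizer {b} ≤ θ b)

include hC heq hbal

theorem functor_of_big {A : Subgroup G} (hA : Cfsg.IsElementaryAbelian p A)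
    (h3 : p ^ 3 ≤ Nat.card A) : Cfsg.IsSolvableSignalizerFunctor p A θ := by
  refine ⟨⟨fun a ha ha1 => (hC a (dom_of_big hA h3 ha ha1)).1,
    fun a ha ha1 => (hC a (dom_of_big hA h3 ha ha1)).2.1, fun a ha ha1 b hb x hx => ?_,
    fun a ha ha1 b hb hb1 => hbal a b (dom_of_big hA h3 ha ha1) (dom_of_big hA h3 hb hb1)
      (elementary_commute hA ha hb)⟩,
    fun a ha ha1 => (hC a (dom_of_big hA h3 ha ha1)).2.2⟩
  have h := heq a b (dom_of_big hA h3 ha ha1)
  rw [elementary_commute hA hb ha, mul_inv_cancel_right] at h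
  rw [h]
  exact ⟨x, hx, rfl⟩

include hF

theorem closure_eq {A E : Subgroup G} (hA : Cfsg.IsElementaryAbelian p A)
    (h3 : p ^ 3 ≤ Nat.card A) (hEA : E ≤ A) (h2 : p ^ 2 ≤ Nat.card E) :
    Cfsg.signalizerClosure E θ = Cfsg.signalizerClosure A θ := by
  have hθ := functor_of_big hC heq hbal hA h3
  obtain ⟨hd, hfix⟩ := hF A θ hA h3 hθ
  refine le_antisymm (iSup_le fun a => le_iSup_of_le (⟨a.1, hEA a.2.1, a.2.2⟩ :
    {a : G // a ∈ A ∧ a ≠ 1}) le_rfl) ?_
  have hEn : E ≤ normalizer (Cfsg.signalizerClosure A θ : Set G) := by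
    refine hEA.trans fun b hb => mem_normalizer_iff_map_conj_eq.mpr ?_
    rw [Cfsg.signalizerClosure, Subgroup.map_iSup]
    exact iSup_congr fun a => mem_normalizer_iff_map_conj_eq.mp
      (functor_le_normalizer hθ a.2.1 a.2.2 hb)
  haveI := (elementary_of_le hA hEA).1
  refine CfsgLib.Solvable.le_of_centralizer_le (A := E)
    (elementary_not_isCyclic (elementary_of_le hA hEA) h2) hEn
    (elementary_coprime (elementary_of_le hA hEA) hd) fun e he he1 => ?_
  rw [hfix e (hEA he) he1]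
  exact le_iSup (fun x : {a : G // a ∈ E ∧ a ≠ 1} => θ x.1) ⟨e, he, he1⟩

theorem closure_eq_of_commute {E E' : Subgroup G} (hE : Cfsg.IsRankGraphVertex p 2 E)
    (hE' : Cfsg.IsRankGraphVertex p 2 E') (hcomm : ∀ a ∈ E, ∀ b ∈ E', a * b = b * a) :
    Cfsg.signalizerClosure E θ = Cfsg.signalizerClosure E' θ := by
  have hA := elementary_sup hE.1 hE'.1 hcomm
  by_cases h : p ^ 2 < Nat.card ↥(E ⊔ E')
  · rw [closure_eq hF hC heq hbal hA (pow_three_le_of_lt hA h) le_sup_left hE.2.1,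
      closure_eq hF hC heq hbal hA (pow_three_le_of_lt hA h) le_sup_right hE'.2.1]
  · have h1 := eq_of_le_of_card_ge (le_sup_left : E ≤ E ⊔ E') ((not_lt.mp h).trans hE.2.1)
    have h2 := eq_of_le_of_card_ge (le_sup_right : E' ≤ E ⊔ E') ((not_lt.mp h).trans hE'.2.1)
    exact congrArg (Cfsg.signalizerClosure · θ) (h1.trans h2.symm)

theorem theta_eq_bot (hO : Cfsg.pPrimeCore p G = ⊥) (hrk : ¬ Cfsg.PRankLE p 2 G)
    (hconn : Cfsg.IsRankGraphConnected p 2 G) {a : G} (ha : Dom p a) : θ a = ⊥ := by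
  obtain ⟨A, hA, h3⟩ : ∃ A : Subgroup G, Cfsg.IsElementaryAbelian p A ∧ p ^ 3 ≤ Nat.card A := by
    unfold Cfsg.PRankLE at hrk
    push Not at hrk
    obtain ⟨A, h1, h2, h⟩ := hrk
    exact ⟨A, ⟨h1, h2⟩, pow_three_le_of_lt ⟨h1, h2⟩ h⟩
  have hall : ∀ E : Subgroup G, Cfsg.IsRankGraphVertex p 2 E →
      Cfsg.signalizerClosure E θ = Cfsg.signalizerClosure A θ := by
    intro E hE
    have hp' := hconn A E (vertex_of_big hA h3) hE
    clear hE
    induction hp' with
    | refl => rfl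
    | tail _ hcd ih =>
      rw [← closure_eq_of_commute hF hC heq hbal hcd.1 hcd.2.1 hcd.2.2]
      exact ih
  set W := Cfsg.signalizerClosure A θ with hW
  have hWn : W.Normal := by
    rw [← normalizer_eq_top_iff, eq_top_iff]
    intro g _
    refine mem_normalizer_iff_map_conj_eq.mpr ?_
    set c : G →* G := (MulAut.conj g).toMonoidHom with hc
    have hinj : Function.Injective c := (MulAut.conj g).injective
    have hB := elementary_map hA c
    have hB3 : p ^ 3 ≤ Nat.card ↥(A.map c) := by rwa [card_map_of_injective hinj]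
    have hstep : Cfsg.signalizerClosure (A.map c) θ = W.map c := by
      rw [hW, Cfsg.signalizerClosure, Cfsg.signalizerClosure, Subgroup.map_iSup]
      refine le_antisymm (iSup_le ?_) (iSup_le fun x => ?_)
      · rintro ⟨_, ⟨x, hx, rfl⟩, hx1⟩
        have hx1' : x ≠ 1 := fun h => hx1 (by rw [h, map_one])
        refine le_iSup_of_le (⟨x, hx, hx1'⟩ : {a : G // a ∈ A ∧ a ≠ 1}) ?_
        exact le_of_eq (heq x g (dom_of_big hA h3 hx hx1'))
      · refine le_iSup_of_le (⟨c x.1, mem_map_of_mem c x.2.1,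
          fun h => x.2.2 (hinj (h.trans (map_one c).symm))⟩ :
          {a : G // a ∈ A.map c ∧ a ≠ 1}) ?_
        exact le_of_eq (heq x.1 g (dom_of_big hA h3 x.2.1 x.2.2)).symm
    exact hstep.symm.trans (hall _ (vertex_of_big hB hB3))
  have hWbot : W = ⊥ := by
    refine le_bot_iff.mp (hO ▸ le_pPrimeCore_of_normal hWn ?_)
    exact ((hp.out.coprime_iff_not_dvd).mpr
      (hF A θ hA h3 (functor_of_big hC heq hbal hA h3)).1).symm
  obtain ⟨B, hBC, hB, hB3⟩ := exists_big ha.2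
  have hz := elementary_zpowers ha.1
  have hcomm : ∀ x ∈ zpowers a, ∀ b ∈ B, x * b = b * x := by
    rintro _ ⟨i, rfl⟩ b hb
    exact ((show Commute a b from
      (mem_centralizer_singleton_iff.mp (hBC hb)).symm).zpow_left i).eq
  have hE := elementary_sup hz hB hcomm
  have hE3 : p ^ 3 ≤ Nat.card ↥(zpowers a ⊔ B) := hB3.trans (card_le_of_le le_sup_right)
  refine le_bot_iff.mp (hWbot ▸ ?_)
  rw [← hall _ (vertex_of_big hE hE3)]
  exact le_iSup (fun x : {x : G // x ∈ zpowers a ⊔ B ∧ x ≠ 1} => θ x.1)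
    ⟨a, mem_sup_left (mem_zpowers a),
      fun h => hp.out.ne_one (by rw [← ha.1, h, orderOf_one])⟩

end equivariant

/-- `O_{p'}(C(a)) ∩ C(b) ≤ O_{p'}(C(b))` when `C(b)` has trivial `p`-layer. -/
theorem balance_of_pLayer_eq_bot {a b : G} (ha : orderOf a = p) (hab : a * b = b * a)
    (hL : Cfsg.pLayer p ↥(centralizer ({b} : Set G)) = ⊥) :
    Cfsg.centralizerPPrimeCore p a ⊓ centralizer {b} ≤ Cfsg.centralizerPPrimeCore p b := by
  rintro x ⟨hx, hxb⟩
  set C := centralizer ({b} : Set G) with hC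
  have haC : a ∈ C := mem_centralizer_singleton_iff.mpr hab
  set a' : C := ⟨a, haC⟩ with ha'
  have hap : IsPGroup p ↥(zpowers a') := by
    refine IsPGroup.iff_card.mpr ⟨1, ?_⟩
    rw [Nat.card_zpowers, ha', orderOf_mk, ha, pow_one]
  have hle : (coreP p (centralizer ({a} : Set G))).subgroupOf C ≤
      coreP p (centralizer (zpowers a' : Set C)) := by
    rw [centralizer_zpowers]
    refine le_coreP (fun y hy => ?_) (le_normalizer_iff.mpr fun g hg y hy => ?_) ?_
    · rw [mem_centralizer_singleton_iff]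
      exact Subtype.ext (mem_centralizer_singleton_iff.mp
        (coreP_le p _ (mem_subgroupOf.mp hy)))
    · rw [mem_subgroupOf] at hy ⊢
      exact le_normalizer_iff.mp (le_normalizer_coreP p _) (g : G)
        (mem_centralizer_singleton_iff.mpr
          (congrArg Subtype.val (mem_centralizer_singleton_iff.mp hg))) (y : G) hy
    · exact (coreP_coprime p _).coprime_dvd_left
        (card_comap_dvd_of_injective _ _ C.subtype_injective)
  exact ⟨⟨x, hxb⟩, coreP_centralizer_le hL hap (hle (mem_subgroupOf.mpr hx)), rfl⟩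

theorem centralizerPPrimeCore_conj (a g : G) :
    Cfsg.centralizerPPrimeCore p (g * a * g⁻¹) =
      (Cfsg.centralizerPPrimeCore p a).map (MulAut.conj g).toMonoidHom := by
  have key : ∀ a g : G, (Cfsg.centralizerPPrimeCore p a).map (MulAut.conj g).toMonoidHom ≤
      Cfsg.centralizerPPrimeCore p (g * a * g⁻¹) := by
    intro a g
    refine le_coreP ?_ ?_ ((coreP_coprime p _).coprime_dvd_left (card_map_dvd _ _))
    · rintro _ ⟨x, hx, rfl⟩
      have hxa := mem_centralizer_singleton_iff.mp (coreP_le p _ hx)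
      refine mem_centralizer_singleton_iff.mpr ?_
      show g * x * g⁻¹ * (g * a * g⁻¹) = g * a * g⁻¹ * (g * x * g⁻¹)
      calc g * x * g⁻¹ * (g * a * g⁻¹) = g * (x * a) * g⁻¹ := by group
        _ = g * (a * x) * g⁻¹ := by rw [hxa]
        _ = g * a * g⁻¹ * (g * x * g⁻¹) := by group
    · rw [le_normalizer_iff]
      intro c hc
      rintro _ ⟨x, hx, rfl⟩
      refine ⟨g⁻¹ * c * g * x * (g⁻¹ * c * g)⁻¹,
        le_normalizer_iff.mp (le_normalizer_coreP p _) _ ?_ x hx, ?_⟩
      · refine mem_centralizer_singleton_iff.mpr ?_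
        have h := mem_centralizer_singleton_iff.mp hc
        calc g⁻¹ * c * g * a = g⁻¹ * (c * (g * a * g⁻¹)) * g := by group
          _ = g⁻¹ * (g * a * g⁻¹ * c) * g := by rw [h]
          _ = a * (g⁻¹ * c * g) := by group
      · show g * (g⁻¹ * c * g * x * (g⁻¹ * c * g)⁻¹) * g⁻¹ = c * (g * x * g⁻¹) * c⁻¹
        group
  refine le_antisymm ?_ (key a g)
  intro x hx
  have h := key (g * a * g⁻¹) g⁻¹ ⟨x, hx, rfl⟩
  rw [show g⁻¹ * (g * a * g⁻¹) * g⁻¹⁻¹ = a by group] at h
  refine ⟨_, h, ?_⟩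
  show g * (g⁻¹ * x * g⁻¹⁻¹) * g⁻¹ = x
  group

theorem genFitting_centralizer_eq_pCore (hF : FunctorTheorem p G)
    (hO : Cfsg.pPrimeCore p G = ⊥) (hrk : ¬ Cfsg.PRankLE p 2 G)
    (hconn : Cfsg.IsRankGraphConnected p 2 G)
    (hL : ∀ a : G, Dom p a → Cfsg.pLayer p ↥(centralizer ({a} : Set G)) = ⊥ ∧
      Group.IsSolvable ↥(Cfsg.centralizerPPrimeCore p a)) {a : G} (ha : Dom p a) :
    Cfsg.generalizedFittingSubgroup ↥(centralizer ({a} : Set G)) =
      Cfsg.pCore p ↥(centralizer ({a} : Set G)) := by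
  have h0 : Cfsg.centralizerPPrimeCore p a = ⊥ :=
    theta_eq_bot (θ := fun x => Cfsg.centralizerPPrimeCore p x) hF
      (fun x hx => ⟨coreP_le p _, fun hd => hp.out.ne_one (Nat.eq_one_of_dvd_coprimes
        (coreP_coprime p (centralizer ({x} : Set G))) hd dvd_rfl), (hL x hx).2⟩)
      (fun x g _ => centralizerPPrimeCore_conj x g)
      (fun x y hx hy hxy => balance_of_pLayer_eq_bot hx.1 hxy (hL y hy).1) hO hrk hconn ha
  have hO' : Cfsg.pPrimeCore p ↥(centralizer ({a} : Set G)) = ⊥ :=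
    (map_eq_bot_iff_of_injective _ (subtype_injective _)).mp h0
  have hl : Cfsg.layer ↥(centralizer ({a} : Set G)) = ⊥ := by
    rw [← pLayer_eq_layer_of_core_eq_bot hO']
    exact (hL a ha).1
  rw [genFitting_eq_pCore_iff_criterion]
  refine ⟨hl, fun q hq hne => ?_⟩
  haveI := Fact.mk hq
  refine le_bot_iff.mp (hO' ▸ le_pPrimeCore_of_normal inferInstance ?_)
  obtain ⟨n, hn⟩ := (isPGroup_pCore (G := ↥(centralizer ({a} : Set G))) q).exists_card_eq
  rw [hn]
  exact ((Nat.coprime_primes hq hp.out).mpr hne).pow_left n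

end CfsgLib.Signalizer.Connected
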