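import Cfsg.Prelude.Def_Balance
import Cfsg.Agent.Lib.Solvable.CoprimeAction
import Cfsg.Agent.Lib.Solvable.CoprimeGeneration
import Cfsg.Agent.Lib.Components.Subnormal

/-!
Signalizer functors: the family of a solvable signalizer functor.
-/

set_option autoImplicit false
set_option linter.style.haveILetI false
set_option linter.unusedVariables false
set_option linter.unusedSectionVars false

open scoped Pointwise commutatorElement
open Subgroup

namespace CfsgLib.Signalizer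

variable {G : Type*} [Group G] [Finite G] {p : ℕ} [hp : Fact p.Prime]

theorem conj_mem_iff_le_normalizer {A U : Subgroup G} :
    (∀ b ∈ A, ∀ u ∈ U, b * u * b⁻¹ ∈ U) ↔ A ≤ normalizer (U : Set G) :=
  le_normalizer_iff.symm

theorem elementary_isPGroup {A : Subgroup G} (hA : Cfsg.IsElementaryAbelian p A) : IsPGroup p A :=
  fun a => ⟨1, Subtype.ext (by simpa using hA.2 a a.2)⟩

theorem elementary_isSolvable {A : Subgroup G} (hA : Cfsg.IsElementaryAbelian p A) :
    Group.IsSolvable A :=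
  Group.isSolvable_of_comm fun a b => hA.1.is_comm.comm a b

theorem elementary_of_le {A B : Subgroup G} (hA : Cfsg.IsElementaryAbelian p A) (h : B ≤ A) :
    Cfsg.IsElementaryAbelian p B :=
  ⟨⟨⟨fun x y => Subtype.ext (show (x : G) * y = y * x from
    congrArg (fun z : ↥A => (z : G)) (hA.1.is_comm.comm ⟨x, h x.2⟩ ⟨y, h y.2⟩))⟩⟩,
    fun b hb => hA.2 b (h hb)⟩

theorem elementary_commute {A : Subgroup G} (hA : Cfsg.IsElementaryAbelian p A) {a b : G}
    (ha : a ∈ A) (hb : b ∈ A) : a * b = b * a :=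
  congrArg Subtype.val (hA.1.is_comm.comm ⟨a, ha⟩ ⟨b, hb⟩)

theorem elementary_coprime {A U : Subgroup G} (hA : Cfsg.IsElementaryAbelian p A)
    (hU : ¬ p ∣ Nat.card U) : (Nat.card A).Coprime (Nat.card U) := by
  obtain ⟨n, hn⟩ := (elementary_isPGroup hA).exists_card_eq
  rw [hn]
  exact (hp.out.coprime_iff_not_dvd.mpr hU).pow_left n

theorem elementary_not_isCyclic {A : Subgroup G} (hA : Cfsg.IsElementaryAbelian p A)
    (hA2 : p ^ 2 ≤ Nat.card A) : ¬ IsCyclic A := by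
  intro h
  obtain ⟨g, hg⟩ := IsCyclic.exists_generator (α := A)
  have h1 : orderOf g ∣ p := orderOf_dvd_of_pow_eq_one (Subtype.ext (by simpa using hA.2 g g.2))
  have h2 : orderOf g = Nat.card A := orderOf_eq_card_of_forall_mem_zpowers hg
  have h3 := Nat.le_of_dvd hp.out.pos (h2 ▸ h1)
  have h4 : p * 1 < p * p := Nat.mul_lt_mul_of_pos_left hp.out.one_lt hp.out.pos
  rw [pow_two] at hA2
  omega

theorem exists_ne_one_of_card_le {A : Subgroup G} {n : ℕ} (hn : 1 ≤ n) (h : p ^ n ≤ Nat.card A) :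
    ∃ a ∈ A, a ≠ 1 := by
  by_contra hcon
  push Not at hcon
  rw [(eq_bot_iff_forall A).2 hcon, card_bot] at h
  exact absurd h (not_le.mpr (Nat.one_lt_pow (by omega) hp.out.one_lt))

theorem le_centralizer_singleton {A : Subgroup G} (hA : Cfsg.IsElementaryAbelian p A) {a : G}
    (ha : a ∈ A) : A ≤ centralizer ({a} : Set G) := fun b hb =>
  mem_centralizer_singleton_iff.mpr (elementary_commute hA hb ha)

theorem not_dvd_of_le {U V : Subgroup G} (h : U ≤ V) (hV : ¬ p ∣ Nat.card V) :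
    ¬ p ∣ Nat.card U := fun hd => hV (hd.trans (card_dvd_of_le h))

/-- A subgroup generated by fixed points of non-identity elements. -/
theorem le_of_centralizers {A K W : Subgroup G} (hA : Cfsg.IsElementaryAbelian p A)
    (hA2 : p ^ 2 ≤ Nat.card A) (hK : ¬ p ∣ Nat.card K) (hAK : A ≤ normalizer (K : Set G))
    (h : ∀ a ∈ A, a ≠ 1 → K ⊓ centralizer {a} ≤ W) : K ≤ W :=
  haveI := hA.1
  CfsgLib.Solvable.le_of_centralizer_le (elementary_not_isCyclic hA hA2) hAK
    (elementary_coprime hA hK) h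

theorem card_le_index_mul {A B : Subgroup G} (hA : Cfsg.IsElementaryAbelian p A) (hB : B ≤ A)
    {a : G} (ha : a ∈ A) (h : A ≤ B ⊔ zpowers a) : Nat.card A ≤ p * Nat.card B := by
  have haB : B ≤ normalizer (zpowers a : Set G) := fun b hb => centralizer_le_normalizer _ (by
    rintro _ ⟨i, rfl⟩
    exact ((show Commute a b from elementary_commute hA ha (hB hb)).zpow_left i).eq)
  calc Nat.card A ≤ Nat.card ↥(B ⊔ zpowers a) := card_le_of_le h
    _ ≤ Nat.card B * Nat.card (zpowers a) :=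
      Nat.le_of_dvd (Nat.mul_pos Nat.card_pos Nat.card_pos) (CfsgLib.Components.card_sup_dvd haB)
    _ ≤ Nat.card B * p := Nat.mul_le_mul_left _ (by
        rw [Nat.card_zpowers]
        exact Nat.le_of_dvd hp.out.pos (orderOf_dvd_of_pow_eq_one (hA.2 a ha)))
    _ = p * Nat.card B := mul_comm _ _

/-! ### The family -/

variable {A : Subgroup G} {θ : G → Subgroup G}

theorem mem_family_iff {U : Subgroup G} : U ∈ Cfsg.signalizerFamily p A θ ↔
    Group.IsSolvable U ∧ ¬ p ∣ Nat.card U ∧ A ≤ normalizer (U : Set G) ∧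
      ∀ a ∈ A, a ≠ 1 → U ⊓ centralizer {a} ≤ θ a := by
  rw [le_normalizer_iff]
  exact Iff.rfl

theorem family_isSolvable {U : Subgroup G} (hU : U ∈ Cfsg.signalizerFamily p A θ) :
    Group.IsSolvable U := hU.1

theorem family_not_dvd {U : Subgroup G} (hU : U ∈ Cfsg.signalizerFamily p A θ) :
    ¬ p ∣ Nat.card U := hU.2.1

theorem family_le_normalizer {U : Subgroup G} (hU : U ∈ Cfsg.signalizerFamily p A θ) :
    A ≤ normalizer (U : Set G) := (mem_family_iff.mp hU).2.2.1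

theorem family_inf_le {U : Subgroup G} (hU : U ∈ Cfsg.signalizerFamily p A θ) {a : G}
    (ha : a ∈ A) (ha1 : a ≠ 1) : U ⊓ centralizer {a} ≤ θ a := hU.2.2.2 a ha ha1

theorem family_of_le {U V : Subgroup G} (hU : U ∈ Cfsg.signalizerFamily p A θ) (h : V ≤ U)
    (hAV : A ≤ normalizer (V : Set G)) : V ∈ Cfsg.signalizerFamily p A θ :=
  mem_family_iff.mpr ⟨haveI := hU.1; Group.isSolvable_of_isSolvable_injective (inclusion_injective h),
    not_dvd_of_le h hU.2.1, hAV, fun a ha ha1 => (inf_le_inf_right _ h).trans (hU.2.2.2 a ha ha1)⟩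

theorem functor_mem_family (hθ : Cfsg.IsSolvableSignalizerFunctor p A θ) {a : G} (ha : a ∈ A)
    (ha1 : a ≠ 1) : θ a ∈ Cfsg.signalizerFamily p A θ :=
  ⟨hθ.2 a ha ha1, hθ.1.2.1 a ha ha1, hθ.1.2.2.1 a ha ha1,
    fun b hb hb1 => hθ.1.2.2.2 a ha ha1 b hb hb1⟩

theorem functor_le_centralizer (hθ : Cfsg.IsSolvableSignalizerFunctor p A θ) {a : G} (ha : a ∈ A)
    (ha1 : a ≠ 1) : θ a ≤ centralizer {a} := hθ.1.1 a ha ha1

theorem functor_le_normalizer (hθ : Cfsg.IsSolvableSignalizerFunctor p A θ) {a : G} (ha : a ∈ A)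
    (ha1 : a ≠ 1) : A ≤ normalizer (θ a : Set G) :=
  family_le_normalizer (functor_mem_family hθ ha ha1)

theorem signalizerInf_le {B : Subgroup G} {b : G} (hb : b ∈ B) (hb1 : b ≠ 1) :
    Cfsg.signalizerInf B θ ≤ θ b :=
  iInf_le (fun x : {a : G // a ∈ B ∧ a ≠ 1} => θ x) ⟨b, hb, hb1⟩

theorem le_signalizerInf {B U : Subgroup G} (h : ∀ b ∈ B, b ≠ 1 → U ≤ θ b) :
    U ≤ Cfsg.signalizerInf B θ :=
  le_iInf fun b => h b.1 b.2.1 b.2.2

/-- For `B ≤ A` and `b ∈ B`, the intersection over `B` is `C_{θ b}(B)`. -/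
theorem signalizerInf_eq (hA : Cfsg.IsElementaryAbelian p A)
    (hθ : Cfsg.IsSolvableSignalizerFunctor p A θ) {B : Subgroup G} (hB : B ≤ A) {b : G}
    (hb : b ∈ B) (hb1 : b ≠ 1) :
    Cfsg.signalizerInf B θ = θ b ⊓ centralizer (B : Set G) := by
  refine le_antisymm (le_inf (signalizerInf_le hb hb1) fun x hx c hc => ?_)
    (le_signalizerInf fun c hc hc1 => le_trans ?_ (hθ.1.2.2.2 b (hB hb) hb1 c (hB hc) hc1))
  · by_cases hc1 : c = 1
    · simp [hc1]
    · exact functor_le_centralizer hθ (hB hc) hc1 (signalizerInf_le hc hc1 hx) c rfl |>.symm.symm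
  · exact inf_le_inf_left _ (centralizer_le (Set.singleton_subset_iff.mpr hc))

theorem family_inf_centralizer_le {U : Subgroup G} (hU : U ∈ Cfsg.signalizerFamily p A θ)
    {B : Subgroup G} (hB : B ≤ A) : U ⊓ centralizer (B : Set G) ≤ Cfsg.signalizerInf B θ :=
  le_signalizerInf fun b hb hb1 =>
    (inf_le_inf_left _ (centralizer_le (Set.singleton_subset_iff.mpr hb))).trans
      (family_inf_le hU (hB hb) hb1)

theorem signalizerInf_mem_family (hA : Cfsg.IsElementaryAbelian p A)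
    (hθ : Cfsg.IsSolvableSignalizerFunctor p A θ) {B : Subgroup G} (hB : B ≤ A) {b : G}
    (hb : b ∈ B) (hb1 : b ≠ 1) :
    Cfsg.signalizerInf B θ ∈ Cfsg.signalizerFamily p A θ := by
  refine family_of_le (functor_mem_family hθ (hB hb) hb1) (signalizerInf_le hb hb1) ?_
  rw [signalizerInf_eq hA hθ hB hb hb1]
  intro a ha
  refine inf_normalizer_le_normalizer_inf ⟨functor_le_normalizer hθ (hB hb) hb1 ha, le_normalizer ?_⟩
  intro c hc
  exact elementary_commute hA (hB hc) ha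

/-- The product of two members, one normalizing the other, is a member. -/
theorem family_sup (hA : Cfsg.IsElementaryAbelian p A) {X Y : Subgroup G}
    (hX : X ∈ Cfsg.signalizerFamily p A θ) (hY : Y ∈ Cfsg.signalizerFamily p A θ)
    (hn : Y ≤ normalizer (X : Set G)) : X ⊔ Y ∈ Cfsg.signalizerFamily p A θ := by
  refine mem_family_iff.mpr ⟨?_, ?_, ?_, fun a ha ha1 => ?_⟩
  · rw [sup_comm]; exact CfsgLib.Components.isSolvable_sup hY.1 hX.1 hn
  · intro hd
    have h := hd.trans (sup_comm Y X ▸ CfsgLib.Components.card_sup_dvd hn)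
    exact (hp.out.dvd_mul.mp h).elim hY.2.1 hX.2.1
  · exact (le_inf (family_le_normalizer hX) (family_le_normalizer hY)).trans
      (normalizer_inf_normalizer_le_normalizer_sup X Y)
  · rintro g ⟨hg, hga⟩
    have hg' : g ∈ ((Y ⊔ X : Subgroup G) : Set G) := by rw [sup_comm]; exact hg
    rw [coe_mul_of_left_le_normalizer_right Y X hn] at hg'
    obtain ⟨y, hy, x, hx, rfl⟩ := hg'
    have hz : zpowers a ≤ A := zpowers_le.mpr ha
    have hcz : centralizer ({a} : Set G) = centralizer (zpowers a : Set G) := by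
      rw [← centralizer_closure, zpowers_eq_closure]
    have hd : ¬ p ∣ Nat.card ↥(X ⊔ Y) := by
      intro hd
      have h := hd.trans (sup_comm Y X ▸ CfsgLib.Components.card_sup_dvd hn)
      exact (hp.out.dvd_mul.mp h).elim hY.2.1 hX.2.1
    obtain ⟨y', hy', x', hx', he⟩ := CfsgLib.Solvable.centralizer_of_product
      (A := zpowers a) (K := X ⊔ Y) (X := Y) (Y := X)
      ((elementary_coprime hA hd).coprime_dvd_left (card_dvd_of_le hz))
      (Or.inl (elementary_isSolvable (elementary_of_le hA hz))) le_sup_right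
      (hz.trans (family_le_normalizer hY)) (hz.trans (family_le_normalizer hX)) hy hx (hcz ▸ hga)
    change y * x ∈ θ a
    rw [he]
    rw [← hcz] at hy' hx'
    exact mul_mem (family_inf_le hY ha ha1 hy') (family_inf_le hX ha ha1 hx')

/-- Balance in a quotient by a normal `p'`-subgroup. -/
theorem quotient_balance (hA : Cfsg.IsElementaryAbelian p A)
    (hθ : Cfsg.IsSolvableSignalizerFunctor p A θ) (N : Subgroup G) [N.Normal]
    {a b : G} (ha : a ∈ A) (ha1 : a ≠ 1) (hb : b ∈ A) (hb1 : b ≠ 1) :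
    (θ a).map (QuotientGroup.mk' N) ⊓ centralizer {QuotientGroup.mk' N b} ≤
      (θ b).map (QuotientGroup.mk' N) := by
  rintro _ ⟨⟨x, hx, rfl⟩, hc⟩
  have hbn : zpowers b ≤ normalizer (θ a : Set G) :=
    (zpowers_le.mpr hb).trans (functor_le_normalizer hθ ha ha1)
  have hDn : zpowers b ≤ normalizer ((θ a ⊓ N : Subgroup G) : Set G) := fun c hcz =>
    inf_normalizer_le_normalizer_inf ⟨hbn hcz, by rw [normalizer_eq_top]; trivial⟩
  have hfix : ∀ c ∈ zpowers b, x⁻¹ * (c * x * c⁻¹) ∈ θ a ⊓ N := by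
    intro c hcz
    refine ⟨Subgroup.mul_mem (θ a) ((θ a).inv_mem hx) (le_normalizer_iff.mp hbn c hcz x hx), ?_⟩
    show x⁻¹ * (c * x * c⁻¹) ∈ N
    rw [← QuotientGroup.eq_one_iff]
    obtain ⟨i, rfl⟩ := hcz
    have h1 : Commute (QuotientGroup.mk' N b) (QuotientGroup.mk' N x) :=
      (mem_centralizer_singleton_iff.mp hc).symm
    have h2 := (h1.zpow_left i).eq
    show QuotientGroup.mk' N (x⁻¹ * (b ^ i * x * (b ^ i)⁻¹)) = 1
    rw [map_mul, map_mul, map_mul, map_inv, map_inv, map_zpow, h2]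
    group
  obtain ⟨d, hd, hxd⟩ := CfsgLib.Solvable.exists_fixed_mem_coset hbn inf_le_left hDn
    ((elementary_coprime hA (hθ.1.2.1 a ha ha1)).coprime_dvd_left
      (card_dvd_of_le (zpowers_le.mpr hb)))
    (Or.inl (elementary_isSolvable (elementary_of_le hA (zpowers_le.mpr hb)))) hx hfix
  refine ⟨x * d, hθ.1.2.2.2 a ha ha1 b hb hb1 ⟨hxd.1,
    centralizer_le (Set.singleton_subset_iff.mpr (mem_zpowers b)) hxd.2⟩, ?_⟩
  rw [map_mul, show QuotientGroup.mk' N d = 1 from (QuotientGroup.eq_one_iff d).mpr hd.2, mul_one]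

/-- Fixed points outside a proper subgroup of a `p'`-group for a corank one subgroup of `A`. -/
theorem exists_hyperplane_centralizer_not_le (hA : Cfsg.IsElementaryAbelian p A) {K D : Subgroup G}
    (hK : ¬ p ∣ Nat.card K) (hAK : A ≤ normalizer (K : Set G)) (h : ¬ K ≤ D) :
    ∃ B ≤ A, Nat.card A ≤ p * Nat.card B ∧ ¬ K ⊓ centralizer (B : Set G) ≤ D := by
  haveI := hA.1
  by_contra hcon
  push Not at hcon
  exact h (CfsgLib.Solvable.le_of_cyclic_quotient_centralizer_le hAK (elementary_coprime hA hK)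
    fun B hB ⟨a, ha, hBa⟩ => hcon B hB (card_le_index_mul hA hB ha hBa))

theorem inf_lt_normalizer {Q D : Subgroup G} {q : ℕ} [Fact q.Prime] (hQ : IsPGroup q Q)
    (hD : D ≤ Q) (hne : D ≠ Q) : ¬ normalizer (D : Set G) ⊓ Q ≤ D := by
  haveI : Group.IsNilpotent Q := hQ.isNilpotent
  have hlt : D.subgroupOf Q < ⊤ := by
    rw [lt_top_iff_ne_top, Ne, subgroupOf_eq_top]
    exact fun h => hne (le_antisymm hD h)
  obtain ⟨x, hx, hxD⟩ := SetLike.exists_of_lt
    (Group.normalizerCondition_of_isNilpotent (D.subgroupOf Q) hlt)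
  refine fun hle => hxD (hle ⟨?_, x.2⟩)
  rw [← map_subgroupOf_eq_of_le hD]
  exact le_normalizer_map Q.subtype ⟨x, hx, rfl⟩

/-- Two invariant `q`-subgroups meet properly: a common `a` has fixed points outside the meet in
both normalizers. -/
theorem exists_centralizer_normalizer_meet (hA : Cfsg.IsElementaryAbelian p A)
    (hA3 : p ^ 3 ≤ Nat.card A) {q : ℕ} [Fact q.Prime] (hqp : q ≠ p) {Q₁ Q₂ : Subgroup G}
    (h₁ : IsPGroup q Q₁) (h₂ : IsPGroup q Q₂) (hA₁ : A ≤ normalizer (Q₁ : Set G))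
    (hA₂ : A ≤ normalizer (Q₂ : Set G)) (hD₁ : Q₁ ⊓ Q₂ ≠ Q₁) (hD₂ : Q₁ ⊓ Q₂ ≠ Q₂) :
    ∃ a ∈ A, a ≠ 1 ∧
      ¬ (normalizer ((Q₁ ⊓ Q₂ : Subgroup G) : Set G) ⊓ Q₁ ⊓ centralizer {a} ≤ Q₁ ⊓ Q₂) ∧
      ¬ (normalizer ((Q₁ ⊓ Q₂ : Subgroup G) : Set G) ⊓ Q₂ ⊓ centralizer {a} ≤ Q₁ ⊓ Q₂) := by
  set D := Q₁ ⊓ Q₂ with hD
  have key : ∀ Q : Subgroup G, IsPGroup q Q → A ≤ normalizer (Q : Set G) → D ≤ Q → D ≠ Q →
      ∃ B ≤ A, Nat.card A ≤ p * Nat.card B ∧
        ¬ normalizer (D : Set G) ⊓ Q ⊓ centralizer (B : Set G) ≤ D := by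
    intro Q hQ hAQ hDQ hne
    refine exists_hyperplane_centralizer_not_le hA ?_ ?_ (inf_lt_normalizer hQ hDQ hne)
    · intro hd
      obtain ⟨n, hn⟩ := (hQ.to_le (inf_le_right : normalizer (D : Set G) ⊓ Q ≤ Q)).exists_card_eq
      rw [hn] at hd
      exact hqp (((Nat.prime_dvd_prime_iff_eq hp.out Fact.out).mp (hp.out.dvd_of_dvd_pow hd)).symm)
    · intro a ha
      have haD : a ∈ normalizer (D : Set G) := inf_normalizer_le_normalizer_inf ⟨hA₁ ha, hA₂ ha⟩
      exact inf_normalizer_le_normalizer_inf ⟨le_normalizer haD, hAQ ha⟩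
  obtain ⟨B₁, hB₁, hc₁, hn₁⟩ := key Q₁ h₁ hA₁ inf_le_left hD₁
  obtain ⟨B₂, hB₂, hc₂, hn₂⟩ := key Q₂ h₂ hA₂ inf_le_right hD₂
  obtain ⟨a, ⟨ha₁, ha₂⟩, ha⟩ : ∃ a ∈ B₁ ⊓ B₂, a ≠ 1 := by
    by_contra hcon
    push Not at hcon
    have hbot : B₁ ⊓ B₂ = ⊥ := (eq_bot_iff_forall _).2 hcon
    have hle : Nat.card B₁ * Nat.card B₂ ≤ Nat.card A := by
      rw [← Nat.card_prod]
      refine Nat.card_le_card_of_injective
        (fun x : B₁ × B₂ => (⟨x.1 * x.2, mul_mem (hB₁ x.1.2) (hB₂ x.2.2)⟩ : A)) fun x y hxy => ?_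
      have hxy' : (x.1 : G) * x.2 = y.1 * y.2 := congrArg Subtype.val hxy
      have hm : (y.1 : G)⁻¹ * x.1 ∈ B₁ ⊓ B₂ := ⟨B₁.mul_mem (B₁.inv_mem y.1.2) x.1.2, by
        rw [show (y.1 : G)⁻¹ * x.1 = y.2 * (x.2 : G)⁻¹ by
          rw [eq_mul_inv_iff_mul_eq, mul_assoc, hxy', inv_mul_cancel_left]]
        exact B₂.mul_mem y.2.2 (B₂.inv_mem x.2.2)⟩
      rw [hbot, mem_bot, inv_mul_eq_one] at hm
      rw [← hm] at hxy'
      exact Prod.ext (Subtype.ext hm.symm) (Subtype.ext (mul_left_cancel hxy'))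
    have h5 : Nat.card A * Nat.card A ≤ p * p * Nat.card A :=
      calc Nat.card A * Nat.card A ≤ (p * Nat.card B₁) * (p * Nat.card B₂) := Nat.mul_le_mul hc₁ hc₂
        _ = p * p * (Nat.card B₁ * Nat.card B₂) := by ring
        _ ≤ p * p * Nat.card A := Nat.mul_le_mul_left _ hle
    have h6 := Nat.le_of_mul_le_mul_right h5 Nat.card_pos
    have h7 : p * p * 1 < p * p * p :=
      Nat.mul_lt_mul_of_pos_left hp.out.one_lt (Nat.mul_pos hp.out.pos hp.out.pos)
    rw [pow_succ, pow_two] at hA3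
    omega
  have hle : ∀ {B : Subgroup G}, a ∈ B → centralizer (B : Set G) ≤ centralizer {a} :=
    fun h => centralizer_le (Set.singleton_subset_iff.mpr h)
  exact ⟨a, hB₁ ha₁, ha, fun h => hn₁ ((inf_le_inf_left _ (hle ha₁)).trans h),
    fun h => hn₂ ((inf_le_inf_left _ (hle ha₂)).trans h)⟩

end CfsgLib.Signalizer
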