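import Cfsg.Agent.Lib.Signalizer.Factorization
import Cfsg.Agent.Lib.Signalizer.Basic
import Cfsg.Agent.Lib.Balance.Local

/-!
The signalizer functor of a `k`-balanced group.
-/

set_option autoImplicit false
set_option linter.style.haveILetI false
set_option linter.unusedVariables false
set_option linter.unusedSectionVars false

open Subgroup CfsgLib.Balance
open scoped commutatorElement Pointwise

namespace CfsgLib.Signalizer

variable {G : Type*} [Group G] [Finite G] {p : ℕ} [hp : Fact p.Prime] {A : Subgroup G}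

/-- The map `k ↦ ∏_{e ∈ E} (e k e⁻¹)` into the abelianization kills `[K, E]` and is a power map
on fixed points. -/
theorem mem_commutator_of_fixed {K E : Subgroup G} (hEK : E ≤ normalizer (K : Set G))
    (hcop : (Nat.card E).Coprime (Nat.card K)) {x : G} (hx : x ∈ ⁅K, E⁆ ⊔ ⁅K, K⁆)
    (hxE : x ∈ centralizer (E : Set G)) : x ∈ ⁅K, K⁆ := by
  haveI : Fintype E := Fintype.ofFinite E
  set cj : ↥E → K → K := fun e k =>
    ⟨(e : G) * k * (e : G)⁻¹, le_normalizer_iff.mp hEK e e.2 k k.2⟩ with hcj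
  set ν : K →* Abelianization K :=
    { toFun := fun k => ∏ e : E, Abelianization.of (cj e k)
      map_one' := Finset.prod_eq_one fun e _ => by
        rw [show cj e 1 = 1 from Subtype.ext (by simp [hcj]), map_one]
      map_mul' := fun k k' => by
        rw [← Finset.prod_mul_distrib]
        refine Finset.prod_congr rfl fun e _ => ?_
        rw [← map_mul]
        refine congrArg _ (Subtype.ext ?_)
        simp [hcj, mul_assoc] } with hν
  have hker : ⁅K, E⁆ ⊔ ⁅K, K⁆ ≤ ν.ker.map K.subtype := by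
    refine sup_le (commutator_le.mpr fun k hk e he => ?_) ?_
    · refine ⟨(⟨k, hk⟩ : K) * (cj ⟨e, he⟩ ⟨k, hk⟩)⁻¹, ?_, by
        simp [hcj, commutatorElement_def, mul_assoc]⟩
      rw [SetLike.mem_coe, MonoidHom.mem_ker, map_mul, map_inv, mul_inv_eq_one]
      show ∏ a : E, Abelianization.of (cj a ⟨k, hk⟩) =
        ∏ a : E, Abelianization.of (cj a (cj ⟨e, he⟩ ⟨k, hk⟩))
      refine (Fintype.prod_equiv (Equiv.mulRight (⟨e, he⟩ : E)) _ _ fun a => ?_).symm
      refine congrArg _ (Subtype.ext ?_)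
      simp [hcj, mul_assoc]
    · rw [show ⁅K, K⁆ = (commutator K).map K.subtype by
        rw [commutator_def, map_commutator, ← MonoidHom.range_eq_map, range_subtype]]
      exact map_mono (Abelianization.commutator_subset_ker ν)
  obtain ⟨k, hk, rfl⟩ := hker hx
  have hfix : ∀ e : E, cj e k = k := fun e => Subtype.ext (by
    show (e : G) * (k : G) * (e : G)⁻¹ = k
    rw [mul_inv_eq_iff_eq_mul]
    exact hxE e e.2)
  have h1 : Abelianization.of k ^ Nat.card E = 1 := by
    have h : ∏ e : E, Abelianization.of (cj e k) = 1 := hk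
    simpa [hfix, Nat.card_eq_fintype_card] using h
  have h2 : Abelianization.of k = 1 := by
    refine orderOf_eq_one_iff.mp (Nat.eq_one_of_dvd_coprimes hcop (orderOf_dvd_of_pow_eq_one h1) ?_)
    exact (orderOf_map_dvd Abelianization.of k).trans (orderOf_dvd_natCard k)
  have h3 : k ∈ commutator K := (QuotientGroup.eq_one_iff k).mp h2
  have h4 := mem_map_of_mem K.subtype h3
  rwa [commutator_def, map_commutator, ← MonoidHom.range_eq_map, range_subtype] at h4

theorem card_mul_card_le {E E' : Subgroup G} (hE : E ≤ A) (hE' : E' ≤ A) :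
    Nat.card E * Nat.card E' ≤ Nat.card A * Nat.card ↥(E ⊓ E') := by
  rw [← card_mul_set E E']
  refine Nat.mul_le_mul_right _ (Nat.card_mono (Set.toFinite (A : Set G)) ?_)
  rintro _ ⟨x, hx, y, hy, rfl⟩
  exact A.mul_mem (hE hx) (hE' hy)

/-- A family of invariant subgroups attached to the subgroups of corank at most two of `A`, closed
under meets, determines the fixed points of the group it generates. -/
theorem inf_centralizer_le_of_closed (hA : Cfsg.IsElementaryAbelian p A) :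
    ∀ (n : ℕ) (K : Subgroup G), Nat.card K = n → Group.IsSolvable K → ¬ p ∣ Nat.card K →
      A ≤ normalizer (K : Set G) → ∀ R : Subgroup G → Subgroup G,
      (∀ D ≤ A, Nat.card A ≤ p * p * Nat.card D → R D ≤ K ∧ A ≤ normalizer (R D : Set G)) →
      (∀ D D', D ≤ D' → D' ≤ A → Nat.card A ≤ p * p * Nat.card D → R D' ≤ R D) →
      (∀ D ≤ A, Nat.card A ≤ p * p * Nat.card D → ∀ E ≤ A, Nat.card A ≤ p * Nat.card E →
        R D ⊓ centralizer (E : Set G) ≤ R E) →
      K ≤ (⨆ E : {E : Subgroup G // E ≤ A ∧ Nat.card A ≤ p * Nat.card E}, R E) →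
      ∀ E ≤ A, Nat.card A ≤ p * Nat.card E → K ⊓ centralizer (E : Set G) ≤ R E := by
  intro n
  induction n using Nat.strong_induction_on with
  | _ n ih =>
  intro K hn hKs hKp hAK R hR hanti hclosed hgen E hE hEc
  haveI := hA.1
  haveI := hKs
  have up : ∀ {F : Subgroup G}, Nat.card A ≤ p * Nat.card F → Nat.card A ≤ p * p * Nat.card F :=
    fun {F} h => h.trans (by
      rw [mul_assoc]
      exact Nat.mul_le_mul_left p (Nat.le_mul_of_pos_left _ hp.out.pos))
  by_cases hK1 : K = ⊥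
  · rw [hK1, bot_inf_eq]; exact bot_le
  -- the derived subgroup
  set K' := ⁅K, K⁆ with hK'
  have hK'K : K' ≤ K := commutator_le_self K
  have hAK' : A ≤ normalizer (K' : Set G) := hAK.trans (by
    rw [le_normalizer_iff]
    intro a ha x hx
    have h : (K').map (MulAut.conj a).toMonoidHom ≤ K' := by
      rw [hK', map_commutator]
      have hle : K.map (MulAut.conj a).toMonoidHom ≤ K := by
        rintro _ ⟨y, hy, rfl⟩
        exact (mem_normalizer_iff.mp ha y).mp hy
      exact commutator_mono hle hle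
    exact h ⟨x, hx, rfl⟩)
  have hlt : Nat.card K' < n := by
    refine hn ▸ lt_of_le_of_ne (card_le_of_le hK'K) fun h => ?_
    have heq : K' = K := eq_of_le_of_card_ge hK'K h.ge
    haveI : Nontrivial K := (nontrivial_iff_ne_bot K).mpr hK1
    refine (Group.IsSolvable.commutator_lt_top_of_nontrivial K).ne ?_
    apply map_injective K.subtype_injective
    rw [commutator_def, map_commutator, ← MonoidHom.range_eq_map, range_subtype, ← hK', heq]
  set K₁ := ⨆ E : {E : Subgroup G // E ≤ A ∧ Nat.card A ≤ p * Nat.card E}, R E ⊓ K' with hK₁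
  have hR1 : ∀ D ≤ A, Nat.card A ≤ p * p * Nat.card D → R D ⊓ K' ≤ K₁ := fun D hD hDc => by
    refine CfsgLib.Solvable.le_of_cyclic_quotient_centralizer_le
      (fun a ha => inf_normalizer_le_normalizer_inf ⟨(hR D hD hDc).2 ha, hAK' ha⟩)
      (elementary_coprime hA (not_dvd_of_le (inf_le_right.trans hK'K) hKp)) fun F hF ⟨a, ha, hFa⟩ => ?_
    have hFc := card_le_index_mul hA hF ha hFa
    refine le_trans (fun x hx => ?_) (le_iSup (fun E : {E : Subgroup G // E ≤ A ∧
      Nat.card A ≤ p * Nat.card E} => R E ⊓ K') ⟨F, hF, hFc⟩)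
    exact ⟨hclosed D hD hDc F hF hFc ⟨hx.1.1, hx.2⟩, hx.1.2⟩
  -- two members lie in a common one
  have hpair : ∀ F F' : {E : Subgroup G // E ≤ A ∧ Nat.card A ≤ p * Nat.card E}, ∃ D : Subgroup G,
      D ≤ A ∧ Nat.card A ≤ p * p * Nat.card D ∧ R F ≤ R D ∧ R F' ≤ R D := by
    rintro ⟨F, hF, hFc⟩ ⟨F', hF', hFc'⟩
    have hc : Nat.card A ≤ p * p * Nat.card ↥(F ⊓ F') := by
      have h2 := Nat.mul_le_mul hFc hFc'
      have h3 := Nat.mul_le_mul_left (p * p) (card_mul_card_le (G := G) (A := A) (E := F) (E' := F') hF hF')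
      refine Nat.le_of_mul_le_mul_left ?_ (Nat.card_pos (α := A))
      calc Nat.card A * Nat.card A ≤ (p * Nat.card F) * (p * Nat.card F') := h2
        _ = p * p * (Nat.card F * Nat.card F') := by ring
        _ ≤ p * p * (Nat.card A * Nat.card ↥(F ⊓ F')) := h3
        _ = Nat.card A * (p * p * Nat.card ↥(F ⊓ F')) := by ring
    exact ⟨F ⊓ F', inf_le_left.trans hF, hc, hanti _ _ inf_le_left hF hc,
      hanti _ _ inf_le_right hF' hc⟩
  have hK₁K' : K₁ ≤ K' := iSup_le fun _ => inf_le_right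
  have hnorm : K ≤ normalizer (K₁ : Set G) := by
    refine hgen.trans (iSup_le fun F' => ?_)
    rw [le_normalizer_iff]
    intro r hr x hx
    refine iSup_induction' (C := fun y _ => r * y * r⁻¹ ∈ K₁)
      (fun E : {E : Subgroup G // E ≤ A ∧ Nat.card A ≤ p * Nat.card E} => R E ⊓ K') ?_ ?_ ?_ hx
    · rintro F y ⟨hy, hyK⟩
      obtain ⟨D, hD, hDc, h1, h2⟩ := hpair F F'
      have hrK : r ∈ K := (hR F' F'.2.1 (up F'.2.2)).1 hr
      have hKn : K ≤ normalizer (K' : Set G) := by
        rw [hK']; exact CfsgLib.Solvable.le_normalizer_commutator_left K K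
      exact hR1 D hD hDc ⟨(R D).mul_mem ((R D).mul_mem (h2 hr) (h1 hy)) ((R D).inv_mem (h2 hr)),
        le_normalizer_iff.mp hKn r hrK y hyK⟩
    · simp
    · intro y z _ _ hy hz
      have := mul_mem hy hz
      simpa [mul_assoc] using this
  have hK'eq : K' ≤ K₁ := by
    set S := normalizer (K₁ : Set G) with hS
    set π := QuotientGroup.mk' (K₁.subgroupOf S) with hπ
    set Kb := (K.subgroupOf S).map π with hKb
    have hpiece : ∀ F F' : {E : Subgroup G // E ≤ A ∧ Nat.card A ≤ p * Nat.card E},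
        ∀ r ∈ R F, ∀ r' ∈ R F', ⁅r, r'⁆ ∈ K₁ := by
      intro F F' r hr r' hr'
      obtain ⟨D, hD, hDc, h1, h2⟩ := hpair F F'
      refine hR1 D hD hDc ⟨?_, commutator_mem_commutator ((hR F F.2.1 (up F.2.2)).1 hr)
        ((hR F' F'.2.1 (up F'.2.2)).1 hr')⟩
      exact (R D).mul_mem ((R D).mul_mem ((R D).mul_mem (h1 hr) (h2 hr')) ((R D).inv_mem (h1 hr)))
        ((R D).inv_mem (h2 hr'))
    have hK₁n : ∀ k ∈ K, ∀ y ∈ K₁, k * y * k⁻¹ ∈ K₁ := le_normalizer_iff.mp hnorm
    -- elements commuting with `x` modulo `K₁`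
    have step : ∀ x ∈ K, (∀ F : {E : Subgroup G // E ≤ A ∧ Nat.card A ≤ p * Nat.card E},
        ∀ r ∈ R F, ⁅x, r⁆ ∈ K₁) → ∀ y ∈ K, ⁅x, y⁆ ∈ K₁ := by
      intro x hx h y hy
      refine (iSup_induction' (C := fun z _ => z ∈ K ∧ ⁅x, z⁆ ∈ K₁)
        (fun E : {E : Subgroup G // E ≤ A ∧ Nat.card A ≤ p * Nat.card E} => R E) ?_ ?_ ?_
          (hgen hy)).2
      · exact fun F r hr => ⟨(hR F F.2.1 (up F.2.2)).1 hr, h F r hr⟩
      · exact ⟨one_mem _, by simp [commutatorElement_def]⟩
      · rintro z w _ _ ⟨hz, hz'⟩ ⟨hw, hw'⟩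
        refine ⟨mul_mem hz hw, ?_⟩
        have := mul_mem hz' (hK₁n z hz _ hw')
        rwa [show ⁅x, z⁆ * (z * ⁅x, w⁆ * z⁻¹) = ⁅x, z * w⁆ by
          simp [commutatorElement_def, mul_assoc]] at this
    rw [hK', commutator_le]
    intro x hx y hy
    refine step x hx (fun F r hr => ?_) y hy
    have h := step r ((hR F F.2.1 (up F.2.2)).1 hr) (fun F' r' hr' => hpiece F F' r hr r' hr') x hx
    rw [← commutatorElement_inv]
    exact inv_mem h
  -- fixed points
  rintro x ⟨hxK, hxE⟩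
  set L := ⁅K, E⁆ ⊔ K' with hL
  have hLK : L ≤ K := sup_le
    (CfsgLib.Solvable.commutator_le_of_normalizes (hE.trans hAK)) hK'K
  have hREK := (hR E hE (up hEc)).1
  have hRL : R E ≤ normalizer (L : Set G) := by
    rw [le_normalizer_iff]
    intro r hr l hl
    have h : ⁅r, l⁆ ∈ L := mem_sup_right (commutator_mem_commutator (hREK hr) (hLK hl))
    simpa [commutatorElement_def] using mul_mem h hl
  have hcover : K ≤ R E ⊔ L := by
    refine hgen.trans (iSup_le fun F => ?_)
    obtain ⟨F, hF, hFc⟩ := F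
    obtain ⟨hFK, hAF⟩ := hR F hF (up hFc)
    rw [← CfsgLib.Solvable.commutator_sup_centralizer (hE.trans hAF)
      ((elementary_coprime hA (not_dvd_of_le hFK hKp)).coprime_dvd_left (card_dvd_of_le hE))
      (Or.inl (elementary_isSolvable (elementary_of_le hA hE)))]
    exact sup_le ((commutator_mono hFK le_rfl).trans (le_sup_left.trans le_sup_right))
      ((hclosed F hF (up hFc) E hE hEc).trans le_sup_left)
  have hx' : x ∈ ((R E ⊔ L : Subgroup G) : Set G) := hcover hxK
  rw [coe_mul_of_left_le_normalizer_right (R E) L hRL] at hx'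
  obtain ⟨r, hr, l, hl, rfl⟩ := hx'
  refine mul_mem hr ?_
  -- replace `l` by an element of `K'`
  have hfixr : ∀ e ∈ E, r⁻¹ * (e * r * e⁻¹) ∈ R E ⊓ L := fun e he => by
    refine ⟨(R E).mul_mem ((R E).inv_mem hr)
      (le_normalizer_iff.mp (hR E hE (up hEc)).2 e (hE he) r hr), mem_sup_left ?_⟩
    have h2 : ⁅r⁻¹, e⁆ ∈ (⁅K, E⁆ : Subgroup G) :=
      commutator_mem_commutator (K.inv_mem (hREK hr)) he
    simpa [commutatorElement_def, mul_assoc] using h2
  obtain ⟨d, hd, -, hrd⟩ := CfsgLib.Solvable.exists_fixed_mem_coset (A := E) (K := R E) (D := R E ⊓ L)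
      (hE.trans (hR E hE (up hEc)).2) inf_le_left
      (fun e he => inf_normalizer_le_normalizer_inf ⟨(hR E hE (up hEc)).2 (hE he),
        le_trans (le_inf (CfsgLib.Solvable.le_normalizer_commutator_right K E) (hE.trans hAK'))
          (normalizer_inf_normalizer_le_normalizer_sup _ _) he⟩)
      ((elementary_coprime hA (not_dvd_of_le hREK hKp)).coprime_dvd_left (card_dvd_of_le hE))
      (Or.inl (elementary_isSolvable (elementary_of_le hA hE))) hr hfixr
  have hl' : d⁻¹ * l ∈ K' := by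
    refine mem_commutator_of_fixed (hE.trans hAK)
      ((elementary_coprime hA hKp).coprime_dvd_left (card_dvd_of_le hE))
      (L.mul_mem (L.inv_mem hd.2) hl) ?_
    have h := (centralizer (E : Set G)).mul_mem ((centralizer (E : Set G)).inv_mem hrd) hxE
    rwa [show (r * d)⁻¹ * (r * l) = d⁻¹ * l by group] at h
  have hlE : d⁻¹ * l ∈ centralizer (E : Set G) := by
    have h := (centralizer (E : Set G)).mul_mem ((centralizer (E : Set G)).inv_mem hrd) hxE
    rwa [show (r * d)⁻¹ * (r * l) = d⁻¹ * l by group] at h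
  have hfin : d⁻¹ * l ∈ R E ⊓ K' := by
    refine ih _ hlt K' rfl (Group.isSolvable_of_isSolvable_injective (inclusion_injective hK'K))
      (not_dvd_of_le hK'K hKp) hAK' (fun D => R D ⊓ K')
      (fun D hD hDc => ⟨inf_le_right, fun a ha =>
        inf_normalizer_le_normalizer_inf ⟨(hR D hD hDc).2 ha, hAK' ha⟩⟩)
      (fun D D' h1 h2 h3 => inf_le_inf_right _ (hanti D D' h1 h2 h3))
      (fun D hD hDc F hF hFc y hy => ⟨hclosed D hD hDc F hF hFc ⟨hy.1.1, hy.2⟩, hy.1.2⟩)
      hK'eq E hE hEc ⟨hl', hlE⟩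
  have := mul_mem hd.1 hfin.1
  rwa [mul_inv_cancel_left] at this

/-! ### The functor -/

theorem delta_antitone {D D' : Subgroup G} (h : D ≤ D') :
    Cfsg.signalizerDelta p D' ≤ Cfsg.signalizerDelta p D :=
  le_iInf fun a => iInf_le_of_le ⟨a.1, h a.2.1, a.2.2⟩ le_rfl

theorem le_normalizer_delta (hA : Cfsg.IsElementaryAbelian p A) {D : Subgroup G} (hD : D ≤ A) :
    A ≤ normalizer (Cfsg.signalizerDelta p D : Set G) := by
  rw [le_normalizer_iff]
  intro b hb x hx
  refine (mem_iInf.mpr fun a => ?_)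
  exact le_normalizer_iff.mp ((le_centralizer_singleton hA (hD a.2.1)).trans
    (le_normalizer_coreP p _)) b hb x (mem_iInf.mp hx a)

theorem exists_le_card_eq {k : ℕ} {E : Subgroup G} (hE : Cfsg.IsElementaryAbelian p E)
    (hEk : p ^ k ≤ Nat.card E) : ∃ D ≤ E, Nat.card D = p ^ k := by
  obtain ⟨n, hn⟩ := (elementary_isPGroup hE).exists_card_eq
  obtain ⟨D, hD⟩ := Sylow.exists_subgroup_card_pow_prime p (G := E) (n := k) (by
    rw [hn] at hEk ⊢
    exact pow_dvd_pow p ((Nat.pow_le_pow_iff_right hp.out.one_lt).mp hEk))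
  exact ⟨D.map E.subtype, map_subtype_le D, by rw [card_subtype]; exact hD⟩

theorem kBalance_functor {k : ℕ} (hk : 1 ≤ k) (hbal : Cfsg.IsKBalanced p k G)
    (hA : Cfsg.IsElementaryAbelian p A) (hAk : p ^ (k + 2) ≤ Nat.card A)
    (hsolv : ∀ a ∈ A, a ≠ 1 → Group.IsSolvable ↥(Cfsg.centralizerPPrimeCore p a)) :
    Cfsg.IsSignalizerFunctor p A (fun a => ⨆ D : {D : Subgroup G // D ≤ A ∧ Nat.card ↥D = p ^ k},
      Cfsg.signalizerDelta p (D : Subgroup G) ⊓ centralizer {a}) := by
  haveI := hA.1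
  set θ := fun a : G => ⨆ D : {D : Subgroup G // D ≤ A ∧ Nat.card ↥D = p ^ k},
    Cfsg.signalizerDelta p (D : Subgroup G) ⊓ centralizer {a} with hθ
  have hbal' : ∀ D ≤ A, p ^ k ≤ Nat.card D → ∀ b ∈ A, b ≠ 1 →
      Cfsg.signalizerDelta p D ⊓ centralizer {b} ≤ Cfsg.centralizerPPrimeCore p b := by
    intro D hD hDk b hb hb1
    obtain ⟨D₀, hD₀, hD₀k⟩ := exists_le_card_eq (elementary_of_le hA hD) hDk
    refine (inf_le_inf_right _ (delta_antitone hD₀)).trans
      (hbal D₀ (elementary_of_le hA (hD₀.trans hD)) hD₀k b (orderOf_eq_prime (hA.2 b hb) hb1)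
        fun x hx => elementary_commute hA (hD (hD₀ hx)) hb)
  have hdelta : ∀ D ≤ A, p ^ k ≤ Nat.card D → ∀ E ≤ A,
      Cfsg.signalizerDelta p D ⊓ centralizer (E : Set G) ≤ Cfsg.signalizerDelta p E :=
    fun D hD hDk E hE => le_iInf fun e => (inf_le_inf_left _
      (centralizer_le (Set.singleton_subset_iff.mpr e.2.1))).trans
      (hbal' D hD hDk e.1 (hE e.2.1) e.2.2)
  have hle : ∀ a ∈ A, a ≠ 1 → θ a ≤ Cfsg.centralizerPPrimeCore p a := fun a ha ha1 =>
    iSup_le fun D => hbal' D D.2.1 D.2.2.ge a ha ha1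
  have hpp : ∀ a ∈ A, a ≠ 1 → ¬ p ∣ Nat.card (θ a) := fun a ha ha1 hd =>
    hp.out.ne_one (Nat.eq_one_of_dvd_coprimes (coreP_coprime p (centralizer ({a} : Set G)))
      (hd.trans (card_dvd_of_le (hle a ha ha1))) dvd_rfl)
  have hinv : ∀ a ∈ A, A ≤ normalizer (θ a : Set G) := fun a ha => by
    rw [le_normalizer_iff]
    intro b hb x hx
    refine iSup_induction' (C := fun y _ => b * y * b⁻¹ ∈ θ a)
      (fun D : {D : Subgroup G // D ≤ A ∧ Nat.card ↥D = p ^ k} =>
        Cfsg.signalizerDelta p (D : Subgroup G) ⊓ centralizer {a}) ?_ ?_ ?_ hx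
    · rintro D y ⟨hy, hya⟩
      exact mem_iSup_of_mem D ⟨le_normalizer_iff.mp (le_normalizer_delta hA D.2.1) b hb y hy,
        le_normalizer_iff.mp le_normalizer b (le_centralizer_singleton hA ha hb) y hya⟩
    · simp
    · intro y z _ _ hy hz
      have := mul_mem hy hz
      simpa [mul_assoc] using this
  have hbig : ∀ D : Subgroup G, Nat.card A ≤ p * p * Nat.card D → p ^ k ≤ Nat.card D := by
    intro D h
    refine Nat.le_of_mul_le_mul_left ?_ (Nat.mul_pos hp.out.pos hp.out.pos)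
    calc p * p * p ^ k = p ^ (k + 2) := by ring
      _ ≤ _ := hAk.trans h
  have hup : ∀ E : Subgroup G, Nat.card A ≤ p * Nat.card E → Nat.card A ≤ p * p * Nat.card E :=
    fun E h => h.trans (by
      rw [mul_assoc]
      exact Nat.mul_le_mul_left p (Nat.le_mul_of_pos_left _ hp.out.pos))
  refine ⟨fun a _ _ => iSup_le fun D => inf_le_right, hpp,
    fun a ha ha1 b hb x hx => le_normalizer_iff.mp (hinv a ha) b hb x hx, fun a ha ha1 b hb hb1 => ?_⟩
  set R := fun D : Subgroup G => Cfsg.signalizerDelta p D ⊓ centralizer {a} with hR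
  have hRθ : ∀ D ≤ A, p ^ k ≤ Nat.card D → R D ≤ θ a := by
    intro D hD hDk
    obtain ⟨D₀, hD₀, hD₀k⟩ := exists_le_card_eq (elementary_of_le hA hD) hDk
    exact (inf_le_inf_right _ (delta_antitone hD₀)).trans
      (le_iSup (fun D : {D : Subgroup G // D ≤ A ∧ Nat.card ↥D = p ^ k} =>
        Cfsg.signalizerDelta p (D : Subgroup G) ⊓ centralizer {a}) ⟨D₀, hD₀.trans hD, hD₀k⟩)
  have hRinv : ∀ D ≤ A, A ≤ normalizer (R D : Set G) := fun D hD b hb =>
    inf_normalizer_le_normalizer_inf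
      ⟨le_normalizer_delta hA hD hb, le_normalizer (le_centralizer_singleton hA ha hb)⟩
  haveI := hsolv a ha ha1
  have key := inf_centralizer_le_of_closed hA (Nat.card (θ a)) (θ a) rfl
    (Group.isSolvable_of_isSolvable_injective (inclusion_injective (hle a ha ha1)))
    (hpp a ha ha1) (hinv a ha) R
    (fun D hD hDc => ⟨hRθ D hD (hbig D hDc), hRinv D hD⟩)
    (fun D D' h _ _ => inf_le_inf_right _ (delta_antitone h))
    (fun D hD hDc E hE _ x hx => ⟨hdelta D hD (hbig D hDc) E hE ⟨hx.1.1, hx.2⟩, hx.1.2⟩)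
    (iSup_le fun D => CfsgLib.Solvable.le_of_cyclic_quotient_centralizer_le (hRinv D D.2.1)
      (elementary_coprime hA (not_dvd_of_le (hRθ D D.2.1 D.2.2.ge) (hpp a ha ha1)))
      fun E hE ⟨c, hc, hEc⟩ => le_trans (b := R E)
        (fun x hx => ⟨hdelta D D.2.1 D.2.2.ge E hE ⟨hx.1.1, hx.2⟩, hx.1.2⟩)
        (le_iSup (fun E : {E : Subgroup G // E ≤ A ∧ Nat.card A ≤ p * Nat.card E} => R E)
          ⟨E, hE, card_le_index_mul hA hE hc hEc⟩))
  have hXn : A ≤ normalizer ((θ a ⊓ centralizer {b} : Subgroup G) : Set G) := fun c hc =>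
    inf_normalizer_le_normalizer_inf
      ⟨hinv a ha hc, le_normalizer (le_centralizer_singleton hA hb hc)⟩
  refine CfsgLib.Solvable.le_of_cyclic_quotient_centralizer_le hXn
    (elementary_coprime hA (not_dvd_of_le inf_le_left (hpp a ha ha1))) fun E hE ⟨c, hc, hEc⟩ => ?_
  have hEcard := card_le_index_mul hA hE hc hEc
  have hEk := hbig E (hup E hEcard)
  rintro x ⟨⟨hx, hxb⟩, hxE⟩
  have hxR := key E hE hEcard ⟨hx, hxE⟩
  obtain ⟨D₀, hD₀, hD₀k⟩ := exists_le_card_eq (elementary_of_le hA hE) hEk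
  exact le_iSup (fun D : {D : Subgroup G // D ≤ A ∧ Nat.card ↥D = p ^ k} =>
    Cfsg.signalizerDelta p (D : Subgroup G) ⊓ centralizer {b}) ⟨D₀, hD₀.trans hE, hD₀k⟩
    ⟨delta_antitone hD₀ hxR.1, hxb⟩

end CfsgLib.Signalizer
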