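import Cfsg.Agent.Lib.Signalizer.Final
import Cfsg.Agent.Lib.Signalizer.KBalance
import Cfsg.Agent.Lib.Signalizer.Connected

/-!
The solvable signalizer functor theorem for rank at least three.
-/

set_option autoImplicit false
set_option linter.style.haveILetI false
set_option linter.unusedVariables false
set_option linter.unusedSectionVars false

open Subgroup

universe u

namespace CfsgLib.Signalizer

variable {G : Type u} [Group G] [Finite G] {p : ℕ} [hp : Fact p.Prime] {A : Subgroup G}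
  {θ : G → Subgroup G}

/-- The values of a solvable functor generate a member that meets each centralizer in the value. -/
theorem iSup_functor_spec (hA : Cfsg.IsElementaryAbelian p A) (hA3 : p ^ 3 ≤ Nat.card A)
    (hθ : Cfsg.IsSolvableSignalizerFunctor p A θ) :
    (⨆ a : {a : G // a ∈ A ∧ a ≠ 1}, θ a) ∈ Cfsg.signalizerFamily p A θ ∧
      ∀ a ∈ A, a ≠ 1 → (⨆ b : {a : G // a ∈ A ∧ a ≠ 1}, θ b) ⊓ centralizer {a} = θ a := by
  obtain ⟨B, hBA, hBc⟩ := exists_le_card_eq (k := 3) hA hA3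
  have hB := elementary_of_le hA hBA
  have hθB : Cfsg.IsSolvableSignalizerFunctor p B θ :=
    ⟨⟨fun a ha => hθ.1.1 a (hBA ha), fun a ha => hθ.1.2.1 a (hBA ha),
      fun a ha ha1 b hb => hθ.1.2.2.1 a (hBA ha) ha1 b (hBA hb),
      fun a ha ha1 b hb => hθ.1.2.2.2 a (hBA ha) ha1 b (hBA hb)⟩, fun a ha => hθ.2 a (hBA ha)⟩
  have hB2 : p ^ 2 ≤ Nat.card B := by
    rw [hBc]; exact Nat.pow_le_pow_right hp.out.pos (by norm_num)
  obtain ⟨W, hW, hle⟩ := hasCompletion_of_card_eq hB hBc hθB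
  have hWB := family_le_normalizer hW
  set U := ⨆ a : {a : G // a ∈ A ∧ a ≠ 1}, θ a with hU
  have hAle : ∀ a ∈ A, a ≠ 1 → θ a ≤ W := fun a ha ha1 =>
    le_of_centralizers hB hB2 (hθ.1.2.1 a ha ha1) (hBA.trans (functor_le_normalizer hθ ha ha1))
      fun b hb hb1 => (hθ.1.2.2.2 a ha ha1 b (hBA hb) hb1).trans (hle b hb hb1)
  have hUW : U = W := by
    refine le_antisymm (iSup_le fun a => hAle a a.2.1 a.2.2) ?_
    refine le_of_centralizers hB hB2 (family_not_dvd hW) hWB fun b hb hb1 => ?_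
    exact (family_inf_le hW hb hb1).trans
      (le_iSup (fun a : {a : G // a ∈ A ∧ a ≠ 1} => θ a) ⟨b, hBA hb, hb1⟩)
  have hAU : A ≤ normalizer (U : Set G) :=
    le_normalizer_iSup fun a => functor_le_normalizer hθ a.2.1 a.2.2
  have hC : ∀ a ∈ A, a ≠ 1 → U ⊓ centralizer {a} ≤ θ a := fun a ha ha1 =>
    le_of_centralizers hB hB2 (not_dvd_of_le inf_le_left (hUW ▸ family_not_dvd hW))
      (hBA.trans (le_normalizer_inf hAU ((le_centralizer_singleton hA ha).trans le_normalizer)))
      fun b hb hb1 => by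
        refine le_trans (le_inf ?_ (inf_le_left.trans inf_le_right))
          (hθ.1.2.2.2 b (hBA hb) hb1 a ha ha1)
        exact (inf_le_inf_right _ (inf_le_left.trans hUW.le)).trans (family_inf_le hW hb hb1)
  refine ⟨mem_family_iff.mpr ⟨hUW ▸ family_isSolvable hW, hUW ▸ family_not_dvd hW, hAU, hC⟩,
    fun a ha ha1 => le_antisymm (hC a ha ha1) (le_inf ?_ (functor_le_centralizer hθ ha ha1))⟩
  exact le_iSup (fun a : {a : G // a ∈ A ∧ a ≠ 1} => θ a) ⟨a, ha, ha1⟩

/-- A solvable functor of rank at least three has a completion. -/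
theorem hasCompletion_of_card_ge (hA : Cfsg.IsElementaryAbelian p A) (hA3 : p ^ 3 ≤ Nat.card A)
    (hθ : Cfsg.IsSolvableSignalizerFunctor p A θ) : HasCompletion p A θ :=
  ⟨_, (iSup_functor_spec hA hA3 hθ).1, fun a ha ha1 =>
    le_iSup (fun a : {a : G // a ∈ A ∧ a ≠ 1} => θ a) ⟨a, ha, ha1⟩⟩

/-- The conclusion of the solvable signalizer functor theorem holds in every finite group. -/
theorem functorTheorem (p : ℕ) [Fact p.Prime] (G : Type u) [Group G] [Finite G] :
    Connected.FunctorTheorem p G := fun A θ hA hA3 hθ =>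
  ⟨(iSup_functor_spec hA hA3 hθ).1.2.1, (iSup_functor_spec hA hA3 hθ).2⟩

end CfsgLib.Signalizer
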