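import Cfsg.Agent.Lib.Components.LBalanceTwo
import Cfsg.Agent.Lib.Balance.Local
import Cfsg.Agent.Lib.Signalizer.Commutators

/-!
Local lemmas for core-separated four-groups: L-balance inside subgroups and passage to the
quotients by the cores.
-/

set_option autoImplicit false
set_option linter.style.haveILetI false
set_option linter.unusedVariables false
set_option linter.unusedSectionVars false

open scoped commutatorElement
open Subgroup CfsgLib.Components CfsgLib.Balance

universe u

namespace CfsgLib.Signalizer.CoreSep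

variable {G : Type u} [Group G] [Finite G] {p : ℕ}

/-- A core of a centralizer, seen inside a subgroup. -/
theorem coreP_subgroupOf_le {H T : Subgroup G} (hT : T ≤ H) :
    (coreP p (centralizer (T : Set G))).subgroupOf H ≤
      coreP p (centralizer (T.subgroupOf H : Set H)) := by
  refine le_coreP (fun y hy t ht => ?_) (le_normalizer_iff.mpr fun g hg y hy => ?_) ?_
  · exact Subtype.ext (coreP_le p _ (mem_subgroupOf.mp hy) (t : G) (mem_subgroupOf.mp ht))
  · rw [mem_subgroupOf] at hy ⊢
    refine le_normalizer_iff.mp (le_normalizer_coreP p _) (g : G) (fun t ht => ?_) (y : G) hy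
    exact congrArg Subtype.val (hg ⟨t, hT ht⟩ (mem_subgroupOf.mpr ht))
  · exact (coreP_coprime p _).coprime_dvd_left
      (card_comap_dvd_of_injective _ _ H.subtype_injective)

/-- The image of the core of a centralizer of a `p`-subgroup. -/
theorem map_coreP_centralizer_le [Fact p.Prime] {Q : Type u} [Group Q] [Finite Q] {f : G →* Q}
    (hf : Function.Surjective f) (hker : (Nat.card f.ker).Coprime p) {R : Subgroup G}
    (hR : IsPGroup p R) :
    (coreP p (centralizer (R : Set G))).map f ≤ coreP p (centralizer ((R.map f : Subgroup Q) : Set Q)) := by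
  rw [CfsgLib.PLoc.centralizer_map_eq hf hker hR]
  exact le_coreP (map_mono (coreP_le p _))
    ((map_mono (le_normalizer_coreP p _)).trans (le_normalizer_map f))
    ((coreP_coprime p _).coprime_dvd_left (card_map_dvd _ _))

/-- A normal `p'`-subgroup of the image pulls back into the core. -/
theorem mem_coreP_of_map {Q : Type u} [Group Q] [Finite Q] {f : G →* Q}
    (hker : (Nat.card f.ker).Coprime p) {C : Subgroup G} {N : Subgroup Q}
    (hN : (Nat.card N).Coprime p) (hCN : C.map f ≤ normalizer (N : Set Q)) {x : G}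
    (hxC : x ∈ C) (hxN : f x ∈ N) : x ∈ coreP p C := by
  set M := C ⊓ N.comap f with hM
  refine (le_coreP (inf_le_left : M ≤ C) ?_ ?_) ⟨hxC, hxN⟩
  · rw [le_normalizer_iff]
    intro g hg m hm
    refine ⟨C.mul_mem (C.mul_mem hg hm.1) (C.inv_mem hg), ?_⟩
    show f (g * m * g⁻¹) ∈ N
    rw [map_mul, map_mul, map_inv]
    exact le_normalizer_iff.mp hCN (f g) (mem_map_of_mem f hg) _ hm.2
  · have h1 := (f.comp M.subtype).ker.card_mul_index
    rw [index_ker] at h1
    rw [← h1]
    refine Nat.Coprime.mul_left ?_ ?_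
    · refine hker.coprime_dvd_left ?_
      rw [← card_map_of_injective (K := (f.comp M.subtype).ker) M.subtype_injective]
      refine card_dvd_of_le ?_
      rintro _ ⟨y, hy, rfl⟩
      exact hy
    · refine hN.coprime_dvd_left (card_dvd_of_le ?_)
      rintro _ ⟨y, rfl⟩
      exact y.2.2

/-- L-balance inside a subgroup. -/
theorem pLayer_le_of_centralizer {K T : Subgroup G} (hT : T ≤ K) (hT2 : IsPGroup 2 T) :
    (Cfsg.pLayer 2 ↥(K ⊓ centralizer (T : Set G))).map (K ⊓ centralizer (T : Set G)).subtype ≤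
      (Cfsg.pLayer 2 ↥K).map K.subtype := by
  set H := K ⊓ centralizer (T : Set G) with hH
  set C' := centralizer (T.subgroupOf K : Set K) with hC'
  have e1 : C'.map K.subtype = H := by
    ext x
    constructor
    · rintro ⟨y, hy, rfl⟩
      exact ⟨y.2, fun t ht =>
        congrArg Subtype.val (hy ⟨t, hT ht⟩ (mem_subgroupOf.mpr ht))⟩
    · intro hx
      exact ⟨⟨x, hx.1⟩, fun t ht => Subtype.ext (hx.2 (t : G) (mem_subgroupOf.mp ht)), rfl⟩
  let e : ↥C' ≃* ↥H :=
    (C'.equivMapOfInjective _ K.subtype_injective).trans (MulEquiv.subgroupCongr e1)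
  have he : H.subtype.comp e.toMonoidHom = K.subtype.comp C'.subtype := MonoidHom.ext fun y => rfl
  rw [← pLayer_map_equiv (p := 2) e, map_map, he, ← map_map]
  exact map_mono (pLayer_centralizer_two_le (hT2.of_equiv (subgroupOfEquivOfLe hT).symm))

/-- A component of an image with `p'`-kernel lies in the image of the `p`-layer modulo the core. -/
theorem component_le_map_pLayer [Fact p.Prime] {Q : Type u} [Group Q] [Finite Q] {g : G →* Q}
    (hg : Function.Surjective g) (hker : (Nat.card g.ker).Coprime p) {E : Subgroup Q}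
    (hE : Cfsg.IsComponent E) :
    E ≤ (Cfsg.pLayer p G).map g ⊔ Cfsg.pPrimeCore p Q := by
  set π := QuotientGroup.mk' (Cfsg.pPrimeCore p Q) with hπ
  set h := π.comp g with hh
  have hhs : Function.Surjective h := (QuotientGroup.mk'_surjective _).comp hg
  have hle : Cfsg.pPrimeCore p G ≤ h.ker := by
    intro x hx
    have h1 : g x ∈ Cfsg.pPrimeCore p Q :=
      le_pPrimeCore_of_normal (Normal.map (Cfsg.pPrimeCore_normal p G) g hg)
        ((coprime_card_pPrimeCore p).coprime_dvd_left (card_map_dvd _ _)) ⟨x, hx, rfl⟩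
    exact (QuotientGroup.eq_one_iff _).2 h1
  have hge : h.ker ≤ Cfsg.pPrimeCore p G := by
    intro x hx
    have h1 : g x ∈ Cfsg.pPrimeCore p Q := (QuotientGroup.eq_one_iff _).1 hx
    have h2 := mem_coreP_of_map (p := p) (f := g) hker (C := (⊤ : Subgroup G))
      (coprime_card_pPrimeCore p)
      (fun y _ => by rw [normalizer_eq_top]; trivial) (mem_top x) h1
    refine (le_pPrimeCore_of_normal ?_ (coreP_coprime p _)) h2
    rw [← normalizer_eq_top_iff, eq_top_iff]
    exact le_normalizer_coreP p _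
  set ψ := QuotientGroup.lift (Cfsg.pPrimeCore p G) h hle with hψ
  have hψi : Function.Injective ψ := by
    rw [injective_iff_map_eq_one]
    intro y hy
    obtain ⟨x, rfl⟩ := QuotientGroup.mk_surjective y
    exact (QuotientGroup.eq_one_iff _).2 (hge hy)
  have hψs : Function.Surjective ψ := fun y => by
    obtain ⟨x, rfl⟩ := hhs y
    exact ⟨QuotientGroup.mk x, rfl⟩
  have hl : (Cfsg.pLayer p G).map h = Cfsg.layer (Q ⧸ Cfsg.pPrimeCore p Q) := by
    rw [show h = ψ.comp (QuotientGroup.mk' _) from MonoidHom.ext fun x => rfl, ← map_map,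
      pLayer_map_mk]
    exact layer_map_equiv (MulEquiv.ofBijective ψ ⟨hψi, hψs⟩)
  intro x hx
  have hmem : π x ∈ Cfsg.layer (Q ⧸ Cfsg.pPrimeCore p Q) := by
    by_cases hne : E.map π = ⊥
    · have h1 : π x = 1 := by
        rw [← mem_bot, ← hne]
        exact mem_map_of_mem π hx
      rw [h1]
      exact one_mem _
    · exact component_le_layer (component_map_of_surjective (QuotientGroup.mk'_surjective _) hE hne)
        (mem_map_of_mem π hx)
  rw [← hl, hh, ← map_map] at hmem
  obtain ⟨y, hy, hyx⟩ := hmem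
  have h1 : y⁻¹ * x ∈ Cfsg.pPrimeCore p Q := QuotientGroup.eq.1 hyx
  rw [← mul_inv_cancel_left y x]
  exact mul_mem (mem_sup_left hy) (mem_sup_right h1)

/-- An element normalizing a perfect `L` with commutators in a subgroup centralizing `L`
centralizes `L`. -/
theorem mem_centralizer_of_perfect {L N : Subgroup G} (hL : ⁅L, L⁆ = L)
    (hNL : L ≤ centralizer (N : Set G)) {z : G} (hz : z ∈ normalizer (L : Set G))
    (hcomm : ∀ e ∈ L, ⁅z, e⁆ ∈ N) : z ∈ centralizer (L : Set G) := by
  have hmem : ∀ e ∈ L, ⁅z, e⁆ ∈ L := fun e he => by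
    rw [commutatorElement_def]
    exact mul_mem ((mem_normalizer_iff.mp hz e).mp he) (inv_mem he)
  have hc : ∀ e ∈ L, ∀ e' ∈ L, e * ⁅z, e'⁆ = ⁅z, e'⁆ * e :=
    fun e he e' he' => (hNL he _ (hcomm e' he')).symm
  let φ : ↥L →* ↥L :=
    { toFun := fun e => ⟨⁅z, (e : G)⁆, hmem e e.2⟩
      map_one' := Subtype.ext (by simp [commutatorElement_def])
      map_mul' := fun a b => Subtype.ext (by
        show ⁅z, (a : G) * b⁆ = ⁅z, (a : G)⁆ * ⁅z, (b : G)⁆
        calc ⁅z, (a : G) * b⁆ = ⁅z, (a : G)⁆ * (a * ⁅z, (b : G)⁆ * (a : G)⁻¹) := by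
              simp only [commutatorElement_def]; group
          _ = _ := by rw [hc a a.2 b b.2, mul_inv_cancel_right]) }
  have hk : φ.ker = ⊤ := by
    rw [eq_top_iff]
    intro e _
    have he : (e : G) ∈ ⁅L, L⁆ := hL.symm ▸ e.2
    have key : ⁅L, L⁆ ≤ φ.ker.map L.subtype := by
      rw [commutator_le]
      intro a ha b hb
      refine ⟨⁅(⟨a, ha⟩ : ↥L), ⟨b, hb⟩⁆, ?_, rfl⟩
      show φ ⁅(⟨a, ha⟩ : ↥L), ⟨b, hb⟩⁆ = 1
      rw [map_commutatorElement, commutatorElement_eq_one_iff_mul_comm]
      exact Subtype.ext (hc _ (hmem a ha) b hb)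
    obtain ⟨e', he', hee⟩ := key he
    rwa [← Subtype.ext hee]
  intro e he
  have h1 : φ ⟨e, he⟩ = 1 := MonoidHom.mem_ker.mp (hk ▸ mem_top _)
  exact (commutatorElement_eq_one_iff_mul_comm.mp (congrArg Subtype.val h1)).symm

/-- The commutators of a `p'`-core element with the fixed points of `T` in the layer, when each
component is centralized by `T` or by `T'`. -/
theorem commutator_layer_mem_core [Fact p.Prime] (hO : Cfsg.pPrimeCore p G = ⊥) {T T' : Subgroup G}
    {a αi αj : G} (hαi : αi ∈ T) (hαj : αj ∈ T') (ha : a = αi * αj) (hord : orderOf a = p)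
    (hsep : ∀ K : Subgroup G, Cfsg.IsComponent K →
      K ≤ centralizer (T : Set G) ∨ K ≤ centralizer (T' : Set G))
    {V : Subgroup G} (hV : V ≤ coreP p (centralizer ({a} : Set G))) {u : G}
    (hu : u ∈ ⁅V, T⁆) (huT : u ∈ centralizer (T : Set G))
    (hua : u ∈ coreP p (centralizer ({a} : Set G))) {y : G} (hy : y ∈ Cfsg.layer G)
    (hyT : y ∈ centralizer (T : Set G)) :
    ⁅u, y⁆ ∈ coreP p (centralizer (T : Set G)) := by
  set C := centralizer (T : Set G) with hC
  set Li := ⨆ K : {K : Subgroup G // Cfsg.IsComponent K ∧ K ≤ C}, (K : Subgroup G) with hLi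
  set Lj := ⨆ K : {K : Subgroup G // Cfsg.IsComponent K ∧ ¬ K ≤ C}, (K : Subgroup G) with hLj
  have hLiC : Li ≤ C := iSup_le fun K => K.2.2
  have hLjT : Lj ≤ centralizer (T' : Set G) :=
    iSup_le fun K => (hsep K K.2.1).resolve_left K.2.2
  have hsplit : Cfsg.layer G ≤ Li ⊔ Lj := sSup_le fun K hK => by
    by_cases h : K ≤ C
    · exact le_sup_of_le_left (le_iSup_of_le ⟨K, hK, h⟩ le_rfl)
    · exact le_sup_of_le_right (le_iSup_of_le ⟨K, hK, h⟩ le_rfl)
  have hcomm : Lj ≤ centralizer (Li : Set G) := iSup_le fun K => by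
    rw [le_centralizer_iff]
    refine iSup_le fun K' => le_centralizer_of_commutator_eq_bot
      (component_commutator_of_ne K'.2.1 K.2.1 fun h => K.2.2 (h ▸ K'.2.2))
  have huLi : u ∈ centralizer (Li : Set G) := by
    have key : ⁅V, T⁆ ≤ centralizer (Li : Set G) := by
      rw [le_centralizer_iff]
      refine iSup_le fun K => ?_
      rw [le_centralizer_iff, commutator_le]
      intro v hv t ht
      have hvK := (component_facts hO hord hV K.2.1).2.1 hv
      intro k (hk : k ∈ (K : Subgroup G))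
      have h1 : v⁻¹ * k * v ∈ (K : Subgroup G) := by
        simpa using (mem_normalizer_iff.mp (inv_mem hvK) k).mp hk
      have h2 : t * (v⁻¹ * k * v) = v⁻¹ * k * v * t := K.2.2 h1 t ht
      have h3 : t * k = k * t := K.2.2 hk t ht
      have h4 : t⁻¹ * k = k * t⁻¹ := ((show Commute t k from h3).inv_left).eq
      symm
      simp only [commutatorElement_def]
      calc v * t * v⁻¹ * t⁻¹ * k = v * (t * (v⁻¹ * k * v)) * v⁻¹ * t⁻¹ := by
            rw [mul_assoc (v * t * v⁻¹) t⁻¹ k, h4]; group
        _ = k * (v * t * v⁻¹ * t⁻¹) := by rw [h2]; group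
    exact key hu
  have hconj : C ≤ normalizer (Lj : Set G) := by
    rw [le_normalizer_iff]
    intro c hc x hx
    have hmap : Lj.map (MulAut.conj c).toMonoidHom ≤ Lj := by
      rw [hLj, Subgroup.map_iSup]
      refine iSup_le fun K => le_iSup_of_le ⟨_, component_map_conj K.2.1 c, fun h => K.2.2 ?_⟩ le_rfl
      intro k hk
      have h' := h ⟨k, hk, rfl⟩
      have := C.mul_mem (C.mul_mem (C.inv_mem hc) h') hc
      simpa [mul_assoc] using this
    exact hmap ⟨x, hx, rfl⟩
  obtain ⟨l, hl, r, hr, rfl⟩ := (CfsgLib.Solvable.mem_sup_of_le_normalizer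
    (hcomm.trans (centralizer_le_normalizer _))).mp (hsplit hy)
  have hlC : l ∈ C := hLiC hl
  have hrC : r ∈ C := by
    have := C.mul_mem (C.inv_mem hlC) hyT
    simpa using this
  set M := Lj ⊓ C with hM
  have hCM : C ≤ normalizer (M : Set G) := le_normalizer_inf hconj le_normalizer
  have hMa : M ≤ centralizer ({a} : Set G) := fun m hm =>
    mem_centralizer_singleton_iff.mpr
      (show Commute m a from ha ▸ Commute.mul_right (hm.2 αi hαi).symm (hLjT hm.1 αj hαj).symm)
  set N := coreP p (centralizer ({a} : Set G)) ⊓ M with hN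
  have hNM : M ≤ normalizer (N : Set G) :=
    le_normalizer_inf (hMa.trans (le_normalizer_coreP p _)) le_normalizer
  have hNcop : (Nat.card N).Coprime p :=
    (coreP_coprime p _).coprime_dvd_left (card_dvd_of_le inf_le_left)
  have hNC : N ≤ coreP p C :=
    (le_coreP (inf_le_right : N ≤ M) hNM hNcop).trans
      (le_coreP ((coreP_le p M).trans inf_le_right)
        (hCM.trans (normalizer_le_normalizer_coreP p M)) (coreP_coprime p M))
  have hru : ⁅u, r⁆ ∈ N := by
    have hrM : r ∈ M := ⟨hr, hrC⟩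
    refine ⟨?_, ?_⟩
    · rw [commutatorElement_def, mul_assoc u, mul_assoc u]
      exact (coreP p (centralizer ({a} : Set G))).mul_mem hua
        (le_normalizer_iff.mp (le_normalizer_coreP p _) r (hMa hrM) _ (Subgroup.inv_mem _ hua))
    · rw [commutatorElement_def]
      exact M.mul_mem (le_normalizer_iff.mp hCM u huT r hrM) (M.inv_mem hrM)
  have e : ⁅u, l * r⁆ = l * ⁅u, r⁆ * l⁻¹ := by
    have h1 : u * l = l * u := (huLi l hl).symm
    simp only [commutatorElement_def]
    calc u * (l * r) * u⁻¹ * (l * r)⁻¹ = (u * l) * r * u⁻¹ * r⁻¹ * l⁻¹ := by group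
      _ = l * (u * r * u⁻¹ * r⁻¹) * l⁻¹ := by rw [h1]; group
  rw [e]
  exact le_normalizer_iff.mp (le_normalizer_coreP p C) l hlC _ (hNC hru)

end CfsgLib.Signalizer.CoreSep
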