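import Cfsg.Agent.Lib.Solvable.CoprimeAction
import Cfsg.Agent.Lib.PGroup.PowerMap
import Cfsg.Agent.Lib.PLocal.Constrained
import Cfsg.Agent.Lib.Components.Subnormal
import Cfsg.Agent.S0120
import Cfsg.Agent.S3800

/-!
An abelian `p`-subgroup `A` containing every element of order `p` of its centralizer normalizes no
`p'`-subgroup outside the `p'`-core of a `p`-constrained group, `p` odd.
-/

set_option autoImplicit false
set_option linter.style.haveILetI false
set_option linter.unusedVariables false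
set_option linter.unusedSectionVars false

open Subgroup
open scoped commutatorElement

namespace CfsgLib.Signalizer

variable {G : Type*} [Group G] [Finite G] {p : ℕ} [hp : Fact p.Prime]

/-- In class two the product of a list times the product of its reverse is independent of order. -/
theorem sym_prod_perm {W : Subgroup G}
    (hW : ∀ a ∈ W, ∀ b ∈ W, ∀ c ∈ W, ⁅a, b⁆ * c = c * ⁅a, b⁆)
    {l l' : List G} (h : l.Perm l') : (∀ x ∈ l, x ∈ W) →
      l.prod * l.reverse.prod = l'.prod * l'.reverse.prod := by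
  induction h with
  | nil => intro _; rfl
  | cons a h ih =>
    intro hl
    have := ih fun x hx => hl x (List.mem_cons_of_mem a hx)
    simp only [List.prod_cons, List.reverse_cons, List.prod_append, List.prod_nil, mul_one]
    rw [← mul_assoc, mul_assoc a, this]
    simp [mul_assoc]
  | swap a b P =>
    intro hl
    have ha : a ∈ W := hl a (by simp)
    have hb : b ∈ W := hl b (by simp)
    have hP : ∀ x ∈ P, x ∈ W := fun x hx => hl x (by simp [hx])
    have hm : a * b * (P.prod * P.reverse.prod) ∈ W :=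
      mul_mem (mul_mem ha hb) (mul_mem (W.list_prod_mem hP)
        (W.list_prod_mem fun x hx => hP x (List.mem_reverse.mp hx)))
    simp only [List.prod_cons, List.reverse_cons, List.prod_append, List.prod_nil, mul_one,
      List.append_assoc, List.cons_append, List.nil_append]
    calc b * (a * P.prod) * (P.reverse.prod * (a * b))
        = ⁅b, a⁆ * (a * b * (P.prod * P.reverse.prod)) * (a * b) := by
          rw [commutatorElement_def]; group
      _ = (a * b * (P.prod * P.reverse.prod)) * ⁅b, a⁆ * (a * b) := by rw [hW b hb a ha _ hm]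
      _ = a * (b * P.prod) * (P.reverse.prod * (b * a)) := by rw [commutatorElement_def]; group
  | trans h₁ _ ih₁ ih₂ =>
    intro hl
    exact (ih₁ hl).trans (ih₂ fun x hx => hl x (h₁.mem_iff.mpr hx))

theorem map_mul_prod {W : Subgroup G} {z : G} (hz : ∀ w ∈ W, z * w = w * z) {ι : Type*}
    (f : ι → G) (l : List ι) (hf : ∀ i ∈ l, f i ∈ W) :
    (l.map fun i => f i * z).prod = (l.map f).prod * z ^ l.length := by
  induction l with
  | nil => simp
  | cons a l ih =>
    have hl : ∀ i ∈ l, f i ∈ W := fun i hi => hf i (List.mem_cons_of_mem a hi)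
    have hP : (l.map f).prod ∈ W := W.list_prod_mem fun x hx => by
      obtain ⟨i, hi, rfl⟩ := List.mem_map.mp hx
      exact hl i hi
    simp only [List.map_cons, List.prod_cons, List.length_cons]
    rw [ih hl, pow_succ', mul_assoc, ← mul_assoc z, hz _ hP]
    simp [mul_assoc]

/-- A `p`-group acting on a `p`-group fixes a coset outside a proper invariant normal subgroup. -/
theorem exists_fixed_coset {A C W : Subgroup G} (hA : IsPGroup p A) (hW : IsPGroup p W)
    (hAW : A ≤ normalizer (W : Set G)) (hWC : W ≤ normalizer (C : Set G))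
    (hAC : A ≤ normalizer (C : Set G)) (hne : ¬ W ≤ C) :
    ∃ w ∈ W, w ∉ C ∧ ∀ x ∈ A, w⁻¹ * (x * w * x⁻¹) ∈ C := by
  set R := W ⊔ A with hR
  have : (C.subgroupOf R).Normal := normal_subgroupOf_of_le_normalizer (sup_le hWC hAC)
  have : (W.subgroupOf R).Normal := normal_subgroupOf_of_le_normalizer (sup_le le_normalizer hAW)
  have hRp : IsPGroup p R := IsPGroup.to_sup_of_normal_left' hW hA hAW
  set f := QuotientGroup.mk' (C.subgroupOf R) with hf
  have hN : ((W.subgroupOf R).map f).Normal :=
    Normal.map inferInstance _ (QuotientGroup.mk'_surjective _)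
  have hne' : (W.subgroupOf R).map f ≠ ⊥ := by
    rw [Ne, Subgroup.map_eq_bot_iff, hf, QuotientGroup.ker_mk']
    exact fun h => hne fun x hx => mem_subgroupOf.mp (h (mem_subgroupOf.mpr hx :
      (⟨x, mem_sup_left hx⟩ : R) ∈ W.subgroupOf R))
  obtain ⟨z, hz, hzne⟩ := CfsgLib.Solvable.exists_ne_one_mem_inf_center_of_normal
    (hRp.to_quotient (C.subgroupOf R)) hne'
  obtain ⟨w, hw, rfl⟩ := mem_map.mp hz.1
  refine ⟨w, mem_subgroupOf.mp hw, fun h => hzne ?_, fun x hx => ?_⟩
  · exact (QuotientGroup.eq_one_iff w).mpr (mem_subgroupOf.mpr h)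
  · have h := (mem_center_iff.mp hz.2) (f ⟨x, mem_sup_right hx⟩)
    have h2 : f (w⁻¹ * (⟨x, mem_sup_right hx⟩ * w * (⟨x, mem_sup_right hx⟩ : R)⁻¹)) = 1 := by
      rw [map_mul, map_mul, map_mul, map_inv, map_inv, h]
      group
    simpa using mem_subgroupOf.mp ((QuotientGroup.eq_one_iff _).mp h2)

/-- A `p'`-group normalized by a `p`-group `A` centralizes a `p`-group `U` acted on by both once it
centralizes the elements of order `p` of `C_U(A)`, `p` odd. -/
theorem le_centralizer_of_omega (hp2 : p ≠ 2) {A Q U : Subgroup G} (hA : IsPGroup p A)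
    (hQ : (Nat.card Q).Coprime p) (hU : IsPGroup p U) (hAQ : A ≤ normalizer (Q : Set G))
    (hAU : A ≤ normalizer (U : Set G)) (hQU : Q ≤ normalizer (U : Set G))
    (hfix : ∀ x ∈ U ⊓ centralizer (A : Set G), x ^ p = 1 → x ∈ centralizer (Q : Set G)) :
    Q ≤ centralizer (U : Set G) := by
  rw [le_centralizer_iff]
  suffices h : ∀ W : Subgroup G, W ≤ U → A ≤ normalizer (W : Set G) →
      Q ≤ normalizer (W : Set G) → W ≤ centralizer (Q : Set G) from h U le_rfl hAU hQU
  intro W
  induction W using (wellFounded_lt (α := Subgroup G)).induction with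
  | h W ih =>
  intro hWU hAW hQW
  have hWp := hU.to_le hWU
  haveI : Group.IsNilpotent W := hWp.isNilpotent
  have hWs : Group.IsSolvable W := inferInstance
  have hcop : (Nat.card Q).Coprime (Nat.card W) := by
    obtain ⟨n, hn⟩ := hWp.exists_card_eq
    rw [hn]
    exact hQ.pow_right n
  -- `W = [W, Q]`
  by_cases hWQ : ⁅W, Q⁆ = W
  swap
  · have hle := CfsgLib.Solvable.commutator_le_of_normalizes hQW
    have h1 : ⁅W, Q⁆ ≤ centralizer (Q : Set G) := ih _ (lt_of_le_of_ne hle hWQ) (hle.trans hWU)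
      (by
        rw [le_normalizer_iff]
        intro a ha x hx
        have h : (⁅W, Q⁆).map (MulAut.conj a).toMonoidHom ≤ ⁅W, Q⁆ := by
          rw [map_commutator]
          refine commutator_mono ?_ ?_ <;> rintro _ ⟨y, hy, rfl⟩
          · exact le_normalizer_iff.mp hAW a ha y hy
          · exact le_normalizer_iff.mp hAQ a ha y hy
        exact h ⟨x, hx, rfl⟩)
      (CfsgLib.Solvable.le_normalizer_commutator_right W Q)
    have h2 : ⁅W, Q⁆ = ⊥ := by
      rw [← CfsgLib.Solvable.commutator_commutator_eq hQW hcop (Or.inr hWs)]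
      exact commutator_eq_bot_iff_le_centralizer.mpr h1
    exact commutator_eq_bot_iff_le_centralizer.mp h2
  by_cases hWC : W ≤ centralizer (Q : Set G)
  · exact hWC
  exfalso
  set C := W ⊓ centralizer (Q : Set G) with hC
  have hAC : A ≤ normalizer (C : Set G) := by
    rw [le_normalizer_iff]
    rintro a ha x ⟨hx, hxQ⟩
    refine ⟨le_normalizer_iff.mp hAW a ha x hx, fun q hq => ?_⟩
    have h := hxQ _ ((mem_normalizer_iff''.mp (hAQ ha) q).mp hq)
    calc q * (a * x * a⁻¹) = a * ((a⁻¹ * q * a) * x) * a⁻¹ := by group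
      _ = a * (x * (a⁻¹ * q * a)) * a⁻¹ := by rw [h]
      _ = a * x * a⁻¹ * q := by group
  have hW'lt : ⁅W, W⁆ < W := by
    refine lt_of_le_of_ne (commutator_le_self W) fun heq => ?_
    have hW1 : W ≠ ⊥ := fun h => hWC (h ▸ bot_le)
    haveI : Nontrivial W := (nontrivial_iff_ne_bot W).mpr hW1
    refine (Group.IsSolvable.commutator_lt_top_of_nontrivial W).ne ?_
    apply map_injective W.subtype_injective
    rw [commutator_def, map_commutator, ← MonoidHom.range_eq_map, range_subtype, heq]
  have hW'C : ⁅W, W⁆ ≤ C := by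
    refine le_inf hW'lt.le (ih _ hW'lt (hW'lt.le.trans hWU) ?_ ?_) <;>
    · rw [le_normalizer_iff]
      intro a ha x hx
      have hm : W.map (MulAut.conj a).toMonoidHom ≤ W := by
        rintro _ ⟨y, hy, rfl⟩
        first
          | exact le_normalizer_iff.mp hAW a ha y hy
          | exact le_normalizer_iff.mp hQW a ha y hy
      have h : (⁅W, W⁆).map (MulAut.conj a).toMonoidHom ≤ ⁅W, W⁆ := by
        rw [map_commutator]; exact commutator_mono hm hm
      exact h ⟨x, hx, rfl⟩
  -- `C` is central in `W`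
  have hCW : ⁅W, C⁆ = ⊥ := by
    have h1 : ⁅⁅W, C⁆, Q⁆ = ⊥ := commutator_eq_bot_iff_le_centralizer.mpr
      (((commutator_mono le_rfl inf_le_left).trans hW'C).trans inf_le_right)
    have h2 : ⁅⁅C, Q⁆, W⁆ = ⊥ := by
      rw [commutator_eq_bot_iff_le_centralizer.mpr (inf_le_right : C ≤ centralizer (Q : Set G)),
        commutator_bot_left]
    have h3 := commutator_commutator_eq_bot_of_rotate h1 h2 (H₁ := Q) (H₂ := W) (H₃ := C)
    rwa [commutator_comm Q W, hWQ] at h3
  have hcent : ∀ c ∈ C, ∀ w ∈ W, c * w = w * c := fun c hc w hw =>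
    ((commutatorElement_eq_one_iff_mul_comm).mp (mem_bot.mp (hCW ▸ commutator_mem_commutator hw hc))).symm
  have hclass : ∀ a ∈ W, ∀ b ∈ W, ∀ c ∈ W, ⁅a, b⁆ * c = c * ⁅a, b⁆ := fun a ha b hb c hc =>
    hcent _ (hW'C (commutator_mem_commutator ha hb)) c hc
  -- `W` has exponent `p`
  have hexp : ∀ x ∈ W, x ^ p = 1 := by
    have hcen : commutator W ≤ center W := by
      rw [_root_.commutator_def, commutator_le]
      intro a _ b _
      rw [mem_center_iff]
      exact fun g => Subtype.ext (hclass a a.2 b b.2 g g.2).symm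
    have hmul : ∀ x y : W, x ^ p = 1 → y ^ p = 1 → (x * y) ^ p = 1 := fun x y =>
      CfsgLib.PGroup.mul_pow_eq_one hp.out
        (fun c hc g => by
          rw [show ⁅c, g⁆ = 1 from commutatorElement_eq_one_iff_mul_comm.mpr
            ((mem_center_iff.mp (hcen hc) g).symm)]
          exact one_mem _)
        (Or.inl ⟨hp2, hcen⟩) x y
    set Ω : Subgroup G :=
      { carrier := {x | x ∈ W ∧ x ^ p = 1}
        one_mem' := ⟨one_mem _, one_pow _⟩
        mul_mem' := fun {a b} ha hb => ⟨mul_mem ha.1 hb.1, by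
          have h := hmul ⟨a, ha.1⟩ ⟨b, hb.1⟩ (Subtype.ext (by simpa using ha.2))
            (Subtype.ext (by simpa using hb.2))
          simpa using congrArg Subtype.val h⟩
        inv_mem' := fun {a} ha => ⟨inv_mem ha.1, by rw [inv_pow, ha.2, inv_one]⟩ } with hΩ
    by_contra hcon
    push Not at hcon
    obtain ⟨x₀, hx₀, hx₀p⟩ := hcon
    have hlt : Ω < W := lt_of_le_of_ne (fun x hx => hx.1) fun h => hx₀p (h.ge hx₀).2
    have hΩn : ∀ {g : G}, g ∈ normalizer (W : Set G) → g ∈ normalizer (Ω : Set G) := by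
      intro g hg
      refine mem_normalizer_iff.mpr fun x => ?_
      show x ∈ W ∧ x ^ p = 1 ↔ g * x * g⁻¹ ∈ W ∧ (g * x * g⁻¹) ^ p = 1
      rw [← mem_normalizer_iff.mp hg x, conj_pow, conj_eq_one_iff]
    have hΩQ := ih Ω hlt (hlt.le.trans hWU) (fun g hg => hΩn (hAW hg)) (fun g hg => hΩn (hQW hg))
    refine hWC (le_centralizer_iff.mp fun q hq => ?_)
    have hq' := hQW hq
    have h1 : W.normalizerMonoidHom ⟨q, hq'⟩ = 1 := by
      refine Cfsg.Agent.S0120.result hp2 hWp _ ?_ fun x hx => Subtype.ext ?_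
      · refine (hQ.coprime_dvd_left ?_)
        refine (orderOf_map_dvd W.normalizerMonoidHom _).trans ?_
        rw [orderOf_mk]
        exact Subgroup.orderOf_dvd_natCard Q hq
      · have := hΩQ (show (x : G) ∈ Ω from ⟨x.2, by simpa using congrArg Subtype.val hx⟩) q hq
        show q * (x : G) * q⁻¹ = x
        rw [this, mul_inv_cancel_right]
    have h2 : (⟨q, hq'⟩ : ↥(normalizer (W : Set G))) ∈ W.normalizerMonoidHom.ker := h1
    rw [normalizerMonoidHom_ker, mem_subgroupOf] at h2
    exact h2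
  -- a fixed coset
  obtain ⟨w, hw, hwC, hwA⟩ := exists_fixed_coset hA hWp hAW
    (by
      rw [le_normalizer_iff]
      intro v hv c hc
      rw [← hcent c hc v hv, mul_inv_cancel_right]
      exact hc) hAC (fun h => hWC (h.trans inf_le_right))
  classical
  haveI : Fintype Q := Fintype.ofFinite Q
  set L : List Q := (Finset.univ : Finset Q).toList with hL
  have hLperm : ∀ e : Q ≃ Q, (L.map e).Perm L := fun e => by
    refine (List.perm_ext_iff_of_nodup ((Finset.nodup_toList _).map e.injective)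
      (Finset.nodup_toList _)).mpr fun x => ⟨fun _ => by simp [hL], fun _ => ?_⟩
    exact List.mem_map.mpr ⟨e.symm x, by simp [hL], e.apply_symm_apply x⟩
  set f : G → Q → G := fun x q => (q : G) * x * (q : G)⁻¹ with hf
  set F : G → G := fun x => (L.map (f x)).prod * (L.map (f x)).reverse.prod with hF
  have hfW : ∀ x ∈ W, ∀ q, f x q ∈ W := fun x hx q => le_normalizer_iff.mp hQW q q.2 x hx
  have hmem : ∀ x ∈ W, ∀ l : List Q, ∀ y ∈ l.map (f x), y ∈ W := fun x hx l y hy => by
    obtain ⟨q, -, rfl⟩ := List.mem_map.mp hy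
    exact hfW x hx q
  have hconj : ∀ g x : G, g * F x * g⁻¹ =
      (L.map fun q => g * f x q * g⁻¹).prod * (L.map fun q => g * f x q * g⁻¹).reverse.prod := by
    intro g x
    have := map_list_prod (MulAut.conj g) (L.map (f x))
    have h2 := map_list_prod (MulAut.conj g) (L.map (f x)).reverse
    simp only [MulAut.conj_apply, List.map_map, List.map_reverse] at this h2
    rw [hF]
    simp only [List.map_reverse]
    calc g * ((L.map (f x)).prod * (L.map (f x)).reverse.prod) * g⁻¹
        = (g * (L.map (f x)).prod * g⁻¹) * (g * (L.map (f x)).reverse.prod * g⁻¹) := by group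
      _ = _ := by rw [this, h2]; rfl
  have hFW : F w ∈ W := mul_mem (W.list_prod_mem (hmem w hw L))
    (W.list_prod_mem fun x hx => hmem w hw L x (List.mem_reverse.mp hx))
  have hFC : F w ∈ C := by
    refine ⟨hFW, fun q₀ hq₀ => ?_⟩
    rw [← mul_inv_eq_iff_eq_mul, hconj]
    have he : (L.map fun q => q₀ * f w q * q₀⁻¹) =
        (L.map (Equiv.mulLeft (⟨q₀, hq₀⟩ : Q))).map (f w) := by
      rw [List.map_map]
      refine List.map_congr_left fun q _ => ?_
      simp [hf, mul_assoc]
    rw [he]
    exact sym_prod_perm hclass ((hLperm (Equiv.mulLeft _)).map (f w)) (hmem w hw _)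
  set n := L.length with hn
  have hcard : n = Nat.card Q := by
    rw [hn, hL, Finset.length_toList, Nat.card_eq_fintype_card, Finset.card_univ]
  set s := w ^ (n + n) * (F w)⁻¹ with hs
  have hsW : s ∈ W := mul_mem (pow_mem hw _) (inv_mem hFW)
  have hsA : s ∈ centralizer (A : Set G) := by
    intro a ha
    set z := w⁻¹ * (a * w * a⁻¹) with hz
    have hzC : z ∈ C := hwA a ha
    have hawz : a * w * a⁻¹ = w * z := by rw [hz]; group
    rw [← mul_inv_eq_iff_eq_mul]
    have hFa : a * F w * a⁻¹ = F (w * z) := by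
      rw [hconj]
      let e : Q ≃ Q :=
        { toFun := fun q => ⟨a * q * a⁻¹, le_normalizer_iff.mp hAQ a ha q q.2⟩
          invFun := fun q => ⟨a⁻¹ * q * a, (mem_normalizer_iff''.mp (hAQ ha) q).mp q.2⟩
          left_inv := fun q => Subtype.ext (by simp [mul_assoc])
          right_inv := fun q => Subtype.ext (by simp [mul_assoc]) }
      have he : (L.map fun q => a * f w q * a⁻¹) = (L.map e).map (f (w * z)) := by
        rw [List.map_map]
        refine List.map_congr_left fun q _ => ?_
        rw [← hawz]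
        simp [hf, e, mul_assoc]
      rw [he]
      exact sym_prod_perm hclass ((hLperm e).map (f (w * z)))
        (hmem _ (mul_mem hw hzC.1) _)
    have hshift : (L.map (f (w * z))) = L.map fun q => f w q * z := by
      refine List.map_congr_left fun q _ => ?_
      have h : (q : G) * z = z * q := hzC.2 q q.2
      calc (q : G) * (w * z) * (q : G)⁻¹ = (q : G) * w * (q : G)⁻¹ * ((q : G) * z * (q : G)⁻¹) := by group
        _ = _ := by rw [h, mul_inv_cancel_right]
    have hFz : F (w * z) = F w * z ^ (n + n) := by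
      have hzc := hcent z hzC
      rw [hF]
      simp only [hshift, ← List.map_reverse]
      rw [map_mul_prod hzc _ L (fun q _ => hfW w hw q),
        map_mul_prod hzc _ L.reverse (fun q _ => hfW w hw q), List.length_reverse, pow_add]
      have hP : (L.reverse.map (f w)).prod ∈ W := W.list_prod_mem (hmem w hw _)
      have hcomm : Commute (z ^ L.length) ((L.reverse.map (f w)).prod) :=
        (show Commute z _ from hzc _ hP).pow_left _
      rw [hn, mul_assoc, ← mul_assoc (z ^ L.length), hcomm.eq]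
      simp [mul_assoc]
    calc a * s * a⁻¹ = (a * w * a⁻¹) ^ (n + n) * (a * F w * a⁻¹)⁻¹ := by
          rw [hs, conj_pow]; group
      _ = w ^ (n + n) * z ^ (n + n) * ((z ^ (n + n))⁻¹ * (F w)⁻¹) := by
          rw [hawz, hFa, hFz, mul_inv_rev,
            (show Commute w z from (hcent z hzC w hw).symm).mul_pow]
      _ = s := by rw [hs]; group
  have hsQ := hfix s ⟨hWU hsW, hsA⟩ (hexp s hsW)
  have hwn : w ^ (n + n) ∈ C := by
    refine ⟨pow_mem hw _, ?_⟩
    rw [show w ^ (n + n) = s * F w by rw [hs]; group]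
    exact mul_mem hsQ hFC.2
  apply hwC
  have h2 : (n + n).Coprime (orderOf w) := by
    refine Nat.Coprime.coprime_dvd_right (orderOf_dvd_of_pow_eq_one (hexp w hw)) ?_
    rw [← two_mul, hcard]
    exact Nat.Coprime.mul_left ((Nat.coprime_primes Nat.prime_two hp.out).mpr (Ne.symm hp2)) hQ
  obtain ⟨m, hm⟩ := exists_pow_eq_self_of_coprime h2
  rw [← hm]
  exact C.pow_mem hwn m

/-- The constrained group statement with trivial `p'`-core. -/
theorem eq_bot_of_omega_self (hp2 : p ≠ 2)
    (hV : centralizer (Cfsg.pCore p G : Set G) ≤ Cfsg.pCore p G)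
    {A Q : Subgroup G} (hA : IsMulCommutative A) (hAp : IsPGroup p A)
    (hΩ : ∀ x ∈ centralizer (A : Set G), orderOf x = p → x ∈ A)
    (hQ : (Nat.card Q).Coprime p) (hAQ : A ≤ normalizer (Q : Set G)) : Q = ⊥ := by
  set V := Cfsg.pCore p G with hV'
  have hVn : V.Normal := Cfsg.pCore_normal p G
  have hVp : IsPGroup p V := CfsgLib.Components.isPGroup_pCore p
  have hQV : Q ⊓ V = ⊥ := by
    refine inf_eq_bot_of_coprime ?_
    obtain ⟨n, hn⟩ := hVp.exists_card_eq
    rw [hn]
    exact hQ.pow_right n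
  have hBQ : A ⊓ V ≤ centralizer (Q : Set G) := fun b hb q hq => by
    have h : b * q * b⁻¹ * q⁻¹ ∈ Q ⊓ V :=
      ⟨Q.mul_mem (le_normalizer_iff.mp hAQ b hb.1 q hq) (Q.inv_mem hq), by
        rw [show b * q * b⁻¹ * q⁻¹ = b * (q * b⁻¹ * q⁻¹) by group]
        exact mul_mem hb.2 (hVn.conj_mem _ (inv_mem hb.2) q)⟩
    rw [hQV, mem_bot, mul_inv_eq_one, mul_inv_eq_iff_eq_mul] at h
    exact h.symm
  have hAV : A ≤ normalizer (V : Set G) := by rw [normalizer_eq_top]; exact le_top
  have hQn : Q ≤ normalizer (V : Set G) := by rw [normalizer_eq_top]; exact le_top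
  have hcen : V ⊓ centralizer ((A ⊓ V : Subgroup G) : Set G) ≤ centralizer (Q : Set G) := by
    have hAB : A ≤ centralizer ((A ⊓ V : Subgroup G) : Set G) := fun a ha b hb =>
      congrArg Subtype.val (hA.is_comm.comm ⟨b, hb.1⟩ ⟨a, ha⟩)
    refine le_centralizer_iff.mp (le_centralizer_of_omega hp2 hAp hQ (hVp.to_le inf_le_left) hAQ
      (fun a ha => inf_normalizer_le_normalizer_inf ⟨hAV ha, le_normalizer (hAB ha)⟩)
      (fun q hq => inf_normalizer_le_normalizer_inf
        ⟨hQn hq, le_normalizer (le_centralizer_iff.mp hBQ hq)⟩)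
      fun x hx hxp => ?_)
    by_cases hx1 : x = 1
    · rw [hx1]; exact one_mem _
    · exact hBQ ⟨hΩ x hx.2 (orderOf_eq_prime hxp hx1), hx.1.1⟩
  have hle : Q ≤ V := (CfsgLib.Solvable.thompson_pxq (hAp.to_le inf_le_left) hQ hVp hBQ
    (inf_le_left.trans hAV) hQn hcen).trans hV
  rwa [inf_eq_left.mpr hle] at hQV

/-- The constrained group statement. -/
theorem le_pPrimeCore_of_omega (hp2 : p ≠ 2) (hX : Cfsg.IsPConstrained p G)
    {A Q : Subgroup G} (hA : IsMulCommutative A) (hAp : IsPGroup p A)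
    (hΩ : ∀ x ∈ centralizer (A : Set G), orderOf x = p → x ∈ A)
    (hQ : (Nat.card Q).Coprime p) (hAQ : A ≤ normalizer (Q : Set G)) :
    Q ≤ Cfsg.pPrimeCore p G := by
  set O := Cfsg.pPrimeCore p G with hO
  set f := QuotientGroup.mk' O with hf
  have hOc : (Nat.card O).Coprime p := CfsgLib.Components.coprime_card_pPrimeCore p
  have h := eq_bot_of_omega_self (G := G ⧸ O) hp2 (CfsgLib.PLoc.isPConstrained_iff.mp hX)
    (A := A.map f) (Q := Q.map f) ?_ (hAp.map f) ?_
    (hQ.coprime_dvd_left (card_map_dvd _ _)) ((map_mono hAQ).trans (le_normalizer_map f))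
  · intro x hx
    rw [← QuotientGroup.eq_one_iff]
    exact (eq_bot_iff_forall _).mp h _ ⟨x, hx, rfl⟩
  · refine ⟨⟨?_⟩⟩
    rintro ⟨_, a, ha, rfl⟩ ⟨_, b, hb, rfl⟩
    refine Subtype.ext ?_
    show f a * f b = f b * f a
    rw [← map_mul, ← map_mul]
    exact congrArg f (congrArg Subtype.val (hA.is_comm.comm ⟨a, ha⟩ ⟨b, hb⟩))
  · intro x hx hxo
    rw [(Cfsg.Agent.S3800.result O hOc A hAp).2] at hx
    obtain ⟨y, hy, rfl⟩ := hx
    have hy1 : y ^ p ∈ O := by
      rw [← QuotientGroup.eq_one_iff]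
      show f (y ^ p) = 1
      rw [map_pow]
      exact orderOf_dvd_iff_pow_eq_one.mp (dvd_of_eq hxo)
    set m := Nat.card O with hm
    have hne : f (y ^ m) ≠ 1 := by
      rw [map_pow, Ne, ← orderOf_dvd_iff_pow_eq_one, hxo]
      exact fun hd => hp.out.ne_one (Nat.eq_one_of_dvd_coprimes hOc hd dvd_rfl)
    have hyp : (y ^ m) ^ p = 1 := by
      rw [← pow_mul, mul_comm, pow_mul, hm]
      exact orderOf_dvd_iff_pow_eq_one.mp (Subgroup.orderOf_dvd_natCard O hy1)
    have hzA : y ^ m ∈ A := hΩ _ (pow_mem hy m)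
      (orderOf_eq_prime hyp fun h => hne (by rw [h, map_one]))
    obtain ⟨k, hk⟩ := exists_pow_eq_self_of_coprime (x := f y) (n := m) (hxo.symm ▸ hOc)
    rw [← hk, ← map_pow, ← map_pow]
    exact ⟨(y ^ m) ^ k, pow_mem hzA k, rfl⟩

end CfsgLib.Signalizer
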