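import Cfsg.Agent.Lib.Signalizer.Basic
import Cfsg.Agent.Lib.Components.Local
import Cfsg.Agent.Lib.Components.PLayer
import Cfsg.Agent.Lib.Balance.Local
import Cfsg.Agent.S3800

/-!
Groups with trivial `p`-layer: local subgroups; signalizer functor of a group with solvable
centralizers.
-/

set_option autoImplicit false
set_option linter.style.haveILetI false
set_option linter.unusedVariables false
set_option linter.unusedSectionVars false

open Subgroup CfsgLib.Components CfsgLib.Balance

namespace CfsgLib.Signalizer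

variable {G : Type*} [Group G] [Finite G] {p : ℕ} [hp : Fact p.Prime]

theorem genFitting_quotient_eq_pCore (hL : Cfsg.pLayer p G = ⊥) :
    Cfsg.generalizedFittingSubgroup (G ⧸ Cfsg.pPrimeCore p G) =
      Cfsg.pCore p (G ⧸ Cfsg.pPrimeCore p G) := by
  rw [genFitting_eq_pCore_iff_criterion]
  refine ⟨pLayer_eq_bot_iff.mp hL, fun q hq hne => ?_⟩
  haveI := Fact.mk hq
  refine le_bot_iff.mp ?_
  rw [← pPrimeCore_quotient_self (G := G) (p := p)]
  refine le_pPrimeCore_of_normal inferInstance ?_
  obtain ⟨n, hn⟩ := (isPGroup_pCore (G := G ⧸ Cfsg.pPrimeCore p G) q).exists_card_eq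
  rw [hn]
  exact ((Nat.coprime_primes hq hp.out).mpr hne).pow_left n

/-- In a group with trivial `p`-layer the `p'`-cores of the normalizers of `p`-subgroups lie in
the `p'`-core. -/
theorem coreP_normalizer_le (hL : Cfsg.pLayer p G = ⊥) {P : Subgroup G} (hP : IsPGroup p P) :
    coreP p (normalizer (P : Set G)) ≤ Cfsg.pPrimeCore p G := by
  set O := Cfsg.pPrimeCore p G
  set q := QuotientGroup.mk' O with hq
  set N := normalizer (P : Set G) with hN
  have hN' : normalizer ((P.map q : Subgroup (G ⧸ O)) : Set (G ⧸ O)) = N.map q :=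
    (Cfsg.Agent.S3800.result O (coprime_card_pPrimeCore p) P hP).1
  have hOb : Cfsg.pPrimeCore p (G ⧸ O) = ⊥ := pPrimeCore_quotient_self
  have hF := genFitting_quotient_eq_pCore hL
  set M := (coreP p N).map q with hM
  have hMc : (Nat.card M).Coprime p :=
    (coreP_coprime p N).coprime_dvd_left (card_map_dvd _ _)
  have hMN : M ≤ coreP p (normalizer ((P.map q : Subgroup (G ⧸ O)) : Set (G ⧸ O))) := by
    rw [hN']
    exact le_coreP (map_mono (coreP_le p N))
      ((map_mono (le_normalizer_coreP p N)).trans (le_normalizer_map q)) hMc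
  have hMO : M ≤ centralizer (Cfsg.pCore p (G ⧸ O) : Set (G ⧸ O)) :=
    hMN.trans (pPrimeCore_local_le_centralizer_pCore (hP.map q) le_normalizer
      (centralizer_le_normalizer _) le_rfl)
  have hMbot : M = ⊥ := eq_bot_of_centralizes hOb hMc hMO fun L hL' =>
    absurd hL' (layer_eq_bot_iff.mp (pLayer_eq_bot_iff.mp hL) L)
  intro x hx
  rw [← QuotientGroup.eq_one_iff]
  exact (eq_bot_iff_forall M).mp hMbot _ ⟨x, hx, rfl⟩

theorem coreP_centralizer_le_coreP_normalizer {P : Subgroup G} :
    coreP p (centralizer (P : Set G)) ≤ coreP p (normalizer (P : Set G)) := by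
  refine le_coreP ((coreP_le p _).trans (centralizer_le_normalizer _)) ?_ (coreP_coprime p _)
  refine le_trans ?_ (normalizer_le_normalizer_coreP p _)
  rw [le_normalizer_iff]
  intro n hn c hc y hy
  have h := hc (n⁻¹ * y * n) ((mem_normalizer_iff''.mp hn y).mp hy)
  calc y * (n * c * n⁻¹) = n * ((n⁻¹ * y * n) * c) * n⁻¹ := by group
    _ = n * (c * (n⁻¹ * y * n)) * n⁻¹ := by rw [h]
    _ = (n * c * n⁻¹) * y := by group

/-- The `p'`-core of the centralizer of a `p`-subgroup. -/
theorem coreP_centralizer_le (hL : Cfsg.pLayer p G = ⊥) {P : Subgroup G} (hP : IsPGroup p P) :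
    coreP p (centralizer (P : Set G)) ≤ Cfsg.pPrimeCore p G :=
  coreP_centralizer_le_coreP_normalizer.trans (coreP_normalizer_le hL hP)

/-- Trivial `p`-layer passes to the normalizers of `p`-subgroups. -/
theorem pLayer_normalizer_eq_bot (hL : Cfsg.pLayer p G = ⊥) {P : Subgroup G} (hP : IsPGroup p P) :
    Cfsg.pLayer p ↥(normalizer (P : Set G)) = ⊥ := by
  set O := Cfsg.pPrimeCore p G
  set q := QuotientGroup.mk' O with hq
  set N := normalizer (P : Set G) with hN
  have hN' : normalizer ((P.map q : Subgroup (G ⧸ O)) : Set (G ⧸ O)) = N.map q :=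
    (Cfsg.Agent.S3800.result O (coprime_card_pPrimeCore p) P hP).1
  have hlayer : Cfsg.layer ↥(N.map q) = ⊥ := by
    refine ((genFitting_eq_pCore_iff_criterion p).mp ?_).1
    refine genFitting_local_eq_pCore (genFitting_quotient_eq_pCore hL) (hP.map q)
      (map_mono le_normalizer) ?_ hN'.ge
    rw [← hN']
    exact centralizer_le_normalizer _
  set f := q.comp N.subtype with hf
  have hker : f.ker = Cfsg.pPrimeCore p N := by
    have h0 : f.ker = O.subgroupOf N := by
      rw [hf, ← MonoidHom.comap_ker, hq, QuotientGroup.ker_mk', subgroupOf]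
    rw [h0]
    refine le_antisymm (le_pPrimeCore_of_normal inferInstance
      ((coprime_card_pPrimeCore p).coprime_dvd_left
        (card_comap_dvd_of_injective _ _ N.subtype_injective))) fun x hx => ?_
    exact coreP_normalizer_le hL hP ⟨x, hx, rfl⟩
  have hrange : f.range = N.map q := by
    rw [hf, MonoidHom.range_comp, range_subtype]
  rw [pLayer_eq_bot_iff]
  have e : (N ⧸ Cfsg.pPrimeCore p N) ≃* ↥(N.map q) :=
    ((QuotientGroup.quotientMulEquivOfEq hker.symm).trans
      (QuotientGroup.quotientKerEquivRange f)).trans (MulEquiv.subgroupCongr hrange)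
  apply map_injective (f := e.toMonoidHom) e.injective
  rw [layer_map_equiv e, hlayer, Subgroup.map_bot]

theorem pLayer_eq_bot_of_isSolvable [Group.IsSolvable G] : Cfsg.pLayer p G = ⊥ :=
  haveI : Group.IsSolvable (G ⧸ Cfsg.pPrimeCore p G) :=
    Group.isSolvable_of_surjective (QuotientGroup.mk'_surjective (Cfsg.pPrimeCore p G))
  pLayer_eq_bot_iff.mpr layer_eq_bot_of_isSolvable

/-- With solvable centralizers, `a ↦ O_{p'}(C(a))` is a solvable signalizer functor. -/
theorem solvable_functor_of_solvable_centralizers {A : Subgroup G}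
    (hA : Cfsg.IsElementaryAbelian p A)
    (hsolv : ∀ a ∈ A, a ≠ 1 → Group.IsSolvable ↥(centralizer ({a} : Set G))) :
    Cfsg.IsSolvableSignalizerFunctor p A (fun a => Cfsg.centralizerPPrimeCore p a) := by
  refine ⟨⟨fun a _ _ => coreP_le p _, fun a _ _ => ?_, fun a ha _ b hb x hx =>
    le_normalizer_iff.mp ((le_centralizer_singleton hA ha).trans (le_normalizer_coreP p _)) b hb x hx,
    fun a ha ha1 b hb hb1 => ?_⟩, fun a ha ha1 => ?_⟩
  · exact fun hd => hp.out.ne_one (Nat.eq_one_of_dvd_coprimes
      (coreP_coprime p (centralizer ({a} : Set G))) hd dvd_rfl)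
  · rintro x ⟨hx, hxb⟩
    set C := centralizer ({b} : Set G) with hC
    haveI : Group.IsSolvable C := hsolv b hb hb1
    have haC : a ∈ C := le_centralizer_singleton hA hb ha
    set a' : C := ⟨a, haC⟩ with ha'
    have hap : IsPGroup p ↥(zpowers a') := by
      refine IsPGroup.iff_card.mpr ?_
      rw [Nat.card_zpowers, ha', orderOf_mk]
      exact ⟨1, by rw [pow_one]; exact orderOf_eq_prime (hA.2 a ha) ha1⟩
    have hle : (coreP p (centralizer ({a} : Set G))).subgroupOf C ≤
        coreP p (centralizer (zpowers a' : Set C)) := by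
      rw [centralizer_zpowers]
      refine le_coreP (fun y hy => ?_) (le_normalizer_iff.mpr fun g hg y hy => ?_) ?_
      · rw [mem_centralizer_singleton_iff]
        exact Subtype.ext (mem_centralizer_singleton_iff.mp
          (coreP_le p _ (mem_subgroupOf.mp hy)))
      · rw [mem_subgroupOf] at hy ⊢
        exact le_normalizer_iff.mp (le_normalizer_coreP p _) (g : G)
          (mem_centralizer_singleton_iff.mpr
            (congrArg Subtype.val (mem_centralizer_singleton_iff.mp hg))) (y : G) hy
      · exact (coreP_coprime p _).coprime_dvd_left (card_comap_dvd_of_injective _ _ C.subtype_injective)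
    exact ⟨⟨x, hxb⟩, coreP_centralizer_le pLayer_eq_bot_of_isSolvable hap
      (hle (mem_subgroupOf.mpr hx)), rfl⟩
  · haveI := hsolv a ha ha1
    exact Group.isSolvable_of_isSolvable_injective (inclusion_injective (coreP_le p _))

end CfsgLib.Signalizer
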