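import Cfsg.Prelude.Def_Transfer
import Cfsg.Agent.Lib.Solvable.CoprimeAction
import Cfsg.Agent.Lib.Solvable.CoprimeGeneration
import Cfsg.Agent.Lib.Components.Subnormal

/-!
Coprime factorization from the centralizers of the non-identity elements of a noncyclic abelian
group: `K = XY` when every `C_K(a)` is `C_X(a) C_Y(a)`.
-/

set_option autoImplicit false
set_option linter.style.haveILetI false
set_option linter.unusedVariables false
set_option linter.unusedSectionVars false

open scoped Pointwise commutatorElement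
open Subgroup

namespace CfsgLib.Signalizer

variable {G : Type*} [Group G] [Finite G]

/-- The factorization for a nilpotent group, by descent along its lower central series. -/
theorem eq_mul_of_nilpotent {A Q X Y : Subgroup G} [IsMulCommutative A] (hA : ¬ IsCyclic A)
    (hAQ : A ≤ normalizer (Q : Set G)) (hcop : (Nat.card A).Coprime (Nat.card Q))
    (hnil : Group.IsNilpotent Q) (hX : X ≤ Q) (hY : Y ≤ Q)
    (hfac : ∀ a ∈ A, a ≠ 1 → ((Q ⊓ centralizer {a} : Subgroup G) : Set G) ⊆ (X : Set G) * Y) :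
    (Q : Set G) = (X : Set G) * Y := by
  set L := Q.lowerCentralSeries with hL
  have hLQ : ∀ i, L i ≤ Q := fun i => Subgroup.lowerCentralSeries_le_self Q i
  have hQL : ∀ i, Q ≤ normalizer (L i : Set G) := fun i => Q.self_le_normalizer_lowerCentralSeries i
  have hAL : ∀ i, A ≤ normalizer (L i : Set G) := by
    intro i
    induction i with
    | zero => exact hAQ
    | succ i ih =>
      intro a ha
      rw [mem_normalizer_iff_map_conj_eq, hL, Subgroup.lowerCentralSeries_succ, map_commutator]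
      exact congrArg₂ (⁅·, ·⁆) (mem_normalizer_iff_map_conj_eq.mp (ih ha))
        (mem_normalizer_iff_map_conj_eq.mp (hAQ ha))
  have claim : ∀ i, ∀ q ∈ Q, ∃ x ∈ X, ∃ y ∈ Y, (x * y)⁻¹ * q ∈ L i := by
    intro i
    induction i with
    | zero => exact fun q hq => ⟨1, one_mem _, 1, one_mem _, by simpa [hL] using hq⟩
    | succ i ih =>
      let P : G → Prop := fun l =>
        ∀ x ∈ X, ∀ y ∈ Y, ∃ x' ∈ X, ∃ y' ∈ Y, (x' * y')⁻¹ * (x * y * l) ∈ L (i + 1)
      have hP1 : P 1 := fun x hx y hy => ⟨x, hx, y, hy, by simp⟩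
      have hmul : ∀ l1 ∈ L i, ∀ l2 ∈ L i, P l1 → P l2 → P (l1 * l2) := by
        intro l1 h1 l2 h2 p1 p2 x hx y hy
        obtain ⟨x1, hx1, y1, hy1, hc1⟩ := p1 x hx y hy
        obtain ⟨x2, hx2, y2, hy2, hc2⟩ := p2 x1 hx1 y1 hy1
        refine ⟨x2, hx2, y2, hy2, ?_⟩
        have h3 : l2⁻¹ * ((x1 * y1)⁻¹ * (x * y * l1)) * l2 ∈ L (i + 1) := by
          have := le_normalizer_iff.mp (hQL (i + 1)) l2⁻¹ (inv_mem (hLQ i h2)) _ hc1
          rwa [inv_inv] at this
        rw [show (x2 * y2)⁻¹ * (x * y * (l1 * l2)) =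
          ((x2 * y2)⁻¹ * (x1 * y1 * l2)) * (l2⁻¹ * ((x1 * y1)⁻¹ * (x * y * l1)) * l2) by group]
        exact mul_mem hc2 h3
      have hpow : ∀ l ∈ L i, P l → ∀ n : ℕ, P (l ^ n) := by
        intro l hl hp n
        induction n with
        | zero => simpa using hP1
        | succ n ihn => rw [pow_succ]; exact hmul _ (pow_mem hl n) _ hl ihn hp
      let W : Subgroup G :=
        { carrier := {l | l ∈ L i ∧ P l}
          one_mem' := ⟨one_mem _, hP1⟩
          mul_mem' := fun {a b} ha hb => ⟨mul_mem ha.1 hb.1, hmul a ha.1 b hb.1 ha.2 hb.2⟩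
          inv_mem' := fun {a} ha => ⟨inv_mem ha.1, by
            have h : a⁻¹ = a ^ (orderOf a - 1) := by
              rw [inv_eq_iff_mul_eq_one, ← pow_succ', Nat.sub_add_cancel (orderOf_pos a),
                pow_orderOf_eq_one]
            rw [h]; exact hpow a ha.1 ha.2 _⟩ }
      have hW : L i ≤ W := by
        refine CfsgLib.Solvable.le_of_centralizer_le hA (hAL i)
          (hcop.coprime_dvd_right (card_dvd_of_le (hLQ i))) fun a ha ha1 => ?_
        rintro l ⟨hl, hlc⟩
        refine ⟨hl, fun x hx y hy => ?_⟩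
        obtain ⟨u, hu, v, hv, huv⟩ := hfac a ha ha1 ⟨hLQ i hl, hlc⟩
        refine ⟨x * u, mul_mem hx hu, v * y, mul_mem hv hy, ?_⟩
        change u * v = l at huv
        rw [show (x * u * (v * y))⁻¹ * (x * y * l) = ⁅y⁻¹, l⁻¹⁆ by
          rw [← huv, commutatorElement_def]; group]
        rw [hL, Subgroup.lowerCentralSeries_succ, commutator_comm]
        exact commutator_mem_commutator (inv_mem (hY hy)) (inv_mem hl)
      intro q hq
      obtain ⟨x, hx, y, hy, hl⟩ := ih q hq
      obtain ⟨x', hx', y', hy', hc⟩ := (hW hl).2 x hx y hy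
      exact ⟨x', hx', y', hy', by rwa [mul_inv_cancel_left] at hc⟩
  obtain ⟨n, hn⟩ := (isNilpotent_iff_lowerCentralSeries Q).mp hnil
  refine Set.Subset.antisymm (fun q hq => ?_) ?_
  · obtain ⟨x, hx, y, hy, hl⟩ := claim n q hq
    rw [hL, hn, mem_bot, inv_mul_eq_one] at hl
    exact ⟨x, hx, y, hy, hl⟩
  · rintro _ ⟨x, hx, y, hy, rfl⟩
    exact mul_mem (hX hx) (hY hy)

/-- The order of a set product. -/
theorem card_mul_set (H K : Subgroup G) :
    Nat.card ↥((H : Set G) * (K : Set G)) * Nat.card ↥(H ⊓ K) = Nat.card H * Nat.card K := by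
  have h1 := card_mul_eq_card_subgroup_mul_card_quotient K (H : Set G)
  have h2 : Nat.card ↥((↑) '' (H : Set G) : Set (G ⧸ K)) * Nat.card ↥(H ⊓ K) = Nat.card H := by
    have e : ↥((↑) '' (H : Set G) : Set (G ⧸ K)) ≃ ↥H ⧸ K.subgroupOf H := by
      refine (Equiv.ofBijective (fun q : ↥H ⧸ K.subgroupOf H =>
        (⟨Quotient.liftOn' q (fun h => ((h : G) : G ⧸ K)) (fun a b h => QuotientGroup.eq.mpr
          (show (a : G)⁻¹ * (b : G) ∈ K from (QuotientGroup.leftRel_apply (s := K.subgroupOf H)).mp h)), ?_⟩ : ↥((↑) '' (H : Set G) : Set (G ⧸ K)))) ⟨?_, ?_⟩).symm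
      · induction q using Quotient.inductionOn' with
        | h a => exact ⟨a, a.2, rfl⟩
      · intro q1 q2 h
        induction q1 using Quotient.inductionOn' with
        | h a =>
          induction q2 using Quotient.inductionOn' with
          | h b =>
            exact Quotient.sound' (QuotientGroup.leftRel_apply.mpr
              (show (a : G)⁻¹ * (b : G) ∈ K from QuotientGroup.eq.mp (congrArg Subtype.val h :)))
      · rintro ⟨_, x, hx, rfl⟩
        exact ⟨Quotient.mk'' ⟨x, hx⟩, rfl⟩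
    rw [Nat.card_congr e, ← Nat.card_congr (subgroupOfEquivOfLe (inf_le_left : H ⊓ K ≤ H)).toEquiv,
      show (H ⊓ K).subgroupOf H = K.subgroupOf H from by rw [inf_comm]; exact inf_subgroupOf_right K H]
    exact (K.subgroupOf H).index_mul_card
  rw [h1, mul_assoc, h2, mul_comm]

/-- `K = XY` from `C_K(a) = C_X(a) C_Y(a)` for all `a ≠ 1` in a noncyclic abelian group `A` of
coprime order, `C_K(A)` normalizing `X`. -/
theorem eq_mul_of_centralizers {A K X Y : Subgroup G} [IsMulCommutative A] (hA : ¬ IsCyclic A)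
    (hAK : A ≤ normalizer (K : Set G)) (hcop : (Nat.card A).Coprime (Nat.card K))
    (hX : X ≤ K) (hY : Y ≤ K) (hAX : A ≤ normalizer (X : Set G)) (hAY : A ≤ normalizer (Y : Set G))
    (hCX : K ⊓ centralizer (A : Set G) ≤ normalizer (X : Set G))
    (hfac : ∀ a ∈ A, a ≠ 1 → ((K ⊓ centralizer {a} : Subgroup G) : Set G) =
      ((X ⊓ centralizer {a} : Subgroup G) : Set G) * ((Y ⊓ centralizer {a} : Subgroup G) : Set G)) :
    (K : Set G) = (X : Set G) * Y := by
  have hAs : Group.IsSolvable A :=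
    Group.isSolvable_of_comm fun a b => mul_comm' a b
  have hsub : (X : Set G) * Y ⊆ K := by
    rintro _ ⟨x, hx, y, hy, rfl⟩
    exact mul_mem (hX hx) (hY hy)
  refine (Set.eq_of_subset_of_ncard_le hsub ?_ (Set.toFinite _)).symm
  rw [← Nat.card_coe_set_eq, ← Nat.card_coe_set_eq]
  refine Nat.le_of_mul_le_mul_right ?_ (Nat.card_pos (α := ↥(X ⊓ Y)))
  rw [card_mul_set]
  change Nat.card K * _ ≤ _
  refine Nat.le_of_dvd (Nat.mul_pos Nat.card_pos Nat.card_pos)
    ((Nat.dvd_iff_prime_pow_dvd_dvd _ _).mpr fun q k hq hk => ?_)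
  haveI := Fact.mk hq
  -- invariant Sylow subgroups
  have hXY : X ⊓ Y ≤ K := inf_le_left.trans hX
  have hAXY : A ≤ normalizer ((X ⊓ Y : Subgroup G) : Set G) :=
    fun a ha => inf_normalizer_le_normalizer_inf ⟨hAX ha, hAY ha⟩
  have hcop' : ∀ {U : Subgroup G}, U ≤ K → (Nat.card A).Coprime (Nat.card U) :=
    fun hU => hcop.coprime_dvd_right (card_dvd_of_le hU)
  obtain ⟨R, hR⟩ := CfsgLib.Solvable.exists_invariant_sylow hAXY (hcop' hXY) (Or.inl hAs) q
  set R' := (R : Subgroup ↥(X ⊓ Y)).map (X ⊓ Y).subtype with hR'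
  obtain ⟨QY, hQY1, hQY2⟩ := CfsgLib.Solvable.exists_invariant_sylow_ge hAY (hcop' hY) (Or.inl hAs) q
    ((map_subtype_le _).trans inf_le_right) (R.isPGroup'.map _) hR
  set QY' := (QY : Subgroup Y).map Y.subtype with hQY'
  obtain ⟨Q, hQ1, hQ2⟩ := CfsgLib.Solvable.exists_invariant_sylow_ge hAK hcop (Or.inl hAs) q
    ((map_subtype_le _).trans hY) (QY.isPGroup'.map _) hQY2
  set Q' := (Q : Subgroup K).map K.subtype with hQ'
  have hQ'K : Q' ≤ K := map_subtype_le _
  have hQp : IsPGroup q Q' := Q.isPGroup'.map _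
  -- every invariant Sylow subgroup meets an invariant `U` normalized by `C_K(A)` in a Sylow one
  have meet : ∀ (V U : Subgroup G) (T : Sylow q V), V ≤ K → A ≤ normalizer (V : Set G) → U ≤ V →
      A ≤ normalizer (U : Set G) → V ⊓ centralizer (A : Set G) ≤ normalizer (U : Set G) →
      A ≤ normalizer ((T : Subgroup V).map V.subtype : Set G) →
      q ^ (Nat.card U).factorization q ∣ Nat.card ↥((T : Subgroup V).map V.subtype ⊓ U) := by
    intro V U T hVK hAV hUV hAU hCU hT
    obtain ⟨S, hS⟩ := CfsgLib.Solvable.exists_invariant_sylow hAU (hcop' (hUV.trans hVK)) (Or.inl hAs) q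
    obtain ⟨T2, hT2, hT2A⟩ := CfsgLib.Solvable.exists_invariant_sylow_ge hAV (hcop' hVK) (Or.inl hAs) q
      ((map_subtype_le _).trans hUV) (S.isPGroup'.map _) hS
    obtain ⟨c, hc, hcT⟩ :=
      CfsgLib.Solvable.exists_invariant_sylow_conj hAV (hcop' hVK) (Or.inl hAs) T2 T hT2A hT
    have hcT' : (T : Subgroup V).map V.subtype =
        MulAut.conj (c : G) • (T2 : Subgroup V).map V.subtype := by
      rw [← hcT]
      exact CfsgLib.Solvable.map_conj_smul _ _ _
    have hle : MulAut.conj (c : G) • (S : Subgroup U).map U.subtype ≤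
        (T : Subgroup V).map V.subtype ⊓ U := by
      refine le_inf (hcT' ▸ pointwise_smul_le_pointwise_smul_iff.mpr hT2) ?_
      rintro _ ⟨x, hx, rfl⟩
      exact (mem_normalizer_iff.mp (hCU ⟨c.2, hc⟩) x).mp (map_subtype_le _ hx)
    refine dvd_trans (dvd_of_eq ?_) (card_dvd_of_le hle)
    rw [CfsgLib.Solvable.card_conj_smul, card_map_of_injective U.subtype_injective, S.card_eq_multiplicity]
  have hQX := meet K X Q le_rfl hAK hX hAX hCX hQ2
  have hQYd : q ^ (Nat.card Y).factorization q ∣ Nat.card ↥(Q' ⊓ Y) := by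
    refine dvd_trans (dvd_of_eq ?_) (card_dvd_of_le (le_inf hQ1 (map_subtype_le _) : QY' ≤ Q' ⊓ Y))
    rw [hQY', card_map_of_injective Y.subtype_injective, QY.card_eq_multiplicity]
  have hR'Q : R' ≤ Q' ⊓ X ⊓ (Q' ⊓ Y) := by
    have h1 : R' ≤ Q' := hQY1.trans hQ1
    exact le_inf (le_inf h1 ((map_subtype_le _).trans inf_le_left)) (le_inf h1 ((map_subtype_le _).trans inf_le_right))
  -- the factorization inside `Q'`
  have hQfac : (Q' : Set G) = ((Q' ⊓ X : Subgroup G) : Set G) * ((Q' ⊓ Y : Subgroup G) : Set G) := by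
    refine eq_mul_of_nilpotent hA hQ2 (hcop' hQ'K) hQp.isNilpotent inf_le_left inf_le_left
      fun a ha ha1 => ?_
    set V := K ⊓ centralizer ({a} : Set G) with hV
    set U1 := X ⊓ centralizer ({a} : Set G) with hU1
    set U2 := Y ⊓ centralizer ({a} : Set G) with hU2
    have hAa : A ≤ normalizer (centralizer ({a} : Set G) : Set G) := fun b hb =>
      le_normalizer (mem_centralizer_singleton_iff.mpr (congrArg Subtype.val (mul_comm' (⟨b, hb⟩ : A) ⟨a, ha⟩)))
    have hAinf : ∀ {U : Subgroup G}, A ≤ normalizer (U : Set G) →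
        A ≤ normalizer ((U ⊓ centralizer ({a} : Set G) : Subgroup G) : Set G) :=
      fun hU b hb => inf_normalizer_le_normalizer_inf ⟨hU hb, hAa hb⟩
    have hcA : centralizer (A : Set G) ≤ centralizer ({a} : Set G) :=
      centralizer_le (Set.singleton_subset_iff.mpr ha)
    set C1 := (Q' ⊓ X) ⊓ centralizer ({a} : Set G)
    set C2 := (Q' ⊓ Y) ⊓ centralizer ({a} : Set G)
    have hsub2 : (C1 : Set G) * C2 ⊆ ((Q' ⊓ centralizer ({a} : Set G) : Subgroup G) : Set G) := by
      rintro _ ⟨u, hu, v, hv, rfl⟩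
      exact mul_mem (s := Q' ⊓ centralizer ({a} : Set G)) ⟨hu.1.1, hu.2⟩ ⟨hv.1.1, hv.2⟩
    suffices heq : ((Q' ⊓ centralizer ({a} : Set G) : Subgroup G) : Set G) = (C1 : Set G) * C2 by
      rw [heq]
      exact Set.mul_subset_mul (inf_le_left : C1 ≤ Q' ⊓ X) (inf_le_left : C2 ≤ Q' ⊓ Y)
    refine (Set.eq_of_subset_of_ncard_le hsub2 ?_ (Set.toFinite _)).symm
    rw [← Nat.card_coe_set_eq, ← Nat.card_coe_set_eq]
    refine Nat.le_of_mul_le_mul_right ?_ (Nat.card_pos (α := ↥(C1 ⊓ C2)))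
    rw [card_mul_set]
    refine Nat.le_of_dvd (Nat.mul_pos Nat.card_pos Nat.card_pos) ?_
    -- `|C_Q(a)| |C1 ∩ C2|` is a power of `q` dividing `|C_X(a)| |C_Y(a)|`
    obtain ⟨m1, hm1⟩ := (hQp.to_le (inf_le_left : Q' ⊓ centralizer ({a} : Set G) ≤ Q')).exists_card_eq
    obtain ⟨m2, hm2⟩ := (hQp.to_le (inf_le_left.trans (inf_le_left.trans inf_le_left) : C1 ⊓ C2 ≤ Q')).exists_card_eq
    have hd : q ^ (m1 + m2) ∣ Nat.card U1 * Nat.card U2 := by
      rw [pow_add, ← hm1, ← hm2, ← card_mul_set U1 U2]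
      refine Nat.mul_dvd_mul ?_ (card_dvd_of_le (le_inf
        (le_inf (inf_le_left.trans (inf_le_left.trans inf_le_right)) (inf_le_left.trans inf_le_right))
        (le_inf (inf_le_right.trans (inf_le_left.trans inf_le_right)) (inf_le_right.trans inf_le_right))))
      rw [← hfac a ha ha1]
      exact card_dvd_of_le (inf_le_inf_right _ hQ'K)
    rw [show Nat.card ↥((Q' ⊓ centralizer ({a} : Set G) : Subgroup G) : Set G) = q ^ m1 from hm1, hm2, ← pow_add]
    refine ((pow_dvd_pow q ((hq.pow_dvd_iff_le_factorization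
      (Nat.mul_pos Nat.card_pos Nat.card_pos).ne').mp hd)).trans ?_)
    rw [Nat.factorization_mul Nat.card_pos.ne' Nat.card_pos.ne', Finsupp.add_apply, pow_add]
    refine Nat.mul_dvd_mul ?_ ?_
    · -- `Q ∩ X` is an invariant Sylow subgroup of `X`
      obtain ⟨TX, hTX⟩ : ∃ TX : Sylow q X, (TX : Subgroup X).map X.subtype = Q' ⊓ X := by
        refine ⟨Sylow.ofCard ((Q' ⊓ X).subgroupOf X) ?_, map_subgroupOf_eq_of_le inf_le_right⟩
        rw [Nat.card_congr (subgroupOfEquivOfLe (inf_le_right : Q' ⊓ X ≤ X)).toEquiv]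
        obtain ⟨m, hm⟩ := (hQp.to_le (inf_le_left : Q' ⊓ X ≤ Q')).exists_card_eq
        refine Nat.dvd_antisymm ?_ hQX
        rw [hm]
        exact pow_dvd_pow q ((hq.pow_dvd_iff_le_factorization Nat.card_pos.ne').mp (hm ▸ card_dvd_of_le inf_le_right))
      refine (meet X U1 TX hX hAX inf_le_left (hAinf hAX) ?_ ?_).trans (card_dvd_of_le ?_)
      · exact le_trans (le_inf inf_le_left (inf_le_right.trans hcA)) le_normalizer
      · rw [hTX]; exact fun b hb => inf_normalizer_le_normalizer_inf ⟨hQ2 hb, hAX hb⟩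
      · rw [hTX]; exact le_inf inf_le_left (inf_le_right.trans inf_le_right)
    · obtain ⟨TY, hTY⟩ : ∃ TY : Sylow q Y, (TY : Subgroup Y).map Y.subtype = Q' ⊓ Y := by
        refine ⟨Sylow.ofCard ((Q' ⊓ Y).subgroupOf Y) ?_, map_subgroupOf_eq_of_le inf_le_right⟩
        rw [Nat.card_congr (subgroupOfEquivOfLe (inf_le_right : Q' ⊓ Y ≤ Y)).toEquiv]
        obtain ⟨m, hm⟩ := (hQp.to_le (inf_le_left : Q' ⊓ Y ≤ Q')).exists_card_eq
        refine Nat.dvd_antisymm ?_ hQYd
        rw [hm]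
        exact pow_dvd_pow q ((hq.pow_dvd_iff_le_factorization Nat.card_pos.ne').mp (hm ▸ card_dvd_of_le inf_le_right))
      refine (meet Y U2 TY hY hAY inf_le_left (hAinf hAY) ?_ ?_).trans (card_dvd_of_le ?_)
      · exact le_trans (le_inf inf_le_left (inf_le_right.trans hcA)) le_normalizer
      · rw [hTY]; exact fun b hb => inf_normalizer_le_normalizer_inf ⟨hQ2 hb, hAY hb⟩
      · rw [hTY]; exact le_inf inf_le_left (inf_le_right.trans inf_le_right)
  -- assemble
  have hcard := card_mul_set (Q' ⊓ X) (Q' ⊓ Y)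
  rw [← hQfac] at hcard
  change Nat.card Q' * _ = _ at hcard
  have hk' := (hq.pow_dvd_iff_le_factorization (Nat.mul_pos Nat.card_pos Nat.card_pos).ne').mp hk
  rw [Nat.factorization_mul Nat.card_pos.ne' Nat.card_pos.ne', Finsupp.add_apply] at hk'
  refine (pow_dvd_pow q hk').trans ?_
  have hQc : Nat.card Q' = q ^ (Nat.card K).factorization q := by
    rw [hQ', card_map_of_injective K.subtype_injective, Q.card_eq_multiplicity]
  have hRc : q ^ (Nat.card ↥(X ⊓ Y)).factorization q ∣ Nat.card ↥(Q' ⊓ X ⊓ (Q' ⊓ Y)) := by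
    refine dvd_trans (dvd_of_eq ?_) (card_dvd_of_le hR'Q)
    rw [hR', card_map_of_injective (X ⊓ Y).subtype_injective, R.card_eq_multiplicity]
  refine dvd_trans ?_ (Nat.mul_dvd_mul (card_dvd_of_le (inf_le_right : Q' ⊓ X ≤ X))
    (card_dvd_of_le (inf_le_right : Q' ⊓ Y ≤ Y)))
  rw [← hcard, pow_add, hQc]
  exact Nat.mul_dvd_mul_left _ hRc

end CfsgLib.Signalizer
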