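import Cfsg.Agent.Lib.Signalizer.CommutatorFixed

/-!
Induction for the generation of the fixed points by the subgroups `[C_Y(B₀), A]`.
-/

set_option autoImplicit false
set_option linter.style.haveILetI false
set_option linter.unusedVariables false
set_option linter.unusedSectionVars false

open scoped commutatorElement
open Subgroup

universe u

namespace CfsgLib.Signalizer.CommFix

variable {G : Type u} [Group G] [Finite G] {A B Y : Subgroup G}

/-- The fixed points are generated modulo `V` if this holds in the quotient. -/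
theorem le_gen_sup_of_quotient (h : Acts A B Y) {V : Subgroup G} (hVY : V ≤ Y) (hV : V ≠ ⊥)
    (hYV : Y ≤ normalizer (V : Set G)) (hAV : A ≤ normalizer (V : Set G))
    (IH : ∀ (H : Type u) [Group H] [Finite H] (A' B' Y' : Subgroup H),
      Nat.card Y' < Nat.card Y → Acts A' B' Y' →
        Y' ⊓ centralizer (B' : Set H) ≤ gen A' B' Y') :
    Y ⊓ centralizer (B : Set G) ≤ gen A B Y ⊔ V ⊓ centralizer (B : Set G) := by
  set N := normalizer (V : Set G) with hN
  have hVN : V ≤ N := le_normalizer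
  haveI : (V.subgroupOf N).Normal :=
    ⟨fun v hv g => mem_subgroupOf.mpr
      ((mem_normalizer_iff.mp g.2 (v : G)).mp (mem_subgroupOf.mp hv))⟩
  set f := QuotientGroup.mk' (V.subgroupOf N) with hf
  have hcard : ∀ X : Subgroup G, X ≤ N → Nat.card ↥((X.subgroupOf N).map f) ∣ Nat.card X :=
    fun X hX => by
      rw [← Nat.card_congr (subgroupOfEquivOfLe hX).toEquiv]
      exact card_map_dvd _ _
  have hBN : B ≤ N := h.le.trans hAV
  have hker : ∀ g : ↥N, f g = 1 ↔ (g : G) ∈ V := fun g => by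
    rw [hf, QuotientGroup.mk'_apply, QuotientGroup.eq_one_iff, mem_subgroupOf]
  have hsub : ∀ X : Subgroup G, X ≤ N → (⁅X, A⁆).subgroupOf N =
      ⁅X.subgroupOf N, A.subgroupOf N⁆ := fun X hX => by
    apply map_injective N.subtype_injective
    rw [map_commutator, map_subgroupOf_eq_of_le hX, map_subgroupOf_eq_of_le hAV,
      map_subgroupOf_eq_of_le]
    rw [commutator_le]
    intro x hx a ha
    exact N.mul_mem (N.mul_mem (N.mul_mem (hX hx) (hAV ha)) (N.inv_mem (hX hx)))
      (N.inv_mem (hAV ha))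
  set A' := (A.subgroupOf N).map f with hA'
  set B' := (B.subgroupOf N).map f with hB'
  set Y' := (Y.subgroupOf N).map f with hY'
  have hmapcomm : ∀ X : Subgroup G, X ≤ N →
      ⁅(X.subgroupOf N).map f, A'⁆ = ((⁅X, A⁆).subgroupOf N).map f := fun X hX => by
    rw [hA', ← map_commutator, hsub X hX]
  have h' : Acts A' B' Y' := by
    refine ⟨⟨⟨?_⟩⟩, map_mono (subgroupOf_mono N h.le), ?_,
      Nat.Coprime.coprime_dvd_left (hcard A hAV) (h.cop.coprime_dvd_right (hcard Y hYV)), ?_, ?_⟩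
    · rintro ⟨_, a, ha, rfl⟩ ⟨_, b, hb, rfl⟩
      refine Subtype.ext (show f a * f b = f b * f a from ?_)
      rw [← map_mul, ← map_mul,
        show a * b = b * a from Subtype.ext (h.commute (mem_subgroupOf.mp ha) (mem_subgroupOf.mp hb))]
    · rw [le_normalizer_iff]
      rintro _ ⟨a, ha, rfl⟩ _ ⟨y, hy, rfl⟩
      exact ⟨a * y * a⁻¹, mem_subgroupOf.mpr (le_normalizer_iff.mp h.norm (a : G)
        (mem_subgroupOf.mp ha) (y : G) (mem_subgroupOf.mp hy)), by simp⟩
    · haveI := h.solv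
      haveI : Group.IsSolvable ↥(Y.subgroupOf N) :=
        Group.isSolvable_of_isSolvable_injective (f := (subgroupOfEquivOfLe hYV).toMonoidHom)
          (subgroupOfEquivOfLe hYV).injective
      exact Group.isSolvable_of_surjective (f := (f.subgroupMap (Y.subgroupOf N)))
        (f.subgroupMap_surjective _)
    · rw [hY', hmapcomm Y hYV, h.eq]
  have hlt : Nat.card ↥Y' < Nat.card Y := by
    rw [hY', ← Nat.card_congr (subgroupOfEquivOfLe hYV).toEquiv]
    refine lt_of_le_of_ne (Nat.le_of_dvd Nat.card_pos (card_map_dvd _ _)) fun heq => hV ?_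
    rw [eq_bot_iff]
    intro v hv
    have hinj : Function.Injective (f.subgroupMap (Y.subgroupOf N)) := by
      refine (Function.Surjective.bijective_of_nat_card_le ?_ ?_).1
      · exact f.subgroupMap_surjective _
      · exact heq.ge
    have he := @hinj ⟨⟨v, hVN hv⟩, mem_subgroupOf.mpr (hVY hv)⟩ 1 (Subtype.ext (by
      simpa using (hker ⟨v, hVN hv⟩).mpr hv))
    simpa using congrArg (fun z : ↥(Y.subgroupOf N) => ((z : ↥N) : G)) he
  have hgN : gen A B Y ≤ N := (gen_le.trans inf_le_left).trans hYV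
  have key : gen A' B' Y' ≤ ((gen A B Y).subgroupOf N).map f := by
    refine iSup_le ?_
    rintro ⟨B₁, hB₁, b₁, hb₁, hcyc⟩ z ⟨⟨hzY, hzB⟩, hzp⟩
    set B₀ := B ⊓ (B₁.comap f).map N.subtype with hB₀def
    have hB₀N : B₀ ≤ N := inf_le_left.trans hBN
    have hB₀A : B₀ ≤ A := inf_le_left.trans h.le
    obtain ⟨b, hb, rfl⟩ := hb₁
    have hbB : (b : G) ∈ B := mem_subgroupOf.mp hb
    have hgood : Good B B₀ := by
      refine ⟨inf_le_left, b, hbB, fun x hx => ?_⟩
      have hx' := hcyc ⟨⟨x, hBN hx⟩, mem_subgroupOf.mpr hx, rfl⟩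
      have hnb : f b ∈ normalizer (B₁ : Set (↥N ⧸ V.subgroupOf N)) := by
        refine centralizer_le_normalizer _ ?_
        rw [mem_centralizer_iff]
        intro u (hu : u ∈ B₁)
        obtain ⟨u', hu', rfl⟩ := hB₁ hu
        rw [← map_mul, ← map_mul, show u' * b = b * u' from
          Subtype.ext (h.commute (h.le (mem_subgroupOf.mp hu')) (h.le hbB))]
      obtain ⟨u, hu, v, hv, huv⟩ := (CfsgLib.Solvable.mem_sup_of_le_normalizer (N := B₁)
        (H := zpowers (f b)) (zpowers_le.mpr hnb)).mp hx'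
      · obtain ⟨i, rfl⟩ := hv
        have hmem : (⟨x, hBN hx⟩ : ↥N) * (b ^ i)⁻¹ ∈ B₁.comap f := by
          show f _ ∈ B₁
          rw [map_mul, ← huv, map_inv, map_zpow, mul_inv_cancel_right]
          exact hu
        have hx0 : x * ((b : G) ^ i)⁻¹ ∈ B₀ :=
          ⟨B.mul_mem hx (B.inv_mem (B.zpow_mem hbB i)), ⟨_, hmem, by simp⟩⟩
        rw [← inv_mul_cancel_right x ((b : G) ^ i)]
        exact mul_mem (mem_sup_left hx0) (mem_sup_right (zpow_mem (mem_zpowers _) i))
    -- fixed points of `B₁` in the quotient are images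
    have hC : Y' ⊓ centralizer (B₁ : Set (↥N ⧸ V.subgroupOf N)) ≤
        ((Y ⊓ centralizer (B₀ : Set G)).subgroupOf N).map f := by
      rintro _ ⟨⟨y, hy, rfl⟩, hyB⟩
      have hyY : (y : G) ∈ Y := mem_subgroupOf.mp hy
      obtain ⟨c, hc, hcv⟩ := CfsgLib.Solvable.exists_fixed_of_fixed_mod
        (hB₀A.trans h.norm) (h.cop.coprime_dvd_left (card_dvd_of_le hB₀A))
        (Or.inr h.solv) hVY hYV (hB₀A.trans hAV) hyY (fun a ha => by
          obtain ⟨a', ha', rfl⟩ := ha.2
          have e := hyB (f a') ha'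
          have h1 : f (a' * y * a'⁻¹ * y⁻¹) = 1 := by
            simp only [map_mul, map_inv]
            rw [e]; group
          simpa using (hker _).mp h1)
      refine ⟨⟨c, hYV hc.1⟩, mem_subgroupOf.mpr hc, ?_⟩
      have h1 : f (y⁻¹ * ⟨c, hYV hc.1⟩) = 1 := (hker _).mpr (by simpa using hcv)
      rw [map_mul, map_inv, inv_mul_eq_one] at h1
      exact h1.symm
    have hp : z ∈ ((piece A B₀ Y).subgroupOf N).map f := by
      rw [piece, ← hmapcomm _ (inf_le_left.trans hYV)]
      exact commutator_mono hC le_rfl hzp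
    obtain ⟨m, hm, rfl⟩ := hp
    have hmp : (m : G) ∈ piece A B₀ Y := mem_subgroupOf.mp hm
    have hMY : piece A B₀ Y ≤ Y := (h.piece_le hB₀A).trans inf_le_left
    have hAM : A ≤ normalizer (piece A B₀ Y : Set G) :=
      CfsgLib.Solvable.le_normalizer_commutator_right _ A
    obtain ⟨c, hc, hcv⟩ := CfsgLib.Solvable.exists_fixed_of_fixed_mod
      (A := B) (K := piece A B₀ Y) (N := V ⊓ piece A B₀ Y) (k := (m : G)) (h.le.trans hAM)
      ((h.cop.coprime_dvd_left (card_dvd_of_le h.le)).coprime_dvd_right (card_dvd_of_le hMY))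
      (Or.inl (Group.isSolvable_of_comm fun a b =>
        Subtype.ext (h.commute (h.le a.2) (h.le b.2))))
      inf_le_right (le_normalizer_inf (hMY.trans hYV) le_normalizer)
      (le_normalizer_inf (h.le.trans hAV) (h.le.trans hAM)) hmp (fun a ha => by
        refine ⟨?_, (piece A B₀ Y).mul_mem (le_normalizer_iff.mp (h.le.trans hAM) a ha _ hmp)
          ((piece A B₀ Y).inv_mem hmp)⟩
        have e := hzB (f ⟨a, hBN ha⟩) ⟨⟨a, hBN ha⟩, mem_subgroupOf.mpr ha, rfl⟩
        have h1 : f (⟨a, hBN ha⟩ * m * (⟨a, hBN ha⟩ : ↥N)⁻¹ * m⁻¹) = 1 := by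
          simp only [map_mul, map_inv]
          rw [e]; group
        simpa using (hker _).mp h1)
    refine ⟨⟨c, hYV (hMY hc.1)⟩, mem_subgroupOf.mpr (mem_gen hgood (hMY hc.1) hc.2 hc.1), ?_⟩
    have h1 : f (m⁻¹ * ⟨c, hYV (hMY hc.1)⟩) = 1 := (hker _).mpr (by simpa using hcv.1)
    rw [map_mul, map_inv, inv_mul_eq_one] at h1
    exact h1.symm
  intro x hx
  have hx' : f ⟨x, hYV hx.1⟩ ∈ Y' ⊓ centralizer (B' : Set (↥N ⧸ V.subgroupOf N)) := by
    refine ⟨⟨_, mem_subgroupOf.mpr hx.1, rfl⟩, ?_⟩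
    rintro _ ⟨b, hb, rfl⟩
    rw [← map_mul, ← map_mul,
      show b * ⟨x, hYV hx.1⟩ = (⟨x, hYV hx.1⟩ : ↥N) * b from Subtype.ext (hx.2 b (mem_subgroupOf.mp hb))]
  obtain ⟨r, hr, hrx⟩ := key (IH _ A' B' Y' hlt h' hx')
  have hr' : (r : G) ∈ gen A B Y := mem_subgroupOf.mp hr
  have h1 : f (r⁻¹ * ⟨x, hYV hx.1⟩) = 1 := by rw [map_mul, map_inv, hrx, inv_mul_cancel]
  have h2 : (r : G)⁻¹ * x ∈ V := by simpa using (hker _).mp h1
  rw [← mul_inv_cancel_left (r : G) x]
  exact mul_mem (mem_sup_left hr')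
    (mem_sup_right ⟨h2, (centralizer (B : Set G)).mul_mem
      ((centralizer (B : Set G)).inv_mem (gen_le hr').2) hx.2⟩)

/-- The fixed points of `B` in a solvable `Y = [Y, A]`. -/
theorem fixed_le_gen (n : ℕ) : ∀ (G : Type u) [Group G] [Finite G] (A B Y : Subgroup G),
    Nat.card Y = n → Acts A B Y → Y ⊓ centralizer (B : Set G) ≤ gen A B Y := by
  induction n using Nat.strong_induction_on with
  | _ n IH =>
  intro G _ _ A B Y hn h
  by_cases hY : Y ≤ centralizer (Y : Set G)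
  · haveI : IsMulCommutative ↥Y := ⟨⟨fun a b => Subtype.ext (hY b.2 a a.2)⟩⟩
    have h0 := CfsgLib.Solvable.centralizer_inf_commutator_eq_bot h.norm h.cop
    rw [h.eq, inf_of_le_left inf_le_left] at h0
    have h1 := h.piece_sup (B₀ := B) h.le
    intro x hx
    rw [← h1] at hx
    have hx' : x ∈ piece A B Y := by
      refine (sup_le (le_refl (piece A B Y)) ?_) hx
      intro y hy
      rw [(mem_bot.mp (h0.le ⟨hy.1.1, hy.2⟩))]
      exact one_mem _
    exact mem_gen good_self (h.piece_le h.le hx').1 (h.piece_le h.le hx').2 hx'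
  obtain ⟨W, ⟨⟨hWY, hYW, hWA, hnc⟩, hmin⟩⟩ : ∃ W, Minimal (fun W : Subgroup G =>
      W ≤ Y ∧ Y ≤ normalizer (W : Set G) ∧ A ≤ normalizer (W : Set G) ∧
        ¬ W ≤ centralizer (Y : Set G)) W := by
    obtain ⟨W, _, hW⟩ := Finite.exists_le_minimal (p := fun W : Subgroup G =>
      W ≤ Y ∧ Y ≤ normalizer (W : Set G) ∧ A ≤ normalizer (W : Set G) ∧
        ¬ W ≤ centralizer (Y : Set G)) ⟨le_rfl, le_normalizer, h.norm, hY⟩
    exact ⟨W, hW⟩
  have IH' : ∀ (H : Type u) [Group H] [Finite H] (A' B' Y' : Subgroup H),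
      Nat.card Y' < Nat.card Y → Acts A' B' Y' →
        Y' ⊓ centralizer (B' : Set H) ≤ gen A' B' Y' :=
    fun H _ _ A' B' Y' hlt h' => IH _ (hn ▸ hlt) H A' B' Y' rfl h'
  by_cases hd : ⁅W, W⁆ = ⊥
  · haveI : IsMulCommutative ↥W :=
      ⟨⟨fun a b => Subtype.ext (((commutator_eq_bot_iff_le_centralizer.mp hd) b.2) a a.2)⟩⟩
    have hfix := commutator_fixed_le_gen h hWY hWA hYW
    have hq := le_gen_sup_of_quotient h (V := ⁅W, Y⁆)
      ((CfsgLib.Solvable.commutator_le_of_normalizes hYW).trans hWY)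
      (fun he => hnc (commutator_eq_bot_iff_le_centralizer.mp he))
      (CfsgLib.Solvable.le_normalizer_commutator_right W Y)
      (fun a ha => normalizer_inf_le_normalizer_commutator _ _ ⟨hWA ha, h.norm ha⟩) IH'
    exact hq.trans (sup_le le_rfl hfix)
  · have hYd : Y ≤ normalizer ((⁅W, W⁆ : Subgroup G) : Set G) := fun a ha =>
      normalizer_inf_le_normalizer_commutator _ _ ⟨hYW ha, hYW ha⟩
    have hAd : A ≤ normalizer ((⁅W, W⁆ : Subgroup G) : Set G) := fun a ha =>
      normalizer_inf_le_normalizer_commutator _ _ ⟨hWA ha, hWA ha⟩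
    have hdW : ⁅W, W⁆ ≤ W := CfsgLib.Solvable.commutator_le_of_normalizes le_normalizer
    have hcen : ⁅W, W⁆ ≤ centralizer (Y : Set G) := by
      by_contra hno
      have heq : ⁅W, W⁆ = W :=
        le_antisymm hdW (hmin ⟨hdW.trans hWY, hYd, hAd, hno⟩ hdW)
      haveI := h.solv
      haveI : Group.IsSolvable ↥W :=
        Group.isSolvable_of_isSolvable_injective (f := inclusion hWY) (inclusion_injective hWY)
      rcases subsingleton_or_nontrivial ↥W with hs | hs
      · exact hnc ((eq_bot_of_subsingleton W) ▸ bot_le)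
      · have h3 : (_root_.commutator ↥W).map W.subtype = W := by
          rw [_root_.commutator_def, map_commutator, ← MonoidHom.range_eq_map, range_subtype, heq]
        refine (Group.IsSolvable.commutator_lt_top_of_nontrivial ↥W).ne ?_
        refine map_injective W.subtype_injective ?_
        rw [h3, ← MonoidHom.range_eq_map, range_subtype]
    haveI : IsMulCommutative ↥(⁅W, W⁆ : Subgroup G) :=
      ⟨⟨fun a b => Subtype.ext (hcen b.2 a (hWY (hdW a.2)))⟩⟩
    have hq := le_gen_sup_of_quotient h (V := ⁅W, W⁆) (hdW.trans hWY) hd hYd hAd IH'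
    exact hq.trans (sup_le le_rfl (derived_fixed_le_gen h hWY hWA hcen hq))

/-- The fixed points of `B` are the subgroup generated by the fixed points in the pieces. -/
theorem fixed_eq (h : Acts A B Y) :
    Y ⊓ centralizer (B : Set G) =
      ⨆ B₀ : {B₀ : Subgroup G // B₀ ≤ B ∧
          ∀ [(B₀.subgroupOf B).Normal], IsCyclic (↥B ⧸ B₀.subgroupOf B)},
        Y ⊓ centralizer (B : Set G) ⊓ ⁅Y ⊓ centralizer ((B₀ : Subgroup G) : Set G), A⁆ := by
  refine le_antisymm ((fixed_le_gen _ G A B Y rfl h).trans ?_) (iSup_le fun _ => inf_le_left)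
  refine iSup_le fun B₀ => le_iSup_of_le ⟨(B₀ : Subgroup G), B₀.2.1, fun {_} => ?_⟩ le_rfl
  obtain ⟨B₁, hB₁, b, hb, hcyc⟩ := B₀
  refine ⟨⟨QuotientGroup.mk ⟨b, hb⟩, fun q => ?_⟩⟩
  obtain ⟨⟨x, hx⟩, rfl⟩ := QuotientGroup.mk_surjective q
  obtain ⟨u, hu, v, hv, huv⟩ := (CfsgLib.Solvable.mem_sup_of_le_normalizer (N := B₁)
    (H := zpowers b) (zpowers_le.mpr (centralizer_le_normalizer _ (by
      rw [mem_centralizer_iff]
      intro w (hw : w ∈ B₁)
      exact h.commute (h.le (hB₁ hw)) (h.le hb))))).mp (hcyc hx)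
  obtain ⟨i, rfl⟩ := hv
  refine ⟨i, ?_⟩
  show ((QuotientGroup.mk ⟨b, hb⟩ : ↥B ⧸ B₁.subgroupOf B)) ^ i = _
  rw [← QuotientGroup.mk_zpow, QuotientGroup.eq, mem_subgroupOf]
  have e : x = (b : G) ^ i * u := by
    rw [← huv]
    exact ((show Commute (b : G) u from h.commute (h.le hb) (h.le (hB₁ hu))).zpow_left i).eq.symm
  simp only [Subgroup.coe_mul, Subgroup.coe_inv, SubgroupClass.coe_zpow]
  rw [e, inv_mul_cancel_left]
  exact hu

end CfsgLib.Signalizer.CommFix

namespace CfsgLib.Signalizer.CommFix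

/-- The statement for a 2-group acting on a subgroup of odd order, given the odd order theorem. -/
theorem fixed_eq_of_odd {G : Type u} [Group G] [Finite G]
    (hFT : ∀ H : Subgroup G, Odd (Nat.card H) → Group.IsSolvable H) (A B Y : Subgroup G)
    (hA2 : IsPGroup 2 ↥A) (hAc : IsMulCommutative ↥A) (hB : B ≤ A) (hYodd : Odd (Nat.card ↥Y))
    (hAY : A ≤ Subgroup.normalizer (Y : Set G)) (hYA : ⁅Y, A⁆ = Y) :
    Y ⊓ centralizer (B : Set G) =
      ⨆ B₀ : {B₀ : Subgroup G // B₀ ≤ B ∧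
          ∀ [(B₀.subgroupOf B).Normal], IsCyclic (↥B ⧸ B₀.subgroupOf B)},
        Y ⊓ centralizer (B : Set G) ⊓ ⁅Y ⊓ centralizer ((B₀ : Subgroup G) : Set G), A⁆ := by
  refine fixed_eq ⟨hAc, hB, hAY, ?_, hFT Y hYodd, hYA⟩
  haveI : Fact (Nat.Prime 2) := ⟨Nat.prime_two⟩
  obtain ⟨n, hn⟩ := hA2.exists_card_eq
  rw [hn]
  exact (Nat.coprime_two_left.mpr hYodd).pow_left n

end CfsgLib.Signalizer.CommFix
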