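import Cfsg.Agent.Lib.Signalizer.Bender
import Cfsg.Agent.Lib.Frobenius.PrimeActionFixed
import Cfsg.Agent.Lib.Solvable.CoprimeAbelian

/-!
An element of prime order and a subgroup it moves fixed-point-freely, acting coprimely on a solvable
group: inertness for an arbitrary prime.
-/

set_option autoImplicit false
set_option linter.style.haveILetI false
set_option linter.unusedVariables false
set_option linter.unusedSectionVars false

open scoped Pointwise commutatorElement
open Subgroup

namespace CfsgLib.Signalizer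

section action

variable {V H : Type*} [CommGroup V] [Finite V] [Group H] [Finite H]

/-- An abelian `X = [X,c]` that centralizes the fixed points of `c` acts trivially. -/
theorem trivial_action_of_abelian (φ : H →* MulAut V) {X : Subgroup H} {c : H} {r : ℕ}
    (hr : r.Prime) (hc : c ^ r = 1) (hrX : r.Coprime (Nat.card X))
    (hXV : (Nat.card X).Coprime (Nat.card V)) [IsMulCommutative X]
    (hcX : c ∈ normalizer (X : Set H)) (hXc : ⁅X, zpowers c⁆ = X)
    (hfix : ∀ v, φ c v = v → ∀ x ∈ X, φ x v = v) : ∀ x ∈ X, ∀ v, φ x v = v := by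
  classical
  haveI : Fintype X := Fintype.ofFinite X
  letI : CommGroup X :=
    { (inferInstance : Group X) with
      mul_comm := fun a b => Subtype.ext (setLike_mul_comm a.2 b.2) }
  have hcp : ∀ i : ℕ, c ^ i ∈ normalizer (X : Set H) := fun i => pow_mem hcX i
  have hcj : ∀ (i : ℕ) (y : H), y ∈ X → c ^ i * y * (c ^ i)⁻¹ ∈ X := fun i y hy =>
    (mem_normalizer_iff.mp (hcp i) y).mp hy
  -- `c` fixes no non-trivial element of `X`: the norm map kills `X`
  let e : ℕ → X → X := fun i y => ⟨c ^ i * y * (c ^ i)⁻¹, hcj i y y.2⟩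
  let ν : X →* X :=
    { toFun := fun y => ∏ i ∈ Finset.range r, e i y
      map_one' := Finset.prod_eq_one fun i _ => Subtype.ext (by simp [e])
      map_mul' := fun a b => by
        rw [← Finset.prod_mul_distrib]
        exact Finset.prod_congr rfl fun i _ => Subtype.ext (by simp [e, mul_assoc]) }
  have hν1 : ∀ y : X, ν (e 1 y) = ν y := by
    intro y
    show ∏ i ∈ Finset.range r, e i (e 1 y) = ∏ i ∈ Finset.range r, e i y
    have h1 : ∀ i, e i (e 1 y) = e (i + 1) y := fun i => Subtype.ext (by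
      simp [e, pow_succ, mul_assoc])
    have h2 : e r y = e 0 y := Subtype.ext (by simp [e, hc])
    obtain ⟨k, rfl⟩ := Nat.exists_eq_succ_of_ne_zero hr.ne_zero
    simp only [h1]
    rw [Finset.prod_range_succ, h2, Finset.prod_range_succ' (fun i => e i y)]
  have hνn : ∀ (n : ℕ) (y : X), ν (e n y) = ν y := by
    intro n
    induction n with
    | zero => intro y; exact congrArg ν (Subtype.ext (by simp [e]))
    | succ n ih =>
      intro y
      rw [show e (n + 1) y = e n (e 1 y) from Subtype.ext (by simp [e, pow_succ, mul_assoc]), ih,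
        hν1]
  have hkill : X ≤ ν.ker.map X.subtype := by
    refine hXc.symm.le.trans ?_
    rw [commutator_le]
    intro y hy z hz
    obtain ⟨n, rfl⟩ := mem_zpowers_iff_mem_range_orderOf.mp hz |> Finset.mem_image.mp |>.imp
      (fun n h => h.2)
    refine ⟨⟨y, hy⟩ * (e n ⟨y, hy⟩)⁻¹, ?_, by
      show y * (c ^ n * y * (c ^ n)⁻¹)⁻¹ = ⁅y, c ^ n⁆
      simp [commutatorElement_def, mul_assoc]⟩
    show ν _ = 1
    rw [map_mul, map_inv, hνn, mul_inv_cancel]
  have hfree : ∀ y ∈ X, c * y = y * c → y = 1 := by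
    intro y hy hyc
    obtain ⟨y', hy', he⟩ := hkill hy
    obtain rfl : y' = ⟨y, hy⟩ := Subtype.ext he
    have h1 : ν ⟨y, hy⟩ = (⟨y, hy⟩ : X) ^ r := by
      show ∏ i ∈ Finset.range r, e i ⟨y, hy⟩ = _
      rw [← Finset.card_range r, ← Finset.prod_const, Finset.card_range]
      refine Finset.prod_congr rfl fun i _ => Subtype.ext ?_
      show c ^ i * y * (c ^ i)⁻¹ = y
      rw [(Commute.pow_left (show Commute c y from hyc) i).eq, mul_inv_cancel_right]
    rw [show ν ⟨y, hy⟩ = 1 from hy'] at h1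
    have h2 : orderOf (⟨y, hy⟩ : X) = 1 :=
      Nat.eq_one_of_dvd_coprimes hrX (orderOf_dvd_of_pow_eq_one h1.symm) (orderOf_dvd_natCard _)
    exact congrArg Subtype.val (orderOf_eq_one_iff.mp h2)
  -- the norm of `c` on `V`
  intro x hx v
  let ψ : ℕ → X → X := fun i y => ⟨y * c ^ i * (y : H)⁻¹ * (c ^ i)⁻¹, by
    have := X.mul_mem y.2 (hcj i _ (X.inv_mem y.2))
    simpa [mul_assoc] using this⟩
  have hψ : ∀ i, 0 < i → i < r → Function.Bijective (ψ i) := by
    intro i hi hir
    refine Finite.injective_iff_bijective.mp fun a b hab => ?_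
    have h1 : (a : H) * c ^ i * (a : H)⁻¹ = b * c ^ i * (b : H)⁻¹ :=
      mul_right_cancel (congrArg Subtype.val hab)
    have h2 : Commute ((b : H)⁻¹ * a) (c ^ i) := by
      show (b : H)⁻¹ * a * c ^ i = c ^ i * ((b : H)⁻¹ * a)
      calc (b : H)⁻¹ * a * c ^ i = (b : H)⁻¹ * (a * c ^ i * (a : H)⁻¹) * a := by group
        _ = c ^ i * ((b : H)⁻¹ * a) := by rw [h1]; group
    have hgcd : i.Coprime r := ((hr.coprime_iff_not_dvd).mpr
      (Nat.not_dvd_of_pos_of_lt hi hir)).symm
    have h3 : Commute ((b : H)⁻¹ * a) c := by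
      have hord : (orderOf c).Coprime i :=
        (hgcd.coprime_dvd_right (orderOf_dvd_of_pow_eq_one hc)).symm
      obtain ⟨m, hm⟩ := exists_pow_eq_self_of_coprime hord.symm
      rw [← hm]
      exact h2.pow_right m
    have h4 := hfree _ (X.mul_mem (X.inv_mem b.2) a.2) h3.eq.symm
    exact Subtype.ext (inv_mul_eq_one.mp h4).symm
  have hkey : ∀ y : X, ∀ w : V, ∏ i ∈ Finset.range r, φ (x * (ψ i y : H) * c ^ i) w =
      ∏ i ∈ Finset.range r, φ ((ψ i y : H) * c ^ i) w := by
    intro y w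
    set w' := φ (y : H)⁻¹ w with hw'
    have ht : φ c (∏ i ∈ Finset.range r, φ (c ^ i) w') = ∏ i ∈ Finset.range r, φ (c ^ i) w' := by
      rw [map_prod]
      have h1 : ∀ i, φ c (φ (c ^ i) w') = φ (c ^ (i + 1)) w' := fun i => by
        rw [pow_succ', map_mul]; rfl
      simp only [h1]
      obtain ⟨k, rfl⟩ := Nat.exists_eq_succ_of_ne_zero hr.ne_zero
      rw [Finset.prod_range_succ, hc, Finset.prod_range_succ' (fun i => φ (c ^ i) w'), pow_zero]
    have h2 := congrArg (φ (y : H)) (hfix _ ht x hx)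
    rw [map_prod, map_prod, map_prod] at h2
    have hxy : (y : H) * x = x * y := setLike_mul_comm y.2 hx
    refine Eq.trans ?_ (h2.trans ?_)
    · refine Finset.prod_congr rfl fun i _ => ?_
      rw [hw', ← MulAut.mul_apply, ← MulAut.mul_apply, ← MulAut.mul_apply, ← map_mul, ← map_mul,
        ← map_mul]
      refine congrArg (fun g => φ g w) ?_
      show x * (y * c ^ i * (y : H)⁻¹ * (c ^ i)⁻¹) * c ^ i = _
      rw [hxy]; group
    · refine Finset.prod_congr rfl fun i _ => ?_
      rw [hw', ← MulAut.mul_apply, ← MulAut.mul_apply, ← map_mul, ← map_mul]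
      refine congrArg (fun g => φ g w) ?_
      show _ = (y : H) * c ^ i * (y : H)⁻¹ * (c ^ i)⁻¹ * c ^ i
      group
  have hsum := Finset.prod_congr rfl (fun (y : X) (_ : y ∈ Finset.univ) => hkey y v)
  rw [Finset.prod_comm, Finset.prod_comm (t := Finset.range r)] at hsum
  obtain ⟨k, rfl⟩ := Nat.exists_eq_succ_of_ne_zero hr.ne_zero
  rw [Finset.prod_range_succ', Finset.prod_range_succ'] at hsum
  have hrest : ∏ i ∈ Finset.range k, ∏ y : X, φ (x * (ψ (i + 1) y : H) * c ^ (i + 1)) v =
      ∏ i ∈ Finset.range k, ∏ y : X, φ ((ψ (i + 1) y : H) * c ^ (i + 1)) v := by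
    refine Finset.prod_congr rfl fun i hi => ?_
    have hb := hψ (i + 1) i.succ_pos (by have := Finset.mem_range.mp hi; omega)
    rw [hb.prod_comp (fun z : X => φ (x * (z : H) * c ^ (i + 1)) v),
      hb.prod_comp (fun z : X => φ ((z : H) * c ^ (i + 1)) v)]
    exact Fintype.prod_equiv (Equiv.mulLeft ⟨x, hx⟩) _ _ fun z => rfl
  rw [hrest] at hsum
  have h0 : ∀ y : X, (ψ 0 y : H) = 1 := fun y => by simp [ψ]
  simp only [h0, pow_zero, mul_one, map_one, MulAut.one_apply, Finset.prod_const,
    Finset.card_univ] at hsum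
  have h3 : (φ x v * v⁻¹) ^ Nat.card X = 1 := by
    rw [Nat.card_eq_fintype_card, mul_pow, inv_pow, mul_inv_eq_one]
    exact mul_left_cancel hsum
  have h4 : orderOf (φ x v * v⁻¹) = 1 :=
    Nat.eq_one_of_dvd_coprimes hXV (orderOf_dvd_of_pow_eq_one h3) (orderOf_dvd_natCard _)
  exact mul_inv_eq_one.mp (orderOf_eq_one_iff.mp h4)

/-- A `q`-group `X = [X,c]`, `q` odd or acting through an abelian group, that centralizes the fixed
points of `c` acts trivially. -/
theorem trivial_action_of_isPGroup (φ : H →* MulAut V) {X : Subgroup H} {c : H} {q r : ℕ}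
    [Fact q.Prime] (hr : r.Prime) (hc : c ^ r = 1) (hqr : q ≠ r) (hrV : r.Coprime (Nat.card V))
    (hX : IsPGroup q X) (hq : q ≠ 2 ∨ ∀ y ∈ X, ∀ z ∈ X, φ (y * z) = φ (z * y))
    (hXV : (Nat.card X).Coprime (Nat.card V))
    (hcX : c ∈ normalizer (X : Set H)) (hXc : ⁅X, zpowers c⁆ = X)
    (hfix : ∀ v, φ c v = v → ∀ x ∈ X, φ x v = v) : ∀ x ∈ X, ∀ v, φ x v = v := by
  classical
  haveI : Fintype X := Fintype.ofFinite X
  let μ : V →* V :=
    { toFun := fun v => ∏ y : X, φ y v
      map_one' := by simp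
      map_mul' := fun a b => by simp [Finset.prod_mul_distrib] }
  have hμX : ∀ y ∈ X, ∀ v, μ (φ y v) = μ v := fun y hy v => by
    refine Fintype.prod_equiv (Equiv.mulRight (⟨y, hy⟩ : X)) _ _ fun z => ?_
    show φ z (φ y v) = φ ((z * ⟨y, hy⟩ : X) : H) v
    rw [Subgroup.coe_mul, map_mul, MulAut.mul_apply]
  have hμc : ∀ v, μ (φ c v) = φ c (μ v) := fun v => by
    show ∏ y : X, φ y (φ c v) = φ c (∏ y : X, φ y v)
    rw [map_prod]
    let e : X ≃ X :=
      { toFun := fun y => ⟨c⁻¹ * y * c, by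
          simpa using (mem_normalizer_iff.mp (inv_mem hcX) (y : H)).mp y.2⟩
        invFun := fun y => ⟨c * y * c⁻¹, (mem_normalizer_iff.mp hcX (y : H)).mp y.2⟩
        left_inv := fun y => Subtype.ext (by simp [mul_assoc])
        right_inv := fun y => Subtype.ext (by simp [mul_assoc]) }
    refine Fintype.prod_equiv e _ _ fun y => ?_
    show φ y (φ c v) = φ c (φ (c⁻¹ * y * c) v)
    rw [← MulAut.mul_apply, ← MulAut.mul_apply, ← map_mul, ← map_mul]
    exact congrArg (fun g => φ g v) (by group)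
  intro x hx v
  by_contra hne
  -- the part of `V` moved by `X`
  have hK : φ x v * v⁻¹ ∈ μ.ker := by
    rw [MonoidHom.mem_ker, map_mul, map_inv, hμX x hx, mul_inv_cancel]
  obtain ⟨p, hp, hpd⟩ := Nat.exists_prime_and_dvd
    (mt orderOf_eq_one_iff.mp (mt mul_inv_eq_one.mp hne))
  haveI := Fact.mk hp
  set a := (φ x v * v⁻¹) ^ (orderOf (φ x v * v⁻¹) / p) with ha
  have haord : orderOf a = p := by
    have h1 := orderOf_pos (φ x v * v⁻¹)
    rw [ha, orderOf_pow_of_dvd (Nat.pos_iff_ne_zero.1 (Nat.div_pos (Nat.le_of_dvd h1 hpd) hp.pos))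
      (Nat.div_dvd_of_dvd hpd), Nat.div_div_self hpd h1.ne']
  have hpV : p ∣ Nat.card V := haord ▸ orderOf_dvd_natCard a
  let W : Subgroup V := μ.ker ⊓ (powMonoidHom p : V →* V).ker
  have hWmem : ∀ w, w ∈ W ↔ μ w = 1 ∧ w ^ p = 1 := fun w => by
    simp [W, Subgroup.mem_inf, MonoidHom.mem_ker]
  have haW : a ∈ W := (hWmem a).mpr ⟨by
    rw [ha, map_pow, MonoidHom.mem_ker.mp hK, one_pow], haord ▸ pow_orderOf_eq_one a⟩
  have ha1 : a ≠ 1 := fun h => hp.one_lt.ne' (by rw [← haord, h, orderOf_one])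
  -- `X` moves every non-trivial element of `W`
  have hWfix : ∀ w ∈ W, (∀ y ∈ X, φ y w = w) → w = 1 := by
    intro w hw hwX
    have h1 : μ w = w ^ Nat.card X := by
      show ∏ y : X, φ y w = _
      rw [Finset.prod_congr rfl fun (y : X) _ => hwX (y : H) y.2, Finset.prod_const, Finset.card_univ,
        Nat.card_eq_fintype_card]
    rw [((hWmem w).mp hw).1] at h1
    exact orderOf_eq_one_iff.mp
      (Nat.eq_one_of_dvd_coprimes hXV (orderOf_dvd_of_pow_eq_one h1.symm) (orderOf_dvd_natCard _))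
  -- the action on `W`
  let L : Subgroup H := X ⊔ zpowers c
  have hLX : L ≤ normalizer (X : Set H) := sup_le le_normalizer (zpowers_le.mpr hcX)
  have hinv : ∀ g ∈ L, ∀ w ∈ W, φ g w ∈ W := by
    intro g hg w hw
    obtain ⟨y, hy, z, hz, rfl⟩ := (CfsgLib.Solvable.mem_sup_of_le_normalizer
      (zpowers_le.mpr hcX)).mp hg
    obtain ⟨hw1, hw2⟩ := (hWmem w).mp hw
    refine (hWmem _).mpr ⟨?_, by rw [← map_pow, hw2, map_one]⟩
    rw [map_mul, MulAut.mul_apply, hμX y hy]
    obtain ⟨n, rfl⟩ := (isOfFinOrder_of_finite c).mem_powers_iff_mem_zpowers.mpr hz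
    show μ (φ (c ^ n) w) = 1
    clear hz hg
    induction n generalizing w with
    | zero => simpa using hw1
    | succ n ih =>
      rw [pow_succ', map_mul, MulAut.mul_apply, hμc, ih w hw hw1 hw2, map_one]
  let ρ : L →* MulAut W :=
    { toFun := fun g =>
        { toFun := fun w => ⟨φ g w, hinv g g.2 w w.2⟩
          invFun := fun w => ⟨φ (g : H)⁻¹ w, hinv _ (L.inv_mem g.2) w w.2⟩
          left_inv := fun w => Subtype.ext (by
            show φ (g : H)⁻¹ (φ (g : H) w) = w
            rw [← MulAut.mul_apply, ← map_mul, inv_mul_cancel, map_one, MulAut.one_apply])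
          right_inv := fun w => Subtype.ext (by
            show φ (g : H) (φ (g : H)⁻¹ w) = w
            rw [← MulAut.mul_apply, ← map_mul, mul_inv_cancel, map_one, MulAut.one_apply])
          map_mul' := fun w w' => Subtype.ext (by simp) }
      map_one' := MulEquiv.ext fun w => Subtype.ext (by simp)
      map_mul' := fun g g' => MulEquiv.ext fun w => Subtype.ext (by simp) }
  have hXL : X ≤ L := le_sup_left
  have hcL : c ∈ L := mem_sup_right (mem_zpowers c)
  set P := (X.subgroupOf L).map ρ with hP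
  set z := ρ ⟨c, hcL⟩ with hz
  have hmapXL : (X.subgroupOf L).map L.subtype = X := map_subgroupOf_eq_of_le hXL
  have hcomm : ⁅X.subgroupOf L, zpowers (⟨c, hcL⟩ : L)⁆ = X.subgroupOf L := by
    refine map_injective L.subtype_injective ?_
    rw [map_commutator, MonoidHom.map_zpowers, hmapXL]
    exact hXc
  have hPz : ⁅P, zpowers z⁆ = P := by
    rw [hP, hz, ← MonoidHom.map_zpowers, ← map_commutator, hcomm]
  have hPne : P ≠ ⊥ := fun h => ha1 (hWfix a haW fun y hy => by
    have h1 : ρ ⟨y, hXL hy⟩ ∈ P := mem_map_of_mem ρ (mem_subgroupOf.mpr hy)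
    rw [h, mem_bot] at h1
    exact congrArg Subtype.val (DFunLike.congr_fun h1 (⟨a, haW⟩ : W)))
  have hz1 : z ≠ 1 := fun h => hPne (by
    rw [← hPz, h, zpowers_one_eq_bot, commutator_bot_right])
  have hzr : orderOf z = r := (hr.eq_one_or_self_of_dvd _ (orderOf_dvd_of_pow_eq_one (by
    rw [hz, ← map_pow, show (⟨c, hcL⟩ : L) ^ r = 1 from Subtype.ext (by simpa using hc),
      map_one]))).resolve_left (mt orderOf_eq_one_iff.mp hz1)
  haveI : Finite (MulAut W) := Finite.of_injective (fun e : MulAut W => (e : W → W))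
    DFunLike.coe_injective
  have hpq : p ≠ q := by
    rintro rfl
    obtain ⟨n, hn⟩ := hX.exists_card_eq
    rcases Nat.eq_zero_or_pos n with h0 | h0
    · rw [h0, pow_zero] at hn
      have hXb := card_eq_one.mp hn
      have h1 : x = 1 := mem_bot.mp (hXb ▸ hx)
      exact hne (by rw [h1, map_one, MulAut.one_apply])
    · exact hp.ne_one (Nat.eq_one_of_dvd_coprimes hXV
        ((dvd_pow_self p h0.ne').trans hn.symm.dvd) hpV)
  have hpr : p ≠ r := by
    rintro rfl
    exact hp.ne_one (Nat.eq_one_of_dvd_coprimes hrV dvd_rfl hpV)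
  obtain ⟨w, hw1, hw⟩ := CfsgLib.Frobenius.exists_fixed_of_prime_action hr hpq hpr hqr
    (A := W) (fun w => Subtype.ext ((hWmem w).mp w.2).2) (MonoidHom.id (MulAut W)) P (zpowers z)
    (by rw [Nat.card_zpowers, hzr]) (by
      rw [zpowers_le, hP]
      refine le_normalizer_map ρ ⟨⟨c, hcL⟩, ?_, rfl⟩
      exact mem_normalizer_iff.mpr fun g => mem_normalizer_iff.mp hcX (g : H))
    ((hX.of_equiv (subgroupOfEquivOfLe hXL).symm).map ρ) (fun g _ h => h) (fun h => hPne (by
      rw [← hPz, commutator_eq_bot_iff_le_centralizer]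
      exact le_centralizer_iff.mp h))
    (fun h2 _ => by
      obtain hab := hq.resolve_left (not_not.mpr h2)
      refine ⟨⟨?_⟩⟩
      rintro ⟨_, b1, hb1, rfl⟩ ⟨_, b2, hb2, rfl⟩
      refine Subtype.ext ?_
      show ρ b1 * ρ b2 = ρ b2 * ρ b1
      rw [← map_mul, ← map_mul]
      exact MulEquiv.ext fun w => Subtype.ext
        (DFunLike.congr_fun (hab (b1 : H) hb1 (b2 : H) hb2) (w : V)))
  have h1 : φ c w = w := congrArg Subtype.val (hw z (mem_zpowers z))
  exact hw1 (Subtype.ext (hWfix w w.2 fun y hy => hfix _ h1 y hy))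

end action

variable {G : Type*} [Group G] [Finite G]

/-- Reduction to an abelian group: the action on `W / W'`. -/
theorem le_centralizer_of_abelian_case {U : Subgroup G} {c : G} {r : ℕ} (hc : c ^ r = 1)
    (hUc : c ∈ normalizer (U : Set G)) {W₀ : Subgroup G}
    (core : ∀ (H : Subgroup G) (W : Subgroup G) (φ : H →* MulAut (Abelianization W)),
      U ≤ H → c ∈ H → (Nat.card U).Coprime (Nat.card (Abelianization W)) →
      r.Coprime (Nat.card (Abelianization W)) →
      (∀ v, (∀ g : H, (g : G) = c → φ g v = v) → ∀ g : H, (g : G) ∈ U → φ g v = v) →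
      W ≤ W₀ → (∀ g : H, (g : G) ∈ centralizer (W : Set G) → φ g = 1) →
      ∀ g : H, (g : G) ∈ U → ∀ v, φ g v = v)
    (W : Subgroup G) (hWW₀ : W ≤ W₀) (hW : Group.IsSolvable W)
    (hcop : (Nat.card U).Coprime (Nat.card W))
    (hrW : r.Coprime (Nat.card W)) (hcW : c ∈ normalizer (W : Set G))
    (hUn : U ≤ normalizer (W : Set G))
    (hfix : W ⊓ centralizer ({c} : Set G) ≤ centralizer (U : Set G)) :
    U ≤ centralizer (W : Set G) := by
  induction hn : Nat.card W using Nat.strong_induction_on generalizing W with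
  | _ n ih =>
  subst hn
  by_cases hne : W = ⊥
  · subst hne
    intro u _ w hw
    simp [mem_bot.mp hw]
  set D : Subgroup G := ⁅W, W⁆ with hD
  haveI := hW
  haveI : Nontrivial W := (Subgroup.nontrivial_iff_ne_bot _).mpr hne
  have hDW : D ≤ W := CfsgLib.Solvable.commutator_le_of_normalizes le_normalizer
  have hDeq : D = (commutator W).map W.subtype := by
    rw [hD, commutator_def, map_commutator, ← MonoidHom.range_eq_map, range_subtype]
  have hlt : D < W := by
    refine lt_of_le_of_ne hDW fun h => (Group.IsSolvable.commutator_lt_top_of_nontrivial W).ne ?_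
    refine map_injective W.subtype_injective ?_
    rw [← hDeq, h, ← MonoidHom.range_eq_map, range_subtype]
  have hNW : normalizer (W : Set G) ≤ normalizer (D : Set G) :=
    hDeq ▸ map_subtype_characteristic W inferInstance
  have hWD : W ≤ normalizer (D : Set G) := le_normalizer.trans hNW
  have hUD : U ≤ centralizer (D : Set G) := ih _ (Set.Finite.card_lt_card (Set.toFinite _) hlt) D
    (hDW.trans hWW₀)
    (Group.isSolvable_of_isSolvable_injective (inclusion_injective hDW))
    (hcop.coprime_dvd_right (card_dvd_of_le hDW)) (hrW.coprime_dvd_right (card_dvd_of_le hDW))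
    (hNW hcW) (hUn.trans hNW) ((inf_le_inf_right _ hDW).trans hfix) rfl
  -- the action on the abelianization
  let N := normalizer (W : Set G)
  let φ : N →* MulAut (Abelianization W) :=
    { toFun := fun g => (W.normalizerMonoidHom g).abelianizationCongr
      map_one' := MulEquiv.ext fun v => by
        obtain ⟨w, rfl⟩ := QuotientGroup.mk_surjective v
        show Abelianization.of (W.normalizerMonoidHom 1 w) = Abelianization.of w
        rw [map_one, MulAut.one_apply]
      map_mul' := fun g g' => MulEquiv.ext fun v => by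
        obtain ⟨w, rfl⟩ := QuotientGroup.mk_surjective v
        show Abelianization.of (W.normalizerMonoidHom (g * g') w) =
          Abelianization.of (W.normalizerMonoidHom g (W.normalizerMonoidHom g' w))
        rw [map_mul, MulAut.mul_apply] }
  have hφ : ∀ (g : N) (w : W), φ g (Abelianization.of w) =
      Abelianization.of (W.normalizerMonoidHom g w) := fun g w => rfl
  have hof : ∀ a b : W, Abelianization.of a = Abelianization.of b ↔ (a : G) * (b : G)⁻¹ ∈ D := by
    intro a b
    rw [← mul_inv_eq_one, ← map_inv, ← map_mul, ← MonoidHom.mem_ker, Abelianization.ker_of, hDeq]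
    exact (Subgroup.mem_map_iff_mem W.subtype_injective).symm
  have hcard : Nat.card (Abelianization W) ∣ Nat.card W :=
    Subgroup.card_quotient_dvd_card (commutator W)
  have hcop' : (Nat.card (zpowers c)).Coprime (Nat.card W) :=
    hrW.coprime_dvd_left (Nat.card_zpowers c ▸ orderOf_dvd_of_pow_eq_one hc)
  have htriv := core N W φ hUn hcW (hcop.coprime_dvd_right hcard) (hrW.coprime_dvd_right hcard)
    fun v hv g hg => by
      obtain ⟨w, rfl⟩ : ∃ w, Abelianization.of w = v := QuotientGroup.mk_surjective v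
      obtain ⟨f, hf, hfD⟩ := CfsgLib.Solvable.exists_fixed_of_fixed_mod (A := zpowers c) (K := W)
        (N := D) (zpowers_le.mpr hcW) hcop' (Or.inr hW) hDW hWD (zpowers_le.mpr (hNW hcW))
        (k := (w : G)) w.2 fun a ha => by
          obtain ⟨n, rfl⟩ := (isOfFinOrder_of_finite c).mem_powers_iff_mem_zpowers.mpr ha
          clear ha
          have h1 : φ (⟨c, hcW⟩ ^ n : N) (Abelianization.of w) = Abelianization.of w := by
            rw [map_pow]
            induction n with
            | zero => simp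
            | succ n ih' => rw [pow_succ, MulAut.mul_apply, hv ⟨c, hcW⟩ rfl, ih']
          rw [hφ, hof] at h1
          exact h1
      have hfw : Abelianization.of (⟨f, hf.1⟩ : W) = Abelianization.of w := by
        rw [hof]
        have := le_normalizer_iff.mp hWD (w : G) w.2 _ hfD
        simpa [mul_assoc] using this
      rw [← hfw, hφ]
      refine congrArg _ (Subtype.ext ?_)
      show (g : G) * f * (g : G)⁻¹ = f
      have hfc : f ∈ centralizer ({c} : Set G) :=
        centralizer_le (Set.singleton_subset_iff.mpr (mem_zpowers c)) hf.2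
      rw [hfix ⟨hf.1, hfc⟩ (g : G) hg, mul_inv_cancel_right]
  specialize htriv hWW₀ fun g hg => MulEquiv.ext fun v => by
    obtain ⟨w, rfl⟩ : ∃ w, Abelianization.of w = v := QuotientGroup.mk_surjective v
    rw [hφ, MulAut.one_apply]
    refine congrArg _ (Subtype.ext ?_)
    show (g : G) * w * (g : G)⁻¹ = w
    rw [← hg (w : G) w.2, mul_inv_cancel_right]
  have hWU : ⁅W, U⁆ ≤ D := by
    rw [commutator_le]
    intro w hw u hu
    have h1 := htriv ⟨u, hUn hu⟩ hu (Abelianization.of ⟨w, hw⟩)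
    rw [hφ, hof] at h1
    have h2 : ((u * w * u⁻¹) * w⁻¹)⁻¹ ∈ D := D.inv_mem h1
    simpa [commutatorElement_def, mul_assoc] using h2
  have hWU0 : ⁅W, U⁆ = ⊥ := by
    rw [← CfsgLib.Solvable.commutator_commutator_eq hUn hcop (Or.inr hW), eq_bot_iff]
    refine (commutator_mono hWU le_rfl).trans (le_of_eq ?_)
    rw [commutator_eq_bot_iff_le_centralizer]
    exact le_centralizer_iff.mp hUD
  rw [commutator_eq_bot_iff_le_centralizer] at hWU0
  exact le_centralizer_iff.mp hWU0

theorem commutator_subgroupOf_eq {H U : Subgroup G} {c : G} (hUH : U ≤ H) (hcH : c ∈ H)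
    (hUc : ⁅U, zpowers c⁆ = U) :
    ⁅U.subgroupOf H, zpowers (⟨c, hcH⟩ : H)⁆ = U.subgroupOf H := by
  refine map_injective H.subtype_injective ?_
  rw [map_commutator, MonoidHom.map_zpowers, map_subgroupOf_eq_of_le hUH]
  exact hUc

/-- An abelian `U = [U,c]` centralizing `C_W(c)` centralizes `W`. -/
theorem le_centralizer_of_abelian_inert {W U : Subgroup G} {c : G} {r : ℕ} (hr : r.Prime)
    (hc : c ^ r = 1) (hW : Group.IsSolvable W) (hUW : (Nat.card U).Coprime (Nat.card W))
    (hrW : r.Coprime (Nat.card W)) (hrU : r.Coprime (Nat.card U)) [IsMulCommutative U]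
    (hcW : c ∈ normalizer (W : Set G)) (hcU : c ∈ normalizer (U : Set G))
    (hUn : U ≤ normalizer (W : Set G)) (hUc : ⁅U, zpowers c⁆ = U)
    (hfix : W ⊓ centralizer ({c} : Set G) ≤ centralizer (U : Set G)) :
    U ≤ centralizer (W : Set G) := by
  refine le_centralizer_of_abelian_case hc hcU (fun H W' φ hUH hcH hco hco' hf _ _ g hg v => ?_) W le_rfl hW
    hUW hrW hcW hUn hfix
  haveI : IsMulCommutative (U.subgroupOf H) :=
    ⟨⟨fun a b => Subtype.ext (Subtype.ext (setLike_mul_comm (s := U) a.2 b.2))⟩⟩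
  refine trivial_action_of_abelian φ hr (c := ⟨c, hcH⟩) (X := U.subgroupOf H)
    (Subtype.ext (by simpa using hc))
    (by rwa [Nat.card_congr (subgroupOfEquivOfLe hUH).toEquiv])
    (by rwa [Nat.card_congr (subgroupOfEquivOfLe hUH).toEquiv])
    (mem_normalizer_iff.mpr fun y => mem_normalizer_iff.mp hcU (y : G))
    (commutator_subgroupOf_eq hUH hcH hUc) (fun v hv x hx => ?_) g hg v
  exact hf v (fun g' hg' => by rw [show g' = ⟨c, hcH⟩ from Subtype.ext hg']; exact hv) x hx

/-- A `q`-group `U = [U,c]` centralizing `C_W(c)` centralizes `W`, if `q` is odd or `U'` centralizes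
`W`. -/
theorem le_centralizer_of_inert {W U : Subgroup G} {c : G} {q r : ℕ} [Fact q.Prime]
    (hr : r.Prime) (hc : c ^ r = 1) (hqr : q ≠ r) (hW : Group.IsSolvable W)
    (hUq : IsPGroup q U) (hq : q ≠ 2 ∨ ⁅U, U⁆ ≤ centralizer (W : Set G))
    (hUW : (Nat.card U).Coprime (Nat.card W)) (hrW : r.Coprime (Nat.card W))
    (hcW : c ∈ normalizer (W : Set G)) (hcU : c ∈ normalizer (U : Set G))
    (hUn : U ≤ normalizer (W : Set G)) (hUc : ⁅U, zpowers c⁆ = U)
    (hfix : W ⊓ centralizer ({c} : Set G) ≤ centralizer (U : Set G)) :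
    U ≤ centralizer (W : Set G) := by
  refine le_centralizer_of_abelian_case hc hcU (fun H W' φ hUH hcH hco hco' hf hle hker g hg v => ?_)
    W le_rfl hW hUW hrW hcW hUn hfix
  refine trivial_action_of_isPGroup φ (c := ⟨c, hcH⟩) (X := U.subgroupOf H) hr
    (Subtype.ext (by simpa using hc)) hqr hco'
    (hUq.of_equiv (subgroupOfEquivOfLe hUH).symm) (hq.imp_right fun h y hy z hz => ?_)
    (by rwa [Nat.card_congr (subgroupOfEquivOfLe hUH).toEquiv])
    (mem_normalizer_iff.mpr fun y => mem_normalizer_iff.mp hcU (y : G))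
    (commutator_subgroupOf_eq hUH hcH hUc) (fun v hv x hx => ?_) g hg v
  · have h1 := hker (y * z * (z * y)⁻¹) ?_
    · rwa [map_mul φ (y * z), map_inv, mul_inv_eq_one] at h1
    · refine centralizer_le hle (h ?_)
      have := commutator_mem_commutator (H₁ := U) (H₂ := U) (g₁ := (y : G)) (g₂ := (z : G)) hy hz
      simpa [commutatorElement_def, mul_assoc] using this
  · exact hf v (fun g' hg' => by rw [show g' = ⟨c, hcH⟩ from Subtype.ext hg']; exact hv) x hx

/-- A `q`-group `U = [U,c]`, `q` odd or `U` abelian, centralizing `C_W(c)` centralizes `W`. -/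
theorem le_centralizer_of_odd_inert {W U : Subgroup G} {c : G} {q r : ℕ} [Fact q.Prime]
    (hr : r.Prime) (hc : c ^ r = 1) (hqr : q ≠ r) (hW : Group.IsSolvable W)
    (hUq : IsPGroup q U) (hq : q ≠ 2 ∨ IsMulCommutative U)
    (hUW : (Nat.card U).Coprime (Nat.card W)) (hrW : r.Coprime (Nat.card W))
    (hcW : c ∈ normalizer (W : Set G)) (hcU : c ∈ normalizer (U : Set G))
    (hUn : U ≤ normalizer (W : Set G)) (hUc : ⁅U, zpowers c⁆ = U)
    (hfix : W ⊓ centralizer ({c} : Set G) ≤ centralizer (U : Set G)) :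
    U ≤ centralizer (W : Set G) :=
  le_centralizer_of_inert hr hc hqr hW hUq (hq.imp_right fun h => by
    haveI := h
    refine (le_of_eq ?_).trans bot_le
    rw [commutator_eq_bot_iff_le_centralizer]
    exact fun x hx y hy => setLike_mul_comm (s := U) hy hx) hUW hrW hcW hcU hUn hUc hfix

/-- Inertness: `X = [X,c]` lies in `O_q(N)` if each element of `C_N(c)` normalizes a `q`-subgroup
containing `X` and either `q` is odd or `N` centralizes `X'`. -/
theorem le_oq_of_inert' {q r : ℕ} [Fact q.Prime] (hr : r.Prime) {N X : Subgroup G} {c : G}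
    (hc : c ^ r = 1) (hqr : q ≠ r) (hN : Group.IsSolvable N) (hXN : X ≤ N) (hXq : IsPGroup q X)
    (hq : q ≠ 2 ∨ ⁅X, X⁆ ≤ centralizer (N : Set G)) (hcN : c ∈ normalizer (N : Set G))
    (hcX : c ∈ normalizer (X : Set G)) (hXc : ⁅X, zpowers c⁆ = X) (hrN : ¬ r ∣ Nat.card N)
    (hE : ∀ t ∈ N ⊓ centralizer ({c} : Set G),
      ∃ E : Subgroup G, IsPGroup q E ∧ X ≤ E ∧ t ∈ normalizer (E : Set G)) :
    X ≤ oq q N := by
  set R := oq q N with hR
  have hNR : normalizer (N : Set G) ≤ normalizer (R : Set G) := normalizer_le_normalizer_oq q N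
  let H := normalizer (R : Set G)
  have hNH : N ≤ H := le_normalizer.trans hNR
  haveI : (R.subgroupOf H).Normal := normal_in_normalizer
  let π : H →* H ⧸ R.subgroupOf H := QuotientGroup.mk' _
  have hπ : ∀ g : H, π g = 1 ↔ (g : G) ∈ R := fun g => by
    rw [← MonoidHom.mem_ker, QuotientGroup.ker_mk', mem_subgroupOf]
  set Nb := (N.subgroupOf H).map π with hNb
  set Xb := (X.subgroupOf H).map π with hXb
  set cb := π ⟨c, hNR hcN⟩ with hcb
  haveI := hN
  have hNbs : Group.IsSolvable Nb :=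
    Group.isSolvable_of_surjective (f := (π.subgroupMap (N.subgroupOf H)).comp
      (subgroupOfEquivOfLe hNH).symm.toMonoidHom)
      ((π.subgroupMap_surjective _).comp (subgroupOfEquivOfLe hNH).symm.surjective)
  have hNbd : Nat.card Nb ∣ Nat.card N := by
    rw [← Nat.card_congr (subgroupOfEquivOfLe hNH).toEquiv]
    exact card_map_dvd _ π
  have hNbO : oq q Nb = ⊥ := by
    rw [eq_bot_iff]
    intro y hy
    obtain ⟨k, hk, rfl⟩ := oq_le q Nb hy
    set P := ((oq q Nb).comap π ⊓ N.subgroupOf H).map H.subtype with hP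
    have hPN : P ≤ N := by
      rw [hP]
      exact (map_mono inf_le_right).trans (map_subgroupOf_eq_of_le hNH).le
    have hPn : N ≤ normalizer (P : Set G) := by
      rw [le_normalizer_iff]
      rintro g hg _ ⟨u, hu, rfl⟩
      refine ⟨⟨g, hNH hg⟩ * u * ⟨g, hNH hg⟩⁻¹, ⟨?_, ?_⟩, rfl⟩
      · show π _ ∈ oq q Nb
        rw [map_mul, map_mul, map_inv]
        exact (mem_normalizer_iff.mp (le_normalizer_oq q Nb
          (mem_map_of_mem π (mem_subgroupOf.mpr hg))) _).mp hu.1
      · exact mem_subgroupOf.mpr (N.mul_mem (N.mul_mem hg hu.2) (N.inv_mem hg))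
    have hPq : IsPGroup q P := (((oq_isPGroup q Nb).comap_of_ker_isPGroup π (by
      rw [QuotientGroup.ker_mk']
      exact (oq_isPGroup q N).of_equiv (subgroupOfEquivOfLe le_normalizer).symm)).to_le
        inf_le_left).map _
    exact mem_bot.mpr ((hπ k).mpr (le_oq_of hPN hPn hPq ⟨k, ⟨hy, hk⟩, rfl⟩))
  have hXbN : Xb ≤ Nb := map_mono (comap_mono hXN)
  have hXbq : IsPGroup q Xb := (hXq.of_equiv (subgroupOfEquivOfLe (hXN.trans hNH)).symm).map π
  set W := opr q Nb with hWdef
  have hWN : W ≤ Nb := opr_le q Nb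
  have hcnb : cb ∈ normalizer (Nb : Set (H ⧸ R.subgroupOf H)) :=
    le_normalizer_map π ⟨⟨c, hNR hcN⟩, mem_normalizer_iff.mpr fun g => mem_normalizer_iff.mp hcN (g : G), rfl⟩
  have hcop : ∀ {K : Subgroup (H ⧸ R.subgroupOf H)}, K ≤ Nb → r.Coprime (Nat.card K) :=
    fun hK => hr.coprime_iff_not_dvd.mpr fun h => hrN (h.trans ((card_dvd_of_le hK).trans hNbd))
  have hcb' : cb ^ r = 1 := by
    rw [hcb, ← map_pow, show (⟨c, hNR hcN⟩ : H) ^ r = 1 from Subtype.ext (by simpa using hc),
      map_one]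
  have hXbc : ⁅Xb, zpowers cb⁆ = Xb := by
    rw [hXb, hcb, ← MonoidHom.map_zpowers, ← map_commutator,
      commutator_subgroupOf_eq (hXN.trans hNH) (hNR hcN) hXc]
  have hfix : W ⊓ centralizer ({cb} : Set (H ⧸ R.subgroupOf H)) ≤
      centralizer (Xb : Set (H ⧸ R.subgroupOf H)) := by
    rintro w ⟨hwW, hwc⟩
    obtain ⟨k, hk, rfl⟩ := hWN hwW
    obtain ⟨t, ht, htk⟩ := CfsgLib.Solvable.exists_fixed_of_fixed_mod (A := zpowers c) (K := N)
      (N := R) (zpowers_le.mpr hcN) (by
        rw [Nat.card_zpowers]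
        exact ((hr.coprime_iff_not_dvd).mpr hrN).coprime_dvd_left (orderOf_dvd_of_pow_eq_one hc))
      (Or.inr hN) (oq_le q N) (le_normalizer.trans hNR) (zpowers_le.mpr (hNR hcN))
      (k := (k : G)) hk fun a ha => by
        obtain ⟨n, rfl⟩ := (isOfFinOrder_of_finite c).mem_powers_iff_mem_zpowers.mpr ha
        refine (hπ (⟨c, hNR hcN⟩ ^ n * k * (⟨c, hNR hcN⟩ ^ n)⁻¹ * k⁻¹)).mp ?_
        have h1 : Commute cb (π k) := mem_centralizer_singleton_iff.mp hwc |>.symm
        rw [map_mul, map_mul, map_mul, map_inv, map_inv, map_pow, ← hcb, (h1.pow_left n).eq]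
        group
    have htc : t ∈ centralizer ({c} : Set G) :=
      centralizer_le (Set.singleton_subset_iff.mpr (mem_zpowers c)) ht.2
    obtain ⟨E, hEq, hXE, htE⟩ := hE t ⟨ht.1, htc⟩
    have hkt : π ⟨t, hNH ht.1⟩ = π k := by
      rw [← inv_mul_eq_one, ← map_inv, ← map_mul, hπ]
      simpa using R.inv_mem htk
    rw [mem_centralizer_iff]
    rintro _ ⟨x, hx, rfl⟩
    have hd : π (x * ⟨t, hNH ht.1⟩ * x⁻¹ * (⟨t, hNH ht.1⟩ : H)⁻¹) ∈ W := by
      rw [map_mul, map_mul, map_mul, map_inv, map_inv, hkt]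
      exact W.mul_mem ((mem_normalizer_iff.mp
        (le_normalizer_opr q Nb (hXbN (mem_map_of_mem π hx))) _).mp hwW) (W.inv_mem hwW)
    have hdE : ((x * ⟨t, hNH ht.1⟩ * x⁻¹ * (⟨t, hNH ht.1⟩ : H)⁻¹ : H) : G) ∈ E := by
      have := E.mul_mem (hXE hx) ((mem_normalizer_iff.mp htE (x : G)⁻¹).mp (E.inv_mem (hXE hx)))
      simpa [mul_assoc] using this
    have hd1 : π (x * ⟨t, hNH ht.1⟩ * x⁻¹ * (⟨t, hNH ht.1⟩ : H)⁻¹) = 1 := by
      obtain ⟨n, hn⟩ := hEq ⟨_, hdE⟩
      refine orderOf_eq_one_iff.mp (Nat.eq_one_of_dvd_coprimes ((opr_coprime q Nb).pow_right n)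
        (Subgroup.orderOf_dvd_natCard W hd) ?_)
      refine orderOf_dvd_of_pow_eq_one ?_
      rw [← map_pow, hπ]
      have := congrArg Subtype.val hn
      simp only [SubmonoidClass.coe_pow, OneMemClass.coe_one] at this
      simpa using this ▸ R.one_mem
    rw [map_mul, map_mul, map_mul, map_inv, map_inv, hkt] at hd1
    calc π x * π k = (π x * π k * (π x)⁻¹ * (π k)⁻¹) * (π k * π x) := by group
      _ = π k * π x := by rw [hd1, one_mul]
  have hXW : Xb ≤ centralizer (W : Set (H ⧸ R.subgroupOf H)) :=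
    le_centralizer_of_inert hr hcb' hqr
      (Group.isSolvable_of_isSolvable_injective (inclusion_injective hWN)) hXbq
      (hq.imp_right fun h => by
        rw [hXb, ← map_commutator, map_le_iff_le_comap]
        intro y hy
        rw [mem_comap, mem_centralizer_iff]
        rintro w hw
        obtain ⟨n, hn, rfl⟩ := hWN hw
        rw [← map_mul, ← map_mul]
        have hy' : (y : G) ∈ ⁅X, X⁆ :=
          commutator_mono ((map_subgroupOf_eq_of_le (hXN.trans hNH)).le) ((map_subgroupOf_eq_of_le (hXN.trans hNH)).le)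
            (map_commutator (X.subgroupOf H) (X.subgroupOf H) H.subtype ▸ mem_map_of_mem H.subtype hy)
        exact congrArg π (Subtype.ext (h hy' (n : G) hn)))
      (by
        obtain ⟨n, hn⟩ := hXbq.exists_card_eq
        rw [hn]
        exact Nat.Coprime.pow_left n (opr_coprime q Nb).symm)
      (hcop hWN) (normalizer_le_normalizer_opr q Nb hcnb)
      (le_normalizer_map π ⟨⟨c, hNR hcN⟩, mem_normalizer_iff.mpr fun g => mem_normalizer_iff.mp hcX (g : G),
        rfl⟩) (hXbN.trans (le_normalizer_opr q Nb)) hXbc hfix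
  have hb : Xb = ⊥ := eq_bot_of_centralizes_oq hNbs hXbN hXbq hNbO fun s hs hsq => by
    haveI := Fact.mk hs
    exact hXW.trans (centralizer_le (oq_le_opr (Ne.symm hsq) Nb))
  intro x hx
  have h1 : π ⟨x, hNH (hXN hx)⟩ ∈ Xb := mem_map_of_mem π (mem_subgroupOf.mpr hx)
  rw [hb, mem_bot, hπ] at h1
  exact h1

/-- Inertness: `X = [X,c]` lies in `O_q(N)` if each element of `C_N(c)` normalizes a `q`-subgroup
containing `X`. -/
theorem le_oq_of_inert {q r : ℕ} [Fact q.Prime] (hr : r.Prime) {N X : Subgroup G} {c : G}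
    (hc : c ^ r = 1) (hqr : q ≠ r) (hN : Group.IsSolvable N) (hXN : X ≤ N) (hXq : IsPGroup q X)
    (hq : q ≠ 2 ∨ IsMulCommutative X) (hcN : c ∈ normalizer (N : Set G))
    (hcX : c ∈ normalizer (X : Set G)) (hXc : ⁅X, zpowers c⁆ = X) (hrN : ¬ r ∣ Nat.card N)
    (hE : ∀ t ∈ N ⊓ centralizer ({c} : Set G),
      ∃ E : Subgroup G, IsPGroup q E ∧ X ≤ E ∧ t ∈ normalizer (E : Set G)) :
    X ≤ oq q N :=
  le_oq_of_inert' hr hc hqr hN hXN hXq (hq.imp_right fun h => by
    haveI := h
    refine (le_of_eq ?_).trans bot_le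
    rw [commutator_eq_bot_iff_le_centralizer]
    exact fun x hx y hy => setLike_mul_comm (s := X) hy hx) hcN hcX hXc hrN hE

end CfsgLib.Signalizer
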