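import Cfsg.Agent.Lib.Signalizer.Core
import Cfsg.Agent.Lib.Signalizer.Inert

/-!
Absorbed subgroups, the meet of the `O_q(K)` and inertness for an arbitrary prime.
-/

set_option autoImplicit false
set_option linter.style.haveILetI false
set_option linter.unusedVariables false
set_option linter.unusedSectionVars false

open scoped Pointwise commutatorElement
open Subgroup

universe u

namespace CfsgLib.Signalizer

section generic

variable {G : Type*} [Group G] [Finite G]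

/-- A `q`-subgroup `Y` of `N` lies in `O_q(N)` if, for each `b` of a noncyclic `r`-group, each
element of `C_N(b)` normalizes a `q`-group over `Y`. -/
theorem le_oq_of_local {q r : ℕ} [Fact q.Prime] [Fact r.Prime] {N Y B : Subgroup G}
    (hB : Cfsg.IsElementaryAbelian r B) (hBc : ¬ IsCyclic B) (hN : Group.IsSolvable N)
    (hrN : ¬ r ∣ Nat.card N) (hBN : B ≤ normalizer (N : Set G)) (hYN : Y ≤ N) (hYq : IsPGroup q Y)
    (hE : ∀ b ∈ B, b ≠ 1 → ∀ t ∈ N ⊓ centralizer ({b} : Set G),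
      ∃ E : Subgroup G, IsPGroup q E ∧ Y ≤ E ∧ t ∈ normalizer (E : Set G)) :
    Y ≤ oq q N := by
  set R := oq q N with hR
  have hNR : normalizer (N : Set G) ≤ normalizer (R : Set G) := normalizer_le_normalizer_oq q N
  let H := normalizer (R : Set G)
  have hNH : N ≤ H := le_normalizer.trans hNR
  haveI : (R.subgroupOf H).Normal := normal_in_normalizer
  let π : H →* H ⧸ R.subgroupOf H := QuotientGroup.mk' _
  have hπ : ∀ g : H, π g = 1 ↔ (g : G) ∈ R := fun g => by
    rw [← MonoidHom.mem_ker, QuotientGroup.ker_mk', mem_subgroupOf]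
  set Nb := (N.subgroupOf H).map π with hNb
  set Yb := (Y.subgroupOf H).map π with hYb
  haveI := hN
  have hNbs : Group.IsSolvable Nb :=
    Group.isSolvable_of_surjective (f := (π.subgroupMap (N.subgroupOf H)).comp
      (subgroupOfEquivOfLe hNH).symm.toMonoidHom)
      ((π.subgroupMap_surjective _).comp (subgroupOfEquivOfLe hNH).symm.surjective)
  have hNbO : oq q Nb = ⊥ := by
    rw [eq_bot_iff]
    intro y hy
    obtain ⟨k, hk, rfl⟩ := oq_le q Nb hy
    set P := ((oq q Nb).comap π ⊓ N.subgroupOf H).map H.subtype with hP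
    have hPN : P ≤ N := by
      rw [hP]
      exact (map_mono inf_le_right).trans (map_subgroupOf_eq_of_le hNH).le
    have hPn : N ≤ normalizer (P : Set G) := by
      rw [le_normalizer_iff]
      rintro g hg _ ⟨u, hu, rfl⟩
      refine ⟨⟨g, hNH hg⟩ * u * ⟨g, hNH hg⟩⁻¹, ⟨?_, ?_⟩, rfl⟩
      · show π _ ∈ oq q Nb
        rw [map_mul, map_mul, map_inv]
        exact (mem_normalizer_iff.mp (le_normalizer_oq q Nb
          (mem_map_of_mem π (mem_subgroupOf.mpr hg))) _).mp hu.1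
      · exact mem_subgroupOf.mpr (N.mul_mem (N.mul_mem hg hu.2) (N.inv_mem hg))
    have hPq : IsPGroup q P := (((oq_isPGroup q Nb).comap_of_ker_isPGroup π (by
      rw [QuotientGroup.ker_mk']
      exact (oq_isPGroup q N).of_equiv (subgroupOfEquivOfLe le_normalizer).symm)).to_le
        inf_le_left).map _
    exact mem_bot.mpr ((hπ k).mpr (le_oq_of hPN hPn hPq ⟨k, ⟨hy, hk⟩, rfl⟩))
  have hYbN : Yb ≤ Nb := map_mono (comap_mono hYN)
  have hYbq : IsPGroup q Yb := (hYq.of_equiv (subgroupOfEquivOfLe (hYN.trans hNH)).symm).map π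
  set W := opr q Nb with hWdef
  -- the preimage of `W`
  set W₀ := (W.comap π ⊓ N.subgroupOf H).map H.subtype with hW₀
  have hW₀N : W₀ ≤ N := (map_mono inf_le_right).trans (map_subgroupOf_eq_of_le hNH).le
  have hBW₀ : B ≤ normalizer (W₀ : Set G) := by
    rw [le_normalizer_iff]
    rintro b hb _ ⟨u, hu, rfl⟩
    have hbN := hBN hb
    have hbH : b ∈ H := hNR hbN
    refine ⟨⟨b, hbH⟩ * u * ⟨b, hbH⟩⁻¹, ⟨?_, ?_⟩, rfl⟩
    · show π _ ∈ W
      have hbNb : π ⟨b, hbH⟩ ∈ normalizer (Nb : Set (H ⧸ R.subgroupOf H)) :=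
        le_normalizer_map π ⟨⟨b, hbH⟩, mem_normalizer_iff.mpr fun g => mem_normalizer_iff.mp hbN (g : G), rfl⟩
      rw [map_mul, map_mul, map_inv]
      exact (mem_normalizer_iff.mp (normalizer_le_normalizer_opr q Nb hbNb) _).mp hu.1
    · exact mem_subgroupOf.mpr ((mem_normalizer_iff.mp hbN _).mp hu.2)
  haveI := hB.1
  have hle : W₀ ≤ ((centralizer (Yb : Set (H ⧸ R.subgroupOf H))).comap π).map H.subtype := by
    refine CfsgLib.Solvable.le_of_centralizer_le hBc hBW₀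
      ((elementary_coprime hB hrN).coprime_dvd_right (card_dvd_of_le hW₀N)) fun b hb hb1 => ?_
    rintro _ ⟨⟨k, hk, rfl⟩, hkb⟩
    refine ⟨k, ?_, rfl⟩
    show π k ∈ centralizer (Yb : Set (H ⧸ R.subgroupOf H))
    obtain ⟨E, hEq, hYE, htE⟩ := hE b hb hb1 k ⟨hk.2, hkb⟩
    rw [mem_centralizer_iff]
    rintro _ ⟨x, hx, rfl⟩
    have hkW : π k ∈ W := hk.1
    have hd : π (x * k * x⁻¹ * k⁻¹) ∈ W := by
      rw [map_mul, map_mul, map_mul, map_inv, map_inv]
      exact W.mul_mem ((mem_normalizer_iff.mp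
        (le_normalizer_opr q Nb (hYbN (mem_map_of_mem π hx))) _).mp hkW) (W.inv_mem hkW)
    have hdE : ((x * k * x⁻¹ * k⁻¹ : H) : G) ∈ E := by
      have := E.mul_mem (hYE hx) ((mem_normalizer_iff.mp htE (x : G)⁻¹).mp (E.inv_mem (hYE hx)))
      simpa [mul_assoc] using this
    have hd1 : π (x * k * x⁻¹ * k⁻¹) = 1 := by
      obtain ⟨n, hn⟩ := hEq ⟨_, hdE⟩
      refine orderOf_eq_one_iff.mp (Nat.eq_one_of_dvd_coprimes ((opr_coprime q Nb).pow_right n)
        (Subgroup.orderOf_dvd_natCard W hd) ?_)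
      refine orderOf_dvd_of_pow_eq_one ?_
      rw [← map_pow, hπ]
      have := congrArg Subtype.val hn
      simp only [SubmonoidClass.coe_pow, OneMemClass.coe_one] at this
      simpa using this ▸ R.one_mem
    rw [map_mul, map_mul, map_mul, map_inv, map_inv] at hd1
    calc π x * π k = (π x * π k * (π x)⁻¹ * (π k)⁻¹) * (π k * π x) := by group
      _ = π k * π x := by rw [hd1, one_mul]
  have hWY : W ≤ centralizer (Yb : Set (H ⧸ R.subgroupOf H)) := by
    intro w hw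
    obtain ⟨k, hk, rfl⟩ := opr_le q Nb hw
    obtain ⟨k', hk', he⟩ := hle ⟨k, ⟨hw, hk⟩, rfl⟩
    obtain rfl : k' = k := Subtype.ext he
    exact hk'
  have hb : Yb = ⊥ := eq_bot_of_centralizes_oq hNbs hYbN hYbq hNbO fun s hs hsq => by
    haveI := Fact.mk hs
    exact (le_centralizer_iff.mp hWY).trans (centralizer_le (oq_le_opr (Ne.symm hsq) Nb))
  intro x hx
  have h1 : π ⟨x, hNH (hYN hx)⟩ ∈ Yb := mem_map_of_mem π (mem_subgroupOf.mpr hx)
  rw [hb, mem_bot, hπ] at h1
  exact h1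

end generic

variable {G : Type u} [Group G] [Finite G] {p : ℕ} [hp : Fact p.Prime] {A : Subgroup G}
  {θ : G → Subgroup G}

/-- Some line through `g` avoids an element outside `⟨g⟩`. -/
theorem exists_line_avoiding (hA : Cfsg.IsElementaryAbelian p A) (hA3 : Nat.card A = p ^ 3)
    {g d : G} (hg : g ∈ A) (hg1 : g ≠ 1) (hd : d ∈ A) (hdg : d ∉ zpowers g) :
    ∃ L, IsLine p A L ∧ g ∈ L ∧ d ∉ L := by
  obtain ⟨e, he, heg⟩ : ∃ e ∈ A, e ∉ zpowers g ⊔ zpowers d := by
    by_contra hcon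
    push Not at hcon
    have hc := card_le_of_le (show A ≤ zpowers g ⊔ zpowers d from hcon)
    rw [hA3, card_sup_zpowers_elementary hA (zpowers_le.mpr hg) hd hdg,
      card_zpowers_elementary hA hg hg1, ← pow_two] at hc
    exact absurd ((Nat.pow_le_pow_iff_right hp.out.one_lt).mp hc) (by norm_num)
  obtain ⟨L, hL, hgL, heL⟩ := exists_line_ge hA hA3 hg he
  refine ⟨L, hL, hgL, fun hdL => heg ?_⟩
  have hle : zpowers g ⊔ zpowers d = L := eq_of_le_of_card_ge
    (sup_le (zpowers_le.mpr hgL) (zpowers_le.mpr hdL)) (by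
      rw [card_sup_zpowers_elementary hA (zpowers_le.mpr hg) hd hdg,
        card_zpowers_elementary hA hg hg1, hL.2, pow_two])
  exact hle ▸ heL

/-- The centralizers of two independent elements of a line centralize the line. -/
theorem IsLine.centralizer_pair_le (hA : Cfsg.IsElementaryAbelian p A) {B : Subgroup G}
    (hB : IsLine p A B) {a b : G} (ha : a ∈ B) (ha1 : a ≠ 1) (hb : b ∈ B) (hba : b ∉ zpowers a) :
    centralizer ({a} : Set G) ⊓ centralizer ({b} : Set G) ≤ centralizer (B : Set G) := by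
  have hsup : zpowers a ⊔ zpowers b = B := by
    refine eq_of_le_of_card_ge (sup_le (zpowers_le.mpr ha) (zpowers_le.mpr hb)) ?_
    rw [card_sup_zpowers_elementary hA (zpowers_le.mpr (hB.1 ha)) (hB.1 hb) hba,
      card_zpowers_elementary hA (hB.1 ha) ha1, hB.2, pow_two]
  rintro x ⟨hxa, hxb⟩
  have hle : B ≤ centralizer ({x} : Set G) := by
    rw [← hsup]
    exact sup_le (zpowers_le.mpr (mem_centralizer_singleton_iff.mpr (hxa a rfl)))
      (zpowers_le.mpr (mem_centralizer_singleton_iff.mpr (hxb b rfl)))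
  exact fun y hy => mem_centralizer_singleton_iff.mp (hle hy)

/-- `[K,g]` is generated by the commutators of `g` with the centralizers of the lines avoiding `g`. -/
theorem commutator_le_iSup_lines (hA : Cfsg.IsElementaryAbelian p A) (hA3 : Nat.card A = p ^ 3)
    {K : Subgroup G} (hKs : Group.IsSolvable K) (hK : ¬ p ∣ Nat.card K)
    (hAK : A ≤ normalizer (K : Set G)) {g : G} (hg : g ∈ A) :
    ⁅K, zpowers g⁆ ≤ ⨆ B : {B : Subgroup G // IsLine p A B ∧ g ∉ B},
      ⁅K ⊓ centralizer ((B : Subgroup G) : Set G), zpowers g⁆ := by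
  by_cases hg1 : g = 1
  · subst hg1
    simp
  obtain ⟨L, hL, hgL, -⟩ := exists_line_ge hA hA3 hg hg
  refine (commutator_le_iSup_commutator hA hL.1 hL.2 hgL hg1 hKs hK hAK).trans
    (iSup_le fun ⟨d, hdL, hdg⟩ => ?_)
  haveI := hKs
  obtain ⟨L', hL', hgL', hdL'⟩ := exists_line_avoiding hA hA3 hg hg1 (hL.1 hdL) hdg
  refine (commutator_le_iSup_commutator hA hL'.1 hL'.2 hgL' hg1
    (Group.isSolvable_of_isSolvable_injective
      (inclusion_injective (inf_le_left : K ⊓ centralizer ({d} : Set G) ≤ K)))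
    (not_dvd_of_le inf_le_left hK) (le_normalizer_inf_centralizer_elem hA hAK (hL.1 hdL))).trans
    (iSup_le fun ⟨e, heL', heg⟩ => ?_)
  obtain ⟨B, hB, hdB, heB⟩ := exists_line_ge hA hA3 (hL.1 hdL) (hL'.1 heL')
  have hd1 : d ≠ 1 := fun h => hdg (h ▸ (zpowers g).one_mem)
  have he1 : e ≠ 1 := fun h => heg (h ▸ (zpowers g).one_mem)
  have hgB : g ∉ B := fun hgB => hdL' (by
    rw [← hB.eq_of_mem hA hA3 hL' hgB hgL' heB heL' hg1 heg]
    exact hdB)
  have hed : e ∉ zpowers d := fun hed => hdL' (by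
    have hz : zpowers e = zpowers d := eq_of_le_of_card_ge (zpowers_le.mpr hed) (by
      rw [card_zpowers_elementary hA (hL'.1 heL') he1, card_zpowers_elementary hA (hL.1 hdL) hd1])
    exact zpowers_le.mpr heL' (hz.symm ▸ mem_zpowers d))
  refine le_trans (commutator_mono ?_ le_rfl) (le_iSup (fun B :
    {B : Subgroup G // IsLine p A B ∧ g ∉ B} =>
      ⁅K ⊓ centralizer ((B : Subgroup G) : Set G), zpowers g⁆) ⟨B, hB, hgB⟩)
  rintro x ⟨⟨hxK, hxd⟩, hxe⟩
  exact ⟨hxK, hB.centralizer_pair_le hA hdB hd1 heB hed ⟨hxd, hxe⟩⟩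

namespace IsMinimalIncomplete

/-- `θ a` is generated by the values at the lines through `a`. -/
theorem theta_le_of_lines (h : IsMinimalIncomplete p A θ) {a : G} (ha : a ∈ A) (ha1 : a ≠ 1)
    {W : Subgroup G} (hW : ∀ L, IsLine p A L → a ∈ L → Cfsg.signalizerInf L θ ≤ W) : θ a ≤ W := by
  have hθa := functor_mem_family h.functor ha ha1
  refine le_of_lines h.elem h.card_eq (family_not_dvd hθa) (family_le_normalizer hθa) fun B hB => ?_
  by_cases haB : a ∈ B
  · exact (family_inf_centralizer_le hθa hB.1).trans (hW B hB haB)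
  obtain ⟨L, hL, haL, -⟩ := exists_line_ge h.elem h.card_eq ha ha
  refine le_trans ?_ ((family_inf_centralizer_le hθa hL.1).trans (hW L hL haL))
  refine le_inf inf_le_left (le_trans (le_inf inf_le_right
    (inf_le_left.trans (functor_le_centralizer h.functor ha ha1))) ?_)
  rw [hB.centralizer_inf h.elem h.card_eq ha haB]
  exact centralizer_le hL.1

theorem fixed_le_signalizerInf (h : IsMinimalIncomplete p A θ) {L : Subgroup G}
    (hL : IsLine p A L) : Cfsg.signalizerInf A θ ≤ Cfsg.signalizerInf L θ :=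
  le_signalizerInf fun b hb hb1 => functor_mem_fixed_le (hL.1 hb) hb1

theorem oq_le_omegaQ (h : IsMinimalIncomplete p A θ) {q : ℕ} [Fact q.Prime] (hqp : q ≠ p)
    {M : Subgroup G} (hM : M ∈ Cfsg.signalizerFamily p A θ) (hD : Cfsg.signalizerInf A θ ≤ M) :
    oq q M ≤ omegaQ p A θ q :=
  h.le_omegaQ hqp (family_oq hM q) (oq_isPGroup q M) (hD.trans (le_normalizer_oq q M))

/-- A `q`-subgroup of a member lies in `O_q` if, on a line, it lies in `q`-groups normalized by the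
values. -/
theorem le_oq_of_line (h : IsMinimalIncomplete p A θ) {q : ℕ} [Fact q.Prime] {N Y B : Subgroup G}
    (hN : N ∈ Cfsg.signalizerFamily p A θ) (hB : IsLine p A B) (hYN : Y ≤ N) (hYq : IsPGroup q Y)
    (hW : ∀ b ∈ B, b ≠ 1 → ∃ W : Subgroup G, IsPGroup q W ∧ Y ≤ W ∧
      θ b ≤ normalizer (W : Set G)) :
    Y ≤ oq q N := by
  refine le_oq_of_local (elementary_of_le h.elem hB.1) (hB.not_isCyclic h.elem)
    (family_isSolvable hN) (family_not_dvd hN) (hB.1.trans (family_le_normalizer hN)) hYN hYq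
    fun b hb hb1 t ht => ?_
  obtain ⟨W, hWq, hYW, hθW⟩ := hW b hb hb1
  exact ⟨W, hWq, hYW, hθW (family_inf_le hN (hB.1 hb) hb1 ht)⟩

/-- The same for `K` with `O_q(K) ≠ 1`, without assuming `Y ≤ K`. -/
theorem le_oq_of_line_omegaQ (h : IsMinimalIncomplete p A θ) {q : ℕ} [Fact q.Prime] (hqp : q ≠ p)
    {K Y B : Subgroup G} (hK : IsQMax p A θ q K) (hB : IsLine p A B)
    (hY : Y ∈ Cfsg.signalizerFamily p A θ)
    (hW : ∀ b ∈ B, b ≠ 1 → ∃ W : Subgroup G, W ≤ omegaQ p A θ q ∧ Y ≤ W ∧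
      θ b ≤ normalizer (W : Set G)) :
    Y ≤ oq q K := by
  obtain ⟨b₀, hb₀, hb₀1⟩ := hB.exists_ne_one
  obtain ⟨W₀, hW₀Ω, hYW₀, -⟩ := hW b₀ hb₀ hb₀1
  set R := oq q K with hR
  have hRΩ : R ≤ omegaQ p A θ q := h.oq_le_omegaQ hqp hK.1.1 hK.2.1
  have hAR : A ≤ normalizer (R : Set G) := family_le_normalizer (family_oq hK.1.1 q)
  set H := R ⊔ Y with hH
  have hHΩ : H ≤ omegaQ p A θ q := sup_le hRΩ (hYW₀.trans hW₀Ω)
  have hAH : A ≤ normalizer (H : Set G) := le_normalizer_sup hAR (family_le_normalizer hY)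
  have hHf : H ∈ Cfsg.signalizerFamily p A θ := family_of_le (h.omegaQ_mem_family q) hHΩ hAH
  have hHq : IsPGroup q H := (h.omegaQ_isPGroup q).to_le hHΩ
  have hZ : normalizer (R : Set G) ⊓ H ≤ K := by
    refine h.le_max_of_normalizes hK.1 (oq_le q K) hAR (le_normalizer_oq q K) hK.2.2
      (family_of_le hHf inf_le_right ?_) inf_le_left
    exact le_normalizer_inf (hAR.trans le_normalizer) hAH
  have hHK : H ⊓ K ≤ R := by
    refine le_oq_of_local (elementary_of_le h.elem hB.1) (hB.not_isCyclic h.elem)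
      hK.1.solvable hK.1.not_dvd (hB.1.trans hK.1.le_normalizer') inf_le_right
      (hHq.to_le inf_le_left) fun b hb hb1 t ht => ?_
    obtain ⟨W, hWΩ, hYW, hθW⟩ := hW b hb hb1
    refine ⟨R ⊔ W, (h.omegaQ_isPGroup q).to_le (sup_le hRΩ hWΩ),
      inf_le_left.trans (sup_le_sup_left hYW R), ?_⟩
    exact normalizer_inf_normalizer_le_normalizer_sup R W
      ⟨le_normalizer_oq q K ht.1, hθW (family_inf_le hK.1.1 (hB.1 hb) hb1 ht)⟩
  have hRH : R = H := by
    by_contra hne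
    exact inf_lt_normalizer hHq le_sup_left hne ((le_inf inf_le_right hZ).trans hHK)
  exact (le_sup_right : Y ≤ H).trans hRH.ge

end IsMinimalIncomplete

namespace IsAbsorbed

variable {q : ℕ} [Fact q.Prime] {B U : Subgroup G}

theorem ne_bot (hU : IsAbsorbed p A θ q B U) : U ≠ ⊥ := fun h0 =>
  hU.moved (h0 ▸ bot_le)

theorem isPGroup (hU : IsAbsorbed p A θ q B U) : IsPGroup q U := by
  obtain ⟨b, hb, hb1⟩ := hU.line.exists_ne_one
  exact (oq_isPGroup q (θ b)).to_le (hU.le_oq b hb hb1)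

theorem ne_prime (hU : IsAbsorbed p A θ q B U) : q ≠ p := by
  intro hqp
  obtain ⟨n, hn⟩ := hU.isPGroup.exists_card_eq
  rcases Nat.eq_zero_or_pos n with h0 | h0
  · exact hU.ne_bot (card_eq_one.mp (by rw [hn, h0, pow_zero]))
  · refine family_not_dvd hU.mem ?_
    rw [hn, hqp]
    exact dvd_pow_self p h0.ne'

theorem le_oq_of_theta (h : IsMinimalIncomplete p A θ) (hU : IsAbsorbed p A θ q B U) {b : G}
    (hb : b ∈ B) (hb1 : b ≠ 1) {M : Subgroup G} (hM : M ∈ Cfsg.signalizerFamily p A θ)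
    (hθ : θ b ≤ M) : U ≤ oq q M :=
  h.le_oq_of_line hM hU.line (((hU.le_oq b hb hb1).trans (oq_le q _)).trans hθ) hU.isPGroup
    fun b' hb' hb'1 => ⟨oq q (θ b'), oq_isPGroup q _, hU.le_oq b' hb' hb'1, le_normalizer_oq q _⟩

theorem isQPoint (h : IsMinimalIncomplete p A θ) (hU : IsAbsorbed p A θ q B U) {b : G}
    (hb : b ∈ B) (hb1 : b ≠ 1) : IsQPoint p A θ q b := by
  obtain ⟨M, hM, hθM⟩ := exists_isMaxMember_ge
    (functor_mem_family h.functor (hU.line.1 hb) hb1)
  refine ⟨M, ⟨hM, (functor_mem_fixed_le (hU.line.1 hb) hb1).trans hθM, fun h0 => hU.ne_bot ?_⟩, hθM⟩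
  exact le_bot_iff.mp ((hU.le_oq_of_theta h hb hb1 hM.1 hθM).trans h0.le)

theorem le_rbar (h : IsMinimalIncomplete p A θ) (hU : IsAbsorbed p A θ q B U) :
    U ≤ rbar p A θ q :=
  CfsgLib.Signalizer.le_rbar fun K hK => h.le_oq_of_line_omegaQ hU.ne_prime hK hU.line hU.mem
    fun b hb hb1 => ⟨oq q (θ b), h.oq_le_omegaQ hU.ne_prime
      (functor_mem_family h.functor (hU.line.1 hb) hb1) (functor_mem_fixed_le (hU.line.1 hb) hb1),
      hU.le_oq b hb hb1, le_normalizer_oq q _⟩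

end IsAbsorbed

namespace IsMinimalIncomplete

variable {q : ℕ} [Fact q.Prime]

theorem rbar_mem_family (h : IsMinimalIncomplete p A θ) {K : Subgroup G}
    (hK : IsQMax p A θ q K) : rbar p A θ q ∈ Cfsg.signalizerFamily p A θ := by
  refine family_of_le (family_oq hK.1.1 q) (rbar_le hK) ?_
  rw [le_normalizer_iff]
  intro a ha x hx
  rw [rbar, mem_iInf] at hx ⊢
  exact fun K' => le_normalizer_iff.mp (family_le_normalizer (family_oq K'.2.1.1 q)) a ha x (hx K')

theorem rbar_isPGroup (h : IsMinimalIncomplete p A θ) {K : Subgroup G}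
    (hK : IsQMax p A θ q K) : IsPGroup q (rbar p A θ q) :=
  (oq_isPGroup q K).to_le (rbar_le hK)

theorem rbar_inf_le_oq (h : IsMinimalIncomplete p A θ) {B : Subgroup G} (hB : IsLine p A B)
    (hpt : ∀ b ∈ B, b ≠ 1 → IsQPoint p A θ q b) {N : Subgroup G}
    (hN : N ∈ Cfsg.signalizerFamily p A θ) : rbar p A θ q ⊓ N ≤ oq q N := by
  obtain ⟨b₀, hb₀, hb₀1⟩ := hB.exists_ne_one
  obtain ⟨K₀, hK₀, -⟩ := hpt b₀ hb₀ hb₀1
  refine h.le_oq_of_line hN hB inf_le_right ((h.rbar_isPGroup hK₀).to_le inf_le_left)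
    fun b hb hb1 => ?_
  obtain ⟨K, hK, hθK⟩ := hpt b hb hb1
  exact ⟨oq q K, oq_isPGroup q K, inf_le_left.trans (rbar_le hK),
    hθK.trans (le_normalizer_oq q K)⟩

theorem signalizerInf_le_normalizer_rbar (h : IsMinimalIncomplete p A θ) (hqp : q ≠ p)
    {L : Subgroup G} (hL : IsLine p A L) (hpt : ∀ b ∈ L, b ≠ 1 → IsQPoint p A θ q b) :
    Cfsg.signalizerInf L θ ≤ normalizer (rbar p A θ q : Set G) := by
  set S := {K : Subgroup G // IsQMax p A θ q K ∧ ∃ b ∈ L, b ≠ 1 ∧ θ b ≤ K}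
  set Y := ⨅ K : S, oq q (K : Subgroup G) with hY
  obtain ⟨b₀, hb₀, hb₀1⟩ := hL.exists_ne_one
  obtain ⟨K₀, hK₀, hθK₀⟩ := hpt b₀ hb₀ hb₀1
  have hY0 : Y ≤ oq q K₀ :=
    iInf_le (fun K : S => oq q (K : Subgroup G)) ⟨K₀, hK₀, b₀, hb₀, hb₀1, hθK₀⟩
  have hn : ∀ U : Subgroup G, (∀ K : S, U ≤ normalizer (oq q (K : Subgroup G) : Set G)) →
      U ≤ normalizer (Y : Set G) := by
    intro U hU
    rw [le_normalizer_iff]
    intro a ha x hx
    rw [hY, mem_iInf] at hx ⊢
    exact fun K => le_normalizer_iff.mp (hU K) a ha x (hx K)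
  have hYf : Y ∈ Cfsg.signalizerFamily p A θ := family_of_le (family_oq hK₀.1.1 q) hY0
    (hn A fun K => family_le_normalizer (family_oq K.2.1.1.1 q))
  have hθY : Cfsg.signalizerInf L θ ≤ normalizer (Y : Set G) := hn _ fun K => by
    obtain ⟨b, hb, hb1, hθ⟩ := K.2.2
    exact ((signalizerInf_le hb hb1).trans hθ).trans (le_normalizer_oq q _)
  have heq : Y = rbar p A θ q := by
    refine le_antisymm (CfsgLib.Signalizer.le_rbar fun K' hK' =>
      h.le_oq_of_line_omegaQ hqp hK' hL hYf fun b hb hb1 => ?_) (le_iInf fun K => rbar_le K.2.1)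
    obtain ⟨K, hK, hθK⟩ := hpt b hb hb1
    exact ⟨oq q K, h.oq_le_omegaQ hqp hK.1.1 hK.2.1,
      iInf_le (fun K : S => oq q (K : Subgroup G)) ⟨K, hK, b, hb, hb1, hθK⟩,
      hθK.trans (le_normalizer_oq q K)⟩
  exact heq ▸ hθY

theorem rbar_eq_bot (h : IsMinimalIncomplete p A θ) (hqp : q ≠ p)
    (hall : ∀ a ∈ A, a ≠ 1 → IsQPoint p A θ q a) : rbar p A θ q = ⊥ := by
  obtain ⟨a₀, ha₀, ha₀1⟩ := exists_ne_one_of_card_le (n := 3) (by norm_num) h.card_eq.ge
  obtain ⟨K₀, hK₀, -⟩ := hall a₀ ha₀ ha₀1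
  refine h.eq_bot_of_normalized (h.rbar_mem_family hK₀) fun a ha ha1 => ?_
  exact h.theta_le_of_lines ha ha1 fun L hL _ =>
    h.signalizerInf_le_normalizer_rbar hqp hL fun b hb hb1 => hall b (hL.1 hb) hb1

theorem rbar_inf_centralizer_eq_bot (h : IsMinimalIncomplete p A θ) {B : Subgroup G}
    (hB : IsLine p A B) (hpt : ∀ b ∈ B, b ≠ 1 → IsQPoint p A θ q b) {g : G} (hg : g ∈ A)
    (hg1 : g ≠ 1) (hgn : ¬ IsQPoint p A θ q g) :
    rbar p A θ q ⊓ centralizer ({g} : Set G) = ⊥ := by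
  obtain ⟨b₀, hb₀, hb₀1⟩ := hB.exists_ne_one
  obtain ⟨K₀, hK₀, -⟩ := hpt b₀ hb₀ hb₀1
  obtain ⟨N, hN, hθN⟩ := exists_isMaxMember_ge (functor_mem_family h.functor hg hg1)
  have hN0 : oq q N = ⊥ := by
    by_contra hne
    exact hgn ⟨N, ⟨hN, (functor_mem_fixed_le hg hg1).trans hθN, hne⟩, hθN⟩
  rw [eq_bot_iff, ← hN0]
  exact (le_inf inf_le_left ((family_inf_le (h.rbar_mem_family hK₀) hg hg1).trans hθN)).trans
    (h.rbar_inf_le_oq hB hpt hN.1)

/-- Inertness: a piece `X = [X,c]` of `O_q(K)`, `θ c ≤ K`, is absorbed on a line avoiding `c`. -/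
theorem isAbsorbed_of_inert (h : IsMinimalIncomplete p A θ) {c : G} (hc : c ∈ A) (hc1 : c ≠ 1)
    {K : Subgroup G} (hK : IsMaxMember p A θ K) (hcK : θ c ≤ K) {X B : Subgroup G}
    (hB : IsLine p A B) (hcB : c ∉ B) (hX : X ≤ oq q K) (hAX : A ≤ normalizer (X : Set G))
    (hXB : X ≤ centralizer (B : Set G)) (hXc : ⁅X, zpowers c⁆ = X)
    (hq : q ≠ 2 ∨ IsMulCommutative X) (hne : X ≠ ⊥) : IsAbsorbed p A θ q B X := by
  have hXf : X ∈ Cfsg.signalizerFamily p A θ := family_of_le hK.1 (hX.trans (oq_le q K)) hAX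
  have hXq : IsPGroup q X := (oq_isPGroup q K).to_le hX
  have hqp : q ≠ p := by
    intro hqp
    obtain ⟨n, hn⟩ := hXq.exists_card_eq
    rcases Nat.eq_zero_or_pos n with h0 | h0
    · exact hne (card_eq_one.mp (by rw [hn, h0, pow_zero]))
    · refine family_not_dvd hXf ?_
      rw [hn, hqp]
      exact dvd_pow_self p h0.ne'
  refine ⟨hB, hXf, hXB, fun hXA => hne ?_, fun b hb hb1 => ?_⟩
  · rw [← hXc]
    exact commutator_eq_bot_of_le_centralizer_singleton
      (hXA.trans (centralizer_le (Set.singleton_subset_iff.mpr hc)))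
  have hθb := functor_mem_family h.functor (hB.1 hb) hb1
  refine le_oq_of_inert hp.out (h.elem.2 c hc) hqp (family_isSolvable hθb)
    ((le_inf le_rfl (hXB.trans (centralizer_le (Set.singleton_subset_iff.mpr hb)))).trans
      (family_inf_le hXf (hB.1 hb) hb1)) hXq hq (family_le_normalizer hθb hc) (hAX hc) hXc
    (family_not_dvd hθb) fun t ht => ⟨oq q K, oq_isPGroup q K, hX, ?_⟩
  exact le_normalizer_oq q K (hcK (family_inf_le hθb hc hc1 ht))

theorem isAbsorbed_piece (h : IsMinimalIncomplete p A θ) {c : G} (hc : c ∈ A) (hc1 : c ≠ 1)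
    {K : Subgroup G} (hK : IsMaxMember p A θ K) (hcK : θ c ≤ K) {B : Subgroup G}
    (hB : IsLine p A B) (hcB : c ∉ B) (hq : q ≠ 2)
    (hne : ⁅oq q K ⊓ centralizer (B : Set G), zpowers c⁆ ≠ ⊥) :
    IsAbsorbed p A θ q B ⁅oq q K ⊓ centralizer (B : Set G), zpowers c⁆ := by
  have hV := family_oq hK.1 q
  have hAV : A ≤ normalizer ((oq q K ⊓ centralizer (B : Set G) : Subgroup G) : Set G) :=
    le_normalizer_inf_centralizer h.elem (family_le_normalizer hV) hB.1
  have hle := commutator_zpowers_le (hAV hc)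
  exact h.isAbsorbed_of_inert hc hc1 hK hcK hB hcB (hle.trans inf_le_left)
    (le_normalizer_commutator_elem h.elem hAV hc) (hle.trans inf_le_right)
    (commutator_idem h.elem (not_dvd_of_le inf_le_left (family_not_dvd hV)) hAV hc) (Or.inl hq) hne

theorem exists_isAbsorbed_of_moved (h : IsMinimalIncomplete p A θ) {c : G} (hc : c ∈ A)
    (hc1 : c ≠ 1) {K : Subgroup G} (hK : IsMaxMember p A θ K) (hcK : θ c ≤ K) (hq : q ≠ 2)
    (hmoved : ¬ oq q K ≤ centralizer ({c} : Set G)) :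
    ∃ B U, IsAbsorbed p A θ q B U := by
  have hV := family_oq hK.1 q
  by_contra hcon
  push Not at hcon
  refine hmoved (le_centralizer_singleton_of_commutator_eq_bot (le_bot_iff.mp ?_))
  refine (commutator_le_iSup_lines h.elem h.card_eq (family_isSolvable hV) (family_not_dvd hV)
    (family_le_normalizer hV) hc).trans (iSup_le fun B => ?_)
  by_contra hne
  exact hcon _ _ (h.isAbsorbed_piece hc hc1 hK hcK B.2.1 B.2.2 hq fun h0 => hne h0.le)

theorem commutator_oq_le_rbar (h : IsMinimalIncomplete p A θ) {c : G} (hc : c ∈ A) (hc1 : c ≠ 1)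
    {K : Subgroup G} (hK : IsMaxMember p A θ K) (hcK : θ c ≤ K) (hq : q ≠ 2) :
    ⁅oq q K, zpowers c⁆ ≤ rbar p A θ q := by
  have hV := family_oq hK.1 q
  refine (commutator_le_iSup_lines h.elem h.card_eq (family_isSolvable hV) (family_not_dvd hV)
    (family_le_normalizer hV) hc).trans (iSup_le fun B => ?_)
  by_cases hne : ⁅oq q K ⊓ centralizer ((B : Subgroup G) : Set G), zpowers c⁆ = ⊥
  · exact hne.le.trans bot_le
  · exact (h.isAbsorbed_piece hc hc1 hK hcK B.2.1 B.2.2 hq hne).le_rbar h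

end IsMinimalIncomplete

end CfsgLib.Signalizer
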