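import Cfsg.Agent.Lib.Signalizer.Basic
import Cfsg.Agent.Lib.OddOrder.PPrime
import Cfsg.Agent.Lib.Components.GenFitting

/-!
`O_q` and `O_{q'}` of a subgroup, as subgroups of the ambient group.
-/

set_option autoImplicit false
set_option linter.style.haveILetI false
set_option linter.unusedVariables false
set_option linter.unusedSectionVars false

open scoped Pointwise commutatorElement
open Subgroup

namespace CfsgLib.Signalizer

variable {G : Type*} [Group G]

/-- `O_q(M)` inside the ambient group. -/
def oq (q : ℕ) (M : Subgroup G) : Subgroup G := (Cfsg.pCore q M).map M.subtype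

/-- `O_{q'}(M)` inside the ambient group. -/
def opr (q : ℕ) (M : Subgroup G) : Subgroup G := (Cfsg.pPrimeCore q M).map M.subtype

/-- The centre of `O_q(M)`. -/
def zq (q : ℕ) (M : Subgroup G) : Subgroup G := oq q M ⊓ centralizer (oq q M : Set G)

theorem oq_le (q : ℕ) (M : Subgroup G) : oq q M ≤ M := map_subtype_le _

theorem opr_le (q : ℕ) (M : Subgroup G) : opr q M ≤ M := map_subtype_le _

theorem zq_le_oq (q : ℕ) (M : Subgroup G) : zq q M ≤ oq q M := inf_le_left

theorem zq_le (q : ℕ) (M : Subgroup G) : zq q M ≤ M := (zq_le_oq q M).trans (oq_le q M)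

theorem zq_le_centralizer (q : ℕ) (M : Subgroup G) : zq q M ≤ centralizer (oq q M : Set G) :=
  inf_le_right

theorem oq_le_centralizer_zq (q : ℕ) (M : Subgroup G) :
    oq q M ≤ centralizer (zq q M : Set G) := le_centralizer_iff.mp inf_le_right

theorem map_subtype_characteristic (M : Subgroup G) {C : Subgroup M} (hC : C.Characteristic) :
    normalizer (M : Set G) ≤ normalizer (C.map M.subtype : Set G) := by
  intro g hg
  rw [mem_normalizer_iff_map_conj_eq] at hg ⊢
  let e : M ≃* M :=
    (M.equivMapOfInjective (MulAut.conj g).toMonoidHom (MulAut.conj g).injective).trans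
      (MulEquiv.subgroupCongr hg)
  have h1 : M.subtype.comp e.toMonoidHom = (MulAut.conj g).toMonoidHom.comp M.subtype :=
    MonoidHom.ext fun x => rfl
  calc (C.map M.subtype).map (MulAut.conj g).toMonoidHom
      = (C.map e.toMonoidHom).map M.subtype := by rw [map_map, map_map, h1]
    _ = C.map M.subtype := by rw [characteristic_iff_map_eq.mp hC e]

theorem normalizer_le_normalizer_oq (q : ℕ) (M : Subgroup G) :
    normalizer (M : Set G) ≤ normalizer (oq q M : Set G) := by
  refine map_subtype_characteristic M (characteristic_iff_map_eq.mpr fun e => ?_)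
  exact CfsgLib.Components.pCore_map_equiv q e

theorem normalizer_le_normalizer_opr (q : ℕ) (M : Subgroup G) :
    normalizer (M : Set G) ≤ normalizer (opr q M : Set G) := by
  refine map_subtype_characteristic M (characteristic_iff_map_eq.mpr fun e => ?_)
  exact CfsgLib.Components.pPrimeCore_map_equiv q e

theorem le_normalizer_oq (q : ℕ) (M : Subgroup G) : M ≤ normalizer (oq q M : Set G) :=
  le_normalizer.trans (normalizer_le_normalizer_oq q M)

theorem le_normalizer_opr (q : ℕ) (M : Subgroup G) : M ≤ normalizer (opr q M : Set G) :=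
  le_normalizer.trans (normalizer_le_normalizer_opr q M)

theorem normalizer_le_normalizer_centralizer (S : Subgroup G) :
    normalizer (S : Set G) ≤ normalizer (centralizer (S : Set G) : Set G) := by
  rw [le_normalizer_iff]
  intro g hg x hx
  rw [mem_centralizer_iff] at hx ⊢
  intro s hs
  have h1 : g⁻¹ * s * g ∈ S := by
    simpa using (mem_normalizer_iff.mp (inv_mem hg) s).mp hs
  calc s * (g * x * g⁻¹) = g * ((g⁻¹ * s * g) * x) * g⁻¹ := by group
    _ = g * (x * (g⁻¹ * s * g)) * g⁻¹ := by rw [hx _ h1]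
    _ = g * x * g⁻¹ * s := by group

theorem normalizer_le_normalizer_inf_centralizer (S : Subgroup G) :
    normalizer (S : Set G) ≤ normalizer ((S ⊓ centralizer (S : Set G) : Subgroup G) : Set G) :=
  fun _ hg => inf_normalizer_le_normalizer_inf ⟨hg, normalizer_le_normalizer_centralizer S hg⟩

theorem normalizer_le_normalizer_zq (q : ℕ) (M : Subgroup G) :
    normalizer (M : Set G) ≤ normalizer (zq q M : Set G) :=
  (normalizer_le_normalizer_oq q M).trans (normalizer_le_normalizer_inf_centralizer _)

theorem le_normalizer_zq (q : ℕ) (M : Subgroup G) : M ≤ normalizer (zq q M : Set G) :=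
  le_normalizer.trans (normalizer_le_normalizer_zq q M)

variable [Finite G]

theorem oq_isPGroup (q : ℕ) (M : Subgroup G) : IsPGroup q (oq q M) :=
  (CfsgLib.Components.isPGroup_pCore q).map _

theorem zq_isPGroup (q : ℕ) (M : Subgroup G) : IsPGroup q (zq q M) :=
  (oq_isPGroup q M).to_le (zq_le_oq q M)

theorem opr_coprime (q : ℕ) (M : Subgroup G) : (Nat.card (opr q M)).Coprime q := by
  rw [opr, card_map_of_injective M.subtype_injective]
  exact CfsgLib.Components.coprime_card_pPrimeCore q

theorem le_oq_of {q : ℕ} {U M : Subgroup G} (hU : U ≤ M) (hn : M ≤ normalizer (U : Set G))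
    (hq : IsPGroup q U) : U ≤ oq q M := by
  rw [oq, ← map_subgroupOf_eq_of_le hU]
  exact map_mono (CfsgLib.Components.le_pCore_of_normal ((normal_subgroupOf_iff_le_normalizer hU).mpr hn)
    (hq.of_equiv (subgroupOfEquivOfLe hU).symm))

theorem le_opr_of {q : ℕ} {U M : Subgroup G} (hU : U ≤ M) (hn : M ≤ normalizer (U : Set G))
    (hq : (Nat.card U).Coprime q) : U ≤ opr q M := by
  rw [opr, ← map_subgroupOf_eq_of_le hU]
  refine map_mono (CfsgLib.Components.le_pPrimeCore_of_normal
    ((normal_subgroupOf_iff_le_normalizer hU).mpr hn) ?_)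
  rwa [Nat.card_congr (subgroupOfEquivOfLe hU).toEquiv]

theorem coprime_of_isPGroup {q r : ℕ} [Fact q.Prime] [Fact r.Prime] (hqr : q ≠ r) {U : Subgroup G}
    (hU : IsPGroup r U) : (Nat.card U).Coprime q := by
  obtain ⟨n, hn⟩ := hU.exists_card_eq
  rw [hn]
  exact ((Nat.coprime_primes Fact.out Fact.out).mpr hqr.symm).pow_left n

theorem inf_eq_bot_of_isPGroup {q r : ℕ} [Fact q.Prime] [Fact r.Prime] (hqr : q ≠ r)
    {U V : Subgroup G} (hU : IsPGroup q U) (hV : IsPGroup r V) : U ⊓ V = ⊥ :=
  inf_eq_bot_of_coprime (by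
    obtain ⟨n, hn⟩ := hU.exists_card_eq
    obtain ⟨m, hm⟩ := hV.exists_card_eq
    rw [hn, hm]
    exact Nat.Coprime.pow n m ((Nat.coprime_primes Fact.out Fact.out).mpr hqr))

theorem oq_le_opr {q r : ℕ} [Fact q.Prime] [Fact r.Prime] (hqr : q ≠ r) (M : Subgroup G) :
    oq r M ≤ opr q M :=
  le_opr_of (oq_le r M) (le_normalizer_oq r M) (coprime_of_isPGroup hqr (oq_isPGroup r M))

/-- Two subgroups that normalise each other and meet trivially commute. -/
theorem le_centralizer_of_normalize {X Y : Subgroup G} (hX : X ≤ normalizer (Y : Set G))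
    (hY : Y ≤ normalizer (X : Set G)) (h : X ⊓ Y = ⊥) : X ≤ centralizer (Y : Set G) := by
  intro x hx y hy
  have h1 : y * x * y⁻¹ * x⁻¹ ∈ X :=
    X.mul_mem (le_normalizer_iff.mp hY y hy x hx) (X.inv_mem hx)
  have h2 : y * x * y⁻¹ * x⁻¹ ∈ Y := by
    have := Y.mul_mem hy (le_normalizer_iff.mp hX x hx _ (Y.inv_mem hy))
    simpa [mul_assoc] using this
  have h3 : y * x * y⁻¹ * x⁻¹ = 1 := by
    have h4 : y * x * y⁻¹ * x⁻¹ ∈ X ⊓ Y := ⟨h1, h2⟩
    rwa [h, mem_bot] at h4
  calc y * x = (y * x * y⁻¹ * x⁻¹) * (x * y) := by group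
    _ = x * y := by rw [h3, one_mul]

theorem oq_le_centralizer_opr (q : ℕ) [Fact q.Prime] (M : Subgroup G) :
    oq q M ≤ centralizer (opr q M : Set G) :=
  le_centralizer_of_normalize ((oq_le q M).trans (le_normalizer_opr q M))
    ((opr_le q M).trans (le_normalizer_oq q M)) (inf_eq_bot_of_coprime (by
      obtain ⟨n, hn⟩ := (oq_isPGroup q M).exists_card_eq
      rw [hn]
      exact (Nat.Coprime.pow_left n (opr_coprime q M).symm)))

theorem oq_le_centralizer_oq {q r : ℕ} [Fact q.Prime] [Fact r.Prime] (hqr : q ≠ r) (M : Subgroup G) :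
    oq q M ≤ centralizer (oq r M : Set G) :=
  (oq_le_centralizer_opr q M).trans (centralizer_le (oq_le_opr hqr M))

/-- In a solvable group the centralizer of the Fitting subgroup lies in it. -/
theorem le_of_centralizes_oq {M X U : Subgroup G} (hM : Group.IsSolvable M) (hX : X ≤ M)
    (hC : ∀ r : ℕ, r.Prime → X ≤ centralizer (oq r M : Set G))
    (hU : ∀ r : ℕ, r.Prime → zq r M ≤ U) : X ≤ U := by
  haveI := hM
  set F := (Cfsg.fittingSubgroup M).map M.subtype with hF
  have hFle : ∀ (S : Subgroup G), (∀ r : ℕ, r.Prime → oq r M ≤ S) → F ≤ S := by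
    intro S hS
    rw [hF, map_le_iff_le_comap]
    refine CfsgLib.Components.fitting_le_of_pCore_le fun r hr => ?_
    rw [← map_le_iff_le_comap]
    exact hS r hr
  have hXF : X ≤ centralizer (F : Set G) :=
    le_centralizer_iff.mp (hFle _ fun r hr => le_centralizer_iff.mp (hC r hr))
  have hXF' : X ≤ F := by
    intro x hx
    refine ⟨⟨x, hX hx⟩, CfsgLib.Components.centralizer_fitting_le_of_isSolvable ?_, rfl⟩
    exact fun y hy => Subtype.ext (hXF hx y (mem_map_of_mem M.subtype hy))
  have hZ : X ≤ F ⊓ centralizer (F : Set G) := le_inf hXF' hXF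
  refine hZ.trans ?_
  -- the centre of the nilpotent group `F` is generated by the centres of the `O_r`
  set W := F ⊓ centralizer (F : Set G) with hW
  have hWM : W ≤ M := inf_le_left.trans (map_subtype_le _)
  intro w hw
  have key : ∀ r : ℕ, r.Prime → ∀ y : G, y ∈ W → IsPGroup r (zpowers y) → y ∈ U := by
    intro r hr y hy hyp
    haveI := Fact.mk hr
    refine hU r hr ⟨?_, fun z hz => hy.2 z ?_⟩
    · have hn : M ≤ normalizer (W : Set G) := le_normalizer.trans
        ((map_subtype_characteristic M (characteristic_iff_map_eq.mpr fun e => CfsgLib.Components.fitting_map_equiv e)).trans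
          (normalizer_le_normalizer_inf_centralizer _))
      have hsub : (zpowers y).subgroupOf M ≤ Cfsg.pCore r M := by
        haveI : (W.subgroupOf M).Normal := (normal_subgroupOf_iff_le_normalizer hWM).mpr hn
        have hsn : ((zpowers y).subgroupOf M).IsSubnormal := by
          refine CfsgLib.Components.isSubnormal_of_le_normalizer
            (K := W.subgroupOf M) (fun z hz => ?_) ?_ (Normal.isSubnormal inferInstance)
          · exact mem_subgroupOf.mpr ((zpowers_le.mpr hy) (mem_subgroupOf.mp hz))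
          · intro z hz
            refine centralizer_le_normalizer _ fun u hu => Subtype.ext ?_
            have huW : (u : G) ∈ W := (zpowers_le.mpr hy) (mem_subgroupOf.mp hu)
            exact (mem_subgroupOf.mp hz).2 _ huW.1
        exact CfsgLib.Components.le_pCore_of_isSubnormal hsn
          (hyp.comap_of_injective _ M.subtype_injective)
      exact ⟨⟨y, hWM hy⟩, hsub (mem_subgroupOf.mpr (mem_zpowers y)), rfl⟩
    · obtain ⟨z, hz', rfl⟩ := hz
      exact ⟨z, CfsgLib.Components.pCore_le_fitting r hz', rfl⟩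
  -- split `w` into its prime power parts
  have hsplit : ∀ n : ℕ, ∀ y : G, y ∈ W → orderOf y = n → y ∈ U := by
    intro n
    induction n using Nat.strong_induction_on with
    | _ n ih =>
    intro y hy hn
    by_cases h1 : n = 1
    · rw [h1, orderOf_eq_one_iff] at hn
      rw [hn]
      exact U.one_mem
    obtain ⟨r, hr, hrn⟩ := Nat.exists_prime_and_dvd h1
    haveI := Fact.mk hr
    obtain ⟨k, m, hm, hkm⟩ := Nat.exists_eq_pow_mul_and_not_dvd (n := n)
      (by rw [← hn]; exact (orderOf_pos y).ne') r hr.ne_one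
    have hk : k ≠ 0 := fun h => hm (by
      have h' := hrn
      rw [hkm, h, pow_zero, one_mul] at h'
      exact h')
    have hcop : (r ^ k).Coprime m := Nat.Coprime.pow_left k ((hr.coprime_iff_not_dvd).mpr hm)
    have hg := Nat.gcd_eq_gcd_ab (r ^ k) m
    rw [hcop.gcd_eq_one, Nat.cast_one] at hg
    have hy' : y = (y ^ (r ^ k)) ^ Nat.gcdA (r ^ k) m * (y ^ m) ^ Nat.gcdB (r ^ k) m := by
      rw [← zpow_natCast y (r ^ k), ← zpow_natCast y m, ← zpow_mul, ← zpow_mul, ← zpow_add,
        ← hg, zpow_one]
    rw [hy']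
    refine U.mul_mem (U.zpow_mem (ih _ ?_ _ (W.pow_mem hy _) rfl) _) (U.zpow_mem ?_ _)
    · rw [orderOf_pow, hn, hkm, Nat.gcd_eq_right (dvd_mul_right _ _),
        Nat.mul_div_cancel_left _ (pow_pos hr.pos k)]
      refine lt_mul_of_one_lt_left (Nat.pos_of_ne_zero fun h => hm (by rw [h]; exact dvd_zero r)) ?_
      exact Nat.one_lt_pow hk hr.one_lt
    · refine key r hr _ (W.pow_mem hy _) (IsPGroup.of_card (n := k) ?_)
      rw [Nat.card_zpowers, orderOf_pow, hn, hkm, Nat.gcd_eq_right (dvd_mul_left _ _),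
        Nat.mul_div_cancel _ (Nat.pos_of_ne_zero fun h => hm (by rw [h]; exact dvd_zero r))]
  exact hsplit _ w hw rfl

end CfsgLib.Signalizer
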