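import Cfsg.Agent.Lib.Signalizer.NilpBound
import Cfsg.Agent.Lib.Signalizer.SubCore
import Cfsg.Agent.Lib.Solvable.CoprimeAbelian
import Cfsg.Agent.Lib.Solvable.Core
import Cfsg.Agent.Lib.Transfer.PGroup

/-!
A nilpotent group of odd order acting faithfully on a nilpotent group `V` of odd order on which two
commuting involutions `a`, `b` act, such that it fixes the fixed points of `a`: then it has at most
half the order of `|C_V(b) : D| * |C_V(ab) : D|`, `D` the common fixed points.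
-/

set_option autoImplicit false
set_option linter.style.haveILetI false
set_option linter.unusedVariables false
set_option linter.unusedSectionVars false

open scoped Pointwise commutatorElement
open Subgroup

namespace CfsgLib.Signalizer

variable {G : Type*} [Group G] [Finite G]

theorem isNilpotent_of_le {U W : Subgroup G} (hW : Group.IsNilpotent W) (h : U ≤ W) :
    Group.IsNilpotent U :=
  haveI := hW
  Group.nilpotent_of_mulEquiv (subgroupOfEquivOfLe h)

/-- Three fixed point subgroups of a four-group on an abelian group of odd order. -/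
theorem card_mul_sq_le_of_four {V : Subgroup G} (hV : IsMulCommutative V) (hVo : Odd (Nat.card V))
    {a b : G} (ha : a * a = 1) (hb : b * b = 1) (hab : Commute a b)
    (haV : a ∈ normalizer (V : Set G)) (hbV : b ∈ normalizer (V : Set G)) :
    Nat.card V * Nat.card ↥(V ⊓ centralizer {a} ⊓ centralizer {b}) ^ 2 ≤
      Nat.card ↥(V ⊓ centralizer {a}) *
        (Nat.card ↥(V ⊓ centralizer {b}) * Nat.card ↥(V ⊓ centralizer {a * b})) := by
  classical
  letI : CommGroup V :=
    { (inferInstance : Group V) with mul_comm := fun u v => Subtype.ext (setLike_mul_comm u.2 v.2) }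
  set Ca := V ⊓ centralizer ({a} : Set G) with hCa
  set Cb := V ⊓ centralizer ({b} : Set G) with hCb
  set Cc := V ⊓ centralizer ({a * b} : Set G) with hCc
  set D := Ca ⊓ centralizer ({b} : Set G) with hD
  let f : Ca × Cb × Cc →* V :=
    (inclusion (inf_le_left : Ca ≤ V)).coprod
      ((inclusion (inf_le_left : Cb ≤ V)).coprod (inclusion (inf_le_left : Cc ≤ V)))
  have hc : (a * b) * (a * b) = 1 := by
    calc (a * b) * (a * b) = a * (b * a) * b := by group
      _ = (a * a) * (b * b) := by rw [← hab.eq]; group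
      _ = 1 := by rw [ha, hb, one_mul]
  have hcV : a * b ∈ normalizer (V : Set G) := mul_mem haV hbV
  have hconj : ∀ {t : G}, t ∈ normalizer (V : Set G) → ∀ v ∈ V, t * v * t⁻¹ ∈ V := fun ht v hv =>
    (mem_normalizer_iff.1 ht v).1 hv
  -- `v * t v t⁻¹` is fixed by `t`
  have hfixed : ∀ {t : G}, t * t = 1 → t ∈ normalizer (V : Set G) → ∀ v ∈ V,
      v * (t * v * t⁻¹) ∈ V ⊓ centralizer ({t} : Set G) := by
    intro t ht htV v hv
    refine ⟨mul_mem hv (hconj htV v hv), mem_centralizer_singleton_iff.2 ?_⟩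
    rw [setLike_mul_comm hv (hconj htV v hv)]
    have hti : t⁻¹ = t := inv_eq_of_mul_eq_one_left ht
    calc t * v * t⁻¹ * v * t = t * (v * (t * v * t⁻¹)) := by rw [hti]; simp [mul_assoc]
      _ = t * (t * v * t⁻¹ * v) := by rw [setLike_mul_comm hv (hconj htV v hv)]
  have hsurj : Function.Surjective f := by
    rw [← MonoidHom.range_eq_top, eq_top_iff]
    intro v _
    have hsq : v ^ 2 ∈ f.range := by
      set x := (v : G) * (a * v * a⁻¹) with hx
      set y := (v : G) * (b * v * b⁻¹) with hy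
      set z := (v : G) * ((a * b) * v * (a * b)⁻¹) with hz
      have hxa := hfixed ha haV v v.2
      have hyb := hfixed hb hbV v v.2
      have hzc := hfixed hc hcV v v.2
      set w := (v : G) * (a * v * a⁻¹) * (b * v * b⁻¹) * ((a * b) * v * (a * b)⁻¹) with hw
      have m0 := v.2
      have m1 := hconj haV v v.2
      have m2 := hconj hbV v v.2
      have m3 := hconj hcV v v.2
      have hwV : w ∈ V := mul_mem (mul_mem (mul_mem m0 m1) m2) m3
      have hwc : a * b * w * (a * b)⁻¹ = w := by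
        have e : a * b * w * (a * b)⁻¹ = ((a * b) * v * (a * b)⁻¹) * (b * v * b⁻¹) *
            (a * v * a⁻¹) * v := by
          have hai : a⁻¹ = a := inv_eq_of_mul_eq_one_left ha
          have hbi : b⁻¹ = b := inv_eq_of_mul_eq_one_left hb
          have hba : b * a = a * b := hab.eq.symm
          have e1 : a * b * (a * v * a⁻¹) * (a * b)⁻¹ = b * v * b⁻¹ := by
            calc a * b * (a * v * a⁻¹) * (a * b)⁻¹ = a * (b * a) * v * (a⁻¹ * b⁻¹) * a⁻¹ := by group
              _ = a * (a * b) * v * (b⁻¹ * a⁻¹) * a⁻¹ := by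
                  rw [hba, hai, hbi, ← hab.eq]
              _ = (a * a) * b * v * b⁻¹ * (a * a)⁻¹ := by group
              _ = b * v * b⁻¹ := by rw [ha]; group
          have e2 : a * b * (b * v * b⁻¹) * (a * b)⁻¹ = a * v * a⁻¹ := by
            calc a * b * (b * v * b⁻¹) * (a * b)⁻¹ = a * (b * b) * v * (b * b)⁻¹ * a⁻¹ := by group
              _ = a * v * a⁻¹ := by rw [hb]; group
          have e3 : a * b * ((a * b) * v * (a * b)⁻¹) * (a * b)⁻¹ = v := by
            calc a * b * ((a * b) * v * (a * b)⁻¹) * (a * b)⁻¹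
                = (a * b * (a * b)) * v * (a * b * (a * b))⁻¹ := by group
              _ = v := by rw [hc]; group
          calc a * b * w * (a * b)⁻¹ = (a * b * v * (a * b)⁻¹) * (a * b * (a * v * a⁻¹) * (a * b)⁻¹) *
              (a * b * (b * v * b⁻¹) * (a * b)⁻¹) *
              (a * b * ((a * b) * v * (a * b)⁻¹) * (a * b)⁻¹) := by rw [hw]; group
            _ = _ := by rw [e1, e2, e3]
        rw [e, hw]
        have : (⟨_, m3⟩ : V) * ⟨_, m2⟩ * ⟨_, m1⟩ * v = v * ⟨_, m1⟩ * ⟨_, m2⟩ * ⟨_, m3⟩ := by ac_rfl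
        exact congrArg Subtype.val this
      have hwC : w⁻¹ ∈ Cc := inv_mem ⟨hwV, mem_centralizer_singleton_iff.2
        (mul_inv_eq_iff_eq_mul.1 hwc).symm⟩
      refine ⟨(⟨x, hxa⟩, ⟨y, hyb⟩, ⟨z * w⁻¹, mul_mem hzc hwC⟩), ?_⟩
      have hxV : (⟨x, hxa.1⟩ : V) = v * ⟨_, m1⟩ := rfl
      have hyV : (⟨y, hyb.1⟩ : V) = v * ⟨_, m2⟩ := rfl
      have hzV : (⟨z * w⁻¹, mul_mem hzc.1 (inv_mem hwV)⟩ : V) =
          v * ⟨_, m3⟩ * (v * ⟨_, m1⟩ * ⟨_, m2⟩ * ⟨_, m3⟩)⁻¹ := rfl
      change (⟨x, hxa.1⟩ : V) * (⟨y, hyb.1⟩ * ⟨z * w⁻¹, mul_mem hzc.1 (inv_mem hwV)⟩) = v ^ 2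
      rw [hxV, hyV, hzV]
      generalize (⟨_, m1⟩ : V) = p1
      generalize (⟨_, m2⟩ : V) = p2
      generalize (⟨_, m3⟩ : V) = p3
      rw [mul_inv_rev, mul_inv_rev, mul_inv_rev, pow_two]
      calc v * p1 * (v * p2 * (v * p3 * (p3⁻¹ * (p2⁻¹ * (p1⁻¹ * v⁻¹)))))
          = (p1 * p1⁻¹) * (p2 * p2⁻¹) * (p3 * p3⁻¹) * (v * v⁻¹) * (v * v) := by ac_rfl
        _ = v * v := by simp
    obtain ⟨k, hk⟩ : Odd (orderOf v) := hVo.of_dvd_nat (orderOf_dvd_natCard v)
    have : (v ^ 2) ^ (k + 1) = v := by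
      rw [← pow_mul, show 2 * (k + 1) = orderOf v + 1 by omega, pow_succ, pow_orderOf_eq_one,
        one_mul]
    exact this ▸ pow_mem hsq _
  have hker : Nat.card D * Nat.card D ≤ Nat.card f.ker := by
    rw [← Nat.card_prod]
    have hDa : D ≤ Ca := inf_le_left
    have hDb : D ≤ Cb := fun x hx => ⟨hx.1.1, hx.2⟩
    have hDc : D ≤ Cc := fun x hx => ⟨hx.1.1, mem_centralizer_singleton_iff.2 (by
      have h1 : Commute x a := mem_centralizer_singleton_iff.1 hx.1.2
      have h2 : Commute x b := mem_centralizer_singleton_iff.1 hx.2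
      exact (h1.mul_right h2).eq)⟩
    refine Nat.card_le_card_of_injective (fun p : D × D => (⟨(inclusion hDa p.1,
      inclusion hDb (p.1⁻¹ * p.2), inclusion hDc p.2⁻¹), ?_⟩ : f.ker)) ?_
    · rw [MonoidHom.mem_ker]
      refine Subtype.ext ?_
      show (p.1 : G) * (((p.1 : G)⁻¹ * p.2) * (p.2 : G)⁻¹) = 1
      group
    · rintro ⟨p1, p2⟩ ⟨q1, q2⟩ h
      have h' := congrArg Subtype.val h
      simp only [Prod.mk.injEq] at h'
      exact Prod.ext (inclusion_injective hDa h'.1) (inv_injective (inclusion_injective hDc h'.2.2))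
  have h := f.ker.card_mul_index
  rw [Subgroup.index_ker, MonoidHom.range_eq_top.2 hsurj, Subgroup.card_top, Nat.card_prod,
    Nat.card_prod] at h
  rw [← h, pow_two, mul_comm]
  exact Nat.mul_le_mul_right _ hker

/-- The abelian case. -/
theorem two_mul_card_le_of_four_abelian {P V : Subgroup G} {a b : G} (hP : Group.IsNilpotent P)
    (hPo : Odd (Nat.card P)) (hV : IsMulCommutative V) (hVo : Odd (Nat.card V))
    (hPV : P ≤ normalizer (V : Set G)) (hcop : (Nat.card P).Coprime (Nat.card V))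
    (hfaith : P ⊓ centralizer (V : Set G) = ⊥) (hP1 : P ≠ ⊥) (ha : a * a = 1) (hb : b * b = 1)
    (hab : Commute a b) (haV : a ∈ normalizer (V : Set G)) (hbV : b ∈ normalizer (V : Set G))
    (hfix : V ⊓ centralizer {a} ≤ centralizer (P : Set G)) :
    2 * Nat.card P * Nat.card ↥(V ⊓ centralizer {a} ⊓ centralizer {b}) ^ 2 ≤
      Nat.card ↥(V ⊓ centralizer {b}) * Nat.card ↥(V ⊓ centralizer {a * b}) := by
  haveI := hV
  set C := V ⊓ centralizer (P : Set G) with hC
  set W := ⁅V, P⁆ with hW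
  have hWV : W ≤ V := CfsgLib.Solvable.commutator_le_of_normalizes hPV
  have hsup := CfsgLib.Solvable.centralizer_sup_commutator_eq hPV hcop
  have hinf := CfsgLib.Solvable.centralizer_inf_commutator_eq_bot hPV hcop
  have hfW : P ⊓ centralizer (W : Set G) = ⊥ := by
    rw [eq_bot_iff, ← hfaith]
    refine le_inf inf_le_left (le_centralizer_iff.2 ?_)
    rw [← hsup]
    exact sup_le ((inf_le_right).trans (centralizer_le inf_le_left))
      (le_centralizer_iff.2 inf_le_right)
  have hWne : W ≠ ⊥ := fun h0 => hP1 (le_bot_iff.1 (by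
    rw [← hfW]
    exact le_inf le_rfl fun x _ y hy => by rw [h0] at hy; simp [mem_bot.1 hy]))
  have h2 := two_mul_card_le_of_nilpotent_odd hP hPo
    (⟨⟨fun u v => Subtype.ext (setLike_mul_comm (hWV u.2) (hWV v.2))⟩⟩ : IsMulCommutative W)
    (hVo.of_dvd_nat (card_dvd_of_le hWV))
    (CfsgLib.Solvable.le_normalizer_commutator_right V P) (hcop.coprime_dvd_right (card_dvd_of_le hWV))
    hfW hWne
  have hCW : Nat.card C * Nat.card W ≤ Nat.card V := by
    rw [← Nat.card_prod]
    refine Nat.card_le_card_of_injective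
      (fun u : C × W => (⟨(u.1 : G) * u.2, mul_mem u.1.2.1 (hWV u.2.2)⟩ : V)) ?_
    rintro ⟨x, y⟩ ⟨x', y'⟩ h
    have h' : (x : G) * y = x' * y' := congrArg Subtype.val h
    have h1 : (x' : G)⁻¹ * x = y' * (y : G)⁻¹ := by
      rw [eq_mul_inv_iff_mul_eq, mul_assoc, h', inv_mul_cancel_left]
    have h3 : (x' : G)⁻¹ * x ∈ C ⊓ W :=
      ⟨C.mul_mem (C.inv_mem x'.2) x.2, h1 ▸ W.mul_mem y'.2 (W.inv_mem y.2)⟩
    rw [hinf, mem_bot] at h3
    have hx : (x : G) = x' := (inv_mul_eq_one.1 h3).symm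
    rw [hx] at h'
    exact Prod.ext (Subtype.ext hx) (Subtype.ext (mul_left_cancel h'))
  have hle : Nat.card ↥(V ⊓ centralizer {a}) ≤ Nat.card C :=
    card_le_of_le (le_inf inf_le_left hfix)
  have hfour := card_mul_sq_le_of_four hV hVo ha hb hab haV hbV
  refine Nat.le_of_mul_le_mul_left ?_
    (Nat.card_pos : 0 < Nat.card ↥(V ⊓ centralizer ({a} : Set G)))
  refine le_trans ?_ hfour
  rw [← mul_assoc]
  refine Nat.mul_le_mul_right _ ?_
  calc Nat.card ↥(V ⊓ centralizer {a}) * (2 * Nat.card P) ≤ Nat.card C * Nat.card W :=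
        Nat.mul_le_mul hle h2
    _ ≤ Nat.card V := hCW

/-- The nilpotent case, by passing to the Frattini quotient. -/
theorem two_mul_card_le_of_four {P V : Subgroup G} {a b : G} (hP : Group.IsNilpotent P)
    (hPo : Odd (Nat.card P)) (hV : Group.IsNilpotent V) (hVo : Odd (Nat.card V))
    (hPV : P ≤ normalizer (V : Set G)) (hcop : (Nat.card P).Coprime (Nat.card V))
    (hfaith : P ⊓ centralizer (V : Set G) = ⊥) (hP1 : P ≠ ⊥) (ha : a * a = 1) (hb : b * b = 1)
    (hab : Commute a b) (haV : a ∈ normalizer (V : Set G)) (hbV : b ∈ normalizer (V : Set G))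
    (hfix : V ⊓ centralizer {a} ≤ centralizer (P : Set G)) :
    2 * Nat.card P * Nat.card ↥(V ⊓ centralizer {a} ⊓ centralizer {b}) ^ 2 ≤
      Nat.card ↥(V ⊓ centralizer {b}) * Nat.card ↥(V ⊓ centralizer {a * b}) := by
  classical
  haveI := hV
  set H := normalizer (V : Set G) with hH
  set Φ := (frattini V).map V.subtype with hΦ
  have hΦV : Φ ≤ V := map_subtype_le _
  have hHΦ : H ≤ normalizer (Φ : Set G) := map_subtype_characteristic V inferInstance
  have hVH : V ≤ H := le_normalizer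
  haveI : (Φ.subgroupOf H).Normal :=
    (normal_subgroupOf_iff_le_normalizer (hΦV.trans hVH)).mpr hHΦ
  set π := QuotientGroup.mk' (Φ.subgroupOf H) with hπ
  have hker : ∀ x : H, π x = 1 ↔ (x : G) ∈ Φ := fun x => by
    rw [hπ, QuotientGroup.mk'_apply, QuotientGroup.eq_one_iff, mem_subgroupOf]
  let im : Subgroup G → Subgroup (H ⧸ Φ.subgroupOf H) := fun S => (S.subgroupOf H).map π
  have hmem : ∀ {S : Subgroup G} (x : H), (x : G) ∈ S → π x ∈ im S := fun x hx =>
    mem_map_of_mem π (mem_subgroupOf.2 hx)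
  have hcardim : ∀ {S : Subgroup G}, S ≤ H →
      Nat.card (im S) * Nat.card ↥(Φ ⊓ S) = Nat.card S := by
    intro S hS
    have h := (π.comp (S.subgroupOf H).subtype).ker.card_mul_index
    rw [Subgroup.index_ker, MonoidHom.range_comp, range_subtype, mul_comm,
      Nat.card_congr (subgroupOfEquivOfLe hS).toEquiv] at h
    rw [← h]
    congr 1
    refine (Nat.card_congr ⟨fun x => ⟨((x : S.subgroupOf H) : H), (hker _).1 x.2,
        mem_subgroupOf.1 x.1.2⟩, fun y => ⟨⟨⟨y, hS y.2.2⟩, mem_subgroupOf.2 y.2.2⟩,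
        (hker _).2 y.2.1⟩, fun x => rfl, fun y => rfl⟩).symm
  have hPH : P ≤ H := hPV
  set A' : H := ⟨a, haV⟩ with hA'
  set B' : H := ⟨b, hbV⟩ with hB'
  set Pq := im P with hPq
  set Vq := im V with hVq
  have hΦcop : (Nat.card P).Coprime (Nat.card Φ) := hcop.coprime_dvd_right (card_dvd_of_le hΦV)
  have hPcard : Nat.card Pq = Nat.card P := by
    have h := hcardim hPH
    rw [inf_eq_bot_of_coprime hΦcop.symm, card_bot, mul_one] at h
    exact h
  have hPnil : Group.IsNilpotent Pq := by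
    haveI : Group.IsNilpotent (P.subgroupOf H) :=
      haveI := hP
      Group.nilpotent_of_mulEquiv (subgroupOfEquivOfLe hPH).symm
    exact Group.nilpotent_of_surjective (π.subgroupMap (P.subgroupOf H)) (π.subgroupMap_surjective _)
  have hVab : IsMulCommutative Vq := by
    refine ⟨⟨?_⟩⟩
    rintro ⟨_, x, hx, rfl⟩ ⟨_, y, hy, rfl⟩
    refine Subtype.ext ?_
    show π x * π y = π y * π x
    rw [← map_mul, ← map_mul, ← mul_inv_eq_one, ← map_inv, ← map_mul, hker]
    have h1 : ⁅(⟨x, hx⟩ : V), ⟨y, hy⟩⁆ ∈ frattini V := by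
      refine CfsgLib.Transfer.commutator_le_frattini ?_
      rw [commutator_def]
      exact commutator_mem_commutator (mem_top _) (mem_top _)
    refine ⟨_, h1, ?_⟩
    simp [commutatorElement_def, mul_assoc]
  have hVqo : Odd (Nat.card Vq) := hVo.of_dvd_nat ⟨_, (hcardim hVH).symm⟩
  have hVn : (Vq : Subgroup (H ⧸ Φ.subgroupOf H)).Normal := by
    haveI : (V.subgroupOf H).Normal := normal_in_normalizer
    exact (inferInstance : (V.subgroupOf H).Normal).map π (QuotientGroup.mk'_surjective _)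
  have hnorm : ∀ q, q ∈ normalizer (Vq : Set (H ⧸ Φ.subgroupOf H)) := fun q => by
    rw [normalizer_eq_top_iff.mpr hVn]; exact mem_top q
  have hcopq : (Nat.card Pq).Coprime (Nat.card Vq) := by
    rw [hPcard]
    exact hcop.coprime_dvd_right ⟨_, (hcardim hVH).symm⟩
  have hfaithq : Pq ⊓ centralizer (Vq : Set (H ⧸ Φ.subgroupOf H)) = ⊥ := by
    rw [eq_bot_iff]
    rintro _ ⟨⟨x, hx, rfl⟩, hxc⟩
    have hz : zpowers (x : G) ≤ P := zpowers_le.2 hx
    have hle := CfsgLib.Solvable.le_centralizer_of_trivial_on_frattini_quotient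
      (A := zpowers (x : G)) (K := V) ?_ ?_
    · have h1 : (x : G) ∈ P ⊓ centralizer (V : Set G) := ⟨hx, hle (mem_zpowers _)⟩
      rw [hfaith, mem_bot] at h1
      rw [mem_bot, show x = 1 from Subtype.ext h1, map_one]
    · exact ((hcop.coprime_dvd_left (card_dvd_of_le hz)).coprime_dvd_right
        (card_subgroup_dvd_card _))
    · intro t ht k hk
      obtain ⟨n, rfl⟩ := mem_zpowers_iff.1 ht
      have hxk : π (x ^ n) * π ⟨k, hVH hk⟩ = π ⟨k, hVH hk⟩ * π (x ^ n) := by
        rw [map_zpow]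
        exact ((show Commute (π x) (π ⟨k, hVH hk⟩) from
          (hxc _ (hmem ⟨k, hVH hk⟩ hk)).symm).zpow_left n).eq
      rw [← map_mul, ← map_mul, ← mul_inv_eq_one, ← map_inv, ← map_mul, hker] at hxk
      have hxk' : ((x : G) ^ n * k) * (k * (x : G) ^ n)⁻¹ ∈ Φ := hxk
      rw [mul_inv_rev, ← mul_assoc] at hxk'
      exact hxk'
  have hPq1 : Pq ≠ ⊥ := by
    intro h0
    rw [h0, card_bot] at hPcard
    exact hP1 (card_eq_one.1 hPcard.symm)
  have hinv : ∀ {t : H}, t * t = 1 → π t * π t = 1 := fun {t} ht => by rw [← map_mul, ht, map_one]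
  have ha' : A' * A' = 1 := Subtype.ext ha
  have hb' : B' * B' = 1 := Subtype.ext hb
  -- fixed points lift
  have hCim : ∀ {t : H}, (t : G) * t = 1 →
      Vq ⊓ centralizer {π t} ≤ im (V ⊓ centralizer {(t : G)}) := by
    rintro t ht _ ⟨⟨x, hx, rfl⟩, hxc⟩
    have hxa : (x : G) * t * ((t : G) * x)⁻¹ ∈ Φ := by
      have h := mem_centralizer_singleton_iff.1 hxc
      rw [← map_mul, ← map_mul, ← mul_inv_eq_one, ← map_inv, ← map_mul, hker] at h
      exact h
    have hord : orderOf (t : G) ∣ 2 := orderOf_dvd_of_pow_eq_one (by rw [pow_two, ht])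
    have hacop : (Nat.card (zpowers (t : G))).Coprime (Nat.card V) := by
      rw [Nat.card_zpowers]
      exact (Nat.coprime_two_left.2 hVo).coprime_dvd_left hord
    obtain ⟨d, hd, hd'⟩ := CfsgLib.Solvable.exists_fixed_mem_coset (zpowers_le.2 t.2) hΦV
      (zpowers_le.2 (hHΦ t.2)) hacop
      (Or.inl (Group.isSolvable_of_comm fun u v => Subtype.ext (setLike_mul_comm u.2 v.2)))
      hx (x := (x : G)) (by
        intro s hs
        obtain ⟨n, rfl⟩ := mem_zpowers_iff.1 hs
        have hai : (t : G)⁻¹ = t := inv_eq_of_mul_eq_one_left ht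
        have h2 : (t : G) ^ (2 : ℤ) = 1 := by
          rw [show (2 : ℤ) = ((2 : ℕ) : ℤ) by rfl, zpow_natCast, pow_two, ht]
        rcases Int.even_or_odd' n with ⟨m, rfl | rfl⟩
        · simp [zpow_mul, h2]
        · rw [show (t : G) ^ (2 * m + 1) = t by simp [zpow_add, zpow_mul, h2]]
          have h3 := (mem_normalizer_iff.1 (hHΦ (hVH (V.inv_mem hx))) _).1 (Φ.inv_mem hxa)
          simpa [mul_assoc] using h3)
    refine ⟨x * ⟨d, hVH (hΦV hd)⟩, mem_subgroupOf.2 ⟨hd'.1,
      centralizer_le (Set.singleton_subset_iff.2 (mem_zpowers (t : G))) hd'.2⟩, ?_⟩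
    rw [map_mul, (hker ⟨d, hVH (hΦV hd)⟩).2 hd, mul_one]
  have hfixq : Vq ⊓ centralizer {π A'} ≤ centralizer (Pq : Set (H ⧸ Φ.subgroupOf H)) := by
    refine (hCim (t := A') ha).trans ?_
    rintro _ ⟨x, hx, rfl⟩ _ ⟨y, hy, rfl⟩
    rw [← map_mul, ← map_mul]
    exact congrArg π (Subtype.ext (hfix hx _ hy))
  have key := two_mul_card_le_of_four_abelian hPnil (by rw [hPcard]; exact hPo) hVab hVqo
    (fun q _ => hnorm q) hcopq hfaithq hPq1 (hinv ha') (hinv hb')
    ((show Commute A' B' from Subtype.ext hab.eq).map π) (hnorm _) (hnorm _) hfixq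
  rw [hPcard] at key
  set D := V ⊓ centralizer ({a} : Set G) ⊓ centralizer ({b} : Set G) with hD
  have hDH : D ≤ H := inf_le_left.trans (inf_le_left.trans hVH)
  -- images of fixed point subgroups
  have hDim : im D ≤ Vq ⊓ centralizer {π A'} ⊓ centralizer {π B'} := by
    rintro _ ⟨x, hx, rfl⟩
    exact ⟨⟨hmem x hx.1.1, mem_centralizer_singleton_iff.2 (by
      rw [← map_mul, ← map_mul]
      exact congrArg π (Subtype.ext (mem_centralizer_singleton_iff.1 hx.1.2)))⟩,
      mem_centralizer_singleton_iff.2 (by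
        rw [← map_mul, ← map_mul]
        exact congrArg π (Subtype.ext (mem_centralizer_singleton_iff.1 hx.2)))⟩
  have hctsq : ((A' * B' : H) : G) * (A' * B' : H) = 1 := by
    show a * b * (a * b) = 1
    calc a * b * (a * b) = a * (b * a) * b := by group
      _ = (a * a) * (b * b) := by rw [← hab.eq]; group
      _ = 1 := by rw [ha, hb, one_mul]
  have k1 : 2 * Nat.card P * Nat.card (im D) ^ 2 ≤
      Nat.card (im (V ⊓ centralizer {b})) * Nat.card (im (V ⊓ centralizer {a * b})) := by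
    refine le_trans (Nat.mul_le_mul_left _ (Nat.pow_le_pow_left (card_le_of_le hDim) 2)) (key.trans ?_)
    refine Nat.mul_le_mul (card_le_of_le (hCim (t := B') hb)) (card_le_of_le ?_)
    rw [← map_mul]
    exact hCim hctsq
  -- compare
  have e0 := hcardim hDH
  have e1 := hcardim (show V ⊓ centralizer {b} ≤ H from inf_le_left.trans hVH)
  have e2 := hcardim (show V ⊓ centralizer {a * b} ≤ H from inf_le_left.trans hVH)
  have l1 : Nat.card ↥(Φ ⊓ D) ≤ Nat.card ↥(Φ ⊓ (V ⊓ centralizer {b})) :=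
    card_le_of_le (inf_le_inf_left _ fun x hx => ⟨hx.1.1, hx.2⟩)
  have l2 : Nat.card ↥(Φ ⊓ D) ≤ Nat.card ↥(Φ ⊓ (V ⊓ centralizer {a * b})) :=
    card_le_of_le (inf_le_inf_left _ fun x hx => ⟨hx.1.1, mem_centralizer_singleton_iff.2
      ((show Commute x a from mem_centralizer_singleton_iff.1 hx.1.2).mul_right
        (show Commute x b from mem_centralizer_singleton_iff.1 hx.2)).eq⟩)
  rw [← e0, ← e1, ← e2]
  calc 2 * Nat.card P * (Nat.card (im D) * Nat.card ↥(Φ ⊓ D)) ^ 2
      = (2 * Nat.card P * Nat.card (im D) ^ 2) * (Nat.card ↥(Φ ⊓ D) * Nat.card ↥(Φ ⊓ D)) := by ring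
    _ ≤ (Nat.card (im (V ⊓ centralizer {b})) * Nat.card (im (V ⊓ centralizer {a * b}))) *
        (Nat.card ↥(Φ ⊓ (V ⊓ centralizer {b})) * Nat.card ↥(Φ ⊓ (V ⊓ centralizer {a * b}))) :=
      Nat.mul_le_mul k1 (Nat.mul_le_mul l1 l2)
    _ = _ := by ring

end CfsgLib.Signalizer
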