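import Cfsg.Agent.Lib.Signalizer.TwoPiece
import Cfsg.Agent.Lib.Signalizer.FourKey

/-!
A minimal incomplete `2`-functor has a value that is not a maximal member.
-/

set_option autoImplicit false
set_option linter.style.haveILetI false
set_option linter.unusedVariables false
set_option linter.unusedSectionVars false

open scoped Pointwise commutatorElement
open Subgroup

universe u

namespace CfsgLib.Signalizer

variable {G : Type u} [Group G] [Finite G] {A : Subgroup G} {θ : G → Subgroup G}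

/-- `q` divides the Fitting subgroup of `θ g` and of no other value. -/
def IsExclusive (A : Subgroup G) (θ : G → Subgroup G) (g : G) (q : ℕ) : Prop :=
  q.Prime ∧ oq q (θ g) ≠ ⊥ ∧ ∀ e ∈ A, e ≠ 1 → e ≠ g → oq q (θ e) = ⊥

/-- The product of the exclusive Fitting factors of `θ g`. -/
def exF (A : Subgroup G) (θ : G → Subgroup G) (g : G) : Subgroup G :=
  ⨆ q : {q : ℕ // IsExclusive A θ g q}, oq (q : ℕ) (θ g)

theorem exF_le (g : G) : exF A θ g ≤ θ g := iSup_le fun q => oq_le _ _

theorem oq_le_exF {g : G} {q : ℕ} (hq : IsExclusive A θ g q) : oq q (θ g) ≤ exF A θ g :=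
  le_iSup (fun q : {q : ℕ // IsExclusive A θ g q} => oq (q : ℕ) (θ g)) ⟨q, hq⟩

theorem normalizer_le_normalizer_exF (g : G) :
    normalizer (θ g : Set G) ≤ normalizer (exF A θ g : Set G) :=
  le_normalizer_iSup fun q => normalizer_le_normalizer_oq _ _

theorem le_normalizer_exF (g : G) : θ g ≤ normalizer (exF A θ g : Set G) :=
  le_normalizer.trans (normalizer_le_normalizer_exF g)

theorem exF_isNilpotent (g : G) : Group.IsNilpotent (exF A θ g) := by
  haveI := CfsgLib.Solvable.fittingSubgroup_isNilpotent (θ g)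
  refine isNilpotent_of_le (W := (Cfsg.fittingSubgroup (θ g)).map (θ g).subtype)
    (Group.nilpotent_of_surjective _ ((θ g).subtype.subgroupMap_surjective _)) (iSup_le fun q => ?_)
  haveI := Fact.mk q.2.1
  exact map_mono (CfsgLib.Components.pCore_le_fitting (q : ℕ))

theorem isExclusive_of_dvd {g : G} {r : ℕ} (hr : r.Prime) (h : r ∣ Nat.card (exF A θ g)) :
    IsExclusive A θ g r := by
  by_contra hn
  haveI := Fact.mk hr
  have hle : exF A θ g ≤ opr r (θ g) := iSup_le fun q => by
    haveI := Fact.mk q.2.1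
    exact oq_le_opr (fun he => hn (by rw [he]; exact q.2)) _
  have h1 := Nat.Coprime.coprime_dvd_left (h.trans (card_dvd_of_le hle)) (opr_coprime r (θ g))
  rw [Nat.coprime_self] at h1
  exact hr.ne_one h1

theorem coprime_of_forall_prime {g e : G} (he : e ∈ A) (he1 : e ≠ 1) (hge : e ≠ g)
    {X Y : Subgroup G} (hX : X ≤ exF A θ g) (hY : Y ≤ exF A θ e) :
    (Nat.card X).Coprime (Nat.card Y) := by
  refine Nat.coprime_of_dvd fun r hr h1 h2 => ?_
  have hg := isExclusive_of_dvd hr (h1.trans (card_dvd_of_le hX))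
  have he' := isExclusive_of_dvd hr (h2.trans (card_dvd_of_le hY))
  exact he'.2.1 (hg.2.2 e he he1 hge)

/-- The index of the fixed points of `A` in those of `e` on `exF g`. -/
noncomputable def fixIdx (A : Subgroup G) (θ : G → Subgroup G) (g e : G) : ℕ :=
  Nat.card ↥(exF A θ g ⊓ centralizer {e}) / Nat.card ↥(exF A θ g ⊓ centralizer (A : Set G))

theorem card_eq_mul_fixIdx {g e : G} (he : e ∈ A) :
    Nat.card ↥(exF A θ g ⊓ centralizer {e}) =
      Nat.card ↥(exF A θ g ⊓ centralizer (A : Set G)) * fixIdx A θ g e :=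
  (Nat.mul_div_cancel' (card_dvd_of_le
    (inf_le_inf_left _ (centralizer_le (Set.singleton_subset_iff.mpr he))))).symm

theorem fixIdx_pos {g e : G} (he : e ∈ A) : 0 < fixIdx A θ g e := by
  refine Nat.pos_of_ne_zero fun h0 => ?_
  have h := card_eq_mul_fixIdx (θ := θ) (g := g) he
  rw [h0, mul_zero] at h
  exact Nat.card_pos.ne' h

theorem line_of_pair (hA : Cfsg.IsElementaryAbelian 2 A) {g e : G} (hg : g ∈ A) (hg1 : g ≠ 1)
    (he : e ∈ A) (he1 : e ≠ 1) (hge : e ≠ g) :
    IsLine 2 A (zpowers g ⊔ zpowers e) ∧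
      ∀ x ∈ zpowers g ⊔ zpowers e, x = 1 ∨ x = g ∨ x = e ∨ x = g * e := by
  haveI : Fact (Nat.Prime 2) := ⟨Nat.prime_two⟩
  have hez : e ∉ zpowers g := fun h => (mem_zpowers_two hA hg h).elim he1 hge
  refine ⟨⟨sup_le (zpowers_le.mpr hg) (zpowers_le.mpr he), ?_⟩, fun x hx => ?_⟩
  · rw [card_sup_zpowers_elementary hA (zpowers_le.mpr hg) he hez,
      card_zpowers_elementary hA hg hg1, pow_two]
  · have hn : zpowers e ≤ normalizer (zpowers g : Set G) :=
      zpowers_le.mpr (centralizer_le_normalizer _ fun y hy =>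
        elementary_commute hA (zpowers_le.mpr hg hy) he)
    obtain ⟨y, hy, z, hz, rfl⟩ := (CfsgLib.Solvable.mem_sup_of_le_normalizer hn).mp hx
    rcases mem_zpowers_two hA hg hy with rfl | rfl <;> rcases mem_zpowers_two hA he hz with rfl | rfl
    all_goals simp

namespace IsMinimalIncomplete

theorem ne_two_of_oq (h : IsMinimalIncomplete 2 A θ) {U : Subgroup G}
    (hU : U ∈ Cfsg.signalizerFamily 2 A θ) {q : ℕ} [Fact q.Prime] (hq : oq q U ≠ ⊥) : q ≠ 2 := by
  rintro rfl
  obtain ⟨n, hn⟩ := (oq_isPGroup 2 U).exists_card_eq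
  rcases Nat.eq_zero_or_pos n with h0 | h0
  · rw [h0, pow_zero] at hn
    exact hq (card_eq_one.mp hn)
  · exact family_not_dvd hU (((dvd_pow_self 2 (by omega)).trans hn.symm.dvd).trans
      (card_dvd_of_le (oq_le 2 U)))

variable (h : IsMinimalIncomplete 2 A θ) (hmax : ∀ g ∈ A, g ≠ 1 → IsMaxMember 2 A θ (θ g))
include h hmax

theorem shared_le {q : ℕ} [Fact q.Prime] {g e : G} (hg : g ∈ A) (hg1 : g ≠ 1) (he : e ∈ A)
    (he1 : e ≠ 1) (hqg : oq q (θ g) ≠ ⊥) (hqe : oq q (θ e) ≠ ⊥) :
    oq q (θ g) ≤ θ e := by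
  have hf := functor_mem_family h.functor hg hg1
  exact h.le_theta_of_good he he1 (hmax e he he1) (h.ne_two_of_oq hf hqg) hqe (family_oq hf q)
    (oq_isPGroup q _)

theorem oq_inf_oq_eq_bot {q : ℕ} [Fact q.Prime] {g e : G} (hg : g ∈ A) (hg1 : g ≠ 1) (he : e ∈ A)
    (he1 : e ≠ 1) (hne : g ≠ e) : oq q (θ g) ⊓ oq q (θ e) = ⊥ := by
  haveI : Fact (Nat.Prime 2) := ⟨Nat.prime_two⟩
  by_contra hI
  set I := oq q (θ g) ⊓ oq q (θ e) with hIdef
  have hqg : oq q (θ g) ≠ ⊥ := fun h0 => hI (le_bot_iff.mp (inf_le_left.trans h0.le))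
  have hqe : oq q (θ e) ≠ ⊥ := fun h0 => hI (le_bot_iff.mp (inf_le_right.trans h0.le))
  have side : ∀ a b : G, a ∈ A → a ≠ 1 → b ∈ A → b ≠ 1 → oq q (θ a) ≠ ⊥ → oq q (θ b) ≠ ⊥ →
      θ a ≤ normalizer ((oq q (θ a) ⊓ oq q (θ b) : Subgroup G) : Set G) := by
    intro a b ha ha1 hb hb1 hqa hqb
    have hθ := functor_mem_family h.functor ha ha1
    conv_lhs => rw [← sup_centralizer_eq h.elem (family_not_dvd hθ) (family_le_normalizer hθ) hb]
    refine sup_le ?_ (le_normalizer_inf (inf_le_left.trans (le_normalizer_oq q _))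
      ((h.functor.1.2.2.2 a ha ha1 b hb hb1).trans (le_normalizer_oq q _)))
    refine (commutator_zpowers_le_centralizer (le_normalizer_oq q _)
      ((h.shared_le hmax ha ha1 hb hb1 hqa hqb).trans
        (functor_le_centralizer h.functor hb hb1))).trans ?_
    exact (centralizer_le inf_le_left).trans (centralizer_le_normalizer _)
  have h1 := side g e hg hg1 he he1 hqg hqe
  have h2 : θ e ≤ normalizer (I : Set G) := by
    rw [hIdef, inf_comm]
    exact side e g he he1 hg hg1 hqe hqg
  have hAI : A ≤ normalizer (I : Set G) := le_normalizer_inf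
    ((functor_le_normalizer h.functor hg hg1).trans (normalizer_le_normalizer_oq q _))
    ((functor_le_normalizer h.functor he he1).trans (normalizer_le_normalizer_oq q _))
  exact hne (h.eq_of_theta_le (hmax g hg hg1) hg hg1 he he1 le_rfl
    (h.le_max_of_normalizes (hmax g hg hg1) (inf_le_left.trans (oq_le q _)) hAI h1 hI
      (functor_mem_family h.functor he he1) h2))

/-- The counting inequality at the point `g` on the line through `e`. -/
theorem fixIdx_step {g e c : G} (hg : g ∈ A) (hg1 : g ≠ 1) (he : e ∈ A) (he1 : e ≠ 1)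
    (hge : e ≠ g) (hc : c ∈ A) (hcL : c ∉ zpowers g ⊔ zpowers e) :
    fixIdx A θ e g * fixIdx A θ (g * e) g ≤ fixIdx A θ g c * fixIdx A θ g (e * c) ∧
      (1 < fixIdx A θ e g * fixIdx A θ (g * e) g →
        fixIdx A θ e g * fixIdx A θ (g * e) g < fixIdx A θ g c * fixIdx A θ g (e * c)) := by
  haveI : Fact (Nat.Prime 2) := ⟨Nat.prime_two⟩
  have hA := h.elem
  obtain ⟨hL, hLcases⟩ := line_of_pair hA hg hg1 he he1 hge
  set L := zpowers g ⊔ zpowers e with hLdef
  have hgL : g ∈ L := mem_sup_left (mem_zpowers g)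
  have heL : e ∈ L := mem_sup_right (mem_zpowers e)
  set e' := g * e with he'def
  have he'L : e' ∈ L := mul_mem hgL heL
  have he' : e' ∈ A := A.mul_mem hg he
  have he'1 : e' ≠ 1 := fun h1 => hge (by
    rw [← inv_eq_self_two hA hg]; exact eq_inv_of_mul_eq_one_right h1)
  have he'g : e' ≠ g := fun h1 => he1 (mul_eq_left.mp h1)
  have he'e : e' ≠ e := fun h1 => hg1 (mul_eq_right.mp h1)
  have hcL' : centralizer (L : Set G) ⊓ centralizer {c} = centralizer (A : Set G) :=
    hL.centralizer_inf hA h.card_eq hc hcL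
  -- elements centralizing `g` and `e` centralize `L`
  have hCge : centralizer ({g} : Set G) ⊓ centralizer {e} ≤ centralizer (L : Set G) := by
    rintro x ⟨hx1, hx2⟩
    have : L ≤ centralizer ({x} : Set G) := sup_le
      (zpowers_le.mpr (mem_centralizer_singleton_iff.mpr (hx1 g rfl)))
      (zpowers_le.mpr (mem_centralizer_singleton_iff.mpr (hx2 e rfl)))
    exact fun y hy => mem_centralizer_singleton_iff.mp (this hy)
  have hfg := functor_mem_family h.functor hg hg1
  set X := exF A θ e ⊓ centralizer ({g} : Set G) with hX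
  set Y := exF A θ e' ⊓ centralizer ({g} : Set G) with hY
  set Z := exF A θ g ⊓ centralizer ({e} : Set G) with hZ
  set S := θ g ⊓ centralizer ({e} : Set G) with hS
  have hSL : S ≤ centralizer (L : Set G) :=
    fun x hx => hCge ⟨functor_le_centralizer h.functor hg hg1 hx.1, hx.2⟩
  have hSle : ∀ a ∈ L, a ≠ 1 → S ≤ θ a := fun a haL ha1 x hx =>
    family_inf_le hfg (hL.1 haL) ha1
      ⟨hx.1, centralizer_le (Set.singleton_subset_iff.mpr haL) (hSL hx)⟩
  have hleS : ∀ a ∈ L, a ≠ 1 → exF A θ a ⊓ centralizer (L : Set G) ≤ S := by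
    intro a haL ha1 x hx
    refine ⟨family_inf_le (functor_mem_family h.functor (hL.1 haL) ha1) hg hg1 ⟨exF_le a hx.1,
      centralizer_le (Set.singleton_subset_iff.mpr hgL) hx.2⟩,
      centralizer_le (Set.singleton_subset_iff.mpr heL) hx.2⟩
  have hXL : X ≤ centralizer (L : Set G) := fun x hx =>
    hCge ⟨hx.2, functor_le_centralizer h.functor he he1 (exF_le e hx.1)⟩
  have hYL : Y ≤ centralizer (L : Set G) := by
    intro x hx
    refine hCge ⟨hx.2, mem_centralizer_singleton_iff.mpr ?_⟩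
    have h1 : Commute x g := mem_centralizer_singleton_iff.mp hx.2
    have h2 : Commute x e' := mem_centralizer_singleton_iff.mp
      (functor_le_centralizer h.functor he' he'1 (exF_le e' hx.1))
    have h3 := h1.mul_right h2
    rwa [show g * e' = e by rw [he'def, ← mul_assoc, mul_self_two hA hg, one_mul]] at h3
  have hZL : Z ≤ centralizer (L : Set G) := fun x hx =>
    hCge ⟨functor_le_centralizer h.functor hg hg1 (exF_le g hx.1), hx.2⟩
  have hSn : ∀ (a b : G), a ∈ L → a ≠ 1 → b ∈ L →
      S ≤ normalizer ((exF A θ a ⊓ centralizer {b} : Subgroup G) : Set G) := by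
    intro a b haL ha1 hbL
    refine le_normalizer_inf ((hSle a haL ha1).trans (le_normalizer_exF a)) ?_
    exact (hSL.trans (centralizer_le (Set.singleton_subset_iff.mpr hbL))).trans le_normalizer
  have hXS : X ≤ S := fun x hx => hleS e heL he1 ⟨hx.1, hXL hx⟩
  have hYS : Y ≤ S := fun x hx => hleS e' he'L he'1 ⟨hx.1, hYL hx⟩
  have hZS : Z ≤ S := fun x hx => hleS g hgL hg1 ⟨hx.1, hZL hx⟩
  have hnX : S ≤ normalizer (X : Set G) := hSn e g heL he1 hgL
  have hnY : S ≤ normalizer (Y : Set G) := hSn e' g he'L he'1 hgL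
  have hnZ : S ≤ normalizer (Z : Set G) := hSn g e hgL hg1 heL
  have hXY : (Nat.card X).Coprime (Nat.card Y) :=
    coprime_of_forall_prime he' he'1 he'e inf_le_left inf_le_left
  set P0 := X ⊔ Y with hP0
  have hP0S : P0 ≤ S := sup_le hXS hYS
  have hnP0 : S ≤ normalizer (P0 : Set G) := le_normalizer_sup hnX hnY
  have hP0L : P0 ≤ centralizer (L : Set G) := hP0S.trans hSL
  have hP0dvd : Nat.card P0 ∣ Nat.card X * Nat.card Y :=
    CfsgLib.Components.card_sup_dvd (hXS.trans hnY)
  have hP0prime : ∀ r : ℕ, r.Prime → r ∣ Nat.card P0 →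
      IsExclusive A θ e r ∨ IsExclusive A θ e' r := fun r hr hd =>
    ((Nat.Prime.dvd_mul hr).mp (hd.trans hP0dvd)).imp
      (fun h1 => isExclusive_of_dvd hr (h1.trans (card_dvd_of_le inf_le_left)))
      (fun h1 => isExclusive_of_dvd hr (h1.trans (card_dvd_of_le inf_le_left)))
  have hnotg : ∀ r : ℕ, r.Prime → r ∣ Nat.card P0 → oq r (θ g) = ⊥ := fun r hr hd =>
    (hP0prime r hr hd).elim (fun h1 => h1.2.2 g hg hg1 hge.symm)
      (fun h1 => h1.2.2 g hg hg1 he'g.symm)
  have hP0nil : Group.IsNilpotent P0 := by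
    have hn1 : (X.subgroupOf P0).Normal := normal_subgroupOf_of_le_normalizer (hP0S.trans hnX)
    have hn2 : (Y.subgroupOf P0).Normal := normal_subgroupOf_of_le_normalizer (hP0S.trans hnY)
    have h1 : Group.IsNilpotent (X.subgroupOf P0) :=
      haveI := isNilpotent_of_le (exF_isNilpotent (A := A) (θ := θ) e) (inf_le_left : X ≤ _)
      Group.nilpotent_of_mulEquiv (subgroupOfEquivOfLe (le_sup_left : X ≤ P0)).symm
    have h2 : Group.IsNilpotent (Y.subgroupOf P0) :=
      haveI := isNilpotent_of_le (exF_isNilpotent (A := A) (θ := θ) e') (inf_le_left : Y ≤ _)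
      Group.nilpotent_of_mulEquiv (subgroupOfEquivOfLe (le_sup_right : Y ≤ P0)).symm
    have h3 := CfsgLib.Solvable.isNilpotent_sup_of_normal _ _ hn1 hn2 h1 h2
    rw [← subgroupOf_sup le_sup_left le_sup_right, subgroupOf_self] at h3
    exact Group.isNilpotent_top.1 h3
  have hAX : ∀ a b : G, a ∈ A → a ≠ 1 → b ∈ A →
      A ≤ normalizer ((exF A θ a ⊓ centralizer {b} : Subgroup G) : Set G) := fun a b ha ha1 hb =>
    le_normalizer_inf_centralizer_elem hA
      ((functor_le_normalizer h.functor ha ha1).trans (normalizer_le_normalizer_exF a)) hb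
  have hAP0 : A ≤ normalizer (P0 : Set G) :=
    le_normalizer_sup (hAX e g he he1 hg) (hAX e' g he' he'1 hg)
  have hP0g : P0 ≤ θ g := hP0S.trans inf_le_left
  have hP0odd : ¬ 2 ∣ Nat.card P0 := not_dvd_of_le hP0g (family_not_dvd hfg)
  set P := ⁅P0, zpowers c⁆ with hP
  have hPP0 : P ≤ P0 := commutator_zpowers_le (hAP0 hc)
  -- the size of `P`
  have hsize : Nat.card X * Nat.card Y ≤ Nat.card P *
      (Nat.card ↥(exF A θ e ⊓ centralizer (A : Set G)) *
        Nat.card ↥(exF A θ e' ⊓ centralizer (A : Set G))) := by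
    have hd : Disjoint X Y := disjoint_iff.mpr (inf_eq_bot_of_coprime hXY)
    have e1 : Nat.card X * Nat.card Y = Nat.card P0 :=
      (CfsgLib.Solvable.card_sup_of_disjoint (hYS.trans hnX) hd).symm
    have hfix : Nat.card ↥(P0 ⊓ centralizer ({c} : Set G)) ≤
        Nat.card ↥(exF A θ e ⊓ centralizer (A : Set G)) *
          Nat.card ↥(exF A θ e' ⊓ centralizer (A : Set G)) := by
      have hX' : X ⊓ centralizer ({c} : Set G) ≤ exF A θ e ⊓ centralizer (A : Set G) :=
        fun x hx => ⟨hx.1.1, hcL'.le ⟨hXL hx.1, hx.2⟩⟩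
      have hY' : Y ⊓ centralizer ({c} : Set G) ≤ exF A θ e' ⊓ centralizer (A : Set G) :=
        fun x hx => ⟨hx.1.1, hcL'.le ⟨hYL hx.1, hx.2⟩⟩
      refine le_trans ?_ (Nat.mul_le_mul (card_le_of_le hX') (card_le_of_le hY'))
      rw [← Nat.card_prod]
      refine Nat.card_le_card_of_surjective
        (fun p : ↥(X ⊓ centralizer ({c} : Set G)) × ↥(Y ⊓ centralizer ({c} : Set G)) =>
          (⟨(p.1 : G) * p.2, mul_mem (mem_sup_left p.1.2.1) (mem_sup_right p.2.2.1),
            mul_mem p.1.2.2 p.2.2.2⟩ : ↥(P0 ⊓ centralizer ({c} : Set G)))) ?_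
      rintro ⟨w, hw, hwc⟩
      obtain ⟨x, hx, y, hy, rfl⟩ := (CfsgLib.Solvable.mem_sup_of_le_normalizer
        (hYS.trans hnX)).mp hw
      have hwc' : x * y ∈ centralizer (zpowers c : Set G) := by
        rw [centralizer_zpowers]; exact hwc
      obtain ⟨x', hx', y', hy', heq⟩ := CfsgLib.Solvable.centralizer_of_product (K := P0)
        (zpowers_coprime hA hP0odd hc) (zpowers_solvable_or hA hc) le_sup_left
        ((zpowers_le.mpr hc).trans (hAX e g he he1 hg))
        ((zpowers_le.mpr hc).trans (hAX e' g he' he'1 hg)) hx hy hwc'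
      rw [centralizer_zpowers] at hx' hy'
      exact ⟨(⟨x', hx'⟩, ⟨y', hy'⟩), Subtype.ext heq.symm⟩
    rw [e1]
    refine le_trans ?_ (Nat.mul_le_mul_left _ hfix)
    conv_lhs => rw [← sup_centralizer_eq hA hP0odd hAP0 hc]
    refine Nat.le_of_dvd (Nat.mul_pos Nat.card_pos Nat.card_pos) ?_
    rw [sup_comm, mul_comm]
    exact CfsgLib.Components.card_sup_dvd
      (inf_le_left.trans (CfsgLib.Solvable.le_normalizer_commutator_left _ _))
  have hxA := card_eq_mul_fixIdx (θ := θ) (g := e) hg
  have hyA := card_eq_mul_fixIdx (θ := θ) (g := e') hg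
  rw [← hX] at hxA
  rw [← hY] at hyA
  rw [hxA, hyA] at hsize
  have hle : fixIdx A θ e g * fixIdx A θ e' g ≤ Nat.card P := by
    refine Nat.le_of_mul_le_mul_left ?_
      (Nat.mul_pos (Nat.card_pos (α := ↥(exF A θ e ⊓ centralizer (A : Set G))))
        (Nat.card_pos (α := ↥(exF A θ e' ⊓ centralizer (A : Set G)))))
    calc _ = _ := by ring
      _ ≤ _ := hsize
      _ = _ := by ring
  have hec : e * c ∈ A := A.mul_mem he hc
  by_cases hP1 : P = ⊥
  · rw [hP1, card_bot] at hle
    exact ⟨hle.trans (Nat.one_le_iff_ne_zero.mpr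
      (Nat.mul_pos (fixIdx_pos hc) (fixIdx_pos hec)).ne'), fun h1 => absurd hle (by omega)⟩
  -- `P` centralizes the shared factors of `θ g`
  have hshared : ∀ r : ℕ, r.Prime → ¬ IsExclusive A θ g r →
      P ≤ centralizer (oq r (θ g) : Set G) := by
    intro r hr hne
    haveI := Fact.mk hr
    by_cases hrg : oq r (θ g) = ⊥
    · rw [hrg]; exact eq_bot_of_le_centralizer_bot
    obtain ⟨f, hf, hf1, hfg', hrf⟩ : ∃ f ∈ A, f ≠ 1 ∧ f ≠ g ∧ oq r (θ f) ≠ ⊥ := by
      by_contra hcon
      push Not at hcon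
      exact hne ⟨hr, hrg, hcon⟩
    have hOf : oq r (θ g) ≤ centralizer ({f} : Set G) :=
      (h.shared_le hmax hg hg1 hf hf1 hrg hrf).trans (functor_le_centralizer h.functor hf hf1)
    by_cases hfL : f ∈ L
    · refine hPP0.trans ?_
      have hOS : oq r (θ g) ≤ S := by
        refine fun x hx => ⟨oq_le r _ hx, ?_⟩
        rcases hLcases f hfL with h1 | h1 | h1 | h1
        · exact absurd h1 hf1
        · exact absurd h1 hfg'
        · rw [← h1]; exact hOf hx
        · refine mem_centralizer_singleton_iff.mpr ?_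
          have k1 : Commute x g := mem_centralizer_singleton_iff.mp
            (functor_le_centralizer h.functor hg hg1 (oq_le r _ hx))
          have k2 : Commute x f := mem_centralizer_singleton_iff.mp (hOf hx)
          have k3 := k1.mul_right k2
          rwa [h1, show g * e' = e by rw [he'def, ← mul_assoc, mul_self_two hA hg, one_mul]] at k3
      refine le_centralizer_of_normalize (hP0g.trans (le_normalizer_oq r _)) (hOS.trans hnP0)
        (inf_eq_bot_of_coprime ?_)
      obtain ⟨n, hn⟩ := (oq_isPGroup r (θ g)).exists_card_eq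
      rw [hn]
      exact Nat.Coprime.pow_right n ((hr.coprime_iff_not_dvd.mpr
        fun hd => hrg (hnotg r hr hd)).symm)
    · refine le_trans ?_ (commutator_zpowers_le_centralizer
        (hP0g.trans (le_normalizer_oq r _)) hOf)
      refine commutator_zpowers_le_of_mul (mul_self_two hA hc) (mul_self_two hA hf) fun x hx => ?_
      exact (hP0L hx _ (hL.mul_mem_two hA h.card_eq hc hf hcL hfL)).symm
  set V := exF A θ g with hV
  have hfaith : P ⊓ centralizer (V : Set G) = ⊥ := by
    by_contra hK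
    set K := P ⊓ centralizer (V : Set G) with hKdef
    obtain ⟨w, hw, hwK⟩ := Nat.exists_prime_and_dvd (fun h1 => hK (card_eq_one.mp h1))
    haveI := Fact.mk hw
    obtain ⟨x, hx⟩ := exists_prime_orderOf_dvd_card' w hwK
    have hxG : orderOf (x : G) = w := by rw [orderOf_coe]; exact hx
    have hxg : zpowers (x : G) ≤ θ g := zpowers_le.mpr (hP0g (hPP0 x.2.1))
    have hxq : IsPGroup w (zpowers (x : G)) :=
      IsPGroup.of_card (n := 1) (by rw [Nat.card_zpowers, hxG, pow_one])
    have hxC : ∀ r : ℕ, r.Prime → zpowers (x : G) ≤ centralizer (oq r (θ g) : Set G) := by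
      intro r hr
      refine zpowers_le.mpr ?_
      by_cases hex : IsExclusive A θ g r
      · exact centralizer_le (oq_le_exF hex) x.2.2
      · exact hshared r hr hex x.2.1
    have h1 := le_oq_of_centralizes_oq (family_isSolvable hfg) hxg hxq hxC
    have h2 : w ∣ Nat.card P0 := by
      rw [← hxG]; exact orderOf_dvd_natCard P0 (hPP0 x.2.1)
    rw [hnotg w hw h2, le_bot_iff, zpowers_eq_bot] at h1
    rw [h1, orderOf_one] at hxG
    exact hw.ne_one hxG.symm
  have hodd : Odd (Nat.card P0) := Nat.not_even_iff_odd.mp fun he => hP0odd (even_iff_two_dvd.mp he)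
  have hVn : A ≤ normalizer (V : Set G) :=
    (functor_le_normalizer h.functor hg hg1).trans (normalizer_le_normalizer_exF g)
  have hZP0 : P0 ≤ centralizer (Z : Set G) := by
    refine le_centralizer_of_normalize (hP0S.trans hnZ) (hZS.trans hnP0) (inf_eq_bot_of_coprime ?_)
    refine Nat.coprime_of_dvd fun r hr h1 h2 => ?_
    exact (isExclusive_of_dvd hr (h2.trans (card_dvd_of_le inf_le_left))).2.1 (hnotg r hr h1)
  have hcopV : (Nat.card P).Coprime (Nat.card V) := Nat.coprime_of_dvd fun r hr h1 h2 =>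
    (isExclusive_of_dvd hr h2).2.1 (hnotg r hr (h1.trans (card_dvd_of_le hPP0)))
  have key := two_mul_card_le_of_four (a := e) (b := c) (isNilpotent_of_le hP0nil hPP0)
    (hodd.of_dvd_nat (card_dvd_of_le hPP0)) (exF_isNilpotent g)
    ((h.odd_card hfg).of_dvd_nat (card_dvd_of_le (exF_le g)))
    ((hPP0.trans hP0g).trans (le_normalizer_exF g)) hcopV hfaith hP1 (mul_self_two hA he)
    (mul_self_two hA hc) (elementary_commute hA he hc) (hVn he) (hVn hc)
    (le_centralizer_iff.mp (hPP0.trans hZP0))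
  have hD : exF A θ g ⊓ centralizer (A : Set G) ≤ V ⊓ centralizer {e} ⊓ centralizer {c} :=
    le_inf (le_inf inf_le_left (inf_le_right.trans (centralizer_le (Set.singleton_subset_iff.mpr he))))
      (inf_le_right.trans (centralizer_le (Set.singleton_subset_iff.mpr hc)))
  have key' := le_trans (Nat.mul_le_mul_left _ (Nat.pow_le_pow_left (card_le_of_le hD) 2)) key
  rw [card_eq_mul_fixIdx hc, card_eq_mul_fixIdx hec] at key'
  have h2P : 2 * Nat.card P ≤ fixIdx A θ g c * fixIdx A θ g (e * c) := by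
    refine Nat.le_of_mul_le_mul_left ?_
      (pow_pos (Nat.card_pos (α := ↥(exF A θ g ⊓ centralizer (A : Set G)))) 2)
    calc _ = _ := by ring
      _ ≤ _ := key'
      _ = _ := by ring
  have hpos := Nat.card_pos (α := P)
  exact ⟨by omega, fun _ => by omega⟩

/-- Every exclusive factor is centralized by `A`. -/
theorem exF_le_centralizer {g : G} (hg : g ∈ A) (hg1 : g ≠ 1) :
    exF A θ g ≤ centralizer (A : Set G) := by
  classical
  haveI : Fact (Nat.Prime 2) := ⟨Nat.prime_two⟩
  have hA := h.elem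
  set all : Finset G := (Set.toFinite (A : Set G)).toFinset with hall
  have hmemall : ∀ x, x ∈ all ↔ x ∈ A := fun x => by simp [hall]
  have hcardall : all.card = 8 := by
    rw [hall, ← Set.ncard_eq_toFinset_card]
    show Nat.card A = 8
    rw [h.card_eq]; norm_num
  set pts : Finset G := all.erase 1 with hpts
  have hmem : ∀ x, x ∈ pts ↔ x ∈ A ∧ x ≠ 1 := fun x => by simp [hpts, hmemall, and_comm]
  have hcard6 : ∀ a ∈ pts, (pts.erase a).card = 6 := fun a ha => by
    rw [Finset.card_erase_of_mem ha, hpts, Finset.card_erase_of_mem ((hmemall 1).2 A.one_mem),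
      hcardall]
  let n : G → G → ℕ := fun a b => fixIdx A θ a b
  have hsym : ∀ a b : G, a ∈ A → a ≠ 1 → b ∈ A → n a (a * b) = n a b := by
    intro a b ha ha1 hb
    show _ / _ = _ / _
    congr 2
    have key : exF A θ a ⊓ centralizer ({a * b} : Set G) = exF A θ a ⊓ centralizer {b} := by
      ext x
      refine and_congr_right fun hx => ?_
      have h1 : Commute x a := mem_centralizer_singleton_iff.mp
        (functor_le_centralizer h.functor ha ha1 (exF_le a hx))
      refine ⟨fun h2 => mem_centralizer_singleton_iff.mpr ?_, fun h2 =>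
        mem_centralizer_singleton_iff.mpr (h1.mul_right (mem_centralizer_singleton_iff.mp h2))⟩
      have h3 : Commute x (a * (a * b)) := h1.mul_right (mem_centralizer_singleton_iff.mp h2)
      rwa [← mul_assoc, mul_self_two hA ha, one_mul] at h3
    rw [key]
  have hinv : ∀ a ∈ pts, ∀ b ∈ pts.erase a, a * b ∈ pts.erase a := by
    intro a ha b hb
    rw [Finset.mem_erase, hmem] at hb ⊢
    rw [hmem] at ha
    refine ⟨fun h1 => hb.2.2 (mul_eq_left.mp h1), A.mul_mem ha.1 hb.2.1, fun h1 => hb.1 ?_⟩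
    rw [← inv_eq_self_two hA ha.1]
    exact eq_inv_of_mul_eq_one_right h1
  let T : G → ℕ := fun a => ∏ b ∈ pts.erase a, n a b
  have hnpos : ∀ a, ∀ b ∈ pts, 0 < n a b := fun a b hb => fixIdx_pos ((hmem b).1 hb).1
  -- the inequality at a pair
  have hstep : ∀ a ∈ pts, ∀ b ∈ pts.erase a,
      (n b a * n (a * b) a * n a b) ^ 4 ≤ T a ^ 2 ∧
        (1 < n b a * n (a * b) a → (n b a * n (a * b) a * n a b) ^ 4 < T a ^ 2) := by
    intro a ha b hb
    have hab := hinv a ha b hb
    have ha' := (hmem a).1 ha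
    rw [Finset.mem_erase] at hb
    have hb' := (hmem b).1 hb.2
    obtain ⟨-, hLcases⟩ := line_of_pair hA ha'.1 ha'.2 hb'.1 hb'.2 hb.1
    set D : Finset G := pts.erase a \ {b, a * b} with hD
    have hsub : ({b, a * b} : Finset G) ⊆ pts.erase a := by
      intro x hx
      rcases Finset.mem_insert.1 hx with rfl | hx
      · exact Finset.mem_erase.2 hb
      · rw [Finset.mem_singleton] at hx
        exact hx ▸ hab
    have hne : b ≠ a * b := fun h1 => ha'.2 (mul_eq_right.mp h1.symm)
    have hD4 : D.card = 4 := by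
      rw [hD, Finset.card_sdiff_of_subset hsub, hcard6 a ha, Finset.card_pair hne]
    have hDmem : ∀ c, c ∈ D ↔ (c ∈ A ∧ c ≠ 1) ∧ c ≠ a ∧ c ≠ b ∧ c ≠ a * b := fun c => by
      simp only [hD, Finset.mem_sdiff, Finset.mem_erase, Finset.mem_insert, Finset.mem_singleton,
        hmem, not_or]
      tauto
    have hcL : ∀ c ∈ D, c ∈ A ∧ c ∉ zpowers a ⊔ zpowers b := fun c hc => by
      obtain ⟨⟨hcA, hc1⟩, hca, hcb, hcab⟩ := (hDmem c).1 hc
      exact ⟨hcA, fun hcL => by rcases hLcases c hcL with h1 | h1 | h1 | h1 <;> contradiction⟩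
    have hDb : ∀ c ∈ D, b * c ∈ D := fun c hc => by
      obtain ⟨⟨hcA, hc1⟩, hca, hcb, hcab⟩ := (hDmem c).1 hc
      have hbi := inv_eq_self_two hA hb'.1
      have key : ∀ y, b * c = y → c = b * y := fun y hy => by
        rw [← hy, ← mul_assoc, mul_self_two hA hb'.1, one_mul]
      refine (hDmem _).2 ⟨⟨A.mul_mem hb'.1 hcA, fun h1 => hcb (by rw [key _ h1, mul_one])⟩,
        fun h1 => hcab (by rw [key _ h1, elementary_commute hA hb'.1 ha'.1]),
        fun h1 => hc1 (by rw [key _ h1, mul_self_two hA hb'.1]),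
        fun h1 => hca (by
          rw [key _ h1, elementary_commute hA ha'.1 hb'.1, ← mul_assoc, mul_self_two hA hb'.1,
            one_mul])⟩
    have hs : ∀ c ∈ D, n b a * n (a * b) a ≤ n a c * n a (b * c) ∧
        (1 < n b a * n (a * b) a → n b a * n (a * b) a < n a c * n a (b * c)) := fun c hc =>
      h.fixIdx_step hmax ha'.1 ha'.2 hb'.1 hb'.2 hb.1 (hcL c hc).1 (hcL c hc).2
    have hP : ∏ c ∈ D, n a c * n a (b * c) = (∏ c ∈ D, n a c) ^ 2 := by
      rw [Finset.prod_mul_distrib, pow_two]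
      congr 1
      refine Finset.prod_nbij' (fun c => b * c) (fun c => b * c) hDb hDb ?_ ?_ fun c _ => rfl
      · intro c _; show b * (b * c) = c
        rw [← mul_assoc, mul_self_two hA hb'.1, one_mul]
      · intro c _; show b * (b * c) = c
        rw [← mul_assoc, mul_self_two hA hb'.1, one_mul]
    have hT : T a = (∏ c ∈ D, n a c) * n a b ^ 2 := by
      show ∏ x ∈ pts.erase a, n a x = _
      rw [← Finset.prod_sdiff hsub, Finset.prod_pair hne, hsym a b ha'.1 ha'.2 hb'.1, ← pow_two]
    have hpos : 0 < n a b ^ 4 := pow_pos (hnpos a b hb.2) 4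
    have hrw : T a ^ 2 = (∏ c ∈ D, n a c * n a (b * c)) * n a b ^ 4 := by rw [hT, hP]; ring
    have hlhs : (n b a * n (a * b) a * n a b) ^ 4 = (∏ c ∈ D, n b a * n (a * b) a) * n a b ^ 4 := by
      rw [Finset.prod_const, hD4]; ring
    rw [hrw, hlhs]
    refine ⟨Nat.mul_le_mul_right _ (Finset.prod_le_prod' fun c hc => (hs c hc).1), fun h1 =>
      Nat.mul_lt_mul_of_pos_right (Finset.prod_lt_prod (fun c _ => by omega) (fun c hc => (hs c hc).1)
        ?_) hpos⟩
    obtain ⟨c, hc⟩ := Finset.card_pos.1 (by omega : 0 < D.card)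
    exact ⟨c, hc, (hs c hc).2 h1⟩
  -- the product over all pairs
  set N := ∏ a ∈ pts, T a with hN
  have e1 : ∏ a ∈ pts, ∏ b ∈ pts.erase a, n b a = N := by
    rw [hN]
    exact Finset.prod_comm' fun a b => by simp only [Finset.mem_erase]; tauto
  have e2 : ∏ a ∈ pts, ∏ b ∈ pts.erase a, n (a * b) a = N := by
    rw [← e1]
    refine Finset.prod_congr rfl fun a ha => ?_
    have hs : ∀ b, a * (a * b) = b := fun b => by
      rw [← mul_assoc, mul_self_two hA ((hmem a).1 ha).1, one_mul]
    exact Finset.prod_nbij' (fun b => a * b) (fun b => a * b) (fun b hb => hinv a ha b hb)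
      (fun b hb => hinv a ha b hb) (fun b _ => hs b) (fun b _ => hs b) fun b _ => rfl
  have etot : ∏ a ∈ pts, ∏ b ∈ pts.erase a, (n b a * n (a * b) a * n a b) ^ 4 =
      ∏ a ∈ pts, ∏ b ∈ pts.erase a, T a ^ 2 := by
    have l : ∏ a ∈ pts, ∏ b ∈ pts.erase a, (n b a * n (a * b) a * n a b) ^ 4 = N ^ 12 := by
      simp only [Finset.prod_pow, Finset.prod_mul_distrib]
      rw [e1, e2]
      ring
    have r : ∏ a ∈ pts, ∏ b ∈ pts.erase a, T a ^ 2 = N ^ 12 := by
      rw [hN, ← Finset.prod_pow]
      refine Finset.prod_congr rfl fun a ha => ?_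
      rw [Finset.prod_const, hcard6 a ha, ← pow_mul]
    rw [l, r]
  have hone : ∀ a ∈ pts, ∀ b ∈ pts.erase a, n a b = 1 := by
    intro a ha b hb
    by_contra hne
    rw [Finset.mem_erase] at hb
    have hgt : 1 < n a b := by have := hnpos a b hb.2; omega
    have hpos : ∀ x ∈ pts, ∀ y ∈ pts.erase x, 0 < (n y x * n (x * y) x * n x y) ^ 4 := fun x hx y hy =>
      pow_pos (Nat.mul_pos (Nat.mul_pos (hnpos y x hx) (hnpos _ x hx))
        (hnpos x y (Finset.mem_of_mem_erase hy))) 4
    refine absurd etot (ne_of_lt (Finset.prod_lt_prod (fun x hx => Finset.prod_pos (hpos x hx))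
      (fun x hx => Finset.prod_le_prod' fun y hy => (hstep x hx y hy).1) ⟨b, hb.2, ?_⟩))
    have hab : a ∈ pts.erase b := Finset.mem_erase.2 ⟨hb.1.symm, ha⟩
    refine Finset.prod_lt_prod (hpos b hb.2) (fun y hy => (hstep b hb.2 y hy).1) ⟨a, hab, ?_⟩
    refine (hstep b hb.2 a hab).2 ?_
    calc 1 < n a b := hgt
      _ ≤ n a b * n (b * a) b := Nat.le_mul_of_pos_right _ (hnpos _ b hb.2)
  -- conclusion
  obtain ⟨e, he, hez⟩ : ∃ e ∈ A, e ∉ zpowers g := by
    by_contra hcon
    push Not at hcon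
    have hle := card_le_of_le (show A ≤ zpowers g from hcon)
    rw [h.card_eq, card_zpowers_elementary hA hg hg1] at hle
    omega
  have he1 : e ≠ 1 := fun h1 => hez (h1 ▸ one_mem _)
  have heg : e ≠ g := fun h1 => hez (h1 ▸ mem_zpowers g)
  obtain ⟨hL, -⟩ := line_of_pair hA hg hg1 he he1 heg
  obtain ⟨c, hc, hcL⟩ : ∃ c ∈ A, c ∉ zpowers g ⊔ zpowers e := by
    by_contra hcon
    push Not at hcon
    have hle := card_le_of_le (show A ≤ zpowers g ⊔ zpowers e from hcon)
    rw [h.card_eq, hL.2] at hle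
    omega
  have hc1 : c ≠ 1 := fun h1 => hcL (h1 ▸ one_mem _)
  have hce : c ≠ e := fun h1 => hcL (by rw [h1]; exact mem_sup_right (mem_zpowers e))
  obtain ⟨hB, hBcases⟩ := line_of_pair hA he he1 hc hc1 hce
  have hcg : c ≠ g := fun h1 => hcL (by rw [h1]; exact mem_sup_left (mem_zpowers g))
  have hgB : g ∉ zpowers e ⊔ zpowers c := by
    intro hgB
    rcases hBcases g hgB with h1 | h1 | h1 | h1
    · exact hg1 h1
    · exact heg h1.symm
    · exact hcg h1.symm
    · exact hcL (by
        rw [show c = e * g by rw [h1, ← mul_assoc, mul_self_two hA he, one_mul]]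
        exact mul_mem (mem_sup_right (mem_zpowers e)) (mem_sup_left (mem_zpowers g)))
  have hVA : A ≤ normalizer (exF A θ g : Set G) :=
    (functor_le_normalizer h.functor hg hg1).trans (normalizer_le_normalizer_exF g)
  refine le_of_centralizers (A := zpowers e ⊔ zpowers c) (elementary_of_le hA hB.1) hB.2.ge
    (not_dvd_of_le (exF_le g) (family_not_dvd (functor_mem_family h.functor hg hg1)))
    (hB.1.trans hVA) fun a ha ha1 => ?_
  have hbg : a ≠ g := fun h1 => hgB (h1 ▸ ha)
  have haA := hB.1 ha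
  have h1 : n g a = 1 := hone g ((hmem g).2 ⟨hg, hg1⟩) a
    (Finset.mem_erase.2 ⟨hbg, (hmem a).2 ⟨haA, ha1⟩⟩)
  have h2 := card_eq_mul_fixIdx (θ := θ) (g := g) haA
  rw [show fixIdx A θ g a = 1 from h1, mul_one] at h2
  rw [← eq_of_le_of_card_ge (inf_le_inf_left _ (centralizer_le (Set.singleton_subset_iff.mpr haA)))
    h2.le]
  exact inf_le_right

/-- Every Fitting factor of every value is centralized by `A`. -/
theorem oq_le_centralizer {g : G} (hg : g ∈ A) (hg1 : g ≠ 1) {q : ℕ} [Fact q.Prime] :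
    oq q (θ g) ≤ centralizer (A : Set G) := by
  haveI : Fact (Nat.Prime 2) := ⟨Nat.prime_two⟩
  have hA := h.elem
  by_cases hex : IsExclusive A θ g q
  · exact (oq_le_exF hex).trans (h.exF_le_centralizer hmax hg hg1)
  by_cases hqg : oq q (θ g) = ⊥
  · rw [hqg]; exact bot_le
  obtain ⟨e, he, he1, heg, hqe⟩ : ∃ e ∈ A, e ≠ 1 ∧ e ≠ g ∧ oq q (θ e) ≠ ⊥ := by
    by_contra hcon
    push Not at hcon
    exact hex ⟨Fact.out, hqg, hcon⟩
  obtain ⟨hL, -⟩ := line_of_pair hA hg hg1 he he1 heg
  set L := zpowers g ⊔ zpowers e with hLdef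
  obtain ⟨c, hc, hcL⟩ : ∃ c ∈ A, c ∉ L := by
    by_contra hcon
    push Not at hcon
    have hle := card_le_of_le (show A ≤ L from hcon)
    rw [h.card_eq, hL.2] at hle
    omega
  have hfg := functor_mem_family h.functor hg hg1
  have hfe := functor_mem_family h.functor he he1
  set O := oq q (θ g) with hO
  have hOe : O ≤ θ e := h.shared_le hmax hg hg1 he he1 hqg hqe
  have hOL : O ≤ centralizer (L : Set G) := by
    intro x hx
    have hle : L ≤ centralizer ({x} : Set G) := sup_le
      (zpowers_le.mpr (mem_centralizer_singleton_iff.mpr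
        (functor_le_centralizer h.functor hg hg1 (oq_le q _ hx) g rfl)))
      (zpowers_le.mpr (mem_centralizer_singleton_iff.mpr
        (functor_le_centralizer h.functor he he1 (hOe hx) e rfl)))
    exact fun y hy => mem_centralizer_singleton_iff.mp (hle hy)
  set E := ⁅O, zpowers c⁆ with hE
  have hAO : A ≤ normalizer (O : Set G) :=
    (functor_le_normalizer h.functor hg hg1).trans (normalizer_le_normalizer_oq q _)
  have hEO : E ≤ O := commutator_zpowers_le (hAO hc)
  have hEe : ∀ r : ℕ, r.Prime → E ≤ centralizer (oq r (θ e) : Set G) := by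
    intro r hr
    haveI := Fact.mk hr
    by_cases hre : oq r (θ e) = ⊥
    · rw [hre]; exact eq_bot_of_le_centralizer_bot
    by_cases hexr : IsExclusive A θ e r
    · exact commutator_zpowers_le_centralizer (hOe.trans (le_normalizer_oq r _))
        (((oq_le_exF hexr).trans (h.exF_le_centralizer hmax he he1)).trans
          (centralizer_le (Set.singleton_subset_iff.mpr hc)))
    obtain ⟨f, hf, hf1, hfe', hrf⟩ : ∃ f ∈ A, f ≠ 1 ∧ f ≠ e ∧ oq r (θ f) ≠ ⊥ := by
      by_contra hcon
      push Not at hcon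
      exact hexr ⟨hr, hre, hcon⟩
    have hRf : oq r (θ e) ≤ centralizer ({f} : Set G) :=
      (h.shared_le hmax he he1 hf hf1 hre hrf).trans (functor_le_centralizer h.functor hf hf1)
    by_cases hfL : f ∈ L
    · refine hEO.trans (le_centralizer_of_normalize (hOe.trans (le_normalizer_oq r _)) ?_ ?_)
      · refine fun x hx => le_normalizer_oq q (θ g) (family_inf_le hfe hg hg1 ⟨oq_le r _ hx, ?_⟩)
        refine mem_centralizer_singleton_iff.mpr ?_
        have k1 : Commute x e := mem_centralizer_singleton_iff.mp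
          (functor_le_centralizer h.functor he he1 (oq_le r _ hx))
        have k2 : Commute x f := mem_centralizer_singleton_iff.mp (hRf hx)
        rcases (line_of_pair hA hg hg1 he he1 heg).2 f hfL with h1 | h1 | h1 | h1
        · exact absurd h1 hf1
        · rw [← h1]; exact k2
        · exact absurd h1 hfe'
        · have k3 := k2.mul_right k1
          rwa [h1, mul_assoc, mul_self_two hA he, mul_one] at k3
      · by_cases hrq : r = q
        · subst hrq
          exact h.oq_inf_oq_eq_bot hmax hg hg1 he he1 heg.symm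
        · exact inf_eq_bot_of_isPGroup (Ne.symm hrq) (oq_isPGroup q _) (oq_isPGroup r _)
    · refine le_trans ?_ (commutator_zpowers_le_centralizer (hOe.trans (le_normalizer_oq r _)) hRf)
      refine commutator_zpowers_le_of_mul (mul_self_two hA hc) (mul_self_two hA hf) fun x hx => ?_
      exact (hOL hx _ (hL.mul_mem_two hA h.card_eq hc hf hcL hfL)).symm
  have h1 : E ≤ oq q (θ e) := le_oq_of_centralizes_oq (family_isSolvable hfe) (hEO.trans hOe)
    ((oq_isPGroup q _).to_le hEO) hEe
  have h2 : E = ⊥ := le_bot_iff.mp ((le_inf hEO h1).trans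
    (h.oq_inf_oq_eq_bot hmax hg hg1 he he1 heg.symm).le)
  intro x hx
  exact (hL.centralizer_inf hA h.card_eq hc hcL).le
    ⟨hOL hx, le_centralizer_singleton_of_commutator_eq_bot h2 hx⟩

/-- Not every value is a maximal member. -/
theorem false_of_all_good : False := by
  haveI : Fact (Nat.Prime 2) := ⟨Nat.prime_two⟩
  obtain ⟨g, hg, hg1⟩ := exists_ne_one_of_card_le (n := 3) (by norm_num) h.card_ge
  obtain ⟨e, he, hez⟩ : ∃ e ∈ A, e ∉ zpowers g := by
    by_contra hcon
    push Not at hcon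
    have hle := card_le_of_le (show A ≤ zpowers g from hcon)
    rw [h.card_eq, card_zpowers_elementary h.elem hg hg1] at hle
    omega
  have he1 : e ≠ 1 := fun h1 => hez (h1 ▸ one_mem _)
  have hle : θ g ≤ centralizer ({e} : Set G) :=
    h.le_centralizer_of_oq_le (hmax g hg hg1) he fun r hr =>
      haveI := Fact.mk hr
      (h.oq_le_centralizer hmax hg hg1).trans (centralizer_le (Set.singleton_subset_iff.mpr he))
  have hge : θ g ≤ θ e := fun x hx =>
    family_inf_le (functor_mem_family h.functor hg hg1) he he1 ⟨hx, hle hx⟩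
  exact hez (h.eq_of_theta_le (hmax e he he1) hg hg1 he he1 hge le_rfl ▸ mem_zpowers g)

end IsMinimalIncomplete

end CfsgLib.Signalizer
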