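import Cfsg.Agent.Lib.Signalizer.Minimal

/-!
Bender's uniqueness argument for the maximal members of a minimal incomplete functor.
-/

set_option autoImplicit false
set_option linter.style.haveILetI false
set_option linter.unusedVariables false
set_option linter.unusedSectionVars false

open scoped Pointwise commutatorElement
open Subgroup

universe u

namespace CfsgLib.Signalizer

section generic

variable {G : Type*} [Group G] [Finite G]

/-- `O_{q'}` absorbs a `q'`-subgroup centralizing a `q`-subgroup whose centralizer normalizes it. -/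
theorem le_opr_of_centralizer {q : ℕ} [Fact q.Prime] {N P U : Subgroup G}
    (hN : Group.IsSolvable N) (hPN : P ≤ N) (hP : IsPGroup q P) (hUN : U ≤ N)
    (hU : (Nat.card U).Coprime q) (hUP : U ≤ centralizer (P : Set G))
    (hn : N ⊓ centralizer (P : Set G) ≤ normalizer (U : Set G)) : U ≤ opr q N := by
  haveI := hN
  rw [opr, ← map_subgroupOf_eq_of_le hUN]
  refine map_mono (CfsgLib.OddOrder.le_pPrimeCore_of_le_centralizer (P := P.subgroupOf N)
    (hP.comap_of_injective _ N.subtype_injective) ?_ ?_ ?_)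
  · rwa [Nat.card_congr (subgroupOfEquivOfLe hUN).toEquiv]
  · intro x hx y hy
    exact Subtype.ext (hUP (mem_subgroupOf.mp hx) y (mem_subgroupOf.mp hy))
  · intro x hx
    have hx' : (x : G) ∈ N ⊓ centralizer (P : Set G) := ⟨x.2, fun y hy =>
      congrArg Subtype.val (hx ⟨y, hPN hy⟩ (mem_subgroupOf.mpr hy))⟩
    refine mem_normalizer_iff.mpr fun z => ?_
    simp only [mem_subgroupOf, coe_mul, coe_inv]
    exact mem_normalizer_iff.mp (hn hx') z

theorem exists_oq_ne_bot {I : Subgroup G} (hI : Group.IsSolvable I) (hne : I ≠ ⊥) :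
    ∃ r : ℕ, r.Prime ∧ oq r I ≠ ⊥ := by
  by_contra hcon
  push Not at hcon
  refine hne (le_bot_iff.mp (le_of_centralizes_oq hI le_rfl (fun r hr => ?_) fun r hr => ?_))
  · rw [hcon r hr]
    intro x _ y hy
    simp [mem_bot.mp hy]
  · exact (zq_le_oq r I).trans (hcon r hr).le

/-- A `w`-subgroup centralizing the Fitting subgroup of a solvable group with `O_w = 1` is trivial. -/
theorem eq_bot_of_centralizes_oq {w : ℕ} [Fact w.Prime] {M X : Subgroup G}
    (hM : Group.IsSolvable M) (hX : X ≤ M) (hXw : IsPGroup w X) (hw : oq w M = ⊥)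
    (hC : ∀ r : ℕ, r.Prime → r ≠ w → X ≤ centralizer (oq r M : Set G)) : X = ⊥ := by
  have h : X ≤ opr w M := by
    refine le_of_centralizes_oq hM hX (fun r hr => ?_) fun r hr => ?_
    · by_cases hrw : r = w
      · subst hrw
        rw [hw]
        intro x _ y hy
        simp [mem_bot.mp hy]
      · exact hC r hr hrw
    · haveI := Fact.mk hr
      by_cases hrw : r = w
      · subst hrw
        exact ((zq_le_oq r M).trans hw.le).trans bot_le
      · exact (zq_le_oq r M).trans (oq_le_opr (Ne.symm hrw) M)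
  obtain ⟨n, hn⟩ := hXw.exists_card_eq
  have h1 := (opr_coprime w M).coprime_dvd_left (card_dvd_of_le h)
  rw [hn] at h1
  rcases Nat.eq_zero_or_pos n with h0 | h0
  · rw [h0, pow_zero] at hn
    exact card_eq_one.mp hn
  · exact absurd ((Nat.coprime_pow_left_iff h0 _ _).mp h1) (by
      rw [Nat.coprime_self]; exact (Fact.out : w.Prime).ne_one)

theorem zq_ne_bot {q : ℕ} [Fact q.Prime] {M : Subgroup G} (h : oq q M ≠ ⊥) : zq q M ≠ ⊥ := by
  haveI : Nontrivial (oq q M) := (Subgroup.nontrivial_iff_ne_bot _).mpr h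
  haveI := (oq_isPGroup q M).center_nontrivial
  obtain ⟨⟨z, hz⟩, hz1⟩ := exists_ne (1 : center (oq q M))
  intro hbot
  have hmem : (z : G) ∈ zq q M := ⟨z.2, fun y hy =>
    congrArg Subtype.val (mem_center_iff.mp hz ⟨y, hy⟩)⟩
  rw [hbot, mem_bot] at hmem
  exact hz1 (Subtype.ext (Subtype.ext hmem))

/-- The intersection of `O_{r'}(M)` over the primes `r ≠ q` of the Fitting subgroup. -/
def rq (q : ℕ) (M : Subgroup G) : Subgroup G :=
  M ⊓ ⨅ r : {r : ℕ // r.Prime ∧ r ≠ q ∧ oq r M ≠ ⊥}, opr r M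

theorem rq_le (q : ℕ) (M : Subgroup G) : rq q M ≤ M := inf_le_left

theorem rq_le_opr {q r : ℕ} (M : Subgroup G) (hr : r.Prime) (hrq : r ≠ q) (h : oq r M ≠ ⊥) :
    rq q M ≤ opr r M :=
  inf_le_right.trans (iInf_le (fun r : {r : ℕ // r.Prime ∧ r ≠ q ∧ oq r M ≠ ⊥} => opr (r : ℕ) M)
    ⟨r, hr, hrq, h⟩)

theorem normalizer_le_normalizer_rq (q : ℕ) (M : Subgroup G) :
    normalizer (M : Set G) ≤ normalizer (rq q M : Set G) := by
  intro g hg
  rw [mem_normalizer_iff_map_conj_eq, rq, Subgroup.map_inf _ _ _ (MulAut.conj g).injective]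
  refine congrArg₂ (· ⊓ ·) (le_normalizer_map_conj hg) ?_
  by_cases hne : Nonempty {r : ℕ // r.Prime ∧ r ≠ q ∧ oq r M ≠ ⊥}
  · rw [Subgroup.map_iInf _ (MulAut.conj g).injective]
    exact (iInf_congr fun r => le_normalizer_map_conj (normalizer_le_normalizer_opr r M hg))
  · haveI : IsEmpty {r : ℕ // r.Prime ∧ r ≠ q ∧ oq r M ≠ ⊥} := not_nonempty_iff.mp hne
    rw [iInf_of_empty, Subgroup.map_top_of_surjective _ (MulAut.conj g).surjective]

theorem oq_le_rq {q : ℕ} [Fact q.Prime] (M : Subgroup G) : oq q M ≤ rq q M :=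
  le_inf (oq_le q M) (le_iInf fun r => by
    haveI := Fact.mk r.2.1
    exact oq_le_opr r.2.2.1 M)

theorem rq_le_centralizer_oq {q r : ℕ} [Fact r.Prime] (M : Subgroup G) (hrq : r ≠ q)
    (h : oq r M ≠ ⊥) : rq q M ≤ centralizer (oq r M : Set G) :=
  (rq_le_opr M Fact.out hrq h).trans (le_centralizer_iff.mp (oq_le_centralizer_opr r M))

theorem rq_le_centralizer_rq {q w : ℕ} {M : Subgroup G} (hM : Group.IsSolvable M) (hqw : q ≠ w) :
    rq q M ≤ centralizer (rq w M : Set G) := by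
  have hn : ∀ t, M ≤ normalizer (rq t M : Set G) := fun t =>
    le_normalizer.trans (normalizer_le_normalizer_rq t M)
  refine le_centralizer_of_normalize ((rq_le q M).trans (hn w)) ((rq_le w M).trans (hn q)) ?_
  by_contra hne
  set I := rq q M ⊓ rq w M with hI
  have hIM : I ≤ M := inf_le_left.trans (rq_le q M)
  haveI := hM
  obtain ⟨r, hr, hrI⟩ := exists_oq_ne_bot
    (Group.isSolvable_of_isSolvable_injective (inclusion_injective hIM)) hne
  haveI := Fact.mk hr
  have hle : oq r I ≤ oq r M := le_oq_of ((oq_le r I).trans hIM)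
    (le_trans (show M ≤ normalizer (I : Set G) from
      fun x hx => inf_normalizer_le_normalizer_inf ⟨hn q hx, hn w hx⟩)
      (normalizer_le_normalizer_oq r I)) (oq_isPGroup r I)
  have hrM : oq r M ≠ ⊥ := fun h0 => hrI (le_bot_iff.mp (hle.trans h0.le))
  have h2 : oq r I ≤ opr r M := by
    by_cases hrq : r = q
    · exact ((oq_le r I).trans inf_le_right).trans (rq_le_opr M hr (hrq ▸ hqw) hrM)
    · exact ((oq_le r I).trans inf_le_left).trans (rq_le_opr M hr hrq hrM)
  refine hrI (le_bot_iff.mp ((le_inf hle h2).trans (le_of_eq (inf_eq_bot_of_coprime ?_))))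
  obtain ⟨n, hn'⟩ := (oq_isPGroup r M).exists_card_eq
  rw [hn']
  exact Nat.Coprime.pow_left n (opr_coprime r M).symm

/-- `M` has two primes in its Fitting subgroup. -/
def IsMixed (M : Subgroup G) : Prop :=
  ∃ q r : ℕ, q.Prime ∧ r.Prime ∧ q ≠ r ∧ oq q M ≠ ⊥ ∧ oq r M ≠ ⊥

theorem IsMixed.exists_ne {M : Subgroup G} (h : IsMixed M) (w : ℕ) :
    ∃ q : ℕ, q.Prime ∧ q ≠ w ∧ oq q M ≠ ⊥ := by
  obtain ⟨q, r, hq, hr, hqr, h1, h2⟩ := h
  by_cases hw : q = w
  · exact ⟨r, hr, fun h => hqr (hw.trans h.symm), h2⟩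
  · exact ⟨q, hq, hw, h1⟩

theorem eq_bot_of_le_centralizer_bot {X : Subgroup G} :
    X ≤ centralizer ((⊥ : Subgroup G) : Set G) := by
  intro x _ y hy
  simp [mem_bot.mp hy]

end generic

variable {G : Type u} [Group G] [Finite G] {p : ℕ} [hp : Fact p.Prime] {A : Subgroup G}
  {θ : G → Subgroup G}

theorem family_inf_centralizer {M X : Subgroup G} (hA : Cfsg.IsElementaryAbelian p A)
    (hM : M ∈ Cfsg.signalizerFamily p A θ) (hX : X ∈ Cfsg.signalizerFamily p A θ) :
    M ⊓ centralizer (X : Set G) ∈ Cfsg.signalizerFamily p A θ :=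
  family_inf_left hM (le_normalizer_centralizer (family_le_normalizer hX))

namespace IsMinimalIncomplete

/-- `U ≤ O_{q'}(N)` for a `q'`-subgroup centralizing `Z(O_q(M)) ≤ N` and normalized by `M ∩ N`. -/
theorem le_opr_of_zq (h : IsMinimalIncomplete p A θ) {q : ℕ} [Fact q.Prime] {M N U : Subgroup G}
    (hM : IsMaxMember p A θ M) (hq : oq q M ≠ ⊥) (hN : N ∈ Cfsg.signalizerFamily p A θ)
    (hZN : zq q M ≤ N) (hUN : U ≤ N) (hU : (Nat.card U).Coprime q)
    (hUZ : U ≤ centralizer (zq q M : Set G)) (hn : M ⊓ N ≤ normalizer (U : Set G)) :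
    U ≤ opr q N := by
  refine le_opr_of_centralizer (family_isSolvable hN) hZN (zq_isPGroup q M) hUN hU hUZ
    (le_trans (le_inf ?_ inf_le_left) hn)
  refine h.le_max_of_normalizes hM (zq_le q M)
    (hM.le_normalizer'.trans (normalizer_le_normalizer_zq q M)) (le_normalizer_zq q M)
    (zq_ne_bot hq) (family_inf_centralizer h.elem hN (family_zq hM.1 q)) ?_
  exact inf_le_right.trans (centralizer_le_normalizer _)

/-- The `P × Q` step: `T` centralizes a `q`-member normalized by `P` and `T`. -/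
theorem le_centralizer_of_pxq (h : IsMinimalIncomplete p A θ) {q : ℕ} [Fact q.Prime]
    {N P T W : Subgroup G} (hP : IsPGroup q P) (hT : (Nat.card T).Coprime q)
    (hW : IsPGroup q W) (hPT : P ≤ centralizer (T : Set G)) (hTN : T ≤ opr q N)
    (hPW : P ≤ normalizer (W : Set G)) (hTW : T ≤ normalizer (W : Set G))
    (hWN : W ⊓ centralizer (P : Set G) ≤ N) : T ≤ centralizer (W : Set G) := by
  refine CfsgLib.Solvable.thompson_pxq hP hT hW hPT hPW hTW ?_
  intro x hx y hy
  have hTn : T ≤ normalizer ((W ⊓ centralizer (P : Set G) : Subgroup G) : Set G) :=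
    le_normalizer_inf hTW ((le_centralizer_iff.mp hPT).trans (le_normalizer.trans' (le_refl _)))
  have h1 : y * x * y⁻¹ * x⁻¹ ∈ W ⊓ centralizer (P : Set G) :=
    Subgroup.mul_mem _ (le_normalizer_iff.mp hTn y hy x hx) (Subgroup.inv_mem _ hx)
  have h2 : y * x * y⁻¹ * x⁻¹ ∈ opr q N := by
    have := Subgroup.mul_mem _ (hTN hy)
      (le_normalizer_iff.mp (le_normalizer_opr q N) x (hWN hx) _ (Subgroup.inv_mem _ (hTN hy)))
    simpa [mul_assoc] using this
  have h3 : y * x * y⁻¹ * x⁻¹ ∈ (W ⊓ centralizer (P : Set G)) ⊓ opr q N := ⟨h1, h2⟩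
  rw [inf_eq_bot_of_coprime (by
    obtain ⟨n, hn⟩ := (hW.to_le (inf_le_left : W ⊓ centralizer (P : Set G) ≤ W)).exists_card_eq
    rw [hn]; exact Nat.Coprime.pow_left n (opr_coprime q N).symm), mem_bot] at h3
  calc y * x = (y * x * y⁻¹ * x⁻¹) * (x * y) := by group
    _ = x * y := by rw [h3, one_mul]

/-- For `P ≤ O_q(M)` nontrivial, a member inside `O_r(M)` centralizes each `q`-member normalized by
both. -/
theorem le_centralizer_of_oq (h : IsMinimalIncomplete p A θ) {q r : ℕ} [Fact q.Prime] [Fact r.Prime]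
    (hqr : q ≠ r) {M P T W : Subgroup G} (hM : IsMaxMember p A θ M) (hP : P ≤ oq q M)
    (hAP : A ≤ normalizer (P : Set G)) (hne : P ≠ ⊥) (hT : T ≤ oq r M)
    (hAT : A ≤ normalizer (T : Set G)) (hW : W ∈ Cfsg.signalizerFamily p A θ) (hWq : IsPGroup q W)
    (hPW : P ≤ normalizer (W : Set G)) (hTW : T ≤ normalizer (W : Set G)) :
    T ≤ centralizer (W : Set G) := by
  have hPf : P ∈ Cfsg.signalizerFamily p A θ := family_of_le hM.1 (hP.trans (oq_le q M)) hAP
  obtain ⟨N, hN, -, -, hall⟩ := h.exists_normalizer_max hPf hne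
  have hPT : P ≤ centralizer (T : Set G) :=
    (hP.trans (oq_le_centralizer_oq hqr M)).trans (centralizer_le hT)
  have hTN : T ≤ N := hall T (family_of_le hM.1 (hT.trans (oq_le r M)) hAT)
    ((le_centralizer_iff.mp hPT).trans (centralizer_le_normalizer _))
  have hZN : zq q M ≤ N := hall _ (family_zq hM.1 q)
    (((zq_le_centralizer q M).trans (centralizer_le hP)).trans (centralizer_le_normalizer _))
  have hqM : oq q M ≠ ⊥ := fun h0 => hne (le_bot_iff.mp (hP.trans h0.le))
  have hU : oq r M ⊓ N ≤ opr q N := h.le_opr_of_zq hM hqM hN.1 hZN inf_le_right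
    (coprime_of_isPGroup hqr ((oq_isPGroup r M).to_le inf_le_left))
    (inf_le_left.trans (le_centralizer_iff.mp ((zq_le_oq q M).trans (oq_le_centralizer_oq hqr M))))
    (le_normalizer_inf (inf_le_left.trans (le_normalizer_oq r M)) (inf_le_right.trans le_normalizer))
  refine h.le_centralizer_of_pxq ((oq_isPGroup q M).to_le hP)
    (coprime_of_isPGroup hqr ((oq_isPGroup r M).to_le hT)) hWq hPT
    ((le_inf hT hTN).trans hU) hPW hTW ?_
  exact hall _ (family_inf_centralizer h.elem hW hPf)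
    (inf_le_right.trans (centralizer_le_normalizer _))

variable {M N : Subgroup G}

theorem oq_le_of_zq (h : IsMinimalIncomplete p A θ) (hM : IsMaxMember p A θ M) (hmix : IsMixed M)
    (hN : IsMaxMember p A θ N) (hZ : ∀ r : ℕ, r.Prime → zq r M ≤ N) {w : ℕ} [hw : Fact w.Prime]
    (hwM : oq w M ≠ ⊥) : oq w N ≤ M := by
  obtain ⟨q, hq, hqw, hqM⟩ := hmix.exists_ne w
  haveI := Fact.mk hq
  have hc := h.le_centralizer_of_oq (q := w) (r := q) hqw.symm hM (zq_le_oq w M)
    (hM.le_normalizer'.trans (normalizer_le_normalizer_zq w M)) (zq_ne_bot hwM) (zq_le_oq q M)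
    (hM.le_normalizer'.trans (normalizer_le_normalizer_zq q M)) (family_oq hN.1 w) (oq_isPGroup w N)
    ((hZ w Fact.out).trans (le_normalizer_oq w N)) ((hZ q hq).trans (le_normalizer_oq w N))
  exact h.le_max_of_normalizes hM (zq_le q M)
    (hM.le_normalizer'.trans (normalizer_le_normalizer_zq q M)) (le_normalizer_zq q M)
    (zq_ne_bot hqM) (family_oq hN.1 w) ((le_centralizer_iff.mp hc).trans (centralizer_le_normalizer _))

theorem rq_le_rq (h : IsMinimalIncomplete p A θ) (hM : IsMaxMember p A θ M) (hmix : IsMixed M)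
    (hN : IsMaxMember p A θ N) (hZ : ∀ r : ℕ, r.Prime → zq r M ≤ N)
    (hσ : ∀ r : ℕ, r.Prime → (oq r M ≠ ⊥ ↔ oq r N ≠ ⊥))
    (hFN : ∀ r : ℕ, r.Prime → oq r N ≤ M) {q : ℕ} [Fact q.Prime] (hq : oq q M ≠ ⊥) :
    rq q M ≤ rq q N := by
  -- `O_r(N) ≤ rq r M`
  have h1 : ∀ r : ℕ, r.Prime → oq r M ≠ ⊥ → oq r N ≤ rq r M := by
    intro r hr hrM
    haveI := Fact.mk hr
    refine le_inf (hFN r hr) (le_iInf ?_)
    rintro ⟨t, ht, htr, htM⟩
    haveI := Fact.mk ht
    refine h.le_opr_of_zq hN ((hσ t ht).mp htM) hM.1 ((zq_le_oq t N).trans (hFN t ht)) (hFN r hr)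
      (coprime_of_isPGroup htr (oq_isPGroup r N))
      ((oq_le_centralizer_oq htr.symm N).trans (centralizer_le (zq_le_oq t N))) ?_
    exact inf_le_left.trans (le_normalizer_oq r N)
  have hRf : rq q M ∈ Cfsg.signalizerFamily p A θ :=
    family_of_le hM.1 (rq_le q M) (hM.le_normalizer'.trans (normalizer_le_normalizer_rq q M))
  have hRN : rq q M ≤ N := by
    obtain ⟨r, hr, hrq, hrM⟩ := hmix.exists_ne q
    haveI := Fact.mk hr
    refine h.le_max_of_normalizes hN (oq_le r N)
      (hN.le_normalizer'.trans (normalizer_le_normalizer_oq r N)) (le_normalizer_oq r N)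
      ((hσ r hr).mp hrM) hRf ?_
    exact ((rq_le_centralizer_rq hM.solvable hrq.symm).trans
      (centralizer_le (h1 r hr hrM))).trans (centralizer_le_normalizer _)
  refine le_inf hRN (le_iInf ?_)
  rintro ⟨r, hr, hrq, hrN⟩
  haveI := Fact.mk hr
  have hrM := (hσ r hr).mpr hrN
  refine h.le_opr_of_zq hM hrM hN.1 (hZ r hr) hRN
    ((opr_coprime r M).coprime_dvd_left (card_dvd_of_le (rq_le_opr M hr hrq hrM)))
    ((rq_le_centralizer_oq M hrq hrM).trans (centralizer_le (zq_le_oq r M))) ?_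
  exact inf_le_left.trans (le_normalizer.trans (normalizer_le_normalizer_rq q M))

/-- A maximal member containing `Z(F(M))` whose further Fitting primes lie in `M` is `M`. -/
theorem eq_of_zq_le (h : IsMinimalIncomplete p A θ) (hM : IsMaxMember p A θ M) (hmix : IsMixed M)
    (hN : IsMaxMember p A θ N) (hZ : ∀ r : ℕ, r.Prime → zq r M ≤ N)
    (hextra : ∀ u : ℕ, u.Prime → oq u M = ⊥ → oq u N ≤ M) : N = M := by
  have hFN : ∀ r : ℕ, r.Prime → oq r N ≤ M := by
    intro r hr
    haveI := Fact.mk hr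
    by_cases hrM : oq r M = ⊥
    · exact hextra r hr hrM
    · exact h.oq_le_of_zq hM hmix hN hZ hrM
  have hZA : ∀ (K : Subgroup G), IsMaxMember p A θ K → ∀ r,
      A ≤ normalizer (zq r K : Set G) := fun K hK r =>
    hK.le_normalizer'.trans (normalizer_le_normalizer_zq r K)
  -- `σ(M) ⊆ σ(N)`
  have hsub : ∀ w : ℕ, w.Prime → oq w M ≠ ⊥ → oq w N ≠ ⊥ := by
    intro w hw hwM hwN
    haveI := Fact.mk hw
    refine zq_ne_bot hwM (eq_bot_of_centralizes_oq hN.solvable (hZ w hw) (zq_isPGroup w M) hwN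
      fun s hs hsw => ?_)
    haveI := Fact.mk hs
    by_cases hsM : oq s M = ⊥
    · refine le_centralizer_of_normalize ((hZ w hw).trans (le_normalizer_oq s N))
        ((hFN s hs).trans (le_normalizer_zq w M))
        (inf_eq_bot_of_isPGroup hsw.symm (zq_isPGroup w M) (oq_isPGroup s N))
    · exact h.le_centralizer_of_oq hsw hM (zq_le_oq s M) (hZA M hM s) (zq_ne_bot hsM) (zq_le_oq w M)
        (hZA M hM w) (family_oq hN.1 s) (oq_isPGroup s N)
        ((hZ s hs).trans (le_normalizer_oq s N)) ((hZ w hw).trans (le_normalizer_oq s N))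
  -- `σ(N) ⊆ σ(M)`
  have hsup : ∀ u : ℕ, u.Prime → oq u N ≠ ⊥ → oq u M ≠ ⊥ := by
    intro u hu huN huM
    haveI := Fact.mk hu
    refine huN (eq_bot_of_centralizes_oq hM.solvable (hFN u hu) (oq_isPGroup u N) huM
      fun w hw hwu => ?_)
    haveI := Fact.mk hw
    by_cases hwM : oq w M = ⊥
    · rw [hwM]
      exact eq_bot_of_le_centralizer_bot
    · exact h.le_centralizer_of_oq hwu hN (zq_le_oq w N) (hZA N hN w)
        (zq_ne_bot (hsub w hw hwM)) le_rfl
        (hN.le_normalizer'.trans (normalizer_le_normalizer_oq u N)) (family_oq hM.1 w)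
        (oq_isPGroup w M) (((zq_le_oq w N).trans (hFN w hw)).trans (le_normalizer_oq w M))
        ((hFN u hu).trans (le_normalizer_oq w M))
  have hσ : ∀ r : ℕ, r.Prime → (oq r M ≠ ⊥ ↔ oq r N ≠ ⊥) :=
    fun r hr => ⟨hsub r hr, hsup r hr⟩
  have hmixN : IsMixed N := by
    obtain ⟨a, b, ha, hb, hab, h1, h2⟩ := hmix
    exact ⟨a, b, ha, hb, hab, hsub a ha h1, hsub b hb h2⟩
  -- `F(M) ≤ N`
  have hFM : ∀ r : ℕ, r.Prime → oq r M ≤ N := by
    intro r hr
    haveI := Fact.mk hr
    by_cases hrM : oq r M = ⊥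
    · rw [hrM]; exact bot_le
    obtain ⟨q, hq, hqr, hqM⟩ := hmix.exists_ne r
    haveI := Fact.mk hq
    have hle : oq q N ≤ opr r M := h.le_opr_of_zq hN (hsub r hr hrM) hM.1
      ((zq_le_oq r N).trans (hFN r hr)) (hFN q hq) (coprime_of_isPGroup hqr.symm (oq_isPGroup q N))
      ((oq_le_centralizer_oq hqr N).trans (centralizer_le (zq_le_oq r N)))
      (inf_le_left.trans (le_normalizer_oq q N))
    exact h.le_max_of_normalizes hN (oq_le q N)
      (hN.le_normalizer'.trans (normalizer_le_normalizer_oq q N)) (le_normalizer_oq q N)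
      (hsub q hq hqM) (family_oq hM.1 r)
      (((oq_le_centralizer_opr r M).trans (centralizer_le hle)).trans (centralizer_le_normalizer _))
  obtain ⟨q, r₀, hq, -, -, hqM, -⟩ := hmix
  haveI := Fact.mk hq
  have hmix' : IsMixed M := by
    obtain ⟨a, b, ha, hb, hab, h1, h2⟩ := hmixN
    exact ⟨a, b, ha, hb, hab, hsup a ha h1, hsup b hb h2⟩
  have heq : rq q M = rq q N := le_antisymm (h.rq_le_rq hM hmix' hN hZ hσ hFN hqM)
    (h.rq_le_rq hN hmixN hM (fun t ht => (zq_le_oq t N).trans (hFN t ht))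
      (fun t ht => (hσ t ht).symm) hFM (hsub q hq hqM))
  refine (hN.2 M hM.1 ?_).symm
  refine h.le_max_of_normalizes hM (rq_le q M)
    (hM.le_normalizer'.trans (normalizer_le_normalizer_rq q M))
    (le_normalizer.trans (normalizer_le_normalizer_rq q M))
    (fun h0 => hqM (le_bot_iff.mp ((oq_le_rq M).trans h0.le))) hN.1 ?_
  rw [heq]
  exact le_normalizer.trans (normalizer_le_normalizer_rq q N)

end IsMinimalIncomplete

end CfsgLib.Signalizer
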