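import Cfsg.Agent.Lib.Signalizer.Basic

/-!
Transitivity theorem for the maximal `q`-members of the family of a signalizer functor.
-/

set_option autoImplicit false
set_option linter.style.haveILetI false
set_option linter.unusedVariables false
set_option linter.unusedSectionVars false

open Subgroup

namespace CfsgLib.Signalizer

variable {G : Type*} [Group G] [Finite G] {p : ℕ} [hp : Fact p.Prime]
variable {A : Subgroup G} {θ : G → Subgroup G}

theorem mem_map_conj {U : Subgroup G} {c g : G} :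
    g ∈ U.map (MulAut.conj c).toMonoidHom ↔ c⁻¹ * g * c ∈ U := by
  constructor
  · rintro ⟨u, hu, rfl⟩
    simpa [MulAut.conj_apply, mul_assoc] using hu
  · intro h
    exact ⟨c⁻¹ * g * c, h, by simp [MulAut.conj_apply, mul_assoc]⟩

theorem map_conj_map_conj (U : Subgroup G) (c d : G) :
    (U.map (MulAut.conj c).toMonoidHom).map (MulAut.conj d).toMonoidHom =
      U.map (MulAut.conj (d * c)).toMonoidHom := by
  ext g
  simp only [mem_map_conj, mul_inv_rev]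
  rw [show c⁻¹ * (d⁻¹ * g * d) * c = c⁻¹ * d⁻¹ * g * (d * c) by group]

theorem map_conj_eq_self {U : Subgroup G} {c : G} (hc : c ∈ normalizer (U : Set G)) :
    U.map (MulAut.conj c).toMonoidHom = U := by
  ext g
  rw [mem_map_conj]
  exact (mem_normalizer_iff''.mp hc g).symm

theorem signalizerInf_top_le_centralizer (hA : Cfsg.IsElementaryAbelian p A)
    (hθ : Cfsg.IsSolvableSignalizerFunctor p A θ) (hA1 : A ≠ ⊥) :
    Cfsg.signalizerInf A θ ≤ centralizer (A : Set G) := by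
  obtain ⟨b, hb, hb1⟩ := exists_ne_one_of_ne_bot hA1
  rw [signalizerInf_eq hA hθ le_rfl hb hb1]
  exact inf_le_right
where
  exists_ne_one_of_ne_bot {H : Subgroup G} (h : H ≠ ⊥) : ∃ b ∈ H, b ≠ 1 := by
    by_contra hcon
    push Not at hcon
    exact h ((eq_bot_iff_forall H).2 hcon)

/-- The family is invariant under conjugation by the common part of the functor. -/
theorem family_map_conj (hA : Cfsg.IsElementaryAbelian p A)
    (hθ : Cfsg.IsSolvableSignalizerFunctor p A θ) (hA1 : A ≠ ⊥) {c : G}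
    (hc : c ∈ Cfsg.signalizerInf A θ) {U : Subgroup G}
    (hU : U ∈ Cfsg.signalizerFamily p A θ) :
    U.map (MulAut.conj c).toMonoidHom ∈ Cfsg.signalizerFamily p A θ := by
  have e := equivMapOfInjective U (MulAut.conj c).toMonoidHom (MulAut.conj c).injective
  have hcA := signalizerInf_top_le_centralizer hA hθ hA1 hc
  haveI := hU.1
  refine ⟨Group.isSolvable_of_surjective (f := e.toMonoidHom) e.surjective,
    fun hd => hU.2.1 (by rwa [Nat.card_congr e.toEquiv]), fun b hb u hu => ?_,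
    fun a ha ha1 g ⟨hg, hga⟩ => ?_⟩
  · obtain ⟨v, hv, rfl⟩ := hu
    refine ⟨b * v * b⁻¹, hU.2.2.1 b hb v hv, ?_⟩
    have h : Commute b c := hcA b hb
    simp only [MulEquiv.coe_toMonoidHom, MulAut.conj_apply]
    calc c * (b * v * b⁻¹) * c⁻¹ = (c * b) * v * (c * b)⁻¹ := by group
      _ = (b * c) * v * (b * c)⁻¹ := by rw [h.eq]
      _ = b * (c * v * c⁻¹) * b⁻¹ := by group
  · have hca : c ∈ θ a := signalizerInf_le ha ha1 hc
    have h : Commute a c := hcA a ha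
    have h1 : c⁻¹ * g * c ∈ θ a := family_inf_le hU ha ha1 ⟨mem_map_conj.mp hg,
      mem_centralizer_singleton_iff.mpr
        (((h.inv_right.mul_right (show Commute a g from (mem_centralizer_singleton_iff.mp hga).symm)).mul_right h).eq.symm)⟩
    have h2 := mul_mem (mul_mem hca h1) (inv_mem hca)
    rwa [show c * (c⁻¹ * g * c) * c⁻¹ = g by group] at h2

theorem isPGroup_map_conj {q : ℕ} {U : Subgroup G} (hU : IsPGroup q U) (c : G) :
    IsPGroup q ↥(U.map (MulAut.conj c).toMonoidHom) :=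
  hU.map _

/-- A maximal `q`-member remains maximal under conjugation. -/
theorem maximal_map_conj (hA : Cfsg.IsElementaryAbelian p A)
    (hθ : Cfsg.IsSolvableSignalizerFunctor p A θ) (hA1 : A ≠ ⊥) {c : G}
    (hc : c ∈ Cfsg.signalizerInf A θ) {q : ℕ} {Q : Subgroup G}
    (hmax : ∀ R ∈ Cfsg.signalizerFamily p A θ, IsPGroup q ↥R → Q ≤ R → R = Q) :
    ∀ R ∈ Cfsg.signalizerFamily p A θ, IsPGroup q ↥R →
      Q.map (MulAut.conj c).toMonoidHom ≤ R → R = Q.map (MulAut.conj c).toMonoidHom := by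
  intro R hR hRq hle
  have h := hmax _ (family_map_conj hA hθ hA1 (inv_mem hc) hR) (isPGroup_map_conj hRq c⁻¹)
    (fun x hx => mem_map_conj.mpr (by
      rw [inv_inv]
      exact hle (mem_map_conj.mpr (by rwa [show c⁻¹ * (c * x * c⁻¹) * c = x by group]))))
  rw [← h, map_conj_map_conj, mul_inv_cancel, map_conj_eq_self (one_mem _)]

/-- Every `q`-member lies in a maximal one. -/
theorem exists_maximal_ge {q : ℕ} {U : Subgroup G} (hU : U ∈ Cfsg.signalizerFamily p A θ)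
    (hUq : IsPGroup q U) :
    ∃ Q ∈ Cfsg.signalizerFamily p A θ, IsPGroup q ↥Q ∧ U ≤ Q ∧
      ∀ R ∈ Cfsg.signalizerFamily p A θ, IsPGroup q ↥R → Q ≤ R → R = Q := by
  obtain ⟨Q, hUQ, hQ⟩ := (Set.toFinite
    {R : Subgroup G | R ∈ Cfsg.signalizerFamily p A θ ∧ IsPGroup q ↥R}).exists_le_maximal
      (a := U) ⟨hU, hUq⟩
  exact ⟨Q, hQ.prop.1, hQ.prop.2, hUQ, fun R hR hRq hle => le_antisymm (hQ.2 ⟨hR, hRq⟩ hle) hle⟩

/-- The transitivity theorem. -/
theorem transitivity (hA : Cfsg.IsElementaryAbelian p A) (hA3 : p ^ 3 ≤ Nat.card A)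
    (hθ : Cfsg.IsSolvableSignalizerFunctor p A θ) {q : ℕ} [hq : Fact q.Prime] (hqp : q ≠ p)
    {Q₁ Q₂ : Subgroup G}
    (hW₁ : Q₁ ∈ Cfsg.signalizerFamily p A θ) (hq₁ : IsPGroup q Q₁)
    (hm₁ : ∀ R ∈ Cfsg.signalizerFamily p A θ, IsPGroup q ↥R → Q₁ ≤ R → R = Q₁)
    (hW₂ : Q₂ ∈ Cfsg.signalizerFamily p A θ) (hq₂ : IsPGroup q Q₂)
    (hm₂ : ∀ R ∈ Cfsg.signalizerFamily p A θ, IsPGroup q ↥R → Q₂ ≤ R → R = Q₂) :
    ∃ c ∈ Cfsg.signalizerInf A θ, Q₁.map (MulAut.conj c).toMonoidHom = Q₂ := by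
  have hA1 : A ≠ ⊥ := by
    obtain ⟨a, ha, ha1⟩ := exists_ne_one_of_card_le (n := 3) (by norm_num) hA3
    exact fun h => ha1 (mem_bot.mp (h ▸ ha))
  induction hn : Nat.card G - Nat.card ↥(Q₁ ⊓ Q₂) using Nat.strong_induction_on
    generalizing Q₁ Q₂ with
  | _ n ih =>
  by_cases heq : Q₁ = Q₂
  · exact ⟨1, one_mem _, by rw [map_conj_eq_self (one_mem _), heq]⟩
  have hD₁ : Q₁ ⊓ Q₂ ≠ Q₁ := fun h =>
    heq (hm₁ Q₂ hW₂ hq₂ (inf_eq_left.mp h)).symm
  have hD₂ : Q₁ ⊓ Q₂ ≠ Q₂ := fun h => heq (hm₂ Q₁ hW₁ hq₁ (inf_eq_right.mp h))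
  obtain ⟨a, ha, ha1, hn₁, hn₂⟩ := exists_centralizer_normalizer_meet hA hA3 hqp hq₁ hq₂
    (family_le_normalizer hW₁) (family_le_normalizer hW₂) hD₁ hD₂
  set D := Q₁ ⊓ Q₂ with hD
  have hAD : A ≤ normalizer (D : Set G) :=
    (le_inf (family_le_normalizer hW₁) (family_le_normalizer hW₂)).trans
      inf_normalizer_le_normalizer_inf
  set K := θ a ⊓ normalizer (D : Set G) with hK
  have hAK : A ≤ normalizer (K : Set G) := fun b hb =>
    inf_normalizer_le_normalizer_inf ⟨functor_le_normalizer hθ ha ha1 hb, le_normalizer (hAD hb)⟩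
  have hKW : K ∈ Cfsg.signalizerFamily p A θ :=
    family_of_le (functor_mem_family hθ ha ha1) inf_le_left hAK
  have hcop := elementary_coprime hA (family_not_dvd hKW)
  have hsA : Group.IsSolvable A ∨ Group.IsSolvable K := Or.inl (elementary_isSolvable hA)
  have hpart : ∀ {Q : Subgroup G}, Q ∈ Cfsg.signalizerFamily p A θ →
      normalizer (D : Set G) ⊓ Q ⊓ centralizer {a} ≤ K ∧
      A ≤ normalizer ((normalizer (D : Set G) ⊓ Q ⊓ centralizer {a} : Subgroup G) : Set G) :=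
    fun {Q} hQ => ⟨fun x hx => ⟨family_inf_le hQ ha ha1 ⟨hx.1.2, hx.2⟩, hx.1.1⟩, fun b hb =>
      inf_normalizer_le_normalizer_inf ⟨inf_normalizer_le_normalizer_inf
        ⟨le_normalizer (hAD hb), family_le_normalizer hQ hb⟩,
        le_normalizer (le_centralizer_singleton hA ha hb)⟩⟩
  obtain ⟨S₁, hS₁, hAS₁⟩ := CfsgLib.Solvable.exists_invariant_sylow_ge hAK hcop hsA q
    (hpart hW₁).1 (hq₁.to_le (inf_le_left.trans inf_le_right)) (hpart hW₁).2
  obtain ⟨S₂, hS₂, hAS₂⟩ := CfsgLib.Solvable.exists_invariant_sylow_ge hAK hcop hsA q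
    (hpart hW₂).1 (hq₂.to_le (inf_le_left.trans inf_le_right)) (hpart hW₂).2
  obtain ⟨c, hcA, hcS⟩ := CfsgLib.Solvable.exists_invariant_sylow_conj hAK hcop hsA S₁ S₂ hAS₁ hAS₂
  have hcθ : (c : G) ∈ Cfsg.signalizerInf A θ :=
    family_inf_centralizer_le hKW le_rfl ⟨c.2, hcA⟩
  set T := (S₂ : Subgroup K).map K.subtype with hT
  have hTK : T ≤ K := map_subtype_le _
  have hDW : D ∈ Cfsg.signalizerFamily p A θ := family_of_le hW₁ inf_le_left hAD
  have hTW : T ∈ Cfsg.signalizerFamily p A θ := family_of_le hKW hTK hAS₂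
  have hTD : T ≤ normalizer (D : Set G) := hTK.trans inf_le_right
  have hDTq : IsPGroup q ↥(D ⊔ T) := by
    have hTq : IsPGroup q T := S₂.2.map _
    exact (hq₁.to_le inf_le_left).to_sup_of_normal_left' hTq hTD
  obtain ⟨Q₃, hW₃, hq₃, hle₃, hm₃⟩ := exists_maximal_ge (family_sup hA hDW hTW hTD) hDTq
  have hbig : ∀ {R₁ R₂ : Subgroup G}, D ≤ R₁ ⊓ R₂ → ¬ R₁ ⊓ R₂ ≤ D →
      Nat.card G - Nat.card ↥(R₁ ⊓ R₂) < n := fun {R₁ R₂} h h' => by
    have h2 : Nat.card D < Nat.card ↥(R₁ ⊓ R₂) := by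
      refine lt_of_le_of_ne (card_le_of_le h) fun hc => h' ?_
      exact (eq_of_le_of_card_ge h hc.ge).ge
    have h3 := card_le_card_group (R₁ ⊓ R₂)
    omega
  -- `Q₃` is conjugate to `Q₂`
  obtain ⟨f, hf, hfQ⟩ := ih _ (hbig (le_inf (le_sup_left.trans hle₃) inf_le_right)
    (fun h => hn₂ (fun x hx => h ⟨hle₃ (mem_sup_right (hS₂ hx)), hx.1.2⟩)))
    hW₃ hq₃ hm₃ hW₂ hq₂ hm₂ rfl
  -- the conjugate of `Q₁` is conjugate to `Q₃`
  have hcD : (c : G) ∈ normalizer (D : Set G) := c.2.2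
  obtain ⟨d, hd, hdQ⟩ := ih _ (hbig (R₁ := Q₁.map (MulAut.conj (c : G)).toMonoidHom) (R₂ := Q₃)
    (le_inf ((map_conj_eq_self hcD).ge.trans (map_mono inf_le_left)) (le_sup_left.trans hle₃))
    (fun h => hn₁ (fun x hx => by
      have h1 : (c : G) * x * (c : G)⁻¹ ∈ T := by
        rw [hT, ← hcS]
        obtain ⟨k, hk, rfl⟩ := hS₁ hx
        exact ⟨_, smul_mem_pointwise_smul k (MulAut.conj c) (S₁ : Subgroup K) hk, rfl⟩
      have h2 := h ⟨mem_map_conj.mpr (by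
        rw [show (c : G)⁻¹ * ((c : G) * x * (c : G)⁻¹) * c = x by group]; exact hx.1.2),
        hle₃ (mem_sup_right h1)⟩
      exact (mem_normalizer_iff.mp hcD x).mpr h2)))
    (family_map_conj hA hθ hA1 hcθ hW₁) (isPGroup_map_conj hq₁ _)
    (maximal_map_conj hA hθ hA1 hcθ hm₁) hW₃ hq₃ hm₃ rfl
  refine ⟨f * (d * c), mul_mem hf (mul_mem hd hcθ), ?_⟩
  rw [← map_conj_map_conj, ← map_conj_map_conj, hdQ, hfQ]

/-- Sylow `q`-subgroups of the members come from a maximal `q`-member. -/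
theorem exists_sylow_eq_inf (hA : Cfsg.IsElementaryAbelian p A) (hA3 : p ^ 3 ≤ Nat.card A)
    (hθ : Cfsg.IsSolvableSignalizerFunctor p A θ) {q : ℕ} [hq : Fact q.Prime] (hqp : q ≠ p)
    {Q : Subgroup G} (hW : Q ∈ Cfsg.signalizerFamily p A θ) (hQq : IsPGroup q Q)
    (hmax : ∀ R ∈ Cfsg.signalizerFamily p A θ, IsPGroup q ↥R → Q ≤ R → R = Q)
    {H : Subgroup G} (hH : H ∈ Cfsg.signalizerFamily p A θ) :
    ∃ c ∈ Cfsg.signalizerInf A θ, ∃ S : Sylow q H,
      (S : Subgroup H).map H.subtype = Q.map (MulAut.conj c).toMonoidHom ⊓ H := by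
  obtain ⟨S, hAS⟩ := CfsgLib.Solvable.exists_invariant_sylow (family_le_normalizer hH)
    (elementary_coprime hA (family_not_dvd hH)) (Or.inl (elementary_isSolvable hA)) q
  obtain ⟨Q', hW', hq', hle', hm'⟩ := exists_maximal_ge
    (family_of_le hH (map_subtype_le _) hAS) (S.2.map H.subtype)
  obtain ⟨c, hc, hcQ⟩ := transitivity hA hA3 hθ hqp hW hQq hmax hW' hq' hm'
  refine ⟨c, hc, S, le_antisymm ?_ ?_⟩
  · rw [hcQ]
    exact le_inf hle' (map_subtype_le _)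
  · rw [hcQ]
    rintro x ⟨hx, hxH⟩
    have h := S.3 (hq'.to_le inf_le_left |>.of_equiv (subgroupOfEquivOfLe
      (inf_le_right : Q' ⊓ H ≤ H)).symm) (fun s hs => ⟨hle' (mem_map_of_mem H.subtype hs), s.2⟩)
    refine ⟨⟨x, hxH⟩, ?_, rfl⟩
    rw [SetLike.mem_coe, ← h]
    exact ⟨hx, hxH⟩

/-- Centralizers in a maximal `q`-member are Sylow in the intersections of the functor. -/
theorem exists_sylow_inf_centralizer (hA : Cfsg.IsElementaryAbelian p A) (hA3 : p ^ 3 ≤ Nat.card A)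
    (hθ : Cfsg.IsSolvableSignalizerFunctor p A θ) {q : ℕ} [hq : Fact q.Prime] (hqp : q ≠ p)
    {Q : Subgroup G} (hW : Q ∈ Cfsg.signalizerFamily p A θ) (hQq : IsPGroup q Q)
    (hmax : ∀ R ∈ Cfsg.signalizerFamily p A θ, IsPGroup q ↥R → Q ≤ R → R = Q)
    {B : Subgroup G} (hB : B ≤ A) (hB1 : B ≠ ⊥) :
    ∃ S : Sylow q ↥(Cfsg.signalizerInf B θ),
      (S : Subgroup ↥(Cfsg.signalizerInf B θ)).map (Cfsg.signalizerInf B θ).subtype =
        Q ⊓ centralizer (B : Set G) := by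
  obtain ⟨b, hb, hb1⟩ := signalizerInf_top_le_centralizer.exists_ne_one_of_ne_bot hB1
  set H := Cfsg.signalizerInf B θ with hH
  have hHW : H ∈ Cfsg.signalizerFamily p A θ := signalizerInf_mem_family hA hθ hB hb hb1
  obtain ⟨c, hc, S, hS⟩ := exists_sylow_eq_inf hA hA3 hθ hqp hW hQq hmax hHW
  have hcH : c ∈ H := le_signalizerInf (fun x hx hx1 => signalizerInf_le (hB hx) hx1) hc
  have he : Q ⊓ centralizer (B : Set G) = Q ⊓ H := by
    refine le_antisymm (le_inf inf_le_left (family_inf_centralizer_le hW hB)) (inf_le_inf_left _ ?_)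
    rw [hH, signalizerInf_eq hA hθ hB hb hb1]
    exact inf_le_right
  refine ⟨(⟨c⁻¹, inv_mem hcH⟩ : H) • S, ?_⟩
  rw [he]
  ext x
  constructor
  · rintro ⟨y, hy, rfl⟩
    obtain ⟨z, hz, rfl⟩ := hy
    have hz' := hS ▸ mem_map_of_mem H.subtype hz
    refine ⟨?_, SetLike.coe_mem _⟩
    simpa [MulAut.conj_apply, mul_assoc] using mem_map_conj.mp hz'.1
  · rintro ⟨hxQ, hxH⟩
    obtain ⟨z, hz, hzx⟩ : c * x * c⁻¹ ∈ (S : Subgroup H).map H.subtype := by
      rw [hS]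
      exact ⟨mem_map_conj.mpr (by rwa [show c⁻¹ * (c * x * c⁻¹) * c = x by group]),
        H.mul_mem (H.mul_mem hcH hxH) (H.inv_mem hcH)⟩
    refine ⟨_, smul_mem_pointwise_smul z (MulAut.conj (⟨c⁻¹, inv_mem hcH⟩ : H))
      (S : Subgroup H) hz, ?_⟩
    have hzx' : (z : G) = c * x * c⁻¹ := hzx
    simp [MulAut.conj_apply, hzx', mul_assoc]

/-- Completeness of a functor all of whose values are `q`-groups. -/
theorem complete_of_isPGroup (hA : Cfsg.IsElementaryAbelian p A) (hA3 : p ^ 3 ≤ Nat.card A)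
    (hθ : Cfsg.IsSolvableSignalizerFunctor p A θ) {q : ℕ} [hq : Fact q.Prime]
    (hall : ∀ a ∈ A, a ≠ 1 → IsPGroup q ↥(θ a)) : Cfsg.IsCompleteSignalizerFunctor p A θ := by
  refine ⟨hθ.1, ?_⟩
  by_cases hqp : q = p
  · refine ⟨⊥, fun b _ x hx => by simp [mem_bot.mp hx], by
      rw [card_bot]; exact hp.out.not_dvd_one, fun a ha ha1 => ?_⟩
    rw [bot_inf_eq]
    refine (card_eq_one.mp ?_).symm
    obtain ⟨n, hn⟩ := (hall a ha ha1).exists_card_eq
    cases n with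
    | zero => simpa using hn
    | succ n => exact absurd (by rw [hn, hqp, pow_succ]; exact dvd_mul_left p _) (hθ.1.2.1 a ha ha1)
  obtain ⟨a₀, ha₀, ha₀1⟩ := exists_ne_one_of_card_le (n := 3) (by norm_num) hA3
  have hA1 : A ≠ ⊥ := fun h => ha₀1 (mem_bot.mp (h ▸ ha₀))
  obtain ⟨Q, hW, hQq, -, hmax⟩ := exists_maximal_ge (functor_mem_family hθ ha₀ ha₀1)
    (hall a₀ ha₀ ha₀1)
  have hfix : Cfsg.signalizerInf A θ ≤ Q := by
    obtain ⟨S, hS⟩ := exists_sylow_inf_centralizer hA hA3 hθ hqp hW hQq hmax le_rfl hA1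
    have h : (S : Subgroup ↥(Cfsg.signalizerInf A θ)) = ⊤ := (S.3
      (((hall a₀ ha₀ ha₀1).to_le (signalizerInf_le ha₀ ha₀1)).of_equiv Subgroup.topEquiv.symm)
      le_top).symm
    rw [h, ← MonoidHom.range_eq_map, range_subtype] at hS
    exact hS.le.trans inf_le_left
  refine ⟨Q, hW.2.2.1, hW.2.1, fun a ha ha1 => le_antisymm (family_inf_le hW ha ha1)
    (le_inf ?_ (functor_le_centralizer hθ ha ha1))⟩
  obtain ⟨Q', hW', hq', hle', hm'⟩ := exists_maximal_ge (functor_mem_family hθ ha ha1) (hall a ha ha1)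
  obtain ⟨c, hc, hcQ⟩ := transitivity hA hA3 hθ hqp hW hQq hmax hW' hq' hm'
  rw [map_conj_eq_self (le_normalizer (hfix hc))] at hcQ
  rwa [hcQ]

end CfsgLib.Signalizer
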