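import Cfsg.Agent.Lib.Signalizer.Bender
import Cfsg.Agent.Lib.Signalizer.Transitivity
import Cfsg.Agent.Lib.OddOrder.ZJ

/-!
Two maximal members of a minimal incomplete `2`-functor with the same single Fitting prime coincide.
-/

set_option autoImplicit false
set_option linter.style.haveILetI false
set_option linter.unusedVariables false
set_option linter.unusedSectionVars false

open scoped Pointwise commutatorElement
open Subgroup

universe u

namespace CfsgLib.Signalizer

variable {G : Type u} [Group G] [Finite G] {A : Subgroup G} {θ : G → Subgroup G}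

namespace IsMinimalIncomplete

/-- A maximal member with a single Fitting prime `q` has an invariant Sylow `q`-subgroup that is a
maximal `q`-member, whose characteristic abelian subgroup is normal in the member. -/
theorem exists_sylow_member (h : IsMinimalIncomplete 2 A θ) {M : Subgroup G}
    (hM : IsMaxMember 2 A θ M) {q : ℕ} [Fact q.Prime] (hMq : oq q M ≠ ⊥) (hmix : ¬ IsMixed M) :
    q ≠ 2 ∧ ∃ T : Subgroup G, T ≤ M ∧ T ≠ ⊥ ∧ T ∈ Cfsg.signalizerFamily 2 A θ ∧ IsPGroup q T ∧
      (∀ R ∈ Cfsg.signalizerFamily 2 A θ, IsPGroup q ↥R → T ≤ R → R = T) ∧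
      M ≤ normalizer (PLoc.interMaxAb 0 T : Set G) := by
  haveI : Fact (Nat.Prime 2) := ⟨Nat.prime_two⟩
  have hA := h.elem
  have hodd : Odd (Nat.card M) :=
    Nat.not_even_iff_odd.mp fun he => hM.not_dvd (even_iff_two_dvd.mp he)
  haveI := hM.solvable
  have hq2 : q ≠ 2 := by
    rintro rfl
    obtain ⟨n, hn⟩ := (oq_isPGroup 2 M).exists_card_eq
    rcases Nat.eq_zero_or_pos n with h0 | h0
    · rw [h0, pow_zero] at hn
      exact hMq (card_eq_one.mp hn)
    · exact hM.not_dvd (((dvd_pow_self 2 (by omega)).trans hn.symm.dvd).trans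
        (card_dvd_of_le (oq_le 2 M)))
  -- the `q'`-core is trivial
  have hopr : opr q M = ⊥ := by
    by_contra hne
    obtain ⟨r, hr, hrI⟩ := exists_oq_ne_bot
      (Group.isSolvable_of_isSolvable_injective (inclusion_injective (opr_le q M))) hne
    haveI := Fact.mk hr
    have hle : oq r (opr q M) ≤ oq r M := le_oq_of ((oq_le r _).trans (opr_le q M))
      ((le_normalizer_opr q M).trans (normalizer_le_normalizer_oq r _)) (oq_isPGroup r _)
    have hrM : oq r M ≠ ⊥ := fun h0 => hrI (le_bot_iff.mp (hle.trans h0.le))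
    by_cases hrq : r = q
    · refine hrI (le_bot_iff.mp ((le_inf hle (oq_le r (opr q M))).trans
        (le_of_eq (inf_eq_bot_of_coprime ?_))))
      obtain ⟨n, hn⟩ := (oq_isPGroup r M).exists_card_eq
      rw [hn, hrq]
      exact Nat.Coprime.pow_left n (opr_coprime q M).symm
    · exact hmix ⟨r, q, hr, Fact.out, hrq, hrM, hMq⟩
  have hO : Cfsg.pPrimeCore q M = ⊥ :=
    (map_eq_bot_iff_of_injective _ M.subtype_injective).1 hopr
  obtain ⟨S, hAS⟩ := CfsgLib.Solvable.exists_invariant_sylow hM.le_normalizer'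
    (elementary_coprime hA hM.not_dvd) (Or.inl (elementary_isSolvable hA)) q
  set T := (S : Subgroup M).map M.subtype with hT
  have hTM : T ≤ M := map_subtype_le _
  have hTq : IsPGroup q T := S.2.map _
  have hTne : T ≠ ⊥ := fun h0 => hMq (le_bot_iff.mp (by
    rw [← h0, hT, oq]
    exact map_mono (CfsgLib.Solvable.pCore_le_sylow S)))
  have hTf : T ∈ Cfsg.signalizerFamily 2 A θ := family_of_le hM.1 hTM hAS
  set Z := PLoc.interMaxAb 0 T with hZ
  have hZeq : Z = (PLoc.interMaxAb 0 (S : Subgroup M)).map M.subtype :=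
    CfsgLib.OddOrder.interMaxAb_map M.subtype_injective 0 _
  have hZn := CfsgLib.OddOrder.interMaxAb_normal hodd hq2
    (CfsgLib.OddOrder.centralizer_pCore_le hO) S 0
  have hMZ : M ≤ normalizer (Z : Set G) := by
    rw [hZeq]
    have := le_normalizer_map (H := PLoc.interMaxAb 0 (S : Subgroup M)) M.subtype
    rw [normalizer_eq_top_iff.mpr hZn, ← MonoidHom.range_eq_map, range_subtype] at this
    exact this
  refine ⟨hq2, T, hTM, hTne, hTf, hTq, fun R hR hRq hTR => ?_, hMZ⟩
  by_contra hne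
  have hlt : T < R := lt_of_le_of_ne hTR (Ne.symm hne)
  have hlt2 := inf_lt_normalizer hRq hTR hlt.ne
  have hAX : A ≤ normalizer ((R ⊓ normalizer (T : Set G) : Subgroup G) : Set G) :=
    le_normalizer_inf (family_le_normalizer hR) (hAS.trans le_normalizer)
  have hX : R ⊓ normalizer (T : Set G) ∈ Cfsg.signalizerFamily 2 A θ :=
    family_of_le hR inf_le_left hAX
  have hle : R ⊓ normalizer (T : Set G) ≤ M :=
    h.le_max_of_normalizes hM ((CfsgLib.OddOrder.interMaxAb_le_self 0 T).trans hTM)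
      (hAS.trans (CfsgLib.OddOrder.normalizer_le_normalizer_interMaxAb 0 T)) hMZ
      (CfsgLib.OddOrder.interMaxAb_zero_ne_bot hTq hTne) hX
      (inf_le_right.trans (CfsgLib.OddOrder.normalizer_le_normalizer_interMaxAb 0 T))
  refine hlt2 fun x hx => ?_
  have h3 := S.3 ((hRq.to_le inf_le_left).comap_of_injective M.subtype M.subtype_injective)
    (fun s hs => ⟨hTR (mem_map_of_mem M.subtype hs),
      le_normalizer (mem_map_of_mem M.subtype hs)⟩)
  exact ⟨⟨x, hle ⟨hx.2, hx.1⟩⟩, h3 ▸ (show (⟨x, hle ⟨hx.2, hx.1⟩⟩ : M) ∈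
    (R ⊓ normalizer (T : Set G)).comap M.subtype from ⟨hx.2, hx.1⟩), rfl⟩

/-- Two maximal members sharing their only Fitting prime are equal. -/
theorem eq_of_not_mixed (h : IsMinimalIncomplete 2 A θ) {M N : Subgroup G}
    (hM : IsMaxMember 2 A θ M) (hN : IsMaxMember 2 A θ N) {q : ℕ} [Fact q.Prime]
    (hMq : oq q M ≠ ⊥) (hNq : oq q N ≠ ⊥) (hM1 : ¬ IsMixed M) (hN1 : ¬ IsMixed N)
    (hDM : Cfsg.signalizerInf A θ ≤ M) (hDN : Cfsg.signalizerInf A θ ≤ N) : M = N := by
  haveI : Fact (Nat.Prime 2) := ⟨Nat.prime_two⟩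
  obtain ⟨hq2, T, hTM, hTne, hTf, hTq, hTmax, hMT⟩ := h.exists_sylow_member hM hMq hM1
  obtain ⟨-, T', hTN, -, hT'f, hT'q, hT'max, hNT⟩ := h.exists_sylow_member hN hNq hN1
  obtain ⟨c, hc, hcT⟩ :=
    transitivity h.elem h.card_ge h.functor hq2 hTf hTq hTmax hT'f hT'q hT'max
  set Z := PLoc.interMaxAb 0 T with hZdef
  set Z' := PLoc.interMaxAb 0 T' with hZ'def
  have hZ' : Z' = Z.map (MulAut.conj c).toMonoidHom := by
    rw [hZ'def, ← hcT]
    exact CfsgLib.OddOrder.interMaxAb_map (MulAut.conj c).injective 0 T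
  have hcZ : Z' = Z := by rw [hZ']; exact map_conj_eq_self (hMT (hDM hc))
  have hZN : Z' ≤ N := (CfsgLib.OddOrder.interMaxAb_le_self 0 T').trans hTN
  have hAZ : A ≤ normalizer (Z' : Set G) :=
    (family_le_normalizer hT'f).trans (CfsgLib.OddOrder.normalizer_le_normalizer_interMaxAb 0 T')
  have hZne : Z' ≠ ⊥ := by
    rw [hcZ]; exact CfsgLib.OddOrder.interMaxAb_zero_ne_bot hTq hTne
  have hle : M ≤ N := h.le_max_of_normalizes hN hZN hAZ hNT hZne hM.1 (hcZ ▸ hMT)
  exact (hM.2 N hN.1 hle).symm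

end IsMinimalIncomplete

end CfsgLib.Signalizer
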