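import Cfsg.Agent.Lib.Signalizer.Basic
import Cfsg.Agent.Lib.Components.GenFitting
import Cfsg.Agent.Lib.Components.PLayer
import Cfsg.Agent.Lib.Case.CharTwo
import Cfsg.Agent.Lib.Solvable.InvariantHall

/-!
A criterion for a `q'`-subgroup of a solvable invariant subgroup to lie in the `q'`-core.
-/

set_option autoImplicit false
set_option linter.style.haveILetI false
set_option linter.unusedVariables false
set_option linter.unusedSectionVars false

open Subgroup CfsgLib.Components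
open scoped commutatorElement

namespace CfsgLib.Signalizer

/-- The preimage of `O_q(K / O_{q'}(K))` is characteristic. -/
theorem comap_pCore_quotient_characteristic {K : Type*} [Group K] [Finite K] (q : ℕ) :
    ((Cfsg.pCore q (K ⧸ Cfsg.pPrimeCore q K)).comap
      (QuotientGroup.mk' (Cfsg.pPrimeCore q K))).Characteristic := by
  refine characteristic_iff_map_le.mpr fun φ => ?_
  rintro _ ⟨x, hx, rfl⟩
  set ψ : (K ⧸ Cfsg.pPrimeCore q K) ≃* (K ⧸ Cfsg.pPrimeCore q K) :=
    QuotientGroup.congr _ _ φ (characteristic_iff_map_eq.mp inferInstance φ) with hψ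
  rw [mem_comap]
  have h : QuotientGroup.mk' (Cfsg.pPrimeCore q K) (φ x) = ψ (QuotientGroup.mk' _ x) := rfl
  show QuotientGroup.mk' (Cfsg.pPrimeCore q K) (φ x) ∈ Cfsg.pCore q (K ⧸ Cfsg.pPrimeCore q K)
  rw [h, ← pCore_map_equiv q ψ]
  exact ⟨_, hx, rfl⟩

variable {H : Type*} [Group H] [Finite H] {p : ℕ} [hp : Fact p.Prime]

theorem exists_relIndex_eq {A : Subgroup H} (hA : Cfsg.IsElementaryAbelian p A)
    (hA1 : p ≤ Nat.card A) : ∃ B ≤ A, B.relIndex A = p := by
  obtain ⟨n, hn⟩ := (elementary_isPGroup hA).exists_card_eq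
  cases n with
  | zero => rw [hn, pow_zero] at hA1; exact absurd hA1 (not_le.mpr hp.out.one_lt)
  | succ m =>
    obtain ⟨B', hB'⟩ := Sylow.exists_subgroup_card_pow_prime p (G := A) (n := m)
      (by rw [hn]; exact pow_dvd_pow p (Nat.le_succ m))
    refine ⟨B'.map A.subtype, map_subtype_le _, ?_⟩
    rw [relIndex, subgroupOf, comap_map_eq_self_of_injective A.subtype_injective]
    have h := B'.card_mul_index
    rw [hn, hB', pow_succ] at h
    exact Nat.eq_of_mul_eq_mul_left (Nat.pow_pos hp.out.pos) h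

theorem le_pPrimeCore_of_commutators {A K U : Subgroup H} (hA : Cfsg.IsElementaryAbelian p A)
    (hA1 : p ≤ Nat.card A) (hK : ¬ p ∣ Nat.card K) (hKs : Group.IsSolvable K)
    (hAK : A ≤ normalizer (K : Set H)) {q : ℕ} [hq : Fact q.Prime] (hU : U ≤ K)
    (hUq : ¬ q ∣ Nat.card U)
    (hcomm : ∀ B : Subgroup H, B ≤ A → B.relIndex A = p →
      ¬ q ∣ Nat.card ↥⁅U, K ⊓ centralizer (B : Set H)⁆) :
    U ≤ (Cfsg.pPrimeCore q K).map K.subtype := by
  haveI := hA.1
  haveI := hKs
  set O := Cfsg.pPrimeCore q K with hO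
  set f := QuotientGroup.mk' O with hf
  haveI : Group.IsSolvable (↥K ⧸ O) :=
    Group.isSolvable_of_surjective (QuotientGroup.mk'_surjective O)
  set V := (Cfsg.pCore q (↥K ⧸ O)).comap f with hV
  haveI : V.Characteristic := comap_pCore_quotient_characteristic q
  set W := V.map K.subtype with hW
  have hAW : A ≤ normalizer (W : Set H) :=
    hAK.trans (CfsgLib.Solvable.normalizer_le_of_characteristic_map V)
  set Ub := (U.subgroupOf K).map f with hUb
  set T := ((centralizer (Ub : Set (↥K ⧸ O))).comap f).map K.subtype with hT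
  have hWT : W ≤ T := by
    refine CfsgLib.Solvable.le_of_cyclic_quotient_centralizer_le hAW
      (elementary_coprime hA (not_dvd_of_le (map_subtype_le V) hK)) fun B hB ⟨a, ha, hBa⟩ => ?_
    obtain ⟨B', hB'B, hB'A, hB'⟩ : ∃ B' : Subgroup H, B' ≤ B ∧ B' ≤ A ∧ B'.relIndex A = p := by
      by_cases hab : a ∈ B
      · have hBA : B = A := le_antisymm hB (hBa.trans (sup_le le_rfl (zpowers_le.mpr hab)))
        obtain ⟨B', h1, h2⟩ := exists_relIndex_eq hA hA1
        exact ⟨B', hBA ▸ h1, h1, h2⟩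
      · refine ⟨B, le_rfl, hB, ?_⟩
        have h1 := card_le_index_mul hA hB ha hBa
        have h2 : Nat.card B * B.relIndex A = Nat.card A := by
          rw [← relIndex_bot_left, ← relIndex_bot_left]
          exact relIndex_mul_relIndex _ _ _ bot_le hB
        rw [← h2, mul_comm p] at h1
        have h3 := Nat.le_of_mul_le_mul_left h1 Nat.card_pos
        obtain ⟨n, hn⟩ := (elementary_isPGroup hA).exists_card_eq
        obtain ⟨i, hi, hie⟩ := (Nat.dvd_prime_pow hp.out).mp
          (hn ▸ (Dvd.intro_left _ h2 : B.relIndex A ∣ Nat.card A))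
        cases i with
        | zero => exact absurd (relIndex_eq_one.mp (by rw [hie, pow_zero]) ha) hab
        | succ j =>
          rw [hie] at h3 ⊢
          have h4 : j = 0 := by
            by_contra hj
            have := Nat.pow_lt_pow_right hp.out.one_lt (show 1 < j + 1 by omega)
            rw [pow_one] at this
            omega
          rw [h4, zero_add, pow_one]
    rintro _ ⟨⟨w, hw, rfl⟩, hwB⟩
    refine ⟨w, mem_centralizer_iff.mpr ?_, rfl⟩
    rintro _ ⟨u, hu, rfl⟩
    have hc : ((⁅u, w⁆ : K) : H) ∈ ⁅U, K ⊓ centralizer (B' : Set H)⁆ :=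
      commutator_mem_commutator (g₁ := (u : H)) (g₂ := (w : H)) hu
        ⟨w.2, centralizer_le hB'B hwB⟩
    have h1 : orderOf (f ⁅u, w⁆) ∣ Nat.card ↥⁅U, K ⊓ centralizer (B' : Set H)⁆ := by
      refine (orderOf_map_dvd f _).trans ?_
      rw [← orderOf_coe]
      exact Subgroup.orderOf_dvd_natCard _ hc
    have h2 : f ⁅u, w⁆ ∈ Cfsg.pCore q (↥K ⧸ O) := by
      rw [map_commutatorElement]
      show f u * f w * (f u)⁻¹ * (f w)⁻¹ ∈ _
      exact mul_mem ((inferInstance : (Cfsg.pCore q (↥K ⧸ O)).Normal).conj_mem _ hw _) (inv_mem hw)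
    obtain ⟨n, hn⟩ := (isPGroup_pCore (G := ↥K ⧸ O) q).exists_card_eq
    have h3 : orderOf (f ⁅u, w⁆) = 1 := Nat.eq_one_of_dvd_coprimes
      ((hq.out.coprime_iff_not_dvd.mpr (hcomm B' hB'A hB')).pow_left n)
      (hn ▸ Subgroup.orderOf_dvd_natCard _ h2) h1
    rw [orderOf_eq_one_iff, map_commutatorElement, commutatorElement_eq_one_iff_mul_comm] at h3
    exact h3
  have hVU : Cfsg.pCore q (↥K ⧸ O) ≤ centralizer (Ub : Set (↥K ⧸ O)) := by
    intro x hx
    obtain ⟨w, rfl⟩ := QuotientGroup.mk'_surjective O x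
    obtain ⟨w', hw', he⟩ := hWT ⟨w, hx, rfl⟩
    rwa [← K.subtype_injective he]
  have hUV : Ub ≤ Cfsg.pCore q (↥K ⧸ O) := (le_centralizer_iff.mp hVU).trans
    (CfsgLib.Case.centralizer_pCore_le_of_solvable pPrimeCore_quotient_self)
  intro x hx
  refine ⟨⟨x, hU hx⟩, ?_, rfl⟩
  rw [SetLike.mem_coe, ← QuotientGroup.eq_one_iff]
  obtain ⟨n, hn⟩ := (isPGroup_pCore (G := ↥K ⧸ O) q).exists_card_eq
  refine orderOf_eq_one_iff.mp (Nat.eq_one_of_dvd_coprimes
    ((hq.out.coprime_iff_not_dvd.mpr hUq).pow_left n)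
    (hn ▸ Subgroup.orderOf_dvd_natCard _ (hUV ⟨⟨x, hU hx⟩, hx, rfl⟩)) ?_)
  refine (orderOf_map_dvd f ⟨x, hU hx⟩).trans ?_
  rw [orderOf_mk]
  exact Subgroup.orderOf_dvd_natCard _ hx

end CfsgLib.Signalizer
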