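import Cfsg.Agent.Lib.Solvable.CoprimeGeneration
import Cfsg.Agent.Lib.Solvable.CoprimeAbelian
import Cfsg.Agent.Lib.Signalizer.Commutators

/-!
Fixed points of a subgroup `B` of an abelian group `A` acting coprimely on a solvable group
`Y = [Y, A]`: they are generated by the fixed points in the subgroups `[C_Y(B₀), A]`, `B / B₀`
cyclic.
-/

set_option autoImplicit false
set_option linter.style.haveILetI false
set_option linter.unusedVariables false
set_option linter.unusedSectionVars false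

open scoped commutatorElement
open Subgroup

universe u

namespace CfsgLib.Signalizer.CommFix

variable {G : Type u} [Group G] [Finite G] {A B Y : Subgroup G}

/-- `B₀` is contained in `B` with cyclic quotient. -/
def Good (B B₀ : Subgroup G) : Prop := B₀ ≤ B ∧ ∃ b ∈ B, B ≤ B₀ ⊔ zpowers b

/-- The subgroup `[C_Y(B₀), A]`. -/
def piece (A B₀ Y : Subgroup G) : Subgroup G := ⁅Y ⊓ centralizer (B₀ : Set G), A⁆

/-- The subgroup generated by the fixed points of `B` in the subgroups `[C_Y(B₀), A]`. -/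
def gen (A B Y : Subgroup G) : Subgroup G :=
  ⨆ B₀ : {B₀ : Subgroup G // Good B B₀}, Y ⊓ centralizer (B : Set G) ⊓ piece A (B₀ : Subgroup G) Y

theorem gen_le : gen A B Y ≤ Y ⊓ centralizer (B : Set G) := iSup_le fun _ => inf_le_left

theorem mem_gen {B₀ : Subgroup G} (h : Good B B₀) {x : G} (hY : x ∈ Y)
    (hB : x ∈ centralizer (B : Set G)) (hx : x ∈ piece A B₀ Y) : x ∈ gen A B Y :=
  mem_iSup_of_mem (⟨B₀, h⟩ : {B₀ : Subgroup G // Good B B₀}) ⟨⟨hY, hB⟩, hx⟩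

theorem good_self : Good B B := ⟨le_rfl, 1, one_mem _, le_sup_left⟩

/-- The assumptions on the action. -/
structure Acts (A B Y : Subgroup G) : Prop where
  comm : IsMulCommutative ↥A
  le : B ≤ A
  norm : A ≤ normalizer (Y : Set G)
  cop : (Nat.card A).Coprime (Nat.card Y)
  solv : Group.IsSolvable ↥Y
  eq : ⁅Y, A⁆ = Y

variable (h : Acts A B Y)
include h

theorem Acts.commute {a b : G} (ha : a ∈ A) (hb : b ∈ A) : a * b = b * a :=
  congrArg Subtype.val (h.comm.is_comm.comm (⟨a, ha⟩ : A) ⟨b, hb⟩)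

theorem Acts.le_centralizer {B₀ : Subgroup G} (hB₀ : B₀ ≤ A) : A ≤ centralizer (B₀ : Set G) :=
  fun _ ha _ hb => h.commute (hB₀ hb) ha

theorem Acts.fixed_invariant {B₀ : Subgroup G} (hB₀ : B₀ ≤ A) :
    A ≤ normalizer ((Y ⊓ centralizer (B₀ : Set G) : Subgroup G) : Set G) :=
  le_normalizer_inf h.norm ((h.le_centralizer hB₀).trans le_normalizer)

theorem Acts.piece_le {B₀ : Subgroup G} (hB₀ : B₀ ≤ A) :
    piece A B₀ Y ≤ Y ⊓ centralizer (B₀ : Set G) :=
  CfsgLib.Solvable.commutator_le_of_normalizes (h.fixed_invariant hB₀)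

theorem Acts.piece_sup {B₀ : Subgroup G} (hB₀ : B₀ ≤ A) :
    piece A B₀ Y ⊔ (Y ⊓ centralizer (B₀ : Set G) ⊓ centralizer (A : Set G)) =
      Y ⊓ centralizer (B₀ : Set G) :=
  CfsgLib.Solvable.commutator_sup_centralizer (h.fixed_invariant hB₀)
    (h.cop.coprime_dvd_right (card_dvd_of_le inf_le_left))
    (Or.inl (Group.isSolvable_of_comm fun a b => h.comm.is_comm.comm a b))

theorem Acts.exists_decomp {B₀ : Subgroup G} (hB₀ : B₀ ≤ A) {x : G}
    (hx : x ∈ Y ⊓ centralizer (B₀ : Set G)) :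
    ∃ m ∈ piece A B₀ Y, ∃ c ∈ Y ⊓ centralizer (B₀ : Set G) ⊓ centralizer (A : Set G),
      x = m * c := by
  rw [← h.piece_sup hB₀] at hx
  obtain ⟨m, hm, c, hc, hmc⟩ := (CfsgLib.Solvable.mem_sup_of_le_normalizer
    (inf_le_left.trans (CfsgLib.Solvable.le_normalizer_commutator_left _ A))).mp hx
  exact ⟨m, hm, c, hc, hmc.symm⟩

/-- `Y` is generated by the subgroups `[C_Y(B₀), A]`. -/
theorem Acts.le_of_pieces {W : Subgroup G} (hW : ∀ B₀, Good B B₀ → piece A B₀ Y ≤ W) : Y ≤ W := by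
  haveI : IsMulCommutative ↥B := ⟨⟨fun a b => Subtype.ext (h.commute (h.le a.2) (h.le b.2))⟩⟩
  set N := ⨆ B₀ : {B₀ : Subgroup G // Good B B₀}, piece A (B₀ : Subgroup G) Y with hN
  set C := Y ⊓ centralizer (A : Set G) with hC
  have hcop : (Nat.card B).Coprime (Nat.card Y) := h.cop.coprime_dvd_left (card_dvd_of_le h.le)
  have hY : Y ≤ N ⊔ C := by
    refine CfsgLib.Solvable.le_of_cyclic_quotient_centralizer_le (h.le.trans h.norm) hcop ?_
    intro B₀ hB₀ hcyc x hx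
    obtain ⟨m, hm, c, hc, rfl⟩ := h.exists_decomp (hB₀.trans h.le) hx
    exact mul_mem (mem_sup_left (mem_iSup_of_mem (⟨B₀, hB₀, hcyc⟩ : {B₀ // Good B B₀}) hm))
      (mem_sup_right ⟨hc.1.1, hc.2⟩)
  have hCN : C ≤ normalizer (N : Set G) := le_normalizer_iSup fun B₀ =>
    (le_inf inf_le_left (inf_le_right.trans (centralizer_le (B₀.2.1.trans h.le)))).trans
      (CfsgLib.Solvable.le_normalizer_commutator_left _ A)
  have hAN : A ≤ normalizer (N : Set G) := le_normalizer_iSup fun B₀ =>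
    CfsgLib.Solvable.le_normalizer_commutator_right _ A
  have hYA : ⁅Y, A⁆ ≤ N := by
    rw [commutator_le]
    intro y hy a ha
    obtain ⟨n, hn, c, hc, rfl⟩ := (CfsgLib.Solvable.mem_sup_of_le_normalizer hCN).mp (hY hy)
    have h1 : ⁅n * c, a⁆ = ⁅n, a⁆ := by
      simp only [commutatorElement_def]
      calc n * c * a * (n * c)⁻¹ * a⁻¹ = n * (c * a * c⁻¹) * n⁻¹ * a⁻¹ := by group
        _ = n * a * n⁻¹ * a⁻¹ := by rw [← hc.2 a ha, mul_inv_cancel_right]
    rw [h1, commutatorElement_def, mul_assoc n, mul_assoc n]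
    exact mul_mem hn (le_normalizer_iff.mp hAN a ha _ (inv_mem hn))
  rw [h.eq] at hYA
  exact hYA.trans (iSup_le fun B₀ => hW B₀ B₀.2)

omit h

section norm

variable (V : Subgroup G) [IsMulCommutative ↥V]

/-- Conjugation on an abelian normalized subgroup. -/
def conjHom (g : G) (hg : g ∈ normalizer (V : Set G)) : ↥V →* ↥V where
  toFun v := ⟨g * v * g⁻¹, (mem_normalizer_iff.mp hg v).mp v.2⟩
  map_one' := Subtype.ext (by simp)
  map_mul' v w := Subtype.ext (by simp [mul_assoc])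

open scoped IsMulCommutative in
/-- An additive average over `B` of an element of an abelian group: multiplicative norm. -/
theorem exists_norm (hBV : B ≤ normalizer (V : Set G)) :
    ∃ μ : ↥V →* G, (∀ b ∈ B, ∀ v w : ↥V, (w : G) = b * v * b⁻¹ → μ w = μ v) ∧
      (∀ v : ↥V, (v : G) ∈ centralizer (B : Set G) → μ v = (v : G) ^ Nat.card B) ∧
      (∀ (v : ↥V) (M : Subgroup G), B ≤ normalizer (M : Set G) → (v : G) ∈ M → μ v ∈ M) ∧
      ∀ v : ↥V, μ v ∈ V ⊓ centralizer (B : Set G) := by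
  classical
  haveI : Fintype B := Fintype.ofFinite B
  let c : B → (↥V →* ↥V) := fun b => conjHom V b (hBV b.2)
  let ν : ↥V →* ↥V :=
    { toFun := fun w => ∏ a, c a w
      map_one' := by simp
      map_mul' := fun w w' => by simp [Finset.prod_mul_distrib] }
  have hinv : ∀ (b : B) (w : ↥V), ν (c b w) = ν w := by
    intro b w
    show ∏ a, c a (c b w) = ∏ a, c a w
    refine Fintype.prod_equiv (Equiv.mulRight b) _ _ fun a => ?_
    exact Subtype.ext (show (a : G) * ((b : G) * w * (b : G)⁻¹) * (a : G)⁻¹ =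
      ((a * b : B) : G) * w * ((a * b : B) : G)⁻¹ by simp [mul_assoc])
  refine ⟨V.subtype.comp ν, fun b hb v w hw => ?_, fun v hv => ?_, fun v M hM hv => ?_,
    fun v => ⟨(ν v).2, fun b hb => ?_⟩⟩
  · have e : w = c ⟨b, hb⟩ v := Subtype.ext hw
    simp [e, hinv]
  · have e : ν v = v ^ Nat.card B := by
      show ∏ a, c a v = _
      rw [Nat.card_eq_fintype_card, ← Finset.card_univ, ← Finset.prod_const]
      refine Finset.prod_congr rfl fun a _ => Subtype.ext ?_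
      show (a : G) * v * (a : G)⁻¹ = v
      rw [hv a a.2, mul_inv_cancel_right]
    simp [e]
  · show ν v ∈ M.comap V.subtype
    exact Subgroup.prod_mem _ fun a _ => le_normalizer_iff.mp hM a a.2 _ hv
  · show b * (ν v : G) = (ν v : G) * b
    have e : c ⟨b, hb⟩ (ν v) = ν v := by
      show c ⟨b, hb⟩ (∏ a, c a v) = ∏ a, c a v
      rw [map_prod]
      refine Fintype.prod_equiv (Equiv.mulLeft ⟨b, hb⟩) _ _ fun a => ?_
      exact Subtype.ext (show b * ((a : G) * v * (a : G)⁻¹) * b⁻¹ =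
        b * (a : G) * v * (b * (a : G))⁻¹ by group)
    exact mul_inv_eq_iff_eq_mul.mp (congrArg Subtype.val e)

end norm

section average

variable {V W : Subgroup G} [IsMulCommutative ↥V]

/-- The averaged commutator with an element `y` fixed by `B₀`. -/
theorem average_mem (h : Acts A B Y) {μ : ↥V →* G}
    (hinv : ∀ b ∈ B, ∀ v w : ↥V, (w : G) = b * v * b⁻¹ → μ w = μ v)
    (hWY : W ≤ Y) (hWA : A ≤ normalizer (W : Set G)) {B₀ : Subgroup G} (hB₀ : B₀ ≤ B)
    {y : G} (hyB : y ∈ centralizer (B₀ : Set G))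
    (hV : ∀ w ∈ W, ⁅w, y⁆ ∈ V)
    (hcent : ∀ w ∈ W, ∀ v ∈ V, w * v = v * w)
    (hfix : ∀ (w : G) (hw : w ∈ W), w ∈ centralizer (B₀ : Set G) →
      μ ⟨⁅w, y⁆, hV w hw⟩ ∈ gen A B Y) :
    ∀ (w : G) (hw : w ∈ W), μ ⟨⁅w, y⁆, hV w hw⟩ ∈ gen A B Y := by
  have hmulG : ∀ w₁ ∈ W, ∀ w₂ ∈ W, ⁅w₁ * w₂, y⁆ = ⁅w₂, y⁆ * ⁅w₁, y⁆ := by
    intro w₁ hw₁ w₂ hw₂
    have e := hcent w₁ hw₁ _ (hV w₂ hw₂)
    calc ⁅w₁ * w₂, y⁆ = (w₁ * ⁅w₂, y⁆) * w₁⁻¹ * ⁅w₁, y⁆ := by
          simp only [commutatorElement_def]; group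
      _ = ⁅w₂, y⁆ * ⁅w₁, y⁆ := by rw [e, mul_inv_cancel_right]
  let f : ↥W →* ↥V :=
    { toFun := fun w => ⟨⁅(w : G), y⁆, hV w w.2⟩
      map_one' := Subtype.ext (by simp [commutatorElement_def])
      map_mul' := fun a b => Subtype.ext (by
        show ⁅(a : G) * b, y⁆ = ⁅(a : G), y⁆ * ⁅(b : G), y⁆
        rw [hmulG a a.2 b b.2]
        exact setLike_mul_comm (hV b b.2) (hV a a.2)) }
  set φ : ↥W →* G := μ.comp f with hφ
  have hBW : B₀ ≤ normalizer (W : Set G) := (hB₀.trans h.le).trans hWA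
  have hconj : ∀ b ∈ B₀, ∀ (w : G) (hw : w ∈ W) (hw' : b * w * b⁻¹ ∈ W),
      φ ⟨b * w * b⁻¹, hw'⟩ = φ ⟨w, hw⟩ := by
    intro b hb w hw hw'
    refine hinv b (hB₀ hb) ⟨⁅w, y⁆, hV w hw⟩ ⟨⁅b * w * b⁻¹, y⁆, hV _ hw'⟩ ?_
    have e : y = b * y * b⁻¹ := (mul_inv_eq_of_eq_mul (hyB b hb)).symm
    show ⁅b * w * b⁻¹, y⁆ = b * ⁅w, y⁆ * b⁻¹
    conv_lhs => rw [e]
    simp only [commutatorElement_def]
    group
  have hsub : ⁅W, B₀⁆ ≤ φ.ker.map W.subtype := by
    rw [commutator_le]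
    intro w hw b hb
    have hbw : b * w⁻¹ * b⁻¹ ∈ W := le_normalizer_iff.mp hBW b hb _ (inv_mem hw)
    refine ⟨⟨w, hw⟩ * ⟨b * w⁻¹ * b⁻¹, hbw⟩, ?_, ?_⟩
    · show φ _ = 1
      rw [map_mul, hconj b hb _ (inv_mem hw) hbw]
      show φ ⟨w, hw⟩ * φ (⟨w, hw⟩ : ↥W)⁻¹ = 1
      rw [← map_mul, mul_inv_cancel, map_one]
    · show w * (b * w⁻¹ * b⁻¹) = ⁅w, b⁆
      simp only [commutatorElement_def]
      group
  have hdec := CfsgLib.Solvable.commutator_sup_centralizer hBW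
    ((h.cop.coprime_dvd_left (card_dvd_of_le (hB₀.trans h.le))).coprime_dvd_right
      (card_dvd_of_le hWY))
    (Or.inl (Group.isSolvable_of_comm fun a b =>
      Subtype.ext (h.commute (h.le (hB₀ a.2)) (h.le (hB₀ b.2)))))
  intro w hw
  have hw0 := hw
  rw [← hdec] at hw0
  obtain ⟨m, hm, c, hc, hmc⟩ := (CfsgLib.Solvable.mem_sup_of_le_normalizer
    (inf_le_left.trans (CfsgLib.Solvable.le_normalizer_commutator_left W B₀))).mp hw0
  obtain ⟨m', hm', rfl⟩ := hsub hm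
  have e : (⟨w, hw⟩ : ↥W) = m' * ⟨c, hc.1⟩ := Subtype.ext hmc.symm
  show φ ⟨w, hw⟩ ∈ gen A B Y
  rw [e, map_mul, MonoidHom.mem_ker.mp hm', one_mul]
  exact hfix c hc.1 hc.2

end average

/-- Fixed points of `B` in an abelian subgroup generated by averaged elements. -/
theorem le_gen_of_average (h : Acts A B Y) {V : Subgroup G} [IsMulCommutative ↥V] (hVY : V ≤ Y)
    {μ : ↥V →* G}
    (hfix : ∀ v : ↥V, (v : G) ∈ centralizer (B : Set G) → μ v = (v : G) ^ Nat.card B)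
    (hgen : V ≤ ((gen A B Y).comap μ).map V.subtype) :
    V ⊓ centralizer (B : Set G) ≤ gen A B Y := by
  rintro x ⟨hxV, hxB⟩
  obtain ⟨v, hv, hvx⟩ := hgen hxV
  have hv' : μ v ∈ gen A B Y := hv
  rw [hfix v (by show V.subtype v ∈ _; rw [hvx]; exact hxB)] at hv'
  change (V.subtype v) ^ Nat.card B ∈ gen A B Y at hv'
  rw [hvx] at hv'
  have hco : (Nat.card B).Coprime (orderOf x) :=
    (h.cop.coprime_dvd_left (card_dvd_of_le h.le)).coprime_dvd_right
      (Subgroup.orderOf_dvd_natCard Y (hVY hxV))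
  obtain ⟨m, hm⟩ := exists_pow_eq_self_of_coprime hco
  rw [← hm]
  exact pow_mem hv' m

/-- An abelian normal subgroup generated by commutators with `Y`. -/
theorem commutator_fixed_le_gen (h : Acts A B Y) {W : Subgroup G} [IsMulCommutative ↥W]
    (hWY : W ≤ Y) (hWA : A ≤ normalizer (W : Set G)) (hYW : Y ≤ normalizer (W : Set G)) :
    ⁅W, Y⁆ ⊓ centralizer (B : Set G) ≤ gen A B Y := by
  set V := ⁅W, Y⁆ with hVdef
  have hVW : V ≤ W := CfsgLib.Solvable.commutator_le_of_normalizes hYW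
  haveI : IsMulCommutative ↥V :=
    ⟨⟨fun a b => Subtype.ext (setLike_mul_comm (hVW a.2) (hVW b.2))⟩⟩
  have hAV : A ≤ normalizer (V : Set G) := fun a ha =>
    normalizer_inf_le_normalizer_commutator _ _ ⟨hWA ha, h.norm ha⟩
  obtain ⟨μ, hinv, hfix, hmem, hC⟩ := exists_norm V (h.le.trans hAV)
  set T := ((gen A B Y).comap μ).map V.subtype with hT
  have hTV : T ≤ V := map_subtype_le _
  let S : Subgroup G :=
    { carrier := {y | y ∈ Y ∧ ∀ w ∈ W, ⁅w, y⁆ ∈ T}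
      one_mem' := ⟨one_mem _, fun w _ => by simp [commutatorElement_def]⟩
      mul_mem' := fun {a b} ha hb => ⟨mul_mem ha.1 hb.1, fun w hw => by
        have hu := hb.2 w hw
        have hu' := ha.2 _ (hVW (hTV (inv_mem hu)))
        have e : ⁅w, a * b⁆ = ⁅w, a⁆ * (⁅w, b⁆ * ⁅⁅w, b⁆⁻¹, a⁆) := by
          simp only [commutatorElement_def]; group
        rw [e]
        exact mul_mem (ha.2 w hw) (mul_mem hu hu')⟩
      inv_mem' := fun {a} ha => ⟨inv_mem ha.1, fun w hw => by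
        have hu := inv_mem (ha.2 w hw)
        have hu2 : a⁻¹ * ⁅w, a⁆⁻¹ * a ∈ W := by
          have := le_normalizer_iff.mp hYW a⁻¹ (inv_mem ha.1) _ (hVW (hTV hu))
          simpa using this
        have e : ⁅w, a⁻¹⁆ = ⁅a⁻¹ * ⁅w, a⁆⁻¹ * a, a⁆ * ⁅w, a⁆⁻¹ := by
          simp only [commutatorElement_def]; group
        rw [e]
        exact mul_mem (ha.2 _ hu2) hu⟩ }
  have hS : ∀ B₀, Good B B₀ → piece A B₀ Y ≤ S := by
    intro B₀ hB₀ y hy
    have hB₀A := hB₀.1.trans h.le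
    have hyY := h.piece_le hB₀A hy
    refine ⟨hyY.1, fun w hw => Subgroup.mem_map.mpr
      ⟨⟨⁅w, y⁆, commutator_mem_commutator hw hyY.1⟩, ?_, rfl⟩⟩
    refine average_mem h hinv hWY hWA hB₀.1 hyY.2
      (fun w hw => commutator_mem_commutator hw hyY.1)
      (fun w hw v hv => setLike_mul_comm hw (hVW hv)) (fun w hw hwB => ?_) w hw
    refine mem_gen hB₀ (hWY (hVW (hC _).1)) (hC _).2 (hmem _ _ ?_ ?_)
    · exact h.le.trans (CfsgLib.Solvable.le_normalizer_commutator_right _ A)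
    · have hn : w * y * w⁻¹ ∈ piece A B₀ Y :=
        le_normalizer_iff.mp (CfsgLib.Solvable.le_normalizer_commutator_left
          (Y ⊓ centralizer (B₀ : Set G)) A) w ⟨hWY hw, hwB⟩ y hy
      exact mul_mem hn (inv_mem hy)
  refine le_gen_of_average h (hVW.trans hWY) hfix ?_
  exact commutator_le.mpr fun w hw y hy => (h.le_of_pieces hS hy).2 w hw

/-- A central derived subgroup. -/
theorem derived_fixed_le_gen (h : Acts A B Y) {W : Subgroup G} (hWY : W ≤ Y)
    (hWA : A ≤ normalizer (W : Set G)) [IsMulCommutative ↥(⁅W, W⁆ : Subgroup G)]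
    (hcen : ⁅W, W⁆ ≤ centralizer (Y : Set G))
    (hind : Y ⊓ centralizer (B : Set G) ≤
      gen A B Y ⊔ ⁅W, W⁆ ⊓ centralizer (B : Set G)) :
    ⁅W, W⁆ ⊓ centralizer (B : Set G) ≤ gen A B Y := by
  set V := ⁅W, W⁆ with hVdef
  have hVY : V ≤ Y := (CfsgLib.Solvable.commutator_le_of_normalizes le_normalizer).trans hWY
  have hcomm : ∀ g ∈ Y, ∀ v ∈ V, g * v = v * g := fun g hg v hv => hcen hv g hg
  have hAV : A ≤ normalizer (V : Set G) := fun a ha =>
    normalizer_inf_le_normalizer_commutator _ _ ⟨hWA ha, hWA ha⟩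
  obtain ⟨μ, hinv, hfix, hmem, hC⟩ := exists_norm V (h.le.trans hAV)
  set T := ((gen A B Y).comap μ).map V.subtype with hT
  have hTV : T ≤ V := map_subtype_le _
  have hsplit : ∀ x ∈ Y ⊓ centralizer (B : Set G),
      ∃ r ∈ gen A B Y, ∃ v ∈ V, x = r * v := by
    intro x hx
    have hn : V ⊓ centralizer (B : Set G) ≤ normalizer (gen A B Y : Set G) := by
      intro v hv
      refine centralizer_le_normalizer _ ?_
      rw [mem_centralizer_iff]
      intro g (hg : g ∈ gen A B Y)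
      exact hcomm g (gen_le hg).1 v hv.1
    obtain ⟨r, hr, v, hv, hrv⟩ :=
      (CfsgLib.Solvable.mem_sup_of_le_normalizer hn).mp (hind hx)
    exact ⟨r, hr, v, hv.1, hrv.symm⟩
  have hderived : ∀ x ∈ Y ⊓ centralizer (B : Set G), ∀ y ∈ Y ⊓ centralizer (B : Set G),
      ⁅x, y⁆ ∈ gen A B Y := by
    intro x hx y hy
    obtain ⟨r, hr, v, hv, rfl⟩ := hsplit x hx
    obtain ⟨s, hs, v', hv', rfl⟩ := hsplit y hy
    have hc : ∀ g ∈ Y, Commute g v := fun g hg => hcomm g hg v hv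
    have hc' : ∀ g ∈ Y, Commute g v' := fun g hg => hcomm g hg v' hv'
    have hr' := (gen_le hr).1
    have hs' := (gen_le hs).1
    have e : ⁅r * v, s * v'⁆ = ⁅r, s⁆ := by
      simp only [commutatorElement_def, mul_inv_rev]
      calc r * v * (s * v') * (v⁻¹ * r⁻¹) * (v'⁻¹ * s⁻¹)
          = r * ((s * v') * v) * v⁻¹ * r⁻¹ * v'⁻¹ * s⁻¹ := by
            rw [(hc _ (mul_mem hs' (hVY hv'))).eq]; group
        _ = r * s * (v' * r⁻¹) * v'⁻¹ * s⁻¹ := by group
        _ = r * s * (r⁻¹ * v') * v'⁻¹ * s⁻¹ := by rw [(hc' _ (inv_mem hr')).eq]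
        _ = r * s * r⁻¹ * s⁻¹ := by group
    rw [e, commutatorElement_def]
    exact mul_mem (mul_mem (mul_mem hr hs) (inv_mem hr)) (inv_mem hs)
  haveI : IsMulCommutative ↥B := ⟨⟨fun a b => Subtype.ext (h.commute (h.le a.2) (h.le b.2))⟩⟩
  let S : Subgroup G :=
    { carrier := {y | y ∈ W ∧ ∀ w ∈ W, ⁅w, y⁆ ∈ T}
      one_mem' := ⟨one_mem _, fun w _ => by simp [commutatorElement_def]⟩
      mul_mem' := fun {a b} ha hb => ⟨mul_mem ha.1 hb.1, fun w hw => by
        have e : ⁅w, a * b⁆ = ⁅w, a⁆ * (a * ⁅w, b⁆ * a⁻¹) := by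
          simp only [commutatorElement_def]; group
        rw [e, hcomm a (hWY ha.1) _ (hTV (hb.2 w hw)), mul_inv_cancel_right]
        exact mul_mem (ha.2 w hw) (hb.2 w hw)⟩
      inv_mem' := fun {a} ha => ⟨inv_mem ha.1, fun w hw => by
        have e : ⁅w, a⁻¹⁆ = a⁻¹ * ⁅w, a⁆⁻¹ * a := by
          simp only [commutatorElement_def]; group
        rw [e, hcomm a⁻¹ (inv_mem (hWY ha.1)) _ (inv_mem (hTV (ha.2 w hw))),
          inv_mul_cancel_right]
        exact inv_mem (ha.2 w hw)⟩ }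
  have hBW := h.le.trans hWA
  have hWS : W ≤ S := by
    refine CfsgLib.Solvable.le_of_cyclic_quotient_centralizer_le hBW
      ((h.cop.coprime_dvd_left (card_dvd_of_le h.le)).coprime_dvd_right (card_dvd_of_le hWY)) ?_
    intro B₀ hB₀ hcyc y hy
    have hgood : Good B B₀ := ⟨hB₀, hcyc⟩
    have hB₀A := hB₀.trans h.le
    refine ⟨hy.1, fun w hw => Subgroup.mem_map.mpr
      ⟨⟨⁅w, y⁆, commutator_mem_commutator hw hy.1⟩, ?_, rfl⟩⟩
    refine average_mem h hinv hWY hWA hB₀ hy.2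
      (fun w hw => commutator_mem_commutator hw hy.1)
      (fun w hw v hv => hcomm w (hWY hw) v hv) (fun w hw hwB => ?_) w hw
    -- both arguments are fixed by `B₀`
    set M := piece A B₀ Y with hM
    have hMn : Y ⊓ centralizer (B₀ : Set G) ≤ normalizer (M : Set G) :=
      CfsgLib.Solvable.le_normalizer_commutator_left _ A
    obtain ⟨m, hm, c, hc, hwc⟩ := h.exists_decomp hB₀A (x := w) ⟨hWY hw, hwB⟩
    obtain ⟨m', hm', c', hc', hyc⟩ := h.exists_decomp hB₀A (x := y) ⟨hWY hy.1, hy.2⟩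
    have hCB : centralizer (A : Set G) ≤ centralizer (B : Set G) := centralizer_le h.le
    have hr : ⁅c, c'⁆ ∈ gen A B Y :=
      hderived c ⟨hc.1.1, hCB hc.2⟩ c' ⟨hc'.1.1, hCB hc'.2⟩
    have hrC : ⁅c, c'⁆ ∈ Y ⊓ centralizer (B₀ : Set G) := by
      simp only [commutatorElement_def]
      exact mul_mem (mul_mem (mul_mem hc.1 hc'.1) (inv_mem hc.1)) (inv_mem hc'.1)
    have hZn : zpowers ⁅c, c'⁆ ≤ normalizer (M : Set G) := zpowers_le.mpr (hMn hrC)
    have hd : ⁅w, y⁆ ∈ M ⊔ zpowers ⁅c, c'⁆ := by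
      have hn : ∀ g ∈ Y ⊓ centralizer (B₀ : Set G), ∀ x ∈ M, g * x * g⁻¹ ∈ M :=
        fun g hg => le_normalizer_iff.mp hMn g hg
      have e : ⁅w, y⁆ = m * (c * m' * c⁻¹) * (⁅c, c'⁆ * (c' * m⁻¹ * c'⁻¹) * ⁅c, c'⁆⁻¹) *
          (⁅c, c'⁆ * m'⁻¹ * ⁅c, c'⁆⁻¹) * ⁅c, c'⁆ := by
        rw [hwc, hyc]
        simp only [commutatorElement_def]
        group
      rw [e]
      exact mul_mem (mem_sup_left (mul_mem (mul_mem (mul_mem hm (hn c hc.1 m' hm'))
        (hn _ hrC _ (hn c' hc'.1 _ (inv_mem hm)))) (hn _ hrC _ (inv_mem hm'))))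
        (mem_sup_right (mem_zpowers _))
    have hBM : B ≤ normalizer ((M ⊔ zpowers ⁅c, c'⁆ : Subgroup G) : Set G) :=
      le_normalizer_sup (h.le.trans (CfsgLib.Solvable.le_normalizer_commutator_right _ A))
        (le_trans (le_centralizer_iff.mp (zpowers_le.mpr (gen_le hr).2))
          (centralizer_le_normalizer _))
    obtain ⟨m₀, hm₀, t, ht, hmt⟩ := (CfsgLib.Solvable.mem_sup_of_le_normalizer hZn).mp
      (hmem ⟨⁅w, y⁆, commutator_mem_commutator hw hy.1⟩ _ hBM hd)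
    have htg : t ∈ gen A B Y := zpowers_le.mpr hr ht
    rw [← hmt]
    refine mul_mem (mem_gen hgood (h.piece_le hB₀A hm₀).1 ?_ hm₀) htg
    have e : m₀ = μ ⟨⁅w, y⁆, commutator_mem_commutator hw hy.1⟩ * t⁻¹ :=
      eq_mul_inv_of_mul_eq hmt
    rw [e]
    exact mul_mem (hC _).2 (inv_mem (gen_le htg).2)
  refine le_gen_of_average h hVY hfix ?_
  exact commutator_le.mpr fun w hw y hy => (hWS hy).2 w hw

end CfsgLib.Signalizer.CommFix
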