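import Cfsg.Agent.Lib.Signalizer.Minimal

/-!
An involution and a subgroup it moves, acting on a solvable group of odd order.
-/

set_option autoImplicit false
set_option linter.style.haveILetI false
set_option linter.unusedVariables false
set_option linter.unusedSectionVars false

open scoped Pointwise commutatorElement
open Subgroup

namespace CfsgLib.Signalizer

variable {G : Type*} [Group G] [Finite G]

/-- If `X = [X,c]` for an involution `c` and `X` centralizes `C_T(c)`, then `X` centralizes `T`. -/
theorem le_centralizer_of_involution {T X : Subgroup G} {c : G} (hc : c * c = 1)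
    (hT : Group.IsSolvable T) (hodd : Odd (Nat.card T)) (hcop : (Nat.card X).Coprime (Nat.card T))
    (hcT : c ∈ normalizer (T : Set G)) (hcX : c ∈ normalizer (X : Set G))
    (hXT : X ≤ normalizer (T : Set G)) (hXc : ⁅X, zpowers c⁆ = X)
    (hfix : T ⊓ centralizer ({c} : Set G) ≤ centralizer (X : Set G)) :
    X ≤ centralizer (T : Set G) := by
  have hci : c⁻¹ = c := inv_eq_of_mul_eq_one_left hc
  have hcpow : ∀ z ∈ zpowers c, z = 1 ∨ z = c := by
    intro z hz
    obtain ⟨k, rfl⟩ := hz
    have h2 : c ^ (2 : ℤ) = 1 := by rw [show (2 : ℤ) = ((2 : ℕ) : ℤ) by rfl, zpow_natCast, pow_two, hc]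
    rcases Int.even_or_odd' k with ⟨m, rfl | rfl⟩
    · left; simp [zpow_mul, h2]
    · right; simp [zpow_add, zpow_mul, h2]
  have hcopc : (Nat.card (zpowers c)).Coprime (Nat.card T) := by
    refine Nat.Coprime.coprime_dvd_left (?_ : Nat.card (zpowers c) ∣ 2)
      ((Nat.prime_two.coprime_iff_not_dvd).mpr fun h => Nat.not_even_iff_odd.mpr hodd (even_iff_two_dvd.mpr h))
    rw [Nat.card_zpowers]
    exact orderOf_dvd_of_pow_eq_one (by rw [pow_two, hc])
  set Ds : ℕ → Subgroup G := fun i => (derivedSeries T i).map T.subtype with hDs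
  have hDT : ∀ i, Ds i ≤ T := fun i => map_subtype_le _
  have hTD : ∀ i, normalizer (T : Set G) ≤ normalizer (Ds i : Set G) := fun i =>
    map_subtype_characteristic T (derivedSeries_characteristic _ i)
  have hXTn : ∀ {U : Subgroup G}, U ≤ T → X ≤ normalizer (U : Set G) →
      ⁅⁅U, X⁆, X⁆ = ⁅U, X⁆ := fun hU hn =>
    CfsgLib.Solvable.commutator_commutator_eq hn (hcop.coprime_dvd_right (card_dvd_of_le hU))
      (Or.inr (haveI := hT; Group.isSolvable_of_isSolvable_injective (inclusion_injective hU)))
  have claim : ∀ i, ⁅T, X⁆ ≤ Ds i := by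
    intro i
    induction i with
    | zero =>
      refine (CfsgLib.Solvable.commutator_le_of_normalizes hXT).trans ?_
      simp [hDs, derivedSeries_zero, ← MonoidHom.range_eq_map]
    | succ i ih =>
      set U := Ds i with hU
      set N := Ds (i + 1) with hN
      have hUN : ⁅U, U⁆ = N := by
        rw [hU, hN, hDs]
        simp [derivedSeries_succ, map_commutator]
      have hNU : N ≤ U := by
        rw [← hUN]
        exact CfsgLib.Solvable.commutator_le_of_normalizes le_normalizer
      have hXU : X ≤ normalizer (U : Set G) := hXT.trans (hTD i)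
      have hXN : X ≤ normalizer (N : Set G) := hXT.trans (hTD (i + 1))
      have hUn : U ≤ normalizer (N : Set G) := ((hDT i).trans le_normalizer).trans (hTD (i + 1))
      have hcU : c ∈ normalizer (U : Set G) := hTD i hcT
      have hcN : c ∈ normalizer (N : Set G) := hTD (i + 1) hcT
      let V : Subgroup G :=
        { carrier := {u | u ∈ U ∧ ∀ x ∈ X, x * u * x⁻¹ * u⁻¹ ∈ N}
          one_mem' := ⟨U.one_mem, fun x _ => by simp⟩
          mul_mem' := fun {a b} ha hb => ⟨U.mul_mem ha.1 hb.1, fun x hx => by
            rw [show x * (a * b) * x⁻¹ * (a * b)⁻¹ =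
              (x * a * x⁻¹ * a⁻¹) * (a * (x * b * x⁻¹ * b⁻¹) * a⁻¹) by group]
            exact N.mul_mem (ha.2 x hx) (le_normalizer_iff.mp hUn a ha.1 _ (hb.2 x hx))⟩
          inv_mem' := fun {a} ha => ⟨U.inv_mem ha.1, fun x hx => by
            rw [show x * a⁻¹ * x⁻¹ * a⁻¹⁻¹ = a⁻¹ * (x * a * x⁻¹ * a⁻¹)⁻¹ * a by group]
            have := le_normalizer_iff.mp hUn a⁻¹ (U.inv_mem ha.1) _ (N.inv_mem (ha.2 x hx))
            rwa [inv_inv] at this⟩ }
      have hVU : V ≤ U := fun u hu => hu.1
      have hNV : N ≤ V := fun u hu =>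
        ⟨hNU hu, fun x hx => N.mul_mem (le_normalizer_iff.mp hXN x hx u hu) (N.inv_mem hu)⟩
      have hVn : U ≤ normalizer (V : Set G) := by
        rw [le_normalizer_iff]
        intro u hu v hv
        have h1 : u * v * u⁻¹ * v⁻¹ ∈ N := by
          rw [← hUN]
          exact commutator_mem_commutator hu hv.1
        have h2 := V.mul_mem (hNV h1) hv
        simpa [mul_assoc] using h2
      have hXV : X ≤ normalizer (V : Set G) := by
        rw [le_normalizer_iff]
        intro y hy v hv
        refine ⟨le_normalizer_iff.mp hXU y hy v hv.1, fun x hx => ?_⟩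
        rw [show x * (y * v * y⁻¹) * x⁻¹ * (y * v * y⁻¹)⁻¹ =
          y * ((y⁻¹ * x * y) * v * (y⁻¹ * x * y)⁻¹ * v⁻¹) * y⁻¹ by group]
        exact le_normalizer_iff.mp hXN y hy _
          (hv.2 _ (X.mul_mem (X.mul_mem (X.inv_mem hy) hx) hy))
      have hcV : ∀ v ∈ V, c * v * c ∈ V := by
        intro v hv
        refine ⟨by simpa [hci] using (mem_normalizer_iff.mp hcU v).mp hv.1, fun x hx => ?_⟩
        have hx' : c * x * c ∈ X := by simpa [hci] using (mem_normalizer_iff.mp hcX x).mp hx
        have h1 := (mem_normalizer_iff.mp hcN _).mp (hv.2 _ hx')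
        rw [hci] at h1
        have he : x * (c * v * c) * x⁻¹ * (c * v * c)⁻¹ =
            c * ((c * x * c) * v * (c * x * c)⁻¹ * v⁻¹) * c := by
          simp only [mul_inv_rev, hci, mul_assoc]
          simp [← mul_assoc, hc]
        rw [he]
        exact h1
      -- `c` inverts `U` modulo `V`
      have hinv : ∀ u ∈ U, c * u * c * u ∈ V := by
        intro u hu
        have hcu : c * u * c ∈ U := by simpa [hci] using (mem_normalizer_iff.mp hcU u).mp hu
        obtain ⟨f, hf, hfv⟩ := CfsgLib.Solvable.exists_fixed_of_fixed_mod (A := zpowers c) (K := U)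
          (N := N) (zpowers_le.mpr hcU) (hcopc.coprime_dvd_right (card_dvd_of_le (hDT i)))
          (Or.inl (Group.isSolvable_of_comm fun a b => mul_comm' a b)) hNU hUn (zpowers_le.mpr hcN)
          (k := c * u * c * u) (U.mul_mem hcu hu) fun a ha => by
            rcases hcpow a ha with rfl | rfl
            · simp
            · rw [← hUN]
              have he : a * (a * u * a * u) * a⁻¹ * (a * u * a * u)⁻¹ = ⁅u, a * u * a⁆ := by
                simp only [commutatorElement_def, mul_inv_rev, hci, inv_inv, mul_assoc]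
                simp [← mul_assoc, hc]
              rw [he]
              exact commutator_mem_commutator hu hcu
        have hfV : f ∈ V := ⟨hf.1, fun x hx => by
          have h1 : x * f = f * x := hfix ⟨hDT i hf.1,
            centralizer_le (Set.singleton_subset_iff.mpr (mem_zpowers c)) hf.2⟩ x hx
          rw [h1]; simp⟩
        have := V.mul_mem hfV (V.inv_mem (hNV hfv))
        simpa [mul_assoc] using this
      -- the elements of `X` acting trivially on `U / V`
      let S : Subgroup G :=
        { carrier := {x | x ∈ X ∧ ∀ u ∈ U, x * u * x⁻¹ * u⁻¹ ∈ V}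
          one_mem' := ⟨X.one_mem, fun u _ => by simp⟩
          mul_mem' := fun {a b} ha hb => ⟨X.mul_mem ha.1 hb.1, fun u hu => by
            rw [show a * b * u * (a * b)⁻¹ * u⁻¹ =
              (a * (b * u * b⁻¹ * u⁻¹) * a⁻¹) * (a * u * a⁻¹ * u⁻¹) by group]
            exact V.mul_mem (le_normalizer_iff.mp hXV a ha.1 _ (hb.2 u hu)) (ha.2 u hu)⟩
          inv_mem' := fun {a} ha => ⟨X.inv_mem ha.1, fun u hu => by
            rw [show a⁻¹ * u * a⁻¹⁻¹ * u⁻¹ = a⁻¹ * (a * u * a⁻¹ * u⁻¹)⁻¹ * a by group]
            have := le_normalizer_iff.mp hXV a⁻¹ (X.inv_mem ha.1) _ (V.inv_mem (ha.2 u hu))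
            rwa [inv_inv] at this⟩ }
      have hgen : ⁅X, zpowers c⁆ ≤ S := by
        rw [commutator_le]
        intro x hx z hz
        rcases hcpow z hz with rfl | rfl
        · simp
        · have hx' : z * x⁻¹ * z⁻¹ ∈ X := (mem_normalizer_iff.mp hcX _).mp (X.inv_mem hx)
          refine ⟨?_, fun u hu => ?_⟩
          · rw [commutatorElement_def, mul_assoc, mul_assoc, ← mul_assoc z]
            exact X.mul_mem hx hx'
          · rw [commutatorElement_def, hci]
            -- `y = z x⁻¹ z` and `x⁻¹` act alike modulo `V`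
            set w := x⁻¹ * u * x with hw
            have hwU : w ∈ U := by
              simpa [hw] using le_normalizer_iff.mp hXU x⁻¹ (X.inv_mem hx) u hu
            have e1 : z * w * z * w ∈ V := hinv w hwU
            have e2 : z * u * z * u ∈ V := hinv u hu
            have hzu : z * u * z ∈ U := by simpa [hci] using (mem_normalizer_iff.mp hcU u).mp hu
            -- `z (x⁻¹ (z u z) x) z w⁻¹ ∈ V`
            have e3 : x⁻¹ * (z * u * z * u) * x ∈ V := by
              simpa using le_normalizer_iff.mp hXV x⁻¹ (X.inv_mem hx) _ e2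
            have e4 : z * (x⁻¹ * (z * u * z * u) * x) * z ∈ V := hcV _ e3
            have e5 : z * (x⁻¹ * (z * u * z) * x) * z * w⁻¹ ∈ V := by
              have e1' : w * z * w * z ∈ V := by
                simpa [← mul_assoc, hc] using hcV _ e1
              have h5 := V.mul_mem e4 (V.inv_mem e1')
              have : z * (x⁻¹ * (z * u * z * u) * x) * z * (w * z * w * z)⁻¹ =
                  z * (x⁻¹ * (z * u * z) * x) * z * w⁻¹ := by
                simp only [mul_inv_rev, hci, hw, inv_inv]
                simp [mul_assoc, ← mul_assoc z z, hc]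
              rwa [this] at h5
            have e6 := le_normalizer_iff.mp hXV x hx _ e5
            convert e6 using 1
            simp only [hw, mul_inv_rev, inv_inv, hci, mul_assoc]
            simp [← mul_assoc, hc]
      have hS : ⁅U, X⁆ ≤ V := by
        rw [commutator_le]
        intro u hu x hx
        have hx' := hgen (hXc.symm ▸ hx)
        rw [show ⁅u, x⁆ = (x * u * x⁻¹ * u⁻¹)⁻¹ by simp [commutatorElement_def, mul_assoc]]
        exact V.inv_mem (hx'.2 u hu)
      have hVX : ⁅V, X⁆ ≤ N := by
        rw [commutator_le]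
        intro v hv x hx
        rw [show ⁅v, x⁆ = (x * v * x⁻¹ * v⁻¹)⁻¹ by simp [commutatorElement_def, mul_assoc]]
        exact N.inv_mem (hv.2 x hx)
      have h1 : ⁅U, X⁆ ≤ N := by
        rw [← hXTn (hDT i) hXU]
        exact (commutator_mono hS le_rfl).trans hVX
      rw [← hXTn le_rfl hXT]
      exact (commutator_mono ih le_rfl).trans h1
  obtain ⟨n, hn⟩ := hT.solvable
  have h := claim n
  have hb : Ds n = ⊥ := by simp [hDs, hn]
  rw [hb, le_bot_iff, commutator_eq_bot_iff_le_centralizer] at h
  exact le_centralizer_iff.mp h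

end CfsgLib.Signalizer
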