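import Cfsg.Agent.Lib.Signalizer.Bender
import Cfsg.Agent.Lib.Signalizer.Inverted
import Cfsg.Agent.Lib.Signalizer.Transitivity
import Cfsg.Agent.Lib.Components.PLayer

/-!
Maximal members of a minimal incomplete `2`-functor: inertness, best pairs, good points.
-/

set_option autoImplicit false
set_option linter.style.haveILetI false
set_option linter.unusedVariables false
set_option linter.unusedSectionVars false

open scoped Pointwise commutatorElement
open Subgroup

universe u

namespace CfsgLib.Signalizer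

section generic

variable {G : Type*} [Group G] [Finite G]

/-- A `w`-subgroup centralizing the Fitting subgroup of a solvable group lies in `O_w`. -/
theorem le_oq_of_centralizes_oq {w : ℕ} [Fact w.Prime] {M X : Subgroup G}
    (hM : Group.IsSolvable M) (hX : X ≤ M) (hXw : IsPGroup w X)
    (hC : ∀ r : ℕ, r.Prime → X ≤ centralizer (oq r M : Set G)) : X ≤ oq w M := by
  have h : X ≤ oq w M ⊔ opr w M := by
    refine le_of_centralizes_oq hM hX hC fun r hr => ?_
    haveI := Fact.mk hr
    by_cases hrw : r = w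
    · subst hrw
      exact le_sup_of_le_left (zq_le_oq r M)
    · exact le_sup_of_le_right ((zq_le_oq r M).trans (oq_le_opr (Ne.symm hrw) M))
  have hW : IsPGroup w ↥(X ⊔ oq w M) :=
    CfsgLib.Components.isPGroup_sup hXw (oq_isPGroup w M) (hX.trans (le_normalizer_oq w M))
  intro x hx
  obtain ⟨a, ha, b, hb, rfl⟩ := (CfsgLib.Solvable.mem_sup_of_le_normalizer
    ((opr_le w M).trans (le_normalizer_oq w M))).mp (h hx)
  have hb' : b ∈ (X ⊔ oq w M) ⊓ opr w M := ⟨by
    have := mul_mem (mem_sup_right (inv_mem ha) : a⁻¹ ∈ X ⊔ oq w M) (mem_sup_left hx)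
    rwa [inv_mul_cancel_left] at this, hb⟩
  rw [inf_eq_bot_of_coprime (by
    obtain ⟨n, hn⟩ := hW.exists_card_eq
    rw [hn]; exact Nat.Coprime.pow_left n (opr_coprime w M).symm), mem_bot] at hb'
  simpa [hb'] using ha

theorem le_centralizer_of_inf_eq_bot {T V S : Subgroup G} (hTV : T ≤ V)
    (hT : T ≤ normalizer (S : Set G)) (hS : S ≤ normalizer (V : Set G)) (h : S ⊓ V = ⊥) :
    T ≤ centralizer (S : Set G) := by
  intro t ht s hs
  have h1 : s * t * s⁻¹ * t⁻¹ ∈ V :=
    Subgroup.mul_mem _ (le_normalizer_iff.mp hS s hs t (hTV ht)) (Subgroup.inv_mem _ (hTV ht))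
  have h2 : s * t * s⁻¹ * t⁻¹ ∈ S := by
    have := Subgroup.mul_mem _ hs (le_normalizer_iff.mp hT t ht _ (Subgroup.inv_mem _ hs))
    simpa [mul_assoc] using this
  have h3 : s * t * s⁻¹ * t⁻¹ ∈ S ⊓ V := ⟨h2, h1⟩
  rw [h, mem_bot] at h3
  calc s * t = (s * t * s⁻¹ * t⁻¹) * (t * s) := by group
    _ = t * s := by rw [h3, one_mul]

/-- The upper central series of `O_q(M)` inside the ambient group. -/
def zser (q : ℕ) (M : Subgroup G) (i : ℕ) : Subgroup G :=
  (Subgroup.upperCentralSeries (oq q M) i).map (oq q M).subtype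

theorem zser_le (q : ℕ) (M : Subgroup G) (i : ℕ) : zser q M i ≤ oq q M := map_subtype_le _

theorem normalizer_le_normalizer_zser (q : ℕ) (M : Subgroup G) (i : ℕ) :
    normalizer (M : Set G) ≤ normalizer (zser q M i : Set G) :=
  (normalizer_le_normalizer_oq q M).trans (map_subtype_characteristic _ inferInstance)

theorem zser_zero (q : ℕ) (M : Subgroup G) : zser q M 0 = ⊥ := by
  simp [zser]

theorem commutator_zser_succ (q : ℕ) (M : Subgroup G) (i : ℕ) :
    ⁅zser q M (i + 1), oq q M⁆ ≤ zser q M i := by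
  rw [commutator_le]
  rintro _ ⟨x, hx, rfl⟩ y hy
  exact ⟨⁅x, ⟨y, hy⟩⁆, Subgroup.mem_upperCentralSeries_succ_iff.mp hx _, by simp [commutatorElement_def]⟩

theorem exists_zser_step {q : ℕ} [Fact q.Prime] {M : Subgroup G} {W : Subgroup G}
    (h : ¬ oq q M ≤ W) : ∃ i, zser q M i ≤ W ∧ ¬ zser q M (i + 1) ≤ W := by
  haveI := (oq_isPGroup q M).isNilpotent
  obtain ⟨n, hn⟩ := Group.IsNilpotent.nilpotent (oq q M)
  have hn' : zser q M n = oq q M := by
    rw [zser, hn, ← MonoidHom.range_eq_map, range_subtype]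
  by_contra hcon
  push Not at hcon
  have key : ∀ i, zser q M i ≤ W := by
    intro i
    induction i with
    | zero => rw [zser_zero]; exact bot_le
    | succ i ih => exact hcon i ih
  exact h (hn' ▸ key n)

/-- The primes `r` with `O_r(M)` moved by `c`. -/
def movedPrimes (c : G) (M : Subgroup G) : Set ℕ :=
  {r | r.Prime ∧ ¬ oq r M ≤ centralizer ({c} : Set G)}

theorem oq_ne_bot_of_moved {c : G} {M : Subgroup G} {r : ℕ} (h : r ∈ movedPrimes c M) :
    oq r M ≠ ⊥ := fun h0 => h.2 (h0.le.trans bot_le)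

theorem movedPrimes_finite (c : G) (M : Subgroup G) : (movedPrimes c M).Finite := by
  refine ((Nat.card G).divisors.finite_toSet).subset fun r hr => ?_
  haveI := Fact.mk hr.1
  obtain ⟨n, hn⟩ := (oq_isPGroup r M).exists_card_eq
  rcases Nat.eq_zero_or_pos n with h0 | h0
  · rw [h0, pow_zero] at hn
    exact absurd (card_eq_one.mp hn) (oq_ne_bot_of_moved hr)
  · exact Nat.mem_divisors.mpr ⟨((dvd_pow_self r (by omega)).trans hn.symm.dvd).trans
      (Subgroup.card_subgroup_dvd_card _), Nat.card_pos.ne'⟩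

theorem commutator_le_centralizer_of_le {X Y S : Subgroup G} (hX : X ≤ centralizer (S : Set G))
    (hY : Y ≤ centralizer (S : Set G)) : ⁅X, Y⁆ ≤ centralizer (S : Set G) := by
  rw [commutator_le]
  intro x hx y hy
  exact Subgroup.mul_mem _ (Subgroup.mul_mem _ (Subgroup.mul_mem _ (hX hx) (hY hy))
    (Subgroup.inv_mem _ (hX hx))) (Subgroup.inv_mem _ (hY hy))

end generic

variable {G : Type u} [Group G] [Finite G] {A : Subgroup G} {θ : G → Subgroup G}

/-- A maximal member with two Fitting primes, above `θ c` and different from it. -/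
def IsBadPair (A : Subgroup G) (θ : G → Subgroup G) (c : G) (M : Subgroup G) : Prop :=
  IsMaxMember 2 A θ M ∧ θ c ≤ M ∧ IsMixed M ∧ M ≠ θ c

/-- A bad pair with as many moved primes as possible. -/
def IsBestPair (A : Subgroup G) (θ : G → Subgroup G) (c : G) (M : Subgroup G) : Prop :=
  IsBadPair A θ c M ∧
    ∀ M', IsBadPair A θ c M' → (movedPrimes c M').ncard ≤ (movedPrimes c M).ncard

theorem exists_isBestPair {c : G} (h : ∃ M, IsBadPair A θ c M) : ∃ M, IsBestPair A θ c M := by
  obtain ⟨M, hM, hmax⟩ := Set.exists_max_image {M | IsBadPair A θ c M}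
    (fun M => (movedPrimes c M).ncard) (Set.toFinite _) h
  exact ⟨M, hM, hmax⟩

namespace IsMinimalIncomplete

theorem odd_card (h : IsMinimalIncomplete 2 A θ) {U : Subgroup G}
    (hU : U ∈ Cfsg.signalizerFamily 2 A θ) : Odd (Nat.card U) :=
  Nat.not_even_iff_odd.mp fun he => family_not_dvd hU (even_iff_two_dvd.mp he)

theorem eq_one_of_sq (h : IsMinimalIncomplete 2 A θ) {U : Subgroup G}
    (hU : U ∈ Cfsg.signalizerFamily 2 A θ) {y : G} (hy : y ∈ U) (h2 : y * y = 1) : y = 1 := by
  have h1 : orderOf y ∣ 2 := orderOf_dvd_of_pow_eq_one (by rw [pow_two, h2])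
  have h3 : orderOf y ∣ Nat.card U := Subgroup.orderOf_dvd_natCard U hy
  rcases (Nat.dvd_prime Nat.prime_two).mp h1 with h4 | h4
  · exact orderOf_eq_one_iff.mp h4
  · exact absurd (h4 ▸ h3) (family_not_dvd hU)

theorem mem_of_sq_mem (h : IsMinimalIncomplete 2 A θ) {U W : Subgroup G}
    (hU : U ∈ Cfsg.signalizerFamily 2 A θ) {y : G} (hy : y ∈ U) (h2 : y * y ∈ W) : y ∈ W := by
  obtain ⟨k, hk⟩ : Odd (orderOf y) := Odd.of_dvd_nat (h.odd_card hU) (Subgroup.orderOf_dvd_natCard U hy)
  have : (y * y) ^ (k + 1) = y := by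
    rw [← pow_two, ← pow_mul, show 2 * (k + 1) = orderOf y + 1 by omega, pow_succ,
      pow_orderOf_eq_one, one_mul]
  exact this ▸ W.pow_mem h2 _

/-- A maximal member contains `θ` of at most one element. -/
theorem eq_of_theta_le (h : IsMinimalIncomplete 2 A θ) {M : Subgroup G} (hM : IsMaxMember 2 A θ M)
    {a b : G} (ha : a ∈ A) (ha1 : a ≠ 1) (hb : b ∈ A) (hb1 : b ≠ 1) (hθa : θ a ≤ M)
    (hθb : θ b ≤ M) : a = b := by
  haveI : Fact (Nat.Prime 2) := ⟨Nat.prime_two⟩
  by_contra hab
  have hA := h.elem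
  set k := a * b with hk
  have hkA : k ∈ A := A.mul_mem ha hb
  have hk1 : k ≠ 1 := fun h1 => hab (by
    rw [← inv_eq_self_two hA hb]; exact eq_inv_of_mul_eq_one_left h1)
  have hθk : θ k ≤ M := by
    refine h.le_of_lines_avoiding hM hkA hk1 fun B hB hkB => ?_
    by_cases haB : a ∈ B
    · exact (signalizerInf_le haB ha1).trans hθa
    by_cases hbB : b ∈ B
    · exact (signalizerInf_le hbB hb1).trans hθb
    · exact absurd (hB.mul_mem_two hA h.card_eq ha hb haB hbB) hkB
  refine h.not_complete ⟨M, hM.1, fun e he he1 => ?_⟩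
  have hθe := functor_mem_family h.functor he he1
  refine le_of_lines hA h.card_eq (family_not_dvd hθe) (family_le_normalizer hθe) fun B hB => ?_
  refine (family_inf_centralizer_le hθe hB.1).trans ?_
  by_cases haB : a ∈ B
  · exact (signalizerInf_le haB ha1).trans hθa
  by_cases hbB : b ∈ B
  · exact (signalizerInf_le hbB hb1).trans hθb
  · exact (signalizerInf_le (hB.mul_mem_two hA h.card_eq ha hb haB hbB) hk1).trans hθk

variable {c : G} {M : Subgroup G}

/-- An element fixing `F(M)` fixes `M`. -/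
theorem le_centralizer_of_oq_le (h : IsMinimalIncomplete 2 A θ) (hM : IsMaxMember 2 A θ M)
    (hc : c ∈ A) (hF : ∀ r : ℕ, r.Prime → oq r M ≤ centralizer ({c} : Set G)) :
    M ≤ centralizer ({c} : Set G) := by
  refine le_centralizer_singleton_of_commutator_eq_bot ?_
  rw [← commutator_idem h.elem hM.not_dvd hM.le_normalizer' hc]
  refine commutator_eq_bot_of_le_centralizer_singleton ?_
  refine le_of_centralizes_oq hM.solvable (commutator_zpowers_le (hM.le_normalizer' hc))
    (fun r hr => commutator_zpowers_le_centralizer (le_normalizer_oq r M) (hF r hr))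
    fun r hr => (zq_le_oq r M).trans (hF r hr)

theorem eq_theta_of_oq_le (h : IsMinimalIncomplete 2 A θ) (hM : IsMaxMember 2 A θ M)
    (hc : c ∈ A) (hc1 : c ≠ 1) (hF : ∀ r : ℕ, r.Prime → oq r M ≤ centralizer ({c} : Set G)) :
    M = θ c :=
  (hM.2 _ (functor_mem_family h.functor hc hc1) fun x hx =>
    family_inf_le hM.1 hc hc1 ⟨hx, h.le_centralizer_of_oq_le hM hc hF hx⟩).symm

theorem IsBadPair.exists_moved (h : IsMinimalIncomplete 2 A θ) (hM : IsBadPair A θ c M)
    (hc : c ∈ A) (hc1 : c ≠ 1) : ∃ q, q ∈ movedPrimes c M := by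
  by_contra hcon
  push Not at hcon
  exact hM.2.2.2 (h.eq_theta_of_oq_le hM.1 hc hc1 fun r hr => by
    by_contra hn; exact hcon r ⟨hr, hn⟩)

/-- A subgroup of `O_q(M)` moved onto itself by `c` centralizes every `q'`-member it normalizes. -/
theorem inert (h : IsMinimalIncomplete 2 A θ) {q : ℕ} [Fact q.Prime] (hM : IsMaxMember 2 A θ M)
    (hc : c ∈ A) (hc1 : c ≠ 1) (hcM : θ c ≤ M) {X T : Subgroup G} (hX : X ≤ oq q M)
    (hAX : A ≤ normalizer (X : Set G)) (hXc : ⁅X, zpowers c⁆ = X)
    (hT : T ∈ Cfsg.signalizerFamily 2 A θ) (hTq : (Nat.card T).Coprime q)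
    (hXT : X ≤ normalizer (T : Set G)) : X ≤ centralizer (T : Set G) := by
  refine le_centralizer_of_involution (mul_self_two h.elem hc) (family_isSolvable hT) (h.odd_card hT)
    ?_ (family_le_normalizer hT hc) (hAX hc) hXT hXc ?_
  · obtain ⟨n, hn⟩ := ((oq_isPGroup q M).to_le hX).exists_card_eq
    rw [hn]
    exact Nat.Coprime.pow_left n hTq.symm
  · have hTc : T ⊓ centralizer ({c} : Set G) ≤ M := (family_inf_le hT hc hc1).trans hcM
    intro t ht x hx
    have h1 : x * t * x⁻¹ * t⁻¹ ∈ T :=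
      T.mul_mem (le_normalizer_iff.mp hXT x hx t ht.1) (T.inv_mem ht.1)
    have h2 : x * t * x⁻¹ * t⁻¹ ∈ oq q M := by
      have := Subgroup.mul_mem _ (hX hx)
        (le_normalizer_iff.mp (le_normalizer_oq q M) t (hTc ht) _ (Subgroup.inv_mem _ (hX hx)))
      simpa [mul_assoc] using this
    have h3 : x * t * x⁻¹ * t⁻¹ ∈ T ⊓ oq q M := ⟨h1, h2⟩
    rw [inf_eq_bot_of_coprime (by
      obtain ⟨n, hn⟩ := (oq_isPGroup q M).exists_card_eq
      rw [hn]; exact Nat.Coprime.pow_right n hTq), mem_bot] at h3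
    calc x * t = (x * t * x⁻¹ * t⁻¹) * (t * x) := by group
      _ = t * x := by rw [h3, one_mul]

/-- An inert subgroup of a member makes its prime a moved prime there. -/
theorem moved_of_inert (h : IsMinimalIncomplete 2 A θ) {q : ℕ} [Fact q.Prime]
    (hM : IsMaxMember 2 A θ M) (hc : c ∈ A) (hc1 : c ≠ 1) (hcM : θ c ≤ M) {X N : Subgroup G}
    (hX : X ≤ oq q M) (hAX : A ≤ normalizer (X : Set G)) (hXc : ⁅X, zpowers c⁆ = X) (hne : X ≠ ⊥)
    (hN : N ∈ Cfsg.signalizerFamily 2 A θ) (hXN : X ≤ N) :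
    q ∈ movedPrimes c N := by
  refine ⟨Fact.out, fun hle => hne ?_⟩
  have hq : ∀ r : ℕ, r.Prime → X ≤ centralizer (oq r N : Set G) := by
    intro r hr
    haveI := Fact.mk hr
    by_cases hrq : r = q
    · subst hrq
      rw [← hXc]
      exact commutator_zpowers_le_centralizer (hXN.trans (le_normalizer_oq r N)) hle
    · exact h.inert hM hc hc1 hcM hX hAX hXc (family_oq hN r)
        (coprime_of_isPGroup (Ne.symm hrq) (oq_isPGroup r N)) (hXN.trans (le_normalizer_oq r N))
  have h1 := le_oq_of_centralizes_oq (family_isSolvable hN) hXN ((oq_isPGroup q M).to_le hX) hq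
  rw [← hXc]
  exact commutator_eq_bot_of_le_centralizer_singleton (h1.trans hle)

theorem moved_inert_hyps (h : IsMinimalIncomplete 2 A θ) (hM : IsMaxMember 2 A θ M) (hc : c ∈ A)
    (r : ℕ) :
    ⁅oq r M, zpowers c⁆ ≤ oq r M ∧
      A ≤ normalizer ((⁅oq r M, zpowers c⁆ : Subgroup G) : Set G) ∧
      ⁅⁅oq r M, zpowers c⁆, zpowers c⁆ = ⁅oq r M, zpowers c⁆ :=
  have hA := hM.le_normalizer'.trans (normalizer_le_normalizer_oq r M)
  ⟨commutator_zpowers_le (hA hc), le_normalizer_commutator_elem h.elem hA hc,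
    commutator_idem h.elem (not_dvd_of_le (oq_le r M) hM.not_dvd) hA hc⟩

theorem zq_le_normalizer_moved (h : IsMinimalIncomplete 2 A θ) {q r : ℕ} [Fact q.Prime]
    [Fact r.Prime] (hM : IsMaxMember 2 A θ M) (hc : c ∈ A) :
    zq r M ≤ centralizer ((⁅oq q M, zpowers c⁆ : Subgroup G) : Set G) := by
  refine le_trans ?_ (centralizer_le (h.moved_inert_hyps hM hc q).1)
  by_cases hrq : r = q
  · subst hrq
    exact zq_le_centralizer r M
  · exact (zq_le_oq r M).trans (oq_le_centralizer_oq hrq M)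

/-- In a best pair the commutator `[O_q(M),c]` controls: its normalizing members lie in `M`. -/
theorem le_of_normalizes_moved (h : IsMinimalIncomplete 2 A θ) (hb : IsBestPair A θ c M)
    (hc : c ∈ A) (hc1 : c ≠ 1) {q : ℕ} (hq : q ∈ movedPrimes c M) {H : Subgroup G}
    (hH : H ∈ Cfsg.signalizerFamily 2 A θ)
    (hHn : H ≤ normalizer ((⁅oq q M, zpowers c⁆ : Subgroup G) : Set G)) : H ≤ M := by
  haveI : Fact (Nat.Prime 2) := ⟨Nat.prime_two⟩
  haveI := Fact.mk hq.1
  obtain ⟨⟨hM, hcM, hmix, hMne⟩, hmax⟩ := hb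
  obtain ⟨hXle, hAX, hXc⟩ := h.moved_inert_hyps hM hc q
  have hXne : ⁅oq q M, zpowers c⁆ ≠ ⊥ :=
    fun h0 => hq.2 (le_centralizer_singleton_of_commutator_eq_bot h0)
  have hXf := family_of_le hM.1 (hXle.trans (oq_le q M)) hAX
  obtain ⟨N, hN, hXN, -, hall⟩ := h.exists_normalizer_max hXf hXne
  suffices hNM : N = M from hNM ▸ hall H hH hHn
  have hcN : θ c ≤ N := hall _ (functor_mem_family h.functor hc hc1) (by
    intro x hx
    refine normalizer_inf_le_normalizer_commutator _ _ ⟨le_normalizer_oq q M (hcM hx), ?_⟩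
    refine centralizer_le_normalizer _ ?_
    rw [centralizer_zpowers]
    exact functor_le_centralizer h.functor hc hc1 hx)
  have hZ : ∀ r : ℕ, r.Prime → zq r M ≤ N := fun r hr =>
    haveI := Fact.mk hr
    hall _ (family_zq hM.1 r) ((h.zq_le_normalizer_moved hM hc).trans (centralizer_le_normalizer _))
  have hsub : movedPrimes c M ⊆ movedPrimes c N := by
    intro r hr
    haveI := Fact.mk hr.1
    obtain ⟨hRle, hAR, hRc⟩ := h.moved_inert_hyps hM hc r
    refine h.moved_of_inert hM hc hc1 hcM hRle hAR hRc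
      (fun h0 => hr.2 (le_centralizer_singleton_of_commutator_eq_bot h0)) hN.1 ?_
    by_cases hrq : r = q
    · subst hrq; exact hXN
    · exact hall _ (family_of_le hM.1 (hRle.trans (oq_le r M)) hAR) ((hRle.trans
        ((oq_le_centralizer_oq hrq M).trans (centralizer_le hXle))).trans
          (centralizer_le_normalizer _))
  refine h.eq_of_zq_le hM hmix hN hZ fun u hu huM => ?_
  haveI := Fact.mk hu
  by_cases hfix : oq u N ≤ centralizer ({c} : Set G)
  · exact fun x hx => hcM (family_inf_le hN.1 hc hc1 ⟨oq_le u N hx, hfix hx⟩)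
  exfalso
  have huq : u ≠ q := fun e => oq_ne_bot_of_moved hq (e ▸ huM)
  have hbad : IsBadPair A θ c N := ⟨hN, hcN,
    ⟨u, q, hu, hq.1, huq, fun h0 => hfix (h0.le.trans bot_le), oq_ne_bot_of_moved (hsub hq)⟩,
    fun e => hfix ((oq_le u N).trans (e.le.trans (functor_le_centralizer h.functor hc hc1)))⟩
  refine absurd (hmax N hbad) (not_le.mpr (Set.ncard_lt_ncard ?_ (movedPrimes_finite c N)))
  exact ⟨hsub, fun h0 => oq_ne_bot_of_moved (h0 ⟨hu, hfix⟩) huM⟩

/-- A maximal member with `Z(F(M))` and one `[O_q(M),c]` is `M`. -/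
theorem eq_of_moved_le (h : IsMinimalIncomplete 2 A θ) (hb : IsBestPair A θ c M)
    (hc : c ∈ A) (hc1 : c ≠ 1) {q : ℕ} (hq : q ∈ movedPrimes c M) {N : Subgroup G}
    (hN : IsMaxMember 2 A θ N) (hZ : ∀ r : ℕ, r.Prime → zq r M ≤ N)
    (hXN : ⁅oq q M, zpowers c⁆ ≤ N) : N = M := by
  haveI : Fact (Nat.Prime 2) := ⟨Nat.prime_two⟩
  haveI := Fact.mk hq.1
  obtain ⟨hXle, hAX, hXc⟩ := h.moved_inert_hyps hb.1.1 hc q
  refine h.eq_of_zq_le hb.1.1 hb.1.2.2.1 hN hZ fun u hu huM => ?_
  haveI := Fact.mk hu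
  have huq : u ≠ q := fun e => oq_ne_bot_of_moved hq (e ▸ huM)
  refine h.le_of_normalizes_moved hb hc hc1 hq (family_oq hN.1 u)
    (le_trans (le_centralizer_iff.mp ?_) (centralizer_le_normalizer _))
  exact h.inert hb.1.1 hc hc1 hb.1.2.1 hXle hAX hXc (family_oq hN.1 u)
    (coprime_of_isPGroup huq.symm (oq_isPGroup u N)) (hXN.trans (le_normalizer_oq u N))

/-- Members normalizing `P` lie in `M` when `Z(F(M))` and some `[O_q(M),c]` centralize `P`. -/
theorem controlled (h : IsMinimalIncomplete 2 A θ) (hb : IsBestPair A θ c M)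
    (hc : c ∈ A) (hc1 : c ≠ 1) {q : ℕ} (hq : q ∈ movedPrimes c M) {P : Subgroup G}
    (hP : P ∈ Cfsg.signalizerFamily 2 A θ) (hne : P ≠ ⊥)
    (hZ : ∀ r : ℕ, r.Prime → zq r M ≤ centralizer (P : Set G))
    (hX : ⁅oq q M, zpowers c⁆ ≤ centralizer (P : Set G)) {H : Subgroup G}
    (hH : H ∈ Cfsg.signalizerFamily 2 A θ) (hHn : H ≤ normalizer (P : Set G)) : H ≤ M := by
  haveI : Fact (Nat.Prime 2) := ⟨Nat.prime_two⟩
  obtain ⟨N, hN, -, -, hall⟩ := h.exists_normalizer_max hP hne
  obtain ⟨hXle, hAX, -⟩ := h.moved_inert_hyps hb.1.1 hc q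
  rw [← h.eq_of_moved_le hb hc hc1 hq hN
    (fun r hr => hall _ (family_zq hb.1.1.1 r) ((hZ r hr).trans (centralizer_le_normalizer _)))
    (hall _ (family_of_le hb.1.1.1 (hXle.trans (oq_le q M)) hAX)
      (hX.trans (centralizer_le_normalizer _)))]
  exact hall H hH hHn

/-- For a maximal `θ g` and `q` dividing its Fitting subgroup, every `q`-member lies in `θ g`. -/
theorem le_theta_of_good (h : IsMinimalIncomplete 2 A θ) {g : G} (hg : g ∈ A) (hg1 : g ≠ 1)
    (hmax : IsMaxMember 2 A θ (θ g)) {q : ℕ} [Fact q.Prime] (hq2 : q ≠ 2)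
    (hq : oq q (θ g) ≠ ⊥) {U : Subgroup G} (hU : U ∈ Cfsg.signalizerFamily 2 A θ)
    (hUq : IsPGroup q U) : U ≤ θ g := by
  haveI : Fact (Nat.Prime 2) := ⟨Nat.prime_two⟩
  have hA := h.elem
  obtain ⟨Q, hQW, hQq, hOQ, hQmax⟩ := exists_maximal_ge (family_oq hmax.1 q) (oq_isPGroup q (θ g))
  have hgg : g * g = 1 := mul_self_two hA hg
  have hgi : g⁻¹ = g := inv_eq_self_two hA hg
  have hgQ : g ∈ normalizer (Q : Set G) := family_le_normalizer hQW hg
  have hCO : Q ⊓ centralizer (oq q (θ g) : Set G) ≤ θ g :=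
    h.le_max_of_normalizes hmax (oq_le q _) (hmax.le_normalizer'.trans (normalizer_le_normalizer_oq q _))
      (le_normalizer_oq q _) hq (family_inf_centralizer hA hQW (family_oq hmax.1 q))
      (inf_le_right.trans (centralizer_le_normalizer _))
  have hQg : Q ≤ θ g := by
    suffices hQC : Q ≤ centralizer ({g} : Set G) from
      fun x hx => family_inf_le hQW hg hg1 ⟨hx, hQC hx⟩
    haveI := hQq.isNilpotent
    obtain ⟨n, hn⟩ := Group.IsNilpotent.nilpotent Q
    set Zs : ℕ → Subgroup G := fun i => (Subgroup.upperCentralSeries Q i).map Q.subtype with hZs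
    have key : ∀ i, Zs i ≤ centralizer ({g} : Set G) := by
      intro i
      induction i with
      | zero => simp [hZs]
      | succ i ih =>
        rintro _ ⟨x, hx, rfl⟩
        set w : G := (x : G)⁻¹ * (g * x * g) with hw
        have hwQ : w ∈ Q := Q.mul_mem (Q.inv_mem x.2)
          (by simpa [hgi] using (mem_normalizer_iff.mp hgQ x).mp x.2)
        have hwC : w ∈ centralizer (oq q (θ g) : Set G) := by
          intro o ho
          have hz : ⁅(x : G), o⁆ ∈ Zs i := ⟨⁅x, ⟨o, hOQ ho⟩⁆,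
            Subgroup.mem_upperCentralSeries_succ_iff.mp hx _, by simp [commutatorElement_def]⟩
          have hog : o * g = g * o := mem_centralizer_singleton_iff.mp
            (functor_le_centralizer h.functor hg hg1 (oq_le q _ ho))
          have hzg : ⁅(x : G), o⁆ * g = g * ⁅(x : G), o⁆ := mem_centralizer_singleton_iff.mp (ih hz)
          have e1 : g * o * g = o := by rw [← hog, mul_assoc, hgg, mul_one]
          have e2 : g * ⁅(x : G), o⁆ * g = ⁅(x : G), o⁆ := by rw [← hzg, mul_assoc, hgg, mul_one]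
          have e3 : ⁅g * (x : G) * g, o⁆ = ⁅(x : G), o⁆ := by
            conv_lhs => rw [← e1]
            rw [← e2]
            simp only [commutatorElement_def, mul_inv_rev, hgi, mul_assoc]
            simp [← mul_assoc, hgg]
          have e4 : (g * (x : G) * g) * o * (g * (x : G) * g)⁻¹ = (x : G) * o * (x : G)⁻¹ := by
            have := congrArg (· * o) e3
            simpa [commutatorElement_def, mul_assoc] using this
          calc o * w = (x : G)⁻¹ * ((x : G) * o * (x : G)⁻¹) * (g * (x : G) * g) := by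
                rw [hw]; group
            _ = w * o := by rw [← e4, hw]; group
        have hwg : w * g = g * w := mem_centralizer_singleton_iff.mp
          (functor_le_centralizer h.functor hg hg1 (hCO ⟨hwQ, hwC⟩))
        have hw1 : w = 1 := by
          refine h.eq_one_of_sq hQW hwQ ?_
          have e : g * w * g = w⁻¹ := by
            simp only [hw, mul_inv_rev, inv_inv, hgi, mul_assoc]
            simp [← mul_assoc, hgg]
          rw [← hwg, mul_assoc, hgg, mul_one] at e
          exact mul_eq_one_iff_eq_inv.mpr e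
        rw [hw, inv_mul_eq_one] at hw1
        refine mem_centralizer_singleton_iff.mpr ?_
        calc (x : G) * g = g * x * g * g := by rw [← hw1]
          _ = g * x := by rw [mul_assoc, hgg, mul_one]
    have hn' : Zs n = Q := by simp [hZs, hn, ← MonoidHom.range_eq_map]
    exact hn' ▸ key n
  obtain ⟨Q', hQ'W, hQ'q, hUQ', hQ'max⟩ := exists_maximal_ge hU hUq
  obtain ⟨d, hd, rfl⟩ := transitivity hA h.card_ge h.functor hq2 hQW hQq hQmax hQ'W hQ'q hQ'max
  refine hUQ'.trans ?_
  rintro _ ⟨y, hy, rfl⟩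
  have hdg : d ∈ θ g := signalizerInf_le hg hg1 hd
  exact Subgroup.mul_mem _ (Subgroup.mul_mem _ hdg (hQg hy)) (Subgroup.inv_mem _ hdg)

/-- Two maximal `θ g`, `θ g'` sharing `q` have no common nontrivial `q`-subgroup centralizing the
other Fitting factors of both. -/
theorem eq_bot_of_two_good (h : IsMinimalIncomplete 2 A θ) {g g' : G} (hg : g ∈ A) (hg1 : g ≠ 1)
    (hg' : g' ∈ A) (hg1' : g' ≠ 1) (hne : g ≠ g') (hmax : IsMaxMember 2 A θ (θ g))
    (hmax' : IsMaxMember 2 A θ (θ g')) {q : ℕ} [Fact q.Prime] (hq2 : q ≠ 2)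
    (hq : oq q (θ g) ≠ ⊥) (hq' : oq q (θ g') ≠ ⊥) {X : Subgroup G}
    (hXq : IsPGroup q X) (hXg : X ≤ θ g) (hXg' : X ≤ θ g')
    (hC : ∀ s : ℕ, s.Prime → s ≠ q → X ≤ centralizer (oq s (θ g) : Set G))
    (hC' : ∀ s : ℕ, s.Prime → s ≠ q → X ≤ centralizer (oq s (θ g') : Set G)) : X = ⊥ := by
  haveI : Fact (Nat.Prime 2) := ⟨Nat.prime_two⟩
  have hA := h.elem
  -- the subgroup generated by the `q`-elements of `C_K(F_{q'}(K))`
  have key : ∀ a b : G, a ∈ A → a ≠ 1 → b ∈ A → b ≠ 1 → IsMaxMember 2 A θ (θ a) →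
      IsMaxMember 2 A θ (θ b) → oq q (θ b) ≠ ⊥ →
      ∃ J : Subgroup G, J ≤ θ a ∧ J ≤ θ b ∧ θ a ≤ normalizer (J : Set G) ∧
        A ≤ normalizer (J : Set G) ∧
        (X ≤ θ a → (∀ s : ℕ, s.Prime → s ≠ q → X ≤ centralizer (oq s (θ a) : Set G)) → X ≤ J) ∧
        ⁅θ a, zpowers b⁆ ≤ centralizer (J : Set G) := by
    intro a b ha ha1 hb hb1 hma hmb hqb
    set C := θ a ⊓ ⨅ s : {s : ℕ // s.Prime ∧ s ≠ q}, centralizer (oq s (θ a) : Set G) with hCdef
    have hCn : normalizer (θ a : Set G) ≤ normalizer (C : Set G) := by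
      intro x hx
      rw [mem_normalizer_iff_map_conj_eq, hCdef, Subgroup.map_inf _ _ _ (MulAut.conj x).injective]
      refine congrArg₂ (· ⊓ ·) (le_normalizer_map_conj hx) ?_
      by_cases hs : Nonempty {s : ℕ // s.Prime ∧ s ≠ q}
      · rw [Subgroup.map_iInf _ (MulAut.conj x).injective]
        exact iInf_congr fun s => le_normalizer_map_conj
          (normalizer_le_normalizer_centralizer _ (normalizer_le_normalizer_oq s _ hx))
      · haveI := not_nonempty_iff.mp hs
        rw [iInf_of_empty, Subgroup.map_top_of_surjective _ (MulAut.conj x).surjective]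
    have hAθ := functor_le_normalizer h.functor ha ha1
    have hCle : C ≤ θ a := inf_le_left
    have hCf := family_of_le hma.1 hCle (hAθ.trans hCn)
    set J := CfsgLib.Components.pElements q C with hJ
    have hJn : normalizer (θ a : Set G) ≤ normalizer (J : Set G) :=
      hCn.trans (CfsgLib.Components.normalizer_le_normalizer_pElements C)
    have hJa : J ≤ θ a := (CfsgLib.Components.pElements_le C).trans hCle
    suffices hJb : J ≤ centralizer ({b} : Set G) from
      ⟨J, hJa, fun x hx => family_inf_le hma.1 hb hb1 ⟨hJa hx, hJb hx⟩, le_normalizer.trans hJn,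
        hAθ.trans hJn, fun hXa hXC x hx => by
          obtain ⟨k, hk⟩ := hXq ⟨x, hx⟩
          exact CfsgLib.Components.mem_pElements
            ⟨hXa hx, mem_iInf.mpr fun s => hXC s s.2.1 s.2.2 hx⟩ (k := k) (congrArg Subtype.val hk),
        commutator_zpowers_le_centralizer (le_normalizer.trans hJn) hJb⟩
    rw [hJ, CfsgLib.Components.pElements_le_iff]
    intro x hx k hk
    -- `q`-elements of `C` are fixed by `b`
    set Zp := opr q (θ a) ⊓ centralizer (C : Set G) with hZp
    set Y := ⁅C, zpowers b⁆ with hY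
    have hYC : Y ≤ C := commutator_zpowers_le ((family_le_normalizer hCf) hb)
    have hqa : oq q (θ a) ≤ centralizer ({b} : Set G) :=
      (h.le_theta_of_good hb hb1 hmb hq2 hqb (family_oq hma.1 q) (oq_isPGroup q _)).trans
        (functor_le_centralizer h.functor hb hb1)
    have hYU : Y ≤ zq q (θ a) ⊔ Zp := by
      refine le_of_centralizes_oq hma.solvable (hYC.trans hCle) (fun r hr => ?_) fun r hr => ?_
      · by_cases hrq : r = q
        · subst hrq
          exact commutator_zpowers_le_centralizer (hCle.trans (le_normalizer_oq r _)) hqa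
        · exact hYC.trans (inf_le_right.trans
            (iInf_le (fun s : {s : ℕ // s.Prime ∧ s ≠ q} => centralizer (oq s (θ a) : Set G))
              ⟨r, hr, hrq⟩))
      · haveI := Fact.mk hr
        by_cases hrq : r = q
        · subst hrq
          exact le_sup_left
        · refine le_sup_of_le_right (le_inf ((zq_le_oq r _).trans (oq_le_opr (Ne.symm hrq) _)) ?_)
          refine (zq_le_oq r _).trans (le_centralizer_iff.mp ?_)
          exact inf_le_right.trans (iInf_le (fun s : {s : ℕ // s.Prime ∧ s ≠ q} =>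
            centralizer (oq s (θ a) : Set G)) ⟨r, hr, hrq⟩)
    have hZpA : A ≤ normalizer (Zp : Set G) := le_normalizer_inf
      (hAθ.trans (normalizer_le_normalizer_opr q _))
      (le_normalizer_centralizer (family_le_normalizer hCf))
    have hYZ : Y ≤ Zp := by
      rw [hY, ← commutator_idem hA (family_not_dvd hCf) (family_le_normalizer hCf) hb]
      refine (commutator_mono hYU le_rfl).trans ?_
      rw [commutator_le]
      intro u hu z hz
      have hn : Zp ≤ normalizer (zq q (θ a) : Set G) :=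
        (inf_le_left.trans (opr_le q _)).trans (le_normalizer_zq q _)
      obtain ⟨u₁, hu₁, u₂, hu₂, rfl⟩ := (CfsgLib.Solvable.mem_sup_of_le_normalizer hn).mp hu
      have h1 : Commute u₁ z := by
        obtain ⟨j, rfl⟩ := hz
        exact (show Commute u₁ b from
          mem_centralizer_singleton_iff.mp (hqa (zq_le_oq q _ hu₁))).zpow_right j
      have h2 : ⁅u₂, z⁆ ∈ Zp := by
        have := Subgroup.mul_mem _ hu₂
          (le_normalizer_iff.mp hZpA z (zpowers_le.mpr hb hz) _ (Subgroup.inv_mem _ hu₂))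
        simpa [commutatorElement_def, mul_assoc] using this
      have h3 : Commute u₁ ⁅u₂, z⁆ := by
        refine (oq_le_centralizer_opr q (θ a) (zq_le_oq q _ hu₁) _ h2.1).symm
      have e : ⁅u₁ * u₂, z⁆ = u₁ * ⁅u₂, z⁆ * u₁⁻¹ * ⁅u₁, z⁆ := by
        simp only [commutatorElement_def]; group
      rw [e, h3.eq, mul_inv_cancel_right, h1.commutator_eq, mul_one]
      exact h2
    have hx' : x ∈ Y ⊔ (C ⊓ centralizer ({b} : Set G)) := by
      rw [hY, sup_centralizer_eq hA (family_not_dvd hCf) (family_le_normalizer hCf) hb]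
      exact hx
    obtain ⟨y, hy, f, hf, rfl⟩ := (CfsgLib.Solvable.mem_sup_of_le_normalizer
      (inf_le_left.trans (CfsgLib.Solvable.le_normalizer_commutator_left C _))).mp hx'
    have hyf : Commute y f := ((hYZ hy).2 f hf.1).symm
    have hy1 : orderOf y ∣ Nat.card (opr q (θ a)) := Subgroup.orderOf_dvd_natCard _ (hYZ hy).1
    have hcopy : (orderOf y).Coprime (q ^ k) :=
      ((opr_coprime q (θ a)).coprime_dvd_left hy1).pow_right k
    -- `y = 1`
    have hy0 : y ^ q ^ k ∈ centralizer ({b} : Set G) := by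
      have h5 : (y * f) ^ q ^ k = y ^ q ^ k * f ^ q ^ k := hyf.mul_pow _
      rw [hk] at h5
      rw [eq_inv_of_mul_eq_one_left h5.symm]
      exact Subgroup.inv_mem _ (Subgroup.pow_mem _ hf.2 _)
    obtain ⟨m, hm⟩ := exists_pow_eq_self_of_coprime hcopy.symm
    have hyb : y ∈ centralizer ({b} : Set G) := by
      rw [← hm]; exact Subgroup.pow_mem _ hy0 m
    exact Subgroup.mul_mem _ hyb hf.2
  obtain ⟨J, hJg, hJg', hKJ, hAJ, hXJ, hcomm⟩ := key g g' hg hg1 hg' hg1' hmax hmax' hq'
  obtain ⟨J', hJ'g', hJ'g, hKJ', hAJ', hXJ', hcomm'⟩ := key g' g hg' hg1' hg hg1 hmax' hmax hq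
  set I := J ⊓ J' with hI
  have hAI : A ≤ normalizer (I : Set G) := le_normalizer_inf hAJ hAJ'
  have side : ∀ (a b : G) (K K' : Subgroup G), a ∈ A → a ≠ 1 → b ∈ A → b ≠ 1 →
      θ a ≤ normalizer (K : Set G) → θ b ≤ normalizer (K' : Set G) →
      ⁅θ a, zpowers b⁆ ≤ centralizer (K : Set G) →
      θ a ≤ normalizer ((K ⊓ K' : Subgroup G) : Set G) := by
    intro a b K K' ha ha1 hb hb1 hK hK' hcomm
    have hθ := functor_mem_family h.functor ha ha1
    rw [← sup_centralizer_eq hA (family_not_dvd hθ) (family_le_normalizer hθ) hb]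
    refine sup_le (hcomm.trans ((centralizer_le inf_le_left).trans (centralizer_le_normalizer _))) ?_
    exact le_normalizer_inf (inf_le_left.trans hK)
      ((h.functor.1.2.2.2 a ha ha1 b hb hb1).trans hK')
  have h1 : θ g ≤ normalizer (I : Set G) := side g g' J J' hg hg1 hg' hg1' hKJ hKJ' hcomm
  have h2 : θ g' ≤ normalizer (I : Set G) := by
    rw [hI, inf_comm]
    exact side g' g J' J hg' hg1' hg hg1 hKJ' hKJ hcomm'
  by_contra hXne
  have hIne : I ≠ ⊥ := fun h0 => hXne (le_bot_iff.mp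
    ((le_inf (hXJ hXg hC) (hXJ' hXg' hC')).trans h0.le))
  have hle : θ g' ≤ θ g := h.le_max_of_normalizes hmax (inf_le_left.trans hJg) hAI h1 hIne
    (functor_mem_family h.functor hg' hg1') h2
  exact hne (h.eq_of_theta_le hmax hg hg1 hg' hg1' le_rfl hle)

end IsMinimalIncomplete

end CfsgLib.Signalizer
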