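import Cfsg.Agent.Lib.Signalizer.Bender
import Cfsg.Agent.Lib.Signalizer.TwoBasic

/-!
Notions for the solvable signalizer functor theorem for an arbitrary prime: the meet of the maximal
`q`-members, absorbed subgroups, the points of a prime, and the units of a point.
-/

set_option autoImplicit false
set_option linter.style.haveILetI false
set_option linter.unusedVariables false
set_option linter.unusedSectionVars false

open scoped Pointwise commutatorElement
open Subgroup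

universe u

namespace CfsgLib.Signalizer

variable {G : Type u} [Group G] [Finite G] {p : ℕ} [hp : Fact p.Prime] {A : Subgroup G}
  {θ : G → Subgroup G}

/-- `Q` is a maximal `q`-member. -/
def IsMaxQMember (p : ℕ) (A : Subgroup G) (θ : G → Subgroup G) (q : ℕ) (Q : Subgroup G) : Prop :=
  Q ∈ Cfsg.signalizerFamily p A θ ∧ IsPGroup q Q ∧
    ∀ R ∈ Cfsg.signalizerFamily p A θ, IsPGroup q ↥R → Q ≤ R → R = Q

/-- The meet of the maximal `q`-members. -/
def omegaQ (p : ℕ) (A : Subgroup G) (θ : G → Subgroup G) (q : ℕ) : Subgroup G :=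
  ⨅ Q : {Q : Subgroup G // IsMaxQMember p A θ q Q}, (Q : Subgroup G)

/-- The centre of the meet of the maximal `2`-members. -/
def zo (p : ℕ) (A : Subgroup G) (θ : G → Subgroup G) : Subgroup G :=
  omegaQ p A θ 2 ⊓ centralizer (omegaQ p A θ 2 : Set G)

/-- `K` is a maximal member containing the fixed part, with nontrivial `O_q`. -/
def IsQMax (p : ℕ) (A : Subgroup G) (θ : G → Subgroup G) (q : ℕ) (K : Subgroup G) : Prop :=
  IsMaxMember p A θ K ∧ Cfsg.signalizerInf A θ ≤ K ∧ oq q K ≠ ⊥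

/-- The meet of the `O_q(K)`. -/
def rbar (p : ℕ) (A : Subgroup G) (θ : G → Subgroup G) (q : ℕ) : Subgroup G :=
  ⨅ K : {K : Subgroup G // IsQMax p A θ q K}, oq q (K : Subgroup G)

/-- `e` is a point of the prime `q`. -/
def IsQPoint (p : ℕ) (A : Subgroup G) (θ : G → Subgroup G) (q : ℕ) (e : G) : Prop :=
  ∃ K, IsQMax p A θ q K ∧ θ e ≤ K

/-- `U` is absorbed on the line `B`. -/
structure IsAbsorbed (p : ℕ) (A : Subgroup G) (θ : G → Subgroup G) (q : ℕ) (B U : Subgroup G) :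
    Prop where
  line : IsLine p A B
  mem : U ∈ Cfsg.signalizerFamily p A θ
  le_centralizer : U ≤ centralizer (B : Set G)
  moved : ¬ U ≤ centralizer (A : Set G)
  le_oq : ∀ b ∈ B, b ≠ 1 → U ≤ oq q (θ b)

/-- Every maximal member over `θ g` has its odd Fitting part centralized by `g`. -/
def IsXPoint (p : ℕ) (A : Subgroup G) (θ : G → Subgroup G) (g : G) : Prop :=
  g ∈ A ∧ g ≠ 1 ∧ ∀ K, IsMaxMember p A θ K → θ g ≤ K → ∀ q : ℕ, q.Prime → q ≠ 2 →
    oq q K ≤ centralizer ({g} : Set G)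

/-- The unit `[C_{O_2(K)}(B), g]`. -/
def unitAt (g : G) (K B : Subgroup G) : Subgroup G :=
  ⁅oq 2 K ⊓ centralizer (B : Set G), zpowers g⁆

/-- The subgroup generated by the derived groups of the units of `g`. -/
def unitZ (p : ℕ) (A : Subgroup G) (θ : G → Subgroup G) (g : G) : Subgroup G :=
  ⨆ i : {i : Subgroup G × Subgroup G //
      IsMaxMember p A θ i.1 ∧ θ g ≤ i.1 ∧ IsLine p A i.2 ∧ g ∉ i.2},
    ⁅unitAt g i.1.1 i.1.2, unitAt g i.1.1 i.1.2⁆

/-- `O_{q',q}(M)` inside the ambient group. -/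
def opq (q : ℕ) (M : Subgroup G) : Subgroup G := (Cfsg.pPrimePCore q M).map M.subtype

/-- The elements normalizing `O` whose commutators with the elements of `T` lie in `O`. -/
def centralizerMod (O T : Subgroup G) : Subgroup G where
  carrier := {x | x ∈ normalizer (O : Set G) ∧ ∀ t ∈ T, x * t * x⁻¹ * t⁻¹ ∈ O}
  one_mem' := ⟨one_mem _, fun t _ => by simp⟩
  mul_mem' := by
    rintro x y ⟨hx, hx'⟩ ⟨hy, hy'⟩
    refine ⟨mul_mem hx hy, fun t ht => ?_⟩
    have h1 : x * (y * t * y⁻¹ * t⁻¹) * x⁻¹ ∈ O := (mem_normalizer_iff.mp hx _).mp (hy' t ht)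
    have h2 := O.mul_mem h1 (hx' t ht)
    simpa [mul_assoc] using h2
  inv_mem' := by
    rintro x ⟨hx, hx'⟩
    refine ⟨inv_mem hx, fun t ht => ?_⟩
    have h1 : x⁻¹ * (x * t * x⁻¹ * t⁻¹)⁻¹ * x ∈ O :=
      (mem_normalizer_iff''.mp hx _).mp (O.inv_mem (hx' t ht))
    simpa [mul_assoc] using h1

theorem mem_centralizerMod {O T : Subgroup G} {x : G} :
    x ∈ centralizerMod O T ↔ x ∈ normalizer (O : Set G) ∧ ∀ t ∈ T, x * t * x⁻¹ * t⁻¹ ∈ O := Iff.rfl

/-- A maximal member over every odd member normalized by the fixed part and every member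
centralizing `zo`. -/
structure IsCoreMember (p : ℕ) (A : Subgroup G) (θ : G → Subgroup G) (N : Subgroup G) : Prop where
  max : IsMaxMember p A θ N
  fixed_le : Cfsg.signalizerInf A θ ≤ N
  odd_le : ∀ R ∈ Cfsg.signalizerFamily p A θ, (Nat.card R).Coprime 2 →
    Cfsg.signalizerInf A θ ≤ normalizer (R : Set G) → R ≤ N
  centralizer_zo_le : ∀ H ∈ Cfsg.signalizerFamily p A θ,
    H ≤ centralizer (zo p A θ : Set G) → H ≤ N
  exists_odd : ∃ u : ℕ, u.Prime ∧ u ≠ 2 ∧ oq u N ≠ ⊥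

theorem IsMaxQMember.mem_family {q : ℕ} {Q : Subgroup G} (h : IsMaxQMember p A θ q Q) :
    Q ∈ Cfsg.signalizerFamily p A θ := h.1

theorem IsMaxQMember.isPGroup {q : ℕ} {Q : Subgroup G} (h : IsMaxQMember p A θ q Q) :
    IsPGroup q Q := h.2.1

theorem omegaQ_le {q : ℕ} {Q : Subgroup G} (h : IsMaxQMember p A θ q Q) : omegaQ p A θ q ≤ Q :=
  iInf_le (fun Q : {Q : Subgroup G // IsMaxQMember p A θ q Q} => (Q : Subgroup G)) ⟨Q, h⟩

theorem rbar_le {q : ℕ} {K : Subgroup G} (h : IsQMax p A θ q K) : rbar p A θ q ≤ oq q K :=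
  iInf_le (fun K : {K : Subgroup G // IsQMax p A θ q K} => oq q (K : Subgroup G)) ⟨K, h⟩

theorem le_rbar {q : ℕ} {U : Subgroup G} (h : ∀ K, IsQMax p A θ q K → U ≤ oq q K) :
    U ≤ rbar p A θ q :=
  le_iInf fun K => h K.1 K.2

theorem functor_mem_fixed_le {a : G} (ha : a ∈ A) (ha1 : a ≠ 1) :
    Cfsg.signalizerInf A θ ≤ θ a :=
  signalizerInf_le ha ha1

theorem IsXPoint.oq_le {g : G} (hg : IsXPoint p A θ g) {K : Subgroup G}
    (hK : IsMaxMember p A θ K) (hθ : θ g ≤ K) {q : ℕ} (hq : q.Prime) (hq2 : q ≠ 2) :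
    oq q K ≤ centralizer ({g} : Set G) :=
  hg.2.2 K hK hθ q hq hq2

namespace IsMinimalIncomplete

theorem exists_maxQMember (h : IsMinimalIncomplete p A θ) (q : ℕ) :
    ∃ Q, IsMaxQMember p A θ q Q := by
  obtain ⟨a, ha, ha1⟩ := exists_ne_one_of_card_le (n := 3) (by norm_num) h.card_eq.ge
  have hbot : (⊥ : Subgroup G) ∈ Cfsg.signalizerFamily p A θ :=
    family_of_le (functor_mem_family h.functor ha ha1) bot_le (fun x _ => mem_normalizer_iff.mpr fun y => by simp)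
  obtain ⟨Q, hQ, hQq, -, hmax⟩ := exists_maximal_ge (q := q) hbot IsPGroup.of_bot
  exact ⟨Q, hQ, hQq, hmax⟩

theorem omegaQ_isPGroup (h : IsMinimalIncomplete p A θ) (q : ℕ) : IsPGroup q (omegaQ p A θ q) := by
  obtain ⟨Q, hQ⟩ := h.exists_maxQMember q
  exact hQ.isPGroup.to_le (omegaQ_le hQ)

theorem le_normalizer_omegaQ (h : IsMinimalIncomplete p A θ) (q : ℕ) :
    A ≤ normalizer (omegaQ p A θ q : Set G) := by
  rw [le_normalizer_iff]
  intro a ha x hx
  rw [omegaQ, mem_iInf] at hx ⊢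
  exact fun Q => le_normalizer_iff.mp (family_le_normalizer Q.2.1) a ha x (hx Q)

theorem omegaQ_mem_family (h : IsMinimalIncomplete p A θ) (q : ℕ) :
    omegaQ p A θ q ∈ Cfsg.signalizerFamily p A θ := by
  obtain ⟨Q, hQ⟩ := h.exists_maxQMember q
  exact family_of_le hQ.1 (omegaQ_le hQ) (h.le_normalizer_omegaQ q)

theorem fixed_le_normalizer_omegaQ (h : IsMinimalIncomplete p A θ) (q : ℕ) :
    Cfsg.signalizerInf A θ ≤ normalizer (omegaQ p A θ q : Set G) := by
  obtain ⟨a, ha, ha1⟩ := exists_ne_one_of_card_le (n := 3) (by norm_num) h.card_eq.ge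
  have hA1 : A ≠ ⊥ := fun h0 => ha1 (mem_bot.mp (h0 ▸ ha))
  rw [le_normalizer_iff]
  intro d hd x hx
  rw [omegaQ, mem_iInf] at hx ⊢
  intro Q
  have hd' : d⁻¹ ∈ Cfsg.signalizerInf A θ := inv_mem hd
  have h1 := hx ⟨Q.1.map (MulAut.conj d⁻¹).toMonoidHom,
    family_map_conj h.elem h.functor hA1 hd' Q.2.1, isPGroup_map_conj Q.2.2.1 _,
    maximal_map_conj h.elem h.functor hA1 hd' Q.2.2.2⟩
  have h2 := mem_map_conj.mp h1
  rwa [inv_inv] at h2

/-- A `q`-member normalized by the fixed part lies in every maximal `q`-member. -/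
theorem le_omegaQ (h : IsMinimalIncomplete p A θ) {q : ℕ} [Fact q.Prime] (hqp : q ≠ p)
    {U : Subgroup G} (hU : U ∈ Cfsg.signalizerFamily p A θ) (hUq : IsPGroup q U)
    (hD : Cfsg.signalizerInf A θ ≤ normalizer (U : Set G)) : U ≤ omegaQ p A θ q := by
  refine le_iInf fun Q => ?_
  obtain ⟨Q', hQ', hQq', hUQ', hmax'⟩ := exists_maximal_ge hU hUq
  obtain ⟨c, hc, hcQ⟩ := transitivity h.elem h.card_ge h.functor hqp hQ' hQq' hmax' Q.2.1 Q.2.2.1
    Q.2.2.2
  rw [← hcQ]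
  calc U = U.map (MulAut.conj c).toMonoidHom := (map_conj_eq_self (hD hc)).symm
    _ ≤ _ := map_mono hUQ'

end IsMinimalIncomplete

end CfsgLib.Signalizer
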