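import Cfsg.Agent.Lib.Signalizer.Core
import Cfsg.Agent.Lib.Signalizer.Inert
import Cfsg.Agent.Lib.Signalizer.CommutatorCriterion
import Cfsg.Agent.Lib.Transfer.PGroup

/-!
Criteria for lying in `O_q(N)` or `O_{q'}(H)`.
-/

set_option autoImplicit false
set_option linter.style.haveILetI false
set_option linter.unusedVariables false
set_option linter.unusedSectionVars false

open scoped Pointwise commutatorElement
open Subgroup

universe u

namespace CfsgLib.Signalizer

variable {G : Type*} [Group G] [Finite G]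

/-- Inertness for a `q`-group whose derived group is centralized by `N`. -/
theorem le_oq_of_inert_of_commutator {q r : ℕ} [Fact q.Prime] (hr : r.Prime) {N X : Subgroup G}
    {c : G} (hc : c ^ r = 1) (hqr : q ≠ r) (hN : Group.IsSolvable N) (hXN : X ≤ N)
    (hXq : IsPGroup q X) (hXX : ⁅X, X⁆ ≤ centralizer (N : Set G))
    (hcN : c ∈ normalizer (N : Set G)) (hcX : c ∈ normalizer (X : Set G))
    (hXc : ⁅X, zpowers c⁆ = X) (hrN : ¬ r ∣ Nat.card N)
    (hE : ∀ t ∈ N ⊓ centralizer ({c} : Set G),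
      ∃ E : Subgroup G, IsPGroup q E ∧ X ≤ E ∧ t ∈ normalizer (E : Set G)) :
    X ≤ oq q N :=
  le_oq_of_inert' hr hc hqr hN hXN hXq (Or.inr hXX) hcN hcX hXc hrN hE

theorem opq_le (q : ℕ) (H : Subgroup G) : opq q H ≤ H := map_subtype_le _

theorem opr_le_opq (q : ℕ) (H : Subgroup G) : opr q H ≤ opq q H := by
  refine map_mono fun x hx => ?_
  show QuotientGroup.mk' _ x ∈ Cfsg.pCore q (H ⧸ Cfsg.pPrimeCore q H)
  rw [show QuotientGroup.mk' (Cfsg.pPrimeCore q H) x = 1 from (QuotientGroup.eq_one_iff x).mpr hx]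
  exact one_mem _

theorem normalizer_le_normalizer_opq (q : ℕ) (H : Subgroup G) :
    normalizer (H : Set G) ≤ normalizer (opq q H : Set G) :=
  map_subtype_characteristic H (comap_pCore_quotient_characteristic q)

theorem le_normalizer_opq (q : ℕ) (H : Subgroup G) : H ≤ normalizer (opq q H : Set G) :=
  le_normalizer.trans (normalizer_le_normalizer_opq q H)

theorem exists_pow_mem_opr {q : ℕ} [Fact q.Prime] {H : Subgroup G} {x : G} (hx : x ∈ opq q H) :
    ∃ n : ℕ, x ^ q ^ n ∈ opr q H := by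
  obtain ⟨k, hk, rfl⟩ := hx
  obtain ⟨n, hn⟩ := CfsgLib.Components.isPGroup_pCore q
    (⟨_, hk⟩ : Cfsg.pCore q (H ⧸ Cfsg.pPrimeCore q H))
  refine ⟨n, ⟨k ^ q ^ n, ?_, by simp⟩⟩
  have h1 := congrArg Subtype.val hn
  simp only [SubmonoidClass.coe_pow, OneMemClass.coe_one] at h1
  exact (QuotientGroup.eq_one_iff _).mp h1

theorem inf_opq_le_opr {q : ℕ} [Fact q.Prime] {H T : Subgroup G} (hT : (Nat.card T).Coprime q)
    (hTH : T ≤ H) : T ⊓ opq q H ≤ opr q H := by
  rintro x ⟨hxT, hx⟩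
  obtain ⟨n, hn⟩ := exists_pow_mem_opr hx
  have hcop : (q ^ n).Coprime (orderOf x) :=
    ((hT.coprime_dvd_left (Subgroup.orderOf_dvd_natCard T hxT)).pow_right n).symm
  obtain ⟨m, hm⟩ := exists_pow_eq_self_of_coprime hcop
  rw [← hm]
  exact Subgroup.pow_mem _ hn m

/-- The `P × Q` criterion for `O_{q'}`. -/
theorem le_opr_of_pxq {q : ℕ} [Fact q.Prime] {H T P : Subgroup G} (hH : Group.IsSolvable H)
    (hTH : T ≤ H) (hT : (Nat.card T).Coprime q) (hPH : P ≤ H) (hP : IsPGroup q P)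
    (hPT : P ≤ centralizer (T : Set G))
    (hfix : opq q H ⊓ centralizer (P : Set G) ≤ centralizerMod (opr q H) T) :
    T ≤ opr q H := by
  set O := Cfsg.pPrimeCore q H with hO
  let f : H →* H ⧸ O := QuotientGroup.mk' O
  have hf1 : ∀ k : H, f k = 1 ↔ (k : G) ∈ opr q H := fun k =>
    (QuotientGroup.eq_one_iff k).trans (mem_map_iff_mem H.subtype_injective).symm
  set Tb := (T.subgroupOf H).map f with hTb
  set Pb := (P.subgroupOf H).map f with hPb
  set F := Cfsg.pCore q (H ⧸ O) with hF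
  have hTbq : (Nat.card Tb).Coprime q := by
    refine hT.coprime_dvd_left ((card_map_dvd _ f).trans ?_)
    exact (Nat.card_congr (subgroupOfEquivOfLe hTH).toEquiv).dvd
  have hPbT : Pb ≤ centralizer (Tb : Set (H ⧸ O)) := by
    rintro _ ⟨x, hx, rfl⟩
    rw [mem_centralizer_iff]
    rintro _ ⟨t, ht, rfl⟩
    rw [← map_mul, ← map_mul]
    exact congrArg f (Subtype.ext (hPT hx (t : G) ht))
  haveI : F.Normal := inferInstance
  have hC : F ⊓ centralizer (Pb : Set (H ⧸ O)) ≤ centralizer (Tb : Set (H ⧸ O)) := by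
    rintro v ⟨hvF, hvP⟩
    obtain ⟨k, rfl⟩ := QuotientGroup.mk'_surjective O (‹H ⧸ O›)
    have hcop : (Nat.card P).Coprime (Nat.card (opr q H)) := by
      obtain ⟨n, hn⟩ := hP.exists_card_eq
      rw [hn]
      exact Nat.Coprime.pow_left n (opr_coprime q H).symm
    haveI := hH
    obtain ⟨d, hd, hxd⟩ := CfsgLib.Solvable.exists_mul_mem_normalizer (A := P) (D := opr q H)
      (hPH.trans (le_normalizer_opr q H)) hcop
      (Or.inr (Group.isSolvable_of_isSolvable_injective (inclusion_injective (opr_le q H))))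
      (x := (k : G)) fun a ha => by
        refine (hf1 (k⁻¹ * (⟨a, hPH ha⟩ * k * ⟨a, hPH ha⟩⁻¹))).mp ?_
        have h1 : f ⟨a, hPH ha⟩ * f k = f k * f ⟨a, hPH ha⟩ :=
          hvP _ (mem_map_of_mem f (mem_subgroupOf.mpr ha))
        rw [map_mul, map_mul, map_mul, map_inv, map_inv, h1]
        group
    set y := (k : G) * d with hy
    have hyO : y ∈ opq q H := Subgroup.mul_mem _ ⟨k, hvF, rfl⟩ (opr_le_opq q H hd)
    have hyP : y ∈ centralizer (P : Set G) := by
      rw [mem_centralizer_iff]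
      intro a ha
      have h1 : y⁻¹ * a * y * a⁻¹ ∈ P :=
        P.mul_mem ((mem_normalizer_iff''.mp hxd a).mp ha) (P.inv_mem ha)
      have h2 : y⁻¹ * a * y * a⁻¹ ∈ opr q H := by
        have e1 : (k : G)⁻¹ * (a * k * a⁻¹) ∈ opr q H := by
          refine (hf1 (k⁻¹ * (⟨a, hPH ha⟩ * k * ⟨a, hPH ha⟩⁻¹))).mp ?_
          have h3 : f ⟨a, hPH ha⟩ * f k = f k * f ⟨a, hPH ha⟩ :=
            hvP _ (mem_map_of_mem f (mem_subgroupOf.mpr ha))
          rw [map_mul, map_mul, map_mul, map_inv, map_inv, h3]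
          group
        have e2 : a * d * a⁻¹ ∈ opr q H :=
          (mem_normalizer_iff.mp (le_normalizer_opr q H (hPH ha)) d).mp hd
        have := Subgroup.mul_mem _ (Subgroup.mul_mem _ (Subgroup.inv_mem _ hd) e1) e2
        simpa [hy, mul_assoc] using this
      have h4 : y⁻¹ * a * y * a⁻¹ ∈ P ⊓ opr q H := ⟨h1, h2⟩
      rw [inf_eq_bot_of_coprime hcop, mem_bot, mul_inv_eq_one] at h4
      calc a * y = y * (y⁻¹ * a * y) := by group
        _ = y * a := by rw [h4]
    have hyT := (hfix ⟨hyO, hyP⟩).2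
    rw [mem_centralizer_iff]
    rintro _ ⟨t, ht, rfl⟩
    have h5 : f (⟨y, opq_le q H hyO⟩ * t * (⟨y, opq_le q H hyO⟩ : H)⁻¹ * t⁻¹) = 1 :=
      (hf1 _).mpr (hyT (t : G) ht)
    have h6 : f ⟨y, opq_le q H hyO⟩ = f k := by
      rw [← inv_mul_eq_one, ← map_inv, ← map_mul, hf1]
      have := Subgroup.inv_mem _ hd
      simpa [hy] using this
    rw [map_mul, map_mul, map_mul, map_inv, map_inv, h6, mul_inv_eq_one, mul_inv_eq_iff_eq_mul]
      at h5
    exact h5.symm
  have hFn : ∀ K : Subgroup (H ⧸ O), K ≤ normalizer (F : Set (H ⧸ O)) := fun K =>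
    le_top.trans (normalizer_eq_top_iff.mpr inferInstance).ge
  have hTC := CfsgLib.Solvable.thompson_pxq (U := F)
    ((hP.of_equiv (subgroupOfEquivOfLe hPH).symm).map f) hTbq
    (CfsgLib.Components.isPGroup_pCore q) hPbT (hFn _) (hFn _) hC
  haveI := hH
  haveI : Group.IsSolvable (H ⧸ O) :=
    Group.isSolvable_of_surjective (QuotientGroup.mk'_surjective O)
  have hTF : Tb ≤ F := hTC.trans
    (CfsgLib.OddOrder.centralizer_pCore_le CfsgLib.Components.pPrimeCore_quotient_self)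
  intro t ht
  obtain ⟨n, hn⟩ := (CfsgLib.Components.isPGroup_pCore (G := H ⧸ O) q).exists_card_eq
  have h7 : f ⟨t, hTH ht⟩ ∈ Tb := mem_map_of_mem f (mem_subgroupOf.mpr ht)
  refine (hf1 ⟨t, hTH ht⟩).mp (orderOf_eq_one_iff.mp (Nat.eq_one_of_dvd_coprimes (hTbq.pow_right n)
    (Subgroup.orderOf_dvd_natCard _ h7) ?_))
  rw [← hn]
  exact Subgroup.orderOf_dvd_natCard _ (hTF h7)

/-- An odd `T = [T,c]` centralizing `C_W(c)` centralizes the `2`-group `W`. -/
theorem le_centralizer_of_two_inert {W T : Subgroup G} {c : G} {r : ℕ} (hr : r.Prime)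
    (hc : c ^ r = 1) (hW : IsPGroup 2 W) (hT : Group.IsSolvable T)
    (hTodd : (Nat.card T).Coprime 2) (hTW : T ≤ normalizer (W : Set G))
    (hcW : c ∈ normalizer (W : Set G)) (hcT : c ∈ normalizer (T : Set G))
    (hTc : ⁅T, zpowers c⁆ = T) (hrW : r.Coprime (Nat.card W)) (hrT : r.Coprime (Nat.card T))
    (hfix : W ⊓ centralizer ({c} : Set G) ≤ centralizer (T : Set G)) :
    T ≤ centralizer (W : Set G) := by
  haveI : Fact (Nat.Prime 2) := ⟨Nat.prime_two⟩
  haveI := hW.isNilpotent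
  have hWs : Group.IsSolvable W := inferInstance
  set K := T ⊓ centralizer (W : Set G) with hK
  have hTK : T ≤ normalizer (K : Set G) :=
    le_normalizer_inf le_normalizer (hTW.trans (normalizer_le_normalizer_centralizer W))
  have hz : zpowers c ≤ normalizer (T : Set G) := zpowers_le.mpr hcT
  let E : Subgroup G :=
    { carrier := {x | x ∈ T ∧ ∀ z ∈ zpowers c, x * z * x⁻¹ * z⁻¹ ∈ K}
      one_mem' := ⟨T.one_mem, fun z _ => by simp⟩
      mul_mem' := fun {a b} ha hb => ⟨T.mul_mem ha.1 hb.1, fun z hz => by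
        rw [show a * b * z * (a * b)⁻¹ * z⁻¹ =
          (a * (b * z * b⁻¹ * z⁻¹) * a⁻¹) * (a * z * a⁻¹ * z⁻¹) by group]
        exact K.mul_mem (le_normalizer_iff.mp hTK a ha.1 _ (hb.2 z hz)) (ha.2 z hz)⟩
      inv_mem' := fun {a} ha => ⟨T.inv_mem ha.1, fun z hz => by
        rw [show a⁻¹ * z * a⁻¹⁻¹ * z⁻¹ = a⁻¹ * (a * z * a⁻¹ * z⁻¹)⁻¹ * a by group]
        have := le_normalizer_iff.mp hTK a⁻¹ (T.inv_mem ha.1) _ (K.inv_mem (ha.2 z hz))
        rwa [inv_inv] at this⟩ }
  have hTE : T ≤ E := by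
    rw [← subgroupOf_eq_top]
    refine eq_of_le_of_card_ge le_top ?_
    rw [card_top]
    refine Nat.le_of_dvd Nat.card_pos
      ((Nat.dvd_iff_prime_pow_dvd_dvd _ _).2 fun s k hs hd => ?_)
    haveI := Fact.mk hs
    rcases Nat.eq_zero_or_pos k with hk | hk
    · simp [hk]
    have hsT : s ∣ Nat.card T := (dvd_pow_self s hk.ne').trans hd
    have hs2 : s ≠ 2 := by
      rintro rfl
      exact absurd (Nat.eq_one_of_dvd_coprimes hTodd hsT dvd_rfl) (by norm_num)
    have hsr : s ≠ r := by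
      rintro rfl
      exact hs.ne_one (Nat.eq_one_of_dvd_coprimes hrT dvd_rfl hsT)
    have hcopc : (Nat.card (zpowers c)).Coprime (Nat.card T) := by
      rw [Nat.card_zpowers]
      exact hrT.coprime_dvd_left (orderOf_dvd_of_pow_eq_one hc)
    obtain ⟨S, hS⟩ := CfsgLib.Solvable.exists_invariant_sylow hz hcopc (Or.inr hT) s
    set S' := (S : Subgroup T).map T.subtype with hS'
    have hS'T : S' ≤ T := map_subtype_le _
    set R := ⁅S', zpowers c⁆ with hR
    have hRS : R ≤ S' := CfsgLib.Solvable.commutator_le_of_normalizes hS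
    have hRT : R ≤ T := hRS.trans hS'T
    haveI := hT
    have hRc : ⁅R, zpowers c⁆ = R := CfsgLib.Solvable.commutator_commutator_eq hS
      (hcopc.coprime_dvd_right (card_dvd_of_le hS'T))
      (Or.inr (Group.isSolvable_of_isSolvable_injective (inclusion_injective hS'T)))
    have hcR : c ∈ normalizer (R : Set G) :=
      CfsgLib.Solvable.le_normalizer_commutator_right S' (zpowers c) (mem_zpowers c)
    have hRW : R ≤ centralizer (W : Set G) := by
      refine le_centralizer_of_odd_inert hr hc hsr hWs ((S.2.map _).to_le hRS) (Or.inl hs2) ?_ hrW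
        hcW hcR (hRT.trans hTW) hRc (hfix.trans (centralizer_le hRT))
      obtain ⟨m, hm⟩ := hW.exists_card_eq
      rw [hm]
      exact (hTodd.coprime_dvd_left (card_dvd_of_le hRT)).pow_right m
    have hSE : (S : Subgroup T) ≤ E.subgroupOf T := by
      intro x hx
      refine mem_subgroupOf.mpr ⟨x.2, fun z hz' => ?_⟩
      have h1 : ⁅(x : G), z⁆ ∈ R := commutator_mem_commutator (mem_map_of_mem T.subtype hx) hz'
      exact ⟨hRT h1, hRW h1⟩
    refine dvd_trans ?_ (card_dvd_of_le hSE)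
    rw [S.card_eq_multiplicity]
    exact Nat.pow_dvd_pow s ((hs.pow_dvd_iff_le_factorization Nat.card_pos.ne').1 hd)
  have h2 : ⁅T, zpowers c⁆ ≤ K := by
    rw [commutator_le]
    exact fun x hx z hz' => (hTE hx).2 z hz'
  exact (hTc.ge.trans h2).trans inf_le_right

/-- An odd `T = [T,Z]` centralizes a `2`-group generated by what it and `Z` centralize. -/
theorem le_centralizer_of_two_mixed {W T Z : Subgroup G} (hW : IsPGroup 2 W)
    (hTodd : (Nat.card T).Coprime 2) (hTW : T ≤ normalizer (W : Set G))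
    (hZW : Z ≤ normalizer (W : Set G)) (hZT : Z ≤ normalizer (T : Set G)) (hTZ : ⁅T, Z⁆ = T)
    (hgen : W ≤ (W ⊓ centralizer (T : Set G)) ⊔ (W ⊓ centralizer (Z : Set G))) :
    T ≤ centralizer (W : Set G) := by
  haveI : Fact (Nat.Prime 2) := ⟨Nat.prime_two⟩
  haveI := hW.isNilpotent
  have hWs : Group.IsSolvable W := inferInstance
  set D : Subgroup G := ⁅W, W⁆ with hD
  set C := W ⊓ centralizer (T : Set G) with hC
  set N := D ⊔ C with hN
  have hDW : D ≤ W := CfsgLib.Solvable.commutator_le_of_normalizes le_normalizer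
  have hnD : normalizer (W : Set G) ≤ normalizer (D : Set G) := fun g hg =>
    normalizer_inf_le_normalizer_commutator _ _ ⟨hg, hg⟩
  have hCD : C ≤ normalizer (D : Set G) := inf_le_left.trans (le_normalizer.trans hnD)
  have hNW : N ≤ W := sup_le hDW inf_le_left
  have hWN : W ≤ normalizer (N : Set G) := by
    rw [le_normalizer_iff]
    intro w hw a ha
    have h1 : ⁅w, a⁆ ∈ N := mem_sup_left (commutator_mem_commutator hw (hNW ha))
    have h2 := N.mul_mem h1 ha
    simpa [commutatorElement_def, mul_assoc] using h2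
  have hnC : normalizer (T : Set G) ⊓ normalizer (W : Set G) ≤ normalizer (N : Set G) := by
    rw [le_normalizer_iff]
    rintro g ⟨hgT, hgW⟩ a ha
    obtain ⟨d, hd, e, he, rfl⟩ := (CfsgLib.Solvable.mem_sup_of_le_normalizer hCD).mp ha
    rw [show g * (d * e) * g⁻¹ = (g * d * g⁻¹) * (g * e * g⁻¹) by group]
    exact N.mul_mem (mem_sup_left ((mem_normalizer_iff.mp (hnD hgW) d).mp hd))
      (mem_sup_right ((mem_normalizer_iff.mp (inf_normalizer_le_normalizer_inf
        ⟨hgW, normalizer_le_normalizer_centralizer T hgT⟩) e).mp he))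
  have hTN : T ≤ normalizer (N : Set G) := (le_inf le_normalizer hTW).trans hnC
  set C₀ := centralizerMod N W with hC₀
  have hZC : Z ≤ C₀ := by
    intro z hz
    have hzN : z ∈ normalizer (N : Set G) := hnC ⟨hZT hz, hZW hz⟩
    refine ⟨hzN, fun w hw => ?_⟩
    have hw' : w ∈ N ⊔ (W ⊓ centralizer (Z : Set G)) :=
      sup_le_sup_right (le_sup_right : C ≤ N) _ (hgen hw)
    obtain ⟨n, hn, e, he, rfl⟩ := (CfsgLib.Solvable.mem_sup_of_le_normalizer
      (inf_le_left.trans hWN)).mp hw'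
    rw [show z * (n * e) * z⁻¹ * (n * e)⁻¹ = (z * n * z⁻¹) * (z * e * z⁻¹ * e⁻¹) * n⁻¹ by group,
      he.2 z hz, mul_inv_cancel_right, mul_inv_cancel, mul_one]
    exact N.mul_mem ((mem_normalizer_iff.mp hzN n).mp hn) (N.inv_mem hn)
  have hTC : T ≤ C₀ := by
    refine hTZ.ge.trans ?_
    rw [commutator_le]
    intro t ht z hz
    refine C₀.mul_mem ?_ (C₀.inv_mem (hZC hz))
    obtain ⟨hzN, hzW⟩ := hZC hz
    refine ⟨mul_mem (mul_mem (hTN ht) hzN) (inv_mem (hTN ht)), fun w hw => ?_⟩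
    have hw' : t⁻¹ * w * t ∈ W := (mem_normalizer_iff''.mp (hTW ht) w).mp hw
    have h1 := (mem_normalizer_iff.mp (hTN ht) _).mp (hzW _ hw')
    convert h1 using 1
    group
  have hWT : ⁅W, T⁆ ≤ N := by
    rw [commutator_le]
    intro w hw t ht
    have h1 := N.inv_mem ((hTC ht).2 w hw)
    simpa [commutatorElement_def, mul_assoc] using h1
  have hNT : ⁅N, T⁆ ≤ D := by
    rw [commutator_le]
    intro a ha t ht
    obtain ⟨d, hd, e, he, rfl⟩ := (CfsgLib.Solvable.mem_sup_of_le_normalizer hCD).mp ha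
    have h0 : ⁅e, t⁆ = 1 := commutatorElement_eq_one_iff_mul_comm.mpr (he.2 t ht).symm
    rw [show ⁅d * e, t⁆ = d * ⁅e, t⁆ * d⁻¹ * ⁅d, t⁆ by simp only [commutatorElement_def]; group,
      h0, mul_one, mul_inv_cancel, one_mul]
    exact CfsgLib.Solvable.commutator_le_of_normalizes (hTW.trans hnD)
      (commutator_mem_commutator hd ht)
  have hcop : (Nat.card T).Coprime (Nat.card W) := by
    obtain ⟨m, hm⟩ := hW.exists_card_eq
    rw [hm]
    exact hTodd.pow_right m
  have hWT' : ⁅W, T⁆ ≤ D := by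
    rw [← CfsgLib.Solvable.commutator_commutator_eq hTW hcop (Or.inr hWs)]
    exact (commutator_mono hWT le_rfl).trans hNT
  refine CfsgLib.Solvable.le_centralizer_of_trivial_on_frattini_quotient
    (hcop.coprime_dvd_right (Subgroup.card_subgroup_dvd_card _)) fun t ht w hw => ?_
  have hDle : D ≤ (frattini W).map W.subtype := by
    rw [hD]
    refine le_of_eq_of_le ?_ (map_mono (CfsgLib.Transfer.commutator_le_frattini (G := W)))
    rw [commutator_def, map_commutator, ← MonoidHom.range_eq_map, range_subtype]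
  refine hDle ?_
  have h1 := D.inv_mem (hWT' (commutator_mem_commutator hw ht))
  simpa [commutatorElement_def, mul_assoc] using h1

section modulo

variable {W T O : Subgroup G}

theorem isPGroup_two_map_mk (hW2 : ∀ x ∈ W, ∃ n : ℕ, x ^ 2 ^ n ∈ O) :
    IsPGroup 2 ((W.subgroupOf (normalizer (O : Set G))).map
      (QuotientGroup.mk' (O.subgroupOf (normalizer (O : Set G))))) := by
  rintro ⟨_, x, hx, rfl⟩
  obtain ⟨n, hn⟩ := hW2 _ (mem_subgroupOf.mp hx)
  refine ⟨n, Subtype.ext ?_⟩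
  show (QuotientGroup.mk' _ x) ^ 2 ^ n = 1
  rw [← map_pow, QuotientGroup.mk'_apply, QuotientGroup.eq_one_iff, mem_subgroupOf]
  simpa using hn

theorem le_centralizerMod_of_le_centralizer (hWO : W ≤ normalizer (O : Set G))
    (hTO : T ≤ normalizer (O : Set G))
    (h : (T.subgroupOf (normalizer (O : Set G))).map
        (QuotientGroup.mk' (O.subgroupOf (normalizer (O : Set G)))) ≤
      centralizer (((W.subgroupOf (normalizer (O : Set G))).map
        (QuotientGroup.mk' (O.subgroupOf (normalizer (O : Set G))))) :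
          Set ((normalizer (O : Set G)) ⧸ O.subgroupOf (normalizer (O : Set G))))) :
    W ≤ centralizerMod O T := by
  intro x hx
  refine ⟨hWO hx, fun t ht => ?_⟩
  let π := QuotientGroup.mk' (O.subgroupOf (normalizer (O : Set G)))
  have h1 : π ⟨x, hWO hx⟩ * π ⟨t, hTO ht⟩ = π ⟨t, hTO ht⟩ * π ⟨x, hWO hx⟩ :=
    h (mem_map_of_mem π (mem_subgroupOf.mpr ht)) _ (mem_map_of_mem π (mem_subgroupOf.mpr hx))
  have h2 : π (⟨x, hWO hx⟩ * ⟨t, hTO ht⟩ * (⟨x, hWO hx⟩)⁻¹ * (⟨t, hTO ht⟩)⁻¹) = 1 := by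
    rw [map_mul, map_mul, map_mul, map_inv, map_inv, h1]
    group
  exact mem_subgroupOf.mp ((QuotientGroup.eq_one_iff _).mp h2)

theorem map_mk_le_centralizer (hTO : T ≤ normalizer (O : Set G)) {x : normalizer (O : Set G)}
    (hx : (x : G) ∈ centralizerMod O T) :
    QuotientGroup.mk' (O.subgroupOf (normalizer (O : Set G))) x ∈
      centralizer (((T.subgroupOf (normalizer (O : Set G))).map
        (QuotientGroup.mk' (O.subgroupOf (normalizer (O : Set G))))) :
          Set ((normalizer (O : Set G)) ⧸ O.subgroupOf (normalizer (O : Set G)))) := by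
  rw [mem_centralizer_iff]
  rintro _ ⟨t, ht, rfl⟩
  have h1 : QuotientGroup.mk' (O.subgroupOf (normalizer (O : Set G))) (x * t * x⁻¹ * t⁻¹) = 1 := by
    rw [QuotientGroup.mk'_apply, QuotientGroup.eq_one_iff, mem_subgroupOf]
    exact hx.2 (t : G) ht
  rw [map_mul, map_mul, map_mul, map_inv, map_inv, mul_inv_eq_one, mul_inv_eq_iff_eq_mul] at h1
  exact h1.symm

/-- An odd `T = [T,c]` centralizing the fixed points of `c` on a `2`-section centralizes it. -/
theorem le_centralizerMod_of_inert {c : G} {r : ℕ} (hr : r.Prime)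
    (hc : c ^ r = 1) (hW : Group.IsSolvable W) (hT : Group.IsSolvable T)
    (hTodd : (Nat.card T).Coprime 2) (hWO : W ≤ normalizer (O : Set G))
    (hTO : T ≤ normalizer (O : Set G)) (hcO : c ∈ normalizer (O : Set G))
    (hTW : T ≤ normalizer (W : Set G)) (hcW : c ∈ normalizer (W : Set G))
    (hcT : c ∈ normalizer (T : Set G)) (hTc : ⁅T, zpowers c⁆ = T)
    (hW2 : ∀ x ∈ W, ∃ n : ℕ, x ^ 2 ^ n ∈ O)
    (hrW : r.Coprime (Nat.card W)) (hrT : r.Coprime (Nat.card T))
    (hfix : W ⊓ centralizer ({c} : Set G) ≤ centralizerMod O T) :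
    W ≤ centralizerMod O T := by
  refine le_centralizerMod_of_le_centralizer hWO hTO ?_
  let H := normalizer (O : Set G)
  let π : H →* H ⧸ O.subgroupOf H := QuotientGroup.mk' _
  have hπ : ∀ g : H, π g = 1 ↔ (g : G) ∈ O := fun g => by
    rw [← MonoidHom.mem_ker, QuotientGroup.ker_mk', mem_subgroupOf]
  have hmap : ∀ {K L : Subgroup G}, K ≤ H → K ≤ normalizer (L : Set G) →
      (K.subgroupOf H).map π ≤ normalizer ((L.subgroupOf H).map π : Set (H ⧸ O.subgroupOf H)) := by
    intro K L hKH hKL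
    rintro _ ⟨g, hg, rfl⟩
    exact le_normalizer_map π ⟨g, mem_normalizer_iff.mpr fun y =>
      mem_normalizer_iff.mp (hKL hg) (y : G), rfl⟩
  have hcn : ∀ {L : Subgroup G}, c ∈ normalizer (L : Set G) →
      π ⟨c, hcO⟩ ∈ normalizer ((L.subgroupOf H).map π : Set (H ⧸ O.subgroupOf H)) := fun hL =>
    le_normalizer_map π ⟨⟨c, hcO⟩, mem_normalizer_iff.mpr fun y =>
      mem_normalizer_iff.mp hL (y : G), rfl⟩
  have hdvd : ∀ {L : Subgroup G}, L ≤ H → Nat.card ((L.subgroupOf H).map π) ∣ Nat.card L :=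
    fun hL => (card_map_dvd _ π).trans (Nat.card_congr (subgroupOfEquivOfLe hL).toEquiv).dvd
  haveI := hT
  refine le_centralizer_of_two_inert (c := π ⟨c, hcO⟩) hr ?_ (isPGroup_two_map_mk hW2)
    (Group.isSolvable_of_surjective (f := (π.subgroupMap (T.subgroupOf H)).comp
      (subgroupOfEquivOfLe hTO).symm.toMonoidHom)
      ((π.subgroupMap_surjective _).comp (subgroupOfEquivOfLe hTO).symm.surjective))
    (hTodd.coprime_dvd_left (hdvd hTO)) (hmap hTO hTW) (hcn hcW) (hcn hcT) ?_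
    (hrW.coprime_dvd_right (hdvd hWO)) (hrT.coprime_dvd_right (hdvd hTO)) ?_
  · rw [← map_pow, show (⟨c, hcO⟩ : H) ^ r = 1 from Subtype.ext (by simpa using hc), map_one]
  · rw [← MonoidHom.map_zpowers, ← map_commutator, commutator_subgroupOf_eq hTO hcO hTc]
  rintro _ ⟨⟨k, hk, rfl⟩, hwc⟩
  have hcop : (Nat.card (zpowers c)).Coprime (Nat.card W) := by
    rw [Nat.card_zpowers]
    exact hrW.coprime_dvd_left (orderOf_dvd_of_pow_eq_one hc)
  obtain ⟨f, hf, hfk⟩ := CfsgLib.Solvable.exists_fixed_of_fixed_mod (A := zpowers c) (K := W)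
    (N := W ⊓ O) (zpowers_le.mpr hcW) hcop (Or.inr hW) inf_le_left
    (le_normalizer_inf le_normalizer hWO)
    (le_normalizer_inf (zpowers_le.mpr hcW) (zpowers_le.mpr hcO)) (k := (k : G)) hk fun a ha => by
      refine ⟨W.mul_mem ((mem_normalizer_iff.mp ((zpowers_le.mpr hcW) ha) _).mp hk) (W.inv_mem hk),
        ?_⟩
      obtain ⟨n, rfl⟩ := (isOfFinOrder_of_finite c).mem_powers_iff_mem_zpowers.mpr ha
      refine (hπ (⟨c, hcO⟩ ^ n * k * (⟨c, hcO⟩ ^ n)⁻¹ * k⁻¹)).mp ?_
      have h1 : Commute (π ⟨c, hcO⟩) (π k) := (mem_centralizer_singleton_iff.mp hwc).symm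
      rw [map_mul, map_mul, map_mul, map_inv, map_inv, map_pow, (h1.pow_left n).eq]
      group
  have hfc : f ∈ centralizer ({c} : Set G) :=
    centralizer_le (Set.singleton_subset_iff.mpr (mem_zpowers c)) hf.2
  have hkf : π k = π ⟨f, hWO hf.1⟩ := by
    rw [← inv_mul_eq_one, ← map_inv, ← map_mul, hπ]
    exact hfk.2
  rw [hkf]
  exact map_mk_le_centralizer hTO (hfix ⟨hf.1, hfc⟩)

/-- An odd `T = [T,Z]` centralizes a `2`-section generated by what it and `Z` centralize. -/
theorem le_centralizerMod_of_mixed {Z : Subgroup G} (hT : Group.IsSolvable T)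
    (hTodd : (Nat.card T).Coprime 2) (hWO : W ≤ normalizer (O : Set G))
    (hTO : T ≤ normalizer (O : Set G)) (hZO : Z ≤ normalizer (O : Set G))
    (hTW : T ≤ normalizer (W : Set G)) (hZW : Z ≤ normalizer (W : Set G))
    (hZT : Z ≤ normalizer (T : Set G)) (hTZ : ⁅T, Z⁆ = T)
    (hW2 : ∀ x ∈ W, ∃ n : ℕ, x ^ 2 ^ n ∈ O)
    (hgen : W ≤ (W ⊓ centralizerMod O T) ⊔ (W ⊓ centralizer (Z : Set G))) :
    W ≤ centralizerMod O T := by
  refine le_centralizerMod_of_le_centralizer hWO hTO ?_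
  let H := normalizer (O : Set G)
  let π : H →* H ⧸ O.subgroupOf H := QuotientGroup.mk' _
  have hmap : ∀ {K L : Subgroup G}, K ≤ normalizer (L : Set G) →
      (K.subgroupOf H).map π ≤ normalizer ((L.subgroupOf H).map π : Set (H ⧸ O.subgroupOf H)) := by
    intro K L hKL
    rintro _ ⟨g, hg, rfl⟩
    exact le_normalizer_map π ⟨g, mem_normalizer_iff.mpr fun y =>
      mem_normalizer_iff.mp (hKL hg) (y : G), rfl⟩
  refine le_centralizer_of_two_mixed (Z := (Z.subgroupOf H).map π) (isPGroup_two_map_mk hW2)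
    (hTodd.coprime_dvd_left ((card_map_dvd _ π).trans
      (Nat.card_congr (subgroupOfEquivOfLe hTO).toEquiv).dvd))
    (hmap hTW) (hmap hZW) (hmap hZT) ?_ ?_
  · rw [← map_commutator]
    refine congrArg (Subgroup.map π) (map_injective H.subtype_injective ?_)
    rw [map_commutator, map_subgroupOf_eq_of_le hTO, map_subgroupOf_eq_of_le hZO, hTZ]
  rintro _ ⟨k, hk, rfl⟩
  obtain ⟨k', hk', he⟩ : (k : G) ∈
      (((W ⊓ centralizerMod O T).subgroupOf H) ⊔
        ((W ⊓ centralizer (Z : Set G)).subgroupOf H)).map H.subtype := by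
    rw [Subgroup.map_sup, map_subgroupOf_eq_of_le (inf_le_left.trans hWO),
      map_subgroupOf_eq_of_le (inf_le_left.trans hWO)]
    exact hgen hk
  obtain rfl : k' = k := Subtype.ext he
  have hk'' := mem_map_of_mem π hk'
  rw [Subgroup.map_sup] at hk''
  refine SetLike.le_def.mp (sup_le_sup ?_ ?_) hk''
  · rintro _ ⟨x, hx, rfl⟩
    exact ⟨mem_map_of_mem π (mem_subgroupOf.mpr hx.1), map_mk_le_centralizer hTO hx.2⟩
  · rintro _ ⟨x, hx, rfl⟩
    refine ⟨mem_map_of_mem π (mem_subgroupOf.mpr hx.1), ?_⟩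
    rintro _ ⟨z, hz, rfl⟩
    rw [← map_mul, ← map_mul]
    exact congrArg π (Subtype.ext (hx.2 (z : G) hz))

end modulo

end CfsgLib.Signalizer
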