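import Cfsg.Agent.Lib.Signalizer.InvertedCore

/-!
The odd Fitting parts of a core member are centralized by a line.
-/

set_option autoImplicit false
set_option linter.style.haveILetI false
set_option linter.unusedVariables false
set_option linter.unusedSectionVars false

open scoped Pointwise commutatorElement
open Subgroup

universe u

namespace CfsgLib.Signalizer

variable {G : Type u} [Group G] [Finite G] {p : ℕ} [hp : Fact p.Prime] {A : Subgroup G}
  {θ : G → Subgroup G}

/-- A subgroup centralized by two independent points of a line is centralized by the line. -/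
theorem IsLine.le_centralizer_of_mem (hA : Cfsg.IsElementaryAbelian p A) {L X : Subgroup G}
    (hL : IsLine p A L) {a b : G} (ha : a ∈ L) (ha1 : a ≠ 1) (hb : b ∈ L) (hba : b ∉ zpowers a)
    (hXa : X ≤ centralizer ({a} : Set G)) (hXb : X ≤ centralizer ({b} : Set G)) :
    X ≤ centralizer (L : Set G) := by
  have hLeq : zpowers a ⊔ zpowers b = L :=
    eq_of_le_of_card_ge (sup_le (zpowers_le.mpr ha) (zpowers_le.mpr hb)) (by
      rw [hL.2, card_sup_zpowers_elementary hA (zpowers_le.mpr (hL.1 ha)) (hL.1 hb) hba,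
        card_zpowers_elementary hA (hL.1 ha) ha1, pow_two])
  rw [← centralizer_zpowers] at hXa hXb
  rw [le_centralizer_iff, ← hLeq]
  exact sup_le (le_centralizer_iff.mp hXa) (le_centralizer_iff.mp hXb)

/-- Some point lies outside a line. -/
theorem IsLine.exists_notMem (hA3 : Nat.card A = p ^ 3) {L : Subgroup G} (hL : IsLine p A L) :
    ∃ c ∈ A, c ∉ L := by
  by_contra hcon
  push Not at hcon
  have h1 := card_le_of_le (show A ≤ L from hcon)
  rw [hA3, hL.2] at h1
  exact absurd h1 (not_le.mpr (Nat.pow_lt_pow_right hp.out.one_lt (by norm_num)))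

/-- Some point lies outside two lines. -/
theorem IsLine.exists_notMem_two (hA3 : Nat.card A = p ^ 3) {L L' : Subgroup G} (hL : IsLine p A L)
    (hL' : IsLine p A L') : ∃ d ∈ A, d ∉ L ∧ d ∉ L' := by
  by_contra hcon
  push Not at hcon
  obtain ⟨x, hx, hxL⟩ := hL.exists_notMem hA3
  obtain ⟨y, hy, hyL'⟩ := hL'.exists_notMem hA3
  have hxL' : x ∈ L' := hcon x hx hxL
  have hyL : y ∈ L := by
    by_contra h0
    exact hyL' (hcon y hy h0)
  by_cases h1 : x * y ∈ L
  · exact hxL ((mul_mem_cancel_right hyL).mp h1)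
  · exact hyL' ((mul_mem_cancel_left hxL').mp (hcon _ (mul_mem hx hy) h1))

namespace IsCoreMember

variable {N : Subgroup G} {u : ℕ} [Fact u.Prime]

theorem omegaQ_two_le (h : IsMinimalIncomplete p A θ) (hN : IsCoreMember p A θ N) :
    omegaQ p A θ 2 ≤ N :=
  hN.centralizer_zo_le _ (h.omegaQ_mem_family 2)
    (le_centralizer_iff.mp (inf_le_right : zo p A θ ≤ _))

/-- A member fixed by a line avoiding an x-point and centralizing its units lies in `N`. -/
theorem le_of_tech (h : IsMinimalIncomplete p A θ) (hN : IsCoreMember p A θ N) {L : Subgroup G}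
    (hL : IsLine p A L) {g : G} (hg : IsXPoint p A θ g) (hgL : g ∉ L) {X : Subgroup G}
    (hX : X ∈ Cfsg.signalizerFamily p A θ) (hXL : X ≤ centralizer (L : Set G))
    (hXZ : X ≤ centralizer (unitZ p A θ g : Set G)) : X ≤ N := by
  have hA := h.elem
  have hAX := family_le_normalizer hX
  have hle : ⁅X, zpowers g⁆ ≤ X := commutator_zpowers_le (hAX hg.1)
  have hf := family_of_le hX hle (le_normalizer_commutator_elem hA hAX hg.1)
  rw [← sup_centralizer_eq hA (family_not_dvd hX) hAX hg.1]
  refine sup_le (hN.centralizer_zo_le _ hf (h.le_centralizer_zo_of_tech hL hg hgL hf (hle.trans hXL)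
    (commutator_idem hA (family_not_dvd hX) hAX hg.1) (hle.trans hXZ))) ?_
  refine le_trans (le_inf inf_le_left ?_) ((family_inf_centralizer_le hX le_rfl).trans hN.fixed_le)
  rw [← hL.centralizer_inf hA h.card_eq hg.1 hgL]
  exact le_inf (inf_le_left.trans hXL) inf_le_right

/-- A subgroup of `N` in `O_{2',2}(H)` commutes modulo `O(H)` with `O_u(N) ∩ H`. -/
theorem le_centralizerMod_of_le (hu : u ≠ 2) {H T X : Subgroup G} (hTV : T ≤ oq u N)
    (hTH : T ≤ H) (hXN : X ≤ N) (hX : X ≤ opq 2 H) :
    X ≤ centralizerMod (opr 2 H) T := by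
  intro x hx
  refine mem_centralizerMod.mpr ⟨le_normalizer_opr 2 H (opq_le 2 H (hX hx)), fun t ht => ?_⟩
  have h1 : x * t * x⁻¹ * t⁻¹ ∈ oq u N := Subgroup.mul_mem _
    (le_normalizer_iff.mp (le_normalizer_oq u N) x (hXN hx) t (hTV ht))
    (Subgroup.inv_mem _ (hTV ht))
  have h2 : x * t * x⁻¹ * t⁻¹ ∈ opq 2 H := by
    have h3 := le_normalizer_iff.mp (le_normalizer.trans (normalizer_le_normalizer_opq 2 H)) t
      (hTH ht) x⁻¹ (Subgroup.inv_mem _ (hX hx))
    have := Subgroup.mul_mem _ (hX hx) h3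
    simpa [mul_assoc] using this
  exact inf_opq_le_opr (T := oq u N ⊓ H)
    (coprime_of_isPGroup hu.symm ((oq_isPGroup u N).to_le inf_le_left)) inf_le_right
    ⟨⟨h1, opq_le 2 H h2⟩, h2⟩

theorem inf_le_oq (h : IsMinimalIncomplete p A θ) (hN : IsCoreMember p A θ N) (hu : u ≠ 2)
    {H : Subgroup G} (hH : H ∈ Cfsg.signalizerFamily p A θ)
    (hDH : Cfsg.signalizerInf A θ ≤ H) : oq u N ⊓ H ≤ oq u H := by
  have hA := h.elem
  have hA3 := h.card_eq
  set D := Cfsg.signalizerInf A θ with hD
  set O := opr 2 H with hO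
  set U := oq u N ⊓ H with hU
  have hON : O ≤ N := hN.odd_le O (family_opr hH 2) (opr_coprime 2 H)
    (hDH.trans (le_normalizer_opr 2 H))
  have hUf : U ∈ Cfsg.signalizerFamily p A θ :=
    family_inf_left (family_oq hN.max.1 u) (family_le_normalizer hH)
  have hAU := family_le_normalizer hUf
  have hDA : D ≤ centralizer (A : Set G) := h.fixed_le_centralizer_elem
  have hDU : D ≤ normalizer (U : Set G) :=
    le_normalizer_inf (hN.fixed_le.trans (le_normalizer_oq u N)) (hDH.trans le_normalizer)
  have hUodd : (Nat.card U).Coprime 2 :=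
    coprime_of_isPGroup hu.symm ((oq_isPGroup u N).to_le inf_le_left)
  have hHopq : normalizer (H : Set G) ≤ normalizer (opq 2 H : Set G) :=
    normalizer_le_normalizer_opq 2 H
  -- the facts used for a subgroup `P` of the fixed part
  have hWf : ∀ P : Subgroup G, P ≤ D →
      opq 2 H ⊓ centralizer (P : Set G) ∈ Cfsg.signalizerFamily p A θ := fun P hP =>
    family_inf_left (family_of_le hH (opq_le 2 H) ((family_le_normalizer hH).trans hHopq))
      (le_normalizer_centralizer
        ((le_centralizer_iff.mp (hP.trans hDA)).trans (centralizer_le_normalizer _)))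
  have hlineN : ∀ P : Subgroup G, P ≤ D → ∀ B, IsLine p A B → ∀ g, IsXPoint p A θ g → g ∉ B →
      unitZ p A θ g ≤ P → opq 2 H ⊓ centralizer (P : Set G) ⊓ centralizer (B : Set G) ≤ N :=
    fun P hP B hB g hg hgB hgP => hN.le_of_tech h hB hg hgB
      (family_of_le (hWf P hP) inf_le_left
        (le_normalizer_inf_centralizer hA (family_le_normalizer (hWf P hP)) hB.1))
      inf_le_right (inf_le_left.trans (inf_le_right.trans (centralizer_le hgP)))
  have hpP : ∀ g, IsXPoint p A θ g → unitZ p A θ g ≤ D ∧ unitZ p A θ g ≤ omegaQ p A θ 2 :=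
    fun g hg => ⟨(h.unitZ_le_fixed g hg.1 hg.2.1).trans inf_le_left,
      (h.unitZ_le_fixed g hg.1 hg.2.1).trans inf_le_right⟩
  suffices hUO : U ≤ O by
    refine (le_oq_of hUO ?_ ((oq_isPGroup u N).to_le inf_le_left)).trans
      (le_oq_of ((oq_le u O).trans (opr_le 2 H))
        ((le_normalizer_opr 2 H).trans (normalizer_le_normalizer_oq u O)) (oq_isPGroup u O))
    exact le_normalizer_inf (hON.trans (le_normalizer_oq u N)) ((opr_le 2 H).trans le_normalizer)
  -- a part centralized by three independent x-points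
  have hfix : U ⊓ centralizer (A : Set G) ≤ O := by
    obtain ⟨L, hL, -, -⟩ := exists_line_ge hA hA3 A.one_mem A.one_mem
    obtain ⟨a, haL, a', ha'L, hxa, hxa', hne⟩ := h.exists_two_xPoints hL
    obtain ⟨a'', hxa'', ha''L⟩ := h.exists_xPoint_notMem hL
    set T := U ⊓ centralizer (A : Set G) with hT
    set P := unitZ p A θ a ⊔ unitZ p A θ a' ⊔ unitZ p A θ a'' with hP
    have hPD : P ≤ D := sup_le (sup_le (hpP a hxa).1 (hpP a' hxa').1) (hpP a'' hxa'').1
    have hP2 : IsPGroup 2 P := (h.omegaQ_isPGroup 2).to_le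
      (sup_le (sup_le (hpP a hxa).2 (hpP a' hxa').2) (hpP a'' hxa'').2)
    have hTf : T ∈ Cfsg.signalizerFamily p A θ :=
      family_of_le hUf inf_le_left (le_normalizer_inf_centralizer hA hAU le_rfl)
    have hTodd : (Nat.card T).Coprime 2 :=
      hUodd.coprime_dvd_left (card_dvd_of_le inf_le_left)
    have hDT : D ≤ normalizer (T : Set G) := le_normalizer_inf hDU (hDA.trans le_normalizer)
    have hTg : ∀ g, IsXPoint p A θ g → unitZ p A θ g ≤ centralizer (T : Set G) := fun g hg =>
      le_centralizer_iff.mp (h.le_centralizer_unitZ hg.1 hg.2.1 hTf hTodd hDT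
        (inf_le_right.trans (centralizer_le (Set.singleton_subset_iff.mpr hg.1))))
    refine le_opr_of_pxq (family_isSolvable hH) (inf_le_left.trans inf_le_right) hTodd
      (hPD.trans hDH) hP2 (sup_le (sup_le (hTg a hxa) (hTg a' hxa')) (hTg a'' hxa'')) ?_
    refine le_of_lines hA hA3 (family_not_dvd (hWf P hPD)) (family_le_normalizer (hWf P hPD))
      fun B hB => le_centralizerMod_of_le (N := N) hu (inf_le_left.trans inf_le_left)
        (inf_le_left.trans inf_le_right) ?_ (inf_le_left.trans inf_le_left)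
    by_cases h1 : a ∈ B
    · by_cases h2 : a' ∈ B
      · exact hlineN P hPD B hB a'' hxa''
          (fun h3 => ha''L (hL.eq_of_mem hA hA3 hB haL h1 ha'L h2 hxa.2.1 hne ▸ h3)) le_sup_right
      · exact hlineN P hPD B hB a' hxa' h2 (le_sup_of_le_left le_sup_right)
    · exact hlineN P hPD B hB a hxa h1 (le_sup_of_le_left le_sup_left)
  refine le_of_lines hA hA3 (family_not_dvd hUf) hAU fun L hL => ?_
  obtain ⟨c, hc, hcL⟩ := hL.exists_notMem hA3
  obtain ⟨a, haL, a', ha'L, hxa, hxa', hne⟩ := h.exists_two_xPoints hL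
  set T := U ⊓ centralizer (L : Set G) with hT
  have hTf : T ∈ Cfsg.signalizerFamily p A θ :=
    family_of_le hUf inf_le_left (le_normalizer_inf_centralizer hA hAU hL.1)
  have hAT := family_le_normalizer hTf
  rw [← sup_centralizer_eq hA (family_not_dvd hTf) hAT hc]
  refine sup_le ?_ (le_trans (le_inf (inf_le_left.trans inf_le_left) ?_) hfix)
  swap
  · rw [← hL.centralizer_inf hA hA3 hc hcL]
    exact le_inf (inf_le_left.trans inf_le_right) inf_le_right
  set Q := ⁅T, zpowers c⁆ with hQ
  have hQT : Q ≤ T := commutator_zpowers_le (hAT hc)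
  have hQf : Q ∈ Cfsg.signalizerFamily p A θ :=
    family_of_le hTf hQT (le_normalizer_commutator_elem hA hAT hc)
  have hTodd : (Nat.card T).Coprime 2 := hUodd.coprime_dvd_left (card_dvd_of_le inf_le_left)
  have hQodd : (Nat.card Q).Coprime 2 := hTodd.coprime_dvd_left (card_dvd_of_le hQT)
  have hDT : D ≤ normalizer (T : Set G) := le_normalizer_inf hDU
    ((hDA.trans (centralizer_le hL.1)).trans le_normalizer)
  set P := unitZ p A θ a ⊔ unitZ p A θ a' with hP
  have hPD : P ≤ D := sup_le (hpP a hxa).1 (hpP a' hxa').1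
  have hP2 : IsPGroup 2 P := (h.omegaQ_isPGroup 2).to_le (sup_le (hpP a hxa).2 (hpP a' hxa').2)
  have hTP : T ≤ centralizer (P : Set G) := by
    refine le_centralizer_iff.mpr (sup_le (le_centralizer_iff.mp ?_) (le_centralizer_iff.mp ?_))
    · exact h.le_centralizer_unitZ hxa.1 hxa.2.1 hTf hTodd hDT
        (inf_le_right.trans (centralizer_le (Set.singleton_subset_iff.mpr haL)))
    · exact h.le_centralizer_unitZ hxa'.1 hxa'.2.1 hTf hTodd hDT
        (inf_le_right.trans (centralizer_le (Set.singleton_subset_iff.mpr ha'L)))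
  have hQV : Q ≤ oq u N := hQT.trans (inf_le_left.trans inf_le_left)
  have hQH : Q ≤ H := hQT.trans (inf_le_left.trans inf_le_right)
  refine le_opr_of_pxq (family_isSolvable hH) hQH hQodd (hPD.trans hDH) hP2
    (le_centralizer_iff.mp (hQT.trans hTP)) ?_
  refine le_of_lines hA hA3 (family_not_dvd (hWf P hPD)) (family_le_normalizer (hWf P hPD))
    fun B hB => ?_
  have hgen : ∀ g, IsXPoint p A θ g → g ∉ B → unitZ p A θ g ≤ P →
      opq 2 H ⊓ centralizer (P : Set G) ⊓ centralizer (B : Set G) ≤ centralizerMod O Q :=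
    fun g hg hgB hgP => le_centralizerMod_of_le (N := N) hu hQV hQH
      (hlineN P hPD B hB g hg hgB hgP) (inf_le_left.trans inf_le_left)
  by_cases h1 : a ∈ B
  swap; · exact hgen a hxa h1 le_sup_left
  by_cases h2 : a' ∈ B
  swap; · exact hgen a' hxa' h2 le_sup_right
  obtain rfl := hL.eq_of_mem hA hA3 hB haL h1 ha'L h2 hxa.2.1 hne
  set W := opq 2 H ⊓ centralizer (P : Set G) ⊓ centralizer (L : Set G) with hW
  have hWfam : W ∈ Cfsg.signalizerFamily p A θ := family_of_le (hWf P hPD) inf_le_left
    (le_normalizer_inf_centralizer hA (family_le_normalizer (hWf P hPD)) hL.1)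
  have hWH : W ≤ H := inf_le_left.trans (inf_le_left.trans (opq_le 2 H))
  refine le_centralizerMod_of_inert hp.out (hA.2 c hc) (family_isSolvable hWfam)
    (family_isSolvable hQf) hQodd (hWH.trans (le_normalizer_opr 2 H))
    (hQH.trans (le_normalizer_opr 2 H))
    ((family_le_normalizer (family_opr hH 2)) hc)
    (le_normalizer_inf (le_normalizer_inf (hQH.trans (le_normalizer.trans hHopq))
      ((hQT.trans hTP).trans le_normalizer)) ((hQT.trans inf_le_right).trans le_normalizer))
    ((family_le_normalizer hWfam) hc) ((family_le_normalizer hQf) hc)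
    (commutator_idem hA (family_not_dvd hTf) hAT hc)
    (fun x hx => exists_pow_mem_opr ((inf_le_left.trans inf_le_left : W ≤ opq 2 H) hx))
    (hp.out.coprime_iff_not_dvd.mpr (family_not_dvd hWfam))
    (hp.out.coprime_iff_not_dvd.mpr (family_not_dvd hQf))
    (le_centralizerMod_of_le (N := N) hu hQV hQH ?_ (inf_le_left.trans (inf_le_left.trans inf_le_left)))
  refine le_trans (le_inf inf_le_left ?_) ((family_inf_centralizer_le hWfam le_rfl).trans hN.fixed_le)
  rw [← hL.centralizer_inf hA hA3 hc hcL]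
  exact le_inf (inf_le_left.trans inf_le_right) inf_le_right

theorem oq_le_oq_of_xPoint (h : IsMinimalIncomplete p A θ) (hN : IsCoreMember p A θ N)
    (hu : u ≠ 2) {g : G} (hg : IsXPoint p A θ g)
    (hne : oq u N ⊓ centralizer ({g} : Set G) ≠ ⊥) {K : Subgroup G}
    (hK : IsMaxMember p A θ K) (hgK : θ g ≤ K) :
    oq u N ≤ oq u K := by
  have hDK : Cfsg.signalizerInf A θ ≤ K := (functor_mem_fixed_le hg.1 hg.2.1).trans hgK
  set V := oq u N with hV
  set O := oq u K with hO
  have hVf : V ∈ Cfsg.signalizerFamily p A θ := family_oq hN.max.1 u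
  have hOf : O ∈ Cfsg.signalizerFamily p A θ := family_oq hK.1 u
  have hON : O ≤ N := hN.odd_le O hOf (coprime_of_isPGroup hu.symm (oq_isPGroup u K))
    (hDK.trans (le_normalizer_oq u K))
  have hVK : V ⊓ K ≤ O := hN.inf_le_oq h hu hK.1 hDK
  have hOne : O ≠ ⊥ := fun h0 => hne (le_bot_iff.mp (by
    rw [← h0]
    exact (le_inf inf_le_left ((family_inf_le hVf hg.1 hg.2.1).trans hgK)).trans hVK))
  have hOV : O ≤ normalizer (V : Set G) := hON.trans (le_normalizer_oq u N)
  set S := V ⊔ O with hS
  have hSf : S ∈ Cfsg.signalizerFamily p A θ := family_sup h.elem hVf hOf hOV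
  have hSu : IsPGroup u S := by
    rw [hS, sup_comm]
    exact CfsgLib.Components.isPGroup_sup (oq_isPGroup u K) (oq_isPGroup u N) hOV
  have hR : S ⊓ normalizer (O : Set G) ≤ K :=
    h.le_max_of_normalizes hK (oq_le u K) (family_le_normalizer hOf) (le_normalizer_oq u K) hOne
      (family_inf_left hSf ((family_le_normalizer hOf).trans le_normalizer)) inf_le_right
  have hSO : S = O := by
    by_contra hSne
    refine inf_lt_normalizer hSu (le_sup_right : O ≤ S) (fun h0 => hSne h0.symm) ?_
    intro x hx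
    have hxK : x ∈ K := hR ⟨hx.2, hx.1⟩
    obtain ⟨v, hv, o, ho, rfl⟩ := (CfsgLib.Solvable.mem_sup_of_le_normalizer hOV).mp hx.2
    have hvK : v ∈ K := (mul_mem_cancel_right (oq_le u K ho)).mp hxK
    exact mul_mem (hVK ⟨hv, hvK⟩) ho
  exact le_sup_left.trans hSO.le

theorem oq_le_centralizer_of_xPoint (h : IsMinimalIncomplete p A θ) (hN : IsCoreMember p A θ N)
    (hu : u ≠ 2) {g : G} (hg : IsXPoint p A θ g)
    (hne : oq u N ⊓ centralizer ({g} : Set G) ≠ ⊥) :
    oq u N ≤ centralizer ({g} : Set G) := by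
  obtain ⟨K, hK, hgK⟩ := exists_isMaxMember_ge (functor_mem_family h.functor hg.1 hg.2.1)
  exact (hN.oq_le_oq_of_xPoint h hu hg hne hK hgK).trans (hg.oq_le hK hgK Fact.out hu)

theorem exists_line_centralizing (h : IsMinimalIncomplete p A θ) (hN : IsCoreMember p A θ N)
    (hu : u ≠ 2) : ∃ L, IsLine p A L ∧ oq u N ≤ centralizer (L : Set G) := by
  have hA := h.elem
  have hA3 := h.card_eq
  have hVf := family_oq hN.max.1 u
  by_cases hV : oq u N = ⊥
  · obtain ⟨L, hL, -, -⟩ := exists_line_ge hA hA3 A.one_mem A.one_mem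
    exact ⟨L, hL, hV.le.trans bot_le⟩
  obtain ⟨L, hL, hne⟩ : ∃ L, IsLine p A L ∧ oq u N ⊓ centralizer (L : Set G) ≠ ⊥ := by
    by_contra hcon
    push Not at hcon
    exact hV (le_bot_iff.mp (le_of_lines hA hA3 (family_not_dvd hVf) (family_le_normalizer hVf)
      fun B hB => (hcon B hB).le))
  obtain ⟨a, haL, a', ha'L, hxa, hxa', hna⟩ := h.exists_two_xPoints hL
  have key : ∀ x, x ∈ L → IsXPoint p A θ x → oq u N ≤ centralizer ({x} : Set G) := fun x hx hxx =>
    hN.oq_le_centralizer_of_xPoint h hu hxx fun h0 => hne (le_bot_iff.mp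
      ((inf_le_inf_left _ (centralizer_le (Set.singleton_subset_iff.mpr hx))).trans h0.le))
  exact ⟨L, hL, hL.le_centralizer_of_mem hA haL hxa.2.1 ha'L hna (key a haL hxa) (key a' ha'L hxa')⟩

/-- The odd Fitting parts over a point with fixed odd parts centralize `O_2(N)`. -/
theorem oq_le_centralizer_oq_two (h : IsMinimalIncomplete p A θ) (hN : IsCoreMember p A θ N)
    (hu : u ≠ 2) {g : G} (hg : IsXPoint p A θ g) {K : Subgroup G} (hK : IsMaxMember p A θ K)
    (hgK : θ g ≤ K) : oq u K ≤ centralizer (oq 2 N : Set G) := by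
  have hDK : Cfsg.signalizerInf A θ ≤ K := (functor_mem_fixed_le hg.1 hg.2.1).trans hgK
  have hPf := family_oq (θ := θ) hK.1 2
  have hPN : oq 2 K ≤ N := (h.oq_le_omegaQ h.ne_two.symm hK.1 hDK).trans (hN.omegaQ_two_le h)
  have hQN : oq u K ≤ N := hN.odd_le _ (family_oq hK.1 u)
    (coprime_of_isPGroup hu.symm (oq_isPGroup u K)) (hDK.trans (le_normalizer_oq u K))
  have hPne : oq 2 K ≠ ⊥ := fun h0 => h.two_moved hg hK hgK (h0.le.trans bot_le)
  have hCK : oq 2 N ⊓ centralizer (oq 2 K : Set G) ≤ K :=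
    h.le_max_of_normalizes hK (oq_le 2 K) (family_le_normalizer hPf) (le_normalizer_oq 2 K) hPne
      (family_inf_centralizer h.elem (family_oq hN.max.1 2) hPf)
      (inf_le_right.trans (centralizer_le_normalizer _))
  have hPQ : oq 2 K ≤ centralizer (oq u K : Set G) := oq_le_centralizer_oq hu.symm K
  refine CfsgLib.Solvable.thompson_pxq (oq_isPGroup 2 K)
    (coprime_of_isPGroup hu.symm (oq_isPGroup u K)) (oq_isPGroup 2 N) hPQ
    (hPN.trans (le_normalizer_oq 2 N)) (hQN.trans (le_normalizer_oq 2 N)) ?_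
  refine le_centralizer_of_normalize (hCK.trans (le_normalizer_oq u K))
    (le_normalizer_inf (hQN.trans (le_normalizer_oq 2 N))
      ((le_centralizer_iff.mp hPQ).trans le_normalizer)) ?_
  exact le_bot_iff.mp ((inf_le_inf_right _ inf_le_left).trans
    (inf_eq_bot_of_isPGroup hu.symm (oq_isPGroup 2 N) (oq_isPGroup u K)).le)

theorem absorbed_le_centralizer_oq_two (h : IsMinimalIncomplete p A θ)
    (hN : IsCoreMember p A θ N) (hu : u ≠ 2) {B U : Subgroup G}
    (hU : IsAbsorbed p A θ u B U) : U ≤ centralizer (oq 2 N : Set G) := by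
  obtain ⟨a, haB, -, -, hxa, -, -⟩ := h.exists_two_xPoints hU.line
  obtain ⟨K, hK, haK⟩ := exists_isMaxMember_ge (functor_mem_family h.functor hxa.1 hxa.2.1)
  exact (hU.le_oq_of_theta h haB hxa.2.1 hK.1 haK).trans
    (hN.oq_le_centralizer_oq_two h hu hxa hK haK)

theorem exists_max_over_point (h : IsMinimalIncomplete p A θ) (hN : IsCoreMember p A θ N)
    {e : G} (he : e ∈ A) (he1 : e ≠ 1) :
    ∃ K, IsMaxMember p A θ K ∧ θ e ≤ K ∧ (IsXPoint p A θ e ∨ oq 2 N ≤ K) := by
  have hA := h.elem
  by_cases hx : IsXPoint p A θ e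
  · obtain ⟨K, hK, heK⟩ := exists_isMaxMember_ge (functor_mem_family h.functor he he1)
    exact ⟨K, hK, heK, Or.inl hx⟩
  obtain ⟨K₀, hK₀, heK₀, q, hq, hq2, hmoved⟩ : ∃ K, IsMaxMember p A θ K ∧ θ e ≤ K ∧
      ∃ q : ℕ, q.Prime ∧ q ≠ 2 ∧ ¬ oq q K ≤ centralizer ({e} : Set G) := by
    by_contra hcon
    push Not at hcon
    exact hx ⟨he, he1, hcon⟩
  haveI := Fact.mk hq
  have hQf := family_oq (θ := θ) hK₀.1 q
  set P₀ := ⁅oq q K₀, zpowers e⁆ with hP₀
  have hne : P₀ ≠ ⊥ := fun h0 => hmoved (le_centralizer_singleton_of_commutator_eq_bot h0)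
  have hPf : P₀ ∈ Cfsg.signalizerFamily p A θ :=
    family_of_le hQf (commutator_zpowers_le ((family_le_normalizer hQf) he))
      (le_normalizer_commutator_elem hA (family_le_normalizer hQf) he)
  have hPW : P₀ ≤ centralizer (oq 2 N : Set G) := by
    refine (commutator_le_iSup_lines hA h.card_eq (family_isSolvable hQf) (family_not_dvd hQf)
      (family_le_normalizer hQf) he).trans (iSup_le fun B => ?_)
    by_cases hb : ⁅oq q K₀ ⊓ centralizer ((B : Subgroup G) : Set G), zpowers e⁆ = ⊥
    · rw [hb]; exact bot_le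
    · exact hN.absorbed_le_centralizer_oq_two h hq2
        (h.isAbsorbed_piece he he1 hK₀ heK₀ B.2.1 B.2.2 hq2 hb)
  obtain ⟨K, hK, -, -, hall⟩ := h.exists_normalizer_max hPf hne
  refine ⟨K, hK, hall _ (functor_mem_family h.functor he he1) ?_, Or.inr (hall _
    (family_oq hN.max.1 2) ((le_centralizer_iff.mp hPW).trans (centralizer_le_normalizer _)))⟩
  refine le_trans (le_inf (heK₀.trans (le_normalizer_oq q K₀)) ?_)
    (normalizer_inf_le_normalizer_commutator _ _)
  refine le_trans ?_ (centralizer_le_normalizer _)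
  rw [centralizer_zpowers]
  exact functor_le_centralizer h.functor he he1

/-- A line centralizing `O_u(N)` centralizes the part of `O_u(K)` centralized by a point of it. -/
theorem point_core_le (h : IsMinimalIncomplete p A θ) (hN : IsCoreMember p A θ N)
    (hu : u ≠ 2) (hne : oq u N ≠ ⊥) {L : Subgroup G} (hL : IsLine p A L)
    (hVL : oq u N ≤ centralizer (L : Set G)) {e : G} (he : e ∈ L) (he1 : e ≠ 1)
    {K : Subgroup G} (hK : IsMaxMember p A θ K) (heK : θ e ≤ K)
    (hor : IsXPoint p A θ e ∨ oq 2 N ≤ K) :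
    oq u N ≤ oq u K ∧ oq u K ⊓ centralizer ({e} : Set G) ≤ centralizer (L : Set G) := by
  have hA := h.elem
  have hA3 := h.card_eq
  have heA := hL.1 he
  have hDK : Cfsg.signalizerInf A θ ≤ K := (functor_mem_fixed_le heA he1).trans heK
  set V := oq u N with hV
  have hVf : V ∈ Cfsg.signalizerFamily p A θ := family_oq hN.max.1 u
  have hup : u ≠ p := by
    intro h0
    obtain ⟨n, hn⟩ := (oq_isPGroup u N).exists_card_eq
    rcases Nat.eq_zero_or_pos n with h1 | h1
    · rw [h1, pow_zero] at hn
      exact hne (card_eq_one.mp hn)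
    · refine family_not_dvd hVf ?_
      rw [hn, h0]
      exact dvd_pow_self p h1.ne'
  have hVK : V ≤ oq u K :=
    (le_inf le_rfl ((le_inf le_rfl (hVL.trans (centralizer_le (Set.singleton_subset_iff.mpr he)))).trans
      ((family_inf_le hVf heA he1).trans heK))).trans (hN.inf_le_oq h hu hK.1 hDK)
  refine ⟨hVK, ?_⟩
  set O := oq u K with hO
  have hOf : O ∈ Cfsg.signalizerFamily p A θ := family_oq hK.1 u
  have hON : O ≤ N := hN.odd_le O hOf (coprime_of_isPGroup hu.symm (oq_isPGroup u K))
    (hDK.trans (le_normalizer_oq u K))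
  have hOW : O ≤ centralizer (oq 2 N : Set G) := by
    rcases hor with hx | hWK
    · exact hN.oq_le_centralizer_oq_two h hu hx hK heK
    · exact le_centralizer_of_normalize (hON.trans (le_normalizer_oq 2 N))
        (hWK.trans (le_normalizer_oq u K))
        (inf_eq_bot_of_isPGroup hu (oq_isPGroup u K) (oq_isPGroup 2 N))
  have hO1f := family_of_le hOf (inf_le_left : O ⊓ centralizer ({e} : Set G) ≤ O)
    (le_normalizer_inf_centralizer_elem hA (family_le_normalizer hOf) heA)
  refine le_of_lines hA hA3 (family_not_dvd hO1f) (family_le_normalizer hO1f) fun B hB => ?_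
  by_cases heB : e ∈ B
  swap
  · refine le_trans ?_ (centralizer_le hL.1)
    rw [← hB.centralizer_inf hA hA3 heA heB]
    exact le_inf inf_le_right (inf_le_left.trans inf_le_right)
  by_cases hBL : B = L
  · subst hBL; exact inf_le_right
  obtain ⟨b, hbL, hbe⟩ : ∃ b ∈ L, b ∉ zpowers e := by
    by_contra hcon
    push Not at hcon
    have hc := card_le_of_le (show L ≤ zpowers e from hcon)
    rw [hL.2, card_zpowers_elementary hA heA he1] at hc
    exact absurd hc (not_le.mpr (lt_self_pow₀ hp.out.one_lt one_lt_two))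
  have hbA := hL.1 hbL
  set X := O ⊓ centralizer ({e} : Set G) ⊓ centralizer (B : Set G) with hX
  refine hL.le_centralizer_of_mem hA he he1 hbL hbe (inf_le_left.trans inf_le_right)
    (le_centralizer_singleton_of_commutator_eq_bot ?_)
  have hXf : X ∈ Cfsg.signalizerFamily p A θ := family_of_le hO1f inf_le_left
    (le_normalizer_inf_centralizer hA (family_le_normalizer hO1f) hB.1)
  have hAX := family_le_normalizer hXf
  set Y := ⁅X, zpowers b⁆ with hY
  have hYX : Y ≤ X := commutator_zpowers_le (hAX hbA)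
  have hXO : X ≤ O := inf_le_left.trans inf_le_left
  have hYO : Y ≤ O := hYX.trans hXO
  have hYu : IsPGroup u Y := (oq_isPGroup u K).to_le hYO
  have hYf : Y ∈ Cfsg.signalizerFamily p A θ :=
    family_of_le hXf hYX (le_normalizer_commutator_elem hA hAX hbA)
  have hidem : ⁅Y, zpowers b⁆ = Y := commutator_idem hA (family_not_dvd hXf) hAX hbA
  have hVb : V ≤ centralizer ({b} : Set G) :=
    hVL.trans (centralizer_le (Set.singleton_subset_iff.mpr hbL))
  have hall : ∀ t : ℕ, t.Prime → Y ≤ centralizer (oq t N : Set G) := by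
    intro t ht
    haveI := Fact.mk ht
    by_cases htu : t = u
    · subst htu
      exact commutator_zpowers_le_centralizer (hXO.trans (hON.trans (le_normalizer_oq t N))) hVb
    by_cases ht2 : t = 2
    · subst ht2; exact hYO.trans hOW
    obtain ⟨Lt, hLt, hWLt⟩ := hN.exists_line_centralizing (u := t) h ht2
    obtain ⟨d, hd, hdB, hdLt⟩ := hB.exists_notMem_two hA3 hLt
    have hAY := family_le_normalizer hYf
    have hYd : ⁅Y, zpowers d⁆ = Y := by
      refine le_antisymm (commutator_zpowers_le (hAY hd)) (hidem.ge.trans ?_)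
      rw [commutator_le]
      intro y hy z hz
      have hzA : z ∈ B ⊔ zpowers d := by
        rw [hB.sup_zpowers hA hA3 hd hdB]
        exact zpowers_le.mpr hbA hz
      obtain ⟨l, hl, w, hw, rfl⟩ := (CfsgLib.Solvable.mem_sup_of_le_normalizer
        (zpowers_le.mpr ((centralizer_le_normalizer _) fun x hx =>
          elementary_commute hA (hB.1 hx) hd))).mp hzA
      have hyl : y ∈ centralizer ({l} : Set G) :=
        centralizer_le (Set.singleton_subset_iff.mpr hl) ((hYX.trans inf_le_right) hy)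
      have hwl : w ∈ centralizer ({l} : Set G) :=
        le_centralizer_singleton hA (hB.1 hl) (zpowers_le.mpr hd hw)
      have h1 : y * l = l * y := mem_centralizer_singleton_iff.mp hyl
      have h2 : w * l = l * w := mem_centralizer_singleton_iff.mp hwl
      have h3 : ⁅y, w⁆ * l = l * ⁅y, w⁆ := mem_centralizer_singleton_iff.mp
        (mul_mem (mul_mem (mul_mem hyl hwl) (inv_mem hyl)) (inv_mem hwl))
      have h4 : ⁅y, l * w⁆ = ⁅y, w⁆ := by
        calc ⁅y, l * w⁆ = (y * l) * w * y⁻¹ * w⁻¹ * l⁻¹ := by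
              simp only [commutatorElement_def]; group
          _ = l * ⁅y, w⁆ * l⁻¹ := by rw [h1]; simp only [commutatorElement_def]; group
          _ = ⁅y, w⁆ := by rw [← h3]; group
      rw [h4]
      exact commutator_mem_commutator hy hw
    refine le_centralizer_of_odd_inert hp.out (hA.2 d hd) hup
      (family_isSolvable (family_oq hN.max.1 t)) hYu (Or.inl hu) ?_
      (hp.out.coprime_iff_not_dvd.mpr (family_not_dvd (family_oq hN.max.1 t)))
      ((family_le_normalizer (family_oq hN.max.1 t)) hd) (hAY hd)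
      ((hYO.trans hON).trans (le_normalizer_oq t N)) hYd ?_
    · obtain ⟨n, hn⟩ := hYu.exists_card_eq
      rw [hn]
      exact Nat.Coprime.pow_left n (coprime_of_isPGroup (Ne.symm htu) (oq_isPGroup t N)).symm
    · have hC : oq t N ⊓ centralizer ({d} : Set G) ≤ K := by
        refine le_trans (le_inf inf_le_left ?_)
          ((family_inf_centralizer_le (family_oq hN.max.1 t) le_rfl).trans hDK)
        rw [← hLt.centralizer_inf hA hA3 hd hdLt]
        exact le_inf (inf_le_left.trans hWLt) inf_le_right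
      refine le_trans ?_ (centralizer_le hYO)
      exact le_centralizer_of_inf_eq_bot (T := oq t N ⊓ centralizer ({d} : Set G)) (V := oq t N)
        (S := oq u K) inf_le_left (hC.trans (le_normalizer_oq u K))
        (hON.trans (le_normalizer_oq t N))
        (inf_eq_bot_of_isPGroup (Ne.symm htu) (oq_isPGroup u K) (oq_isPGroup t N))
  have hYV : Y ≤ V :=
    le_oq_of_centralizes_oq (family_isSolvable hN.max.1) (hYO.trans hON) hYu hall
  show Y = ⊥
  rw [← hidem]
  exact commutator_eq_bot_of_le_centralizer_singleton (hYV.trans hVb)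

end IsCoreMember

end CfsgLib.Signalizer
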