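import Cfsg.Agent.Lib.Signalizer.CoreSepLocal
import Cfsg.Agent.Lib.Signalizer.CommutatorFixedMain
import Cfsg.Agent.Lib.Signalizer.Connected
import Cfsg.Prelude.Def_Balance

/-!
The signalizer functor of a core-separated pair of four-groups.
The solvability of the groups of odd order enters as a hypothesis.
-/

set_option autoImplicit false
set_option linter.style.haveILetI false
set_option linter.unusedVariables false
set_option linter.unusedSectionVars false

open scoped commutatorElement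
open Subgroup CfsgLib.Components CfsgLib.Balance

universe u

namespace CfsgLib.Signalizer.CoreSep

variable {G : Type u} [Group G] [Finite G]

/-- One factor of the functor. -/
def part (T : Subgroup G) (a : G) : Subgroup G :=
  ⁅Cfsg.centralizerPPrimeCore 2 a, T⁆ ⊔
    (Cfsg.centralizerPPrimeCore 2 a ⊓ coreP 2 (centralizer (T : Set G)))

/-- A core-separated pair. -/
structure Pair (T T' : Subgroup G) : Prop where
  elem : Cfsg.IsElementaryAbelian 2 T
  elem' : Cfsg.IsElementaryAbelian 2 T'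
  card : Nat.card T = 4
  card' : Nat.card T' = 4
  comm : ∀ x ∈ T, ∀ y ∈ T', x * y = y * x
  sep : ∀ a ∈ T ⊔ T', a ≠ 1 → ∀ E : Subgroup ↥(centralizer ({a} : Set G)), Cfsg.IsPComponent 2 E →
    ⁅E.map (centralizer ({a} : Set G)).subtype, T⁆ ≤ Cfsg.centralizerPPrimeCore 2 a ∨
      ⁅E.map (centralizer ({a} : Set G)).subtype, T'⁆ ≤ Cfsg.centralizerPPrimeCore 2 a

theorem core_odd (a : G) : (Nat.card ↥(Cfsg.centralizerPPrimeCore 2 a)).Coprime 2 :=
  coreP_coprime 2 (centralizer ({a} : Set G))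

theorem commutator_le_centralizer_of {Q : Type*} [Group Q] {V T E : Subgroup Q}
    (hV : V ≤ normalizer (E : Set Q)) (hT : E ≤ centralizer (T : Set Q)) :
    ⁅V, T⁆ ≤ centralizer (E : Set Q) := by
  rw [commutator_le]
  intro v hv t ht k (hk : k ∈ E)
  have h1 : v⁻¹ * k * v ∈ E := by
    simpa using (mem_normalizer_iff.mp (hV (inv_mem hv)) k).mp hk
  have h2 : t * (v⁻¹ * k * v) = v⁻¹ * k * v * t := hT h1 t ht
  have h3 : t * k = k * t := hT hk t ht
  have h4 : t⁻¹ * k = k * t⁻¹ := ((show Commute t k from h3).inv_left).eq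
  symm
  simp only [commutatorElement_def]
  calc v * t * v⁻¹ * t⁻¹ * k = v * (t * (v⁻¹ * k * v)) * v⁻¹ * t⁻¹ := by
        rw [mul_assoc (v * t * v⁻¹) t⁻¹ k, h4]; group
    _ = k * (v * t * v⁻¹ * t⁻¹) := by rw [h2]; group

/-- The `p`-layer of a subgroup of a subgroup. -/
theorem pLayer_map_map_eq {K : Subgroup G} (C' : Subgroup ↥K) :
    ((Cfsg.pLayer 2 ↥C').map C'.subtype).map K.subtype =
      (Cfsg.pLayer 2 ↥(C'.map K.subtype)).map (C'.map K.subtype).subtype := by
  rw [← pLayer_map_equiv (p := 2) (C'.equivMapOfInjective _ K.subtype_injective), map_map, map_map]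
  rfl

theorem map_centralizer_subgroupOf {K T : Subgroup G} (hT : T ≤ K) :
    (centralizer (T.subgroupOf K : Set K)).map K.subtype = K ⊓ centralizer (T : Set G) := by
  ext x
  constructor
  · rintro ⟨y, hy, rfl⟩
    exact ⟨y.2, fun t ht =>
      congrArg Subtype.val (hy ⟨t, hT ht⟩ (mem_subgroupOf.mpr ht))⟩
  · intro hx
    exact ⟨⟨x, hx.1⟩, fun t ht => Subtype.ext (hx.2 (t : G) (mem_subgroupOf.mp ht)), rfl⟩

section images

variable {K : Subgroup G}

theorem ker_coprime : (Nat.card (QuotientGroup.mk' (Cfsg.pPrimeCore 2 ↥K)).ker).Coprime 2 := by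
  rw [QuotientGroup.ker_mk']
  exact coprime_card_pPrimeCore 2

theorem isPGroup_zpowers {H : Type*} [Group H] {x : H} (hx : x ^ 2 = 1) :
    IsPGroup 2 ↥(zpowers x) := by
  rintro ⟨_, i, rfl⟩
  refine ⟨1, Subtype.ext ?_⟩
  show (x ^ i) ^ 2 ^ 1 = 1
  rw [pow_one, ← zpow_natCast, ← zpow_mul, mul_comm, zpow_mul, zpow_natCast, hx, one_zpow]

/-- The image of an involution modulo the core. -/
theorem orderOf_image {a : G} (ha2 : a ^ 2 = 1) (ha1 : a ≠ 1) (haK : a ∈ K) :
    orderOf (QuotientGroup.mk' (Cfsg.pPrimeCore 2 ↥K) ⟨a, haK⟩) = 2 := by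
  haveI : Fact (Nat.Prime 2) := ⟨Nat.prime_two⟩
  refine orderOf_eq_prime ?_ fun h => ?_
  · rw [← map_pow, show (⟨a, haK⟩ : ↥K) ^ 2 = 1 from Subtype.ext ha2, map_one]
  · have hmem : (⟨a, haK⟩ : ↥K) ∈ Cfsg.pPrimeCore 2 ↥K := (QuotientGroup.eq_one_iff _).1 h
    have h1 : orderOf (⟨a, haK⟩ : ↥K) = 2 := by
      rw [orderOf_mk]
      exact orderOf_eq_prime ha2 ha1
    have h2 := Subgroup.orderOf_dvd_natCard _ hmem
    rw [h1] at h2
    exact Nat.prime_two.ne_one
      (Nat.eq_one_of_dvd_coprimes (coprime_card_pPrimeCore (G := ↥K) 2) h2 dvd_rfl)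

/-- The core of `C(a)` maps into the core of the centralizer of the image of `a`. -/
theorem image_core_le {a : G} (ha2 : a ^ 2 = 1) (haK : a ∈ K) :
    ((Cfsg.centralizerPPrimeCore 2 a).subgroupOf K).map (QuotientGroup.mk' (Cfsg.pPrimeCore 2 ↥K)) ≤
      coreP 2 (centralizer ({QuotientGroup.mk' (Cfsg.pPrimeCore 2 ↥K) ⟨a, haK⟩} : Set _)) := by
  haveI : Fact (Nat.Prime 2) := ⟨Nat.prime_two⟩
  set f := QuotientGroup.mk' (Cfsg.pPrimeCore 2 ↥K) with hf
  have e : (zpowers a).subgroupOf K = zpowers (⟨a, haK⟩ : ↥K) := by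
    apply map_injective K.subtype_injective
    rw [map_subgroupOf_eq_of_le (zpowers_le.mpr haK), MonoidHom.map_zpowers]
    rfl
  have h1 := coreP_subgroupOf_le (p := 2) (zpowers_le.mpr haK)
  rw [CfsgLib.Balance.centralizer_zpowers, e] at h1
  have h2 := map_coreP_centralizer_le (p := 2) (QuotientGroup.mk'_surjective _) ker_coprime
    (R := zpowers (⟨a, haK⟩ : ↥K)) (isPGroup_zpowers (Subtype.ext ha2))
  rw [MonoidHom.map_zpowers, CfsgLib.Balance.centralizer_zpowers (f ⟨a, haK⟩)] at h2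
  exact le_trans (map_mono h1) h2

end images

variable {T T' : Subgroup G}

theorem Pair.symm (h : Pair T T') : Pair T' T :=
  ⟨h.elem', h.elem, h.card', h.card, fun x hx y hy => (h.comm y hy x hx).symm,
    fun a ha ha1 E hE => (h.sep a (sup_comm T T' ▸ ha) ha1 E hE).symm⟩

theorem Pair.elemSup (h : Pair T T') : Cfsg.IsElementaryAbelian 2 (T ⊔ T') := by
  haveI : Fact (Nat.Prime 2) := ⟨Nat.prime_two⟩
  exact Connected.elementary_sup h.elem h.elem' h.comm

variable (h : Pair T T')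
include h

theorem Pair.le_normalizer_core {a : G} (ha : a ∈ T ⊔ T') :
    T ⊔ T' ≤ normalizer (Cfsg.centralizerPPrimeCore 2 a : Set G) :=
  (le_centralizer_singleton h.elemSup ha).trans (le_normalizer_coreP 2 _)

theorem Pair.le_normalizer_part {a : G} (ha : a ∈ T ⊔ T') :
    T ⊔ T' ≤ normalizer (part T a : Set G) := by
  have hO := h.le_normalizer_core ha
  have hT : T ⊔ T' ≤ centralizer (T : Set G) := fun x hx t ht =>
    elementary_commute h.elemSup (mem_sup_left ht) hx
  refine le_normalizer_sup (fun x hx => normalizer_inf_le_normalizer_commutator _ _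
    ⟨hO hx, centralizer_le_normalizer _ (hT hx)⟩) (le_normalizer_inf hO ?_)
  exact hT.trans (le_normalizer_coreP 2 _)

theorem Pair.part_le {a : G} (ha : a ∈ T ⊔ T') : part T a ≤ Cfsg.centralizerPPrimeCore 2 a :=
  sup_le (CfsgLib.Solvable.commutator_le_of_normalizes (le_sup_left.trans (h.le_normalizer_core ha)))
    inf_le_left

theorem Pair.coprime_four {U : Subgroup G} (hU : (Nat.card U).Coprime 2) :
    (Nat.card T).Coprime (Nat.card U) := by
  rw [h.card, show (4 : ℕ) = 2 ^ 2 from rfl]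
  exact hU.symm.pow_left 2

theorem Pair.isPGroup : IsPGroup 2 ↥T := IsPGroup.of_card (n := 2) (by rw [h.card]; rfl)

/-- Each component of `C(a)` modulo the core is centralized by one of the four-groups. -/
theorem Pair.sep_quotient {a : G} (ha : a ∈ T ⊔ T') (ha1 : a ≠ 1)
    {E : Subgroup (↥(centralizer ({a} : Set G)) ⧸ Cfsg.pPrimeCore 2 ↥(centralizer ({a} : Set G)))}
    (hE : Cfsg.IsComponent E) :
    E ≤ centralizer (((T.subgroupOf (centralizer ({a} : Set G))).map
        (QuotientGroup.mk' (Cfsg.pPrimeCore 2 ↥(centralizer ({a} : Set G)))) : Subgroup _) : Set _) ∨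
    E ≤ centralizer (((T'.subgroupOf (centralizer ({a} : Set G))).map
        (QuotientGroup.mk' (Cfsg.pPrimeCore 2 ↥(centralizer ({a} : Set G)))) : Subgroup _) : Set _) := by
  haveI : Fact (Nat.Prime 2) := ⟨Nat.prime_two⟩
  revert E
  set K := centralizer ({a} : Set G) with hK
  intro E hE
  set f := QuotientGroup.mk' (Cfsg.pPrimeCore 2 ↥K) with hf
  have key : ∀ {U : Subgroup G}, ⁅(pComponentOver 2 E).map K.subtype, U⁆ ≤
      Cfsg.centralizerPPrimeCore 2 a →
      E ≤ centralizer (((U.subgroupOf K).map f : Subgroup _) : Set _) := by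
    intro U hU e he
    rw [← pComponentOver_map hE] at he
    obtain ⟨k, hk, rfl⟩ := he
    rintro _ ⟨t, ht, rfl⟩
    have h1 : ((⁅k, t⁆ : ↥K) : G) ∈ Cfsg.centralizerPPrimeCore 2 a :=
      hU (commutator_mem_commutator (mem_map_of_mem K.subtype hk) (mem_subgroupOf.mp ht))
    obtain ⟨z, hz, hze⟩ := h1
    have hzk : z = ⁅k, t⁆ := Subtype.ext hze
    subst hzk
    have h2 : f ⁅k, t⁆ = 1 := (QuotientGroup.eq_one_iff _).2 hz
    rw [map_commutatorElement, commutatorElement_eq_one_iff_mul_comm] at h2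
    exact h2.symm
  rcases h.sep a ha ha1 _ (isPComponent_over hE) with hs | hs
  · exact Or.inl (key hs)
  · exact Or.inr (key hs)

variable (hFT : ∀ H : Subgroup G, Odd (Nat.card H) → Group.IsSolvable H)
include hFT

/-- The fixed points of `T` in its factor centralize the 2-layer of `C(T)` modulo the core. -/
theorem Pair.fixed_part_layer {a : G} (ha : a ∈ T ⊔ T') (ha1 : a ≠ 1) {c : G}
    (hc : c ∈ part T a ⊓ centralizer (T : Set G)) {y : G}
    (hy : y ∈ (Cfsg.pLayer 2 ↥(centralizer (T : Set G))).map (centralizer (T : Set G)).subtype) :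
    ⁅c, y⁆ ∈ coreP 2 (centralizer (T : Set G)) := by
  haveI : Fact (Nat.Prime 2) := ⟨Nat.prime_two⟩
  set H := centralizer (T : Set G) with hH
  set O := Cfsg.centralizerPPrimeCore 2 a with hOdef
  set L := (Cfsg.pLayer 2 ↥H).map H.subtype with hL
  have hLH : L ≤ H := map_subtype_le _
  have hcore := le_normalizer_coreP 2 H
  let S : Subgroup G :=
    { carrier := {z | z ∈ H ∧ ∀ w ∈ L, ⁅z, w⁆ ∈ coreP 2 H}
      one_mem' := ⟨one_mem _, fun w _ => by simp [commutatorElement_def]⟩
      mul_mem' := fun {z z'} hz hz' => ⟨mul_mem hz.1 hz'.1, fun w hw => by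
        have e : ⁅z * z', w⁆ = z * ⁅z', w⁆ * z⁻¹ * ⁅z, w⁆ := by
          simp only [commutatorElement_def]; group
        rw [e]
        exact mul_mem (le_normalizer_iff.mp hcore z hz.1 _ (hz'.2 w hw)) (hz.2 w hw)⟩
      inv_mem' := fun {z} hz => ⟨inv_mem hz.1, fun w hw => by
        have e : ⁅z⁻¹, w⁆ = z⁻¹ * ⁅z, w⁆⁻¹ * z⁻¹⁻¹ := by
          simp only [commutatorElement_def]; group
        rw [e]
        exact le_normalizer_iff.mp hcore z⁻¹ (inv_mem hz.1) _ (inv_mem (hz.2 w hw))⟩ }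
  suffices hcS : c ∈ S from hcS.2 y hy
  set Y := ⁅O, T⁆ with hY
  have hTO : T ≤ normalizer (O : Set G) := le_sup_left.trans (h.le_normalizer_core ha)
  have hYO : Y ≤ O := CfsgLib.Solvable.commutator_le_of_normalizes hTO
  have hYodd : (Nat.card Y).Coprime 2 := (core_odd a).coprime_dvd_left (card_dvd_of_le hYO)
  have hTsolv : Group.IsSolvable ↥T :=
    Group.isSolvable_of_comm fun x y => h.elem.1.is_comm.comm x y
  have hacts : CommFix.Acts T T Y := ⟨h.elem.1, le_rfl,
    CfsgLib.Solvable.le_normalizer_commutator_right O T, h.coprime_four hYodd,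
    hFT Y (Nat.coprime_two_right.mp hYodd),
    CfsgLib.Solvable.commutator_commutator_eq hTO (h.coprime_four (core_odd a)) (Or.inl hTsolv)⟩
  have hgen : CommFix.gen T T Y ≤ S := by
    refine iSup_le ?_
    rintro ⟨B₀, hB₀, t₀, ht₀, hcyc⟩ u ⟨⟨huY, huT⟩, hup⟩
    refine ⟨huT, fun w hw => ?_⟩
    obtain ⟨a', ha'B, ha'1⟩ : ∃ a' ∈ B₀, a' ≠ 1 := by
      by_contra hcon
      push Not at hcon
      have hTle : T ≤ zpowers t₀ := hcyc.trans (sup_le (fun x hx => by
        rw [hcon x hx]; exact one_mem _) le_rfl)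
      have h1 := card_le_of_le hTle
      rw [Nat.card_zpowers, h.card] at h1
      have h2 : orderOf t₀ ≤ 2 :=
        Nat.le_of_dvd (by norm_num) (orderOf_dvd_of_pow_eq_one (h.elem.2 t₀ ht₀))
      omega
    have ha'T : a' ∈ T := hB₀ ha'B
    have ha'A : a' ∈ T ⊔ T' := mem_sup_left ha'T
    set K := centralizer ({a'} : Set G) with hK
    have hTK : T ≤ K := le_centralizer_singleton h.elem ha'T
    have haK : a ∈ K := mem_centralizer_singleton_iff.mpr (elementary_commute h.elemSup ha ha'A)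
    have hT'K : T' ≤ K := le_sup_right.trans (le_centralizer_singleton h.elemSup ha'A)
    set f := QuotientGroup.mk' (Cfsg.pPrimeCore 2 ↥K) with hf
    set X' := O.subgroupOf K with hX'
    have huX : u ∈ O ⊓ K := ⟨hYO huY, centralizer_le (Set.singleton_subset_iff.mpr
      (show a' ∈ (B₀ : Set G) from ha'B)) (hacts.piece_le hB₀ hup).2⟩
    obtain ⟨u', hu', hu'e⟩ : u ∈ (⁅X', T.subgroupOf K⁆).map K.subtype := by
      rw [map_commutator, hX', subgroupOf_map_subtype, map_subgroupOf_eq_of_le hTK]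
      refine commutator_mono ?_ le_rfl hup
      exact le_inf (inf_le_left.trans hYO)
        (inf_le_right.trans (centralizer_le (Set.singleton_subset_iff.mpr ha'B)))
    have hHK : K ⊓ H = H := inf_of_le_right (centralizer_le (Set.singleton_subset_iff.mpr ha'T))
    obtain ⟨w', hw', rfl⟩ : w ∈ (Cfsg.pLayer 2 ↥K).map K.subtype := by
      refine pLayer_le_of_centralizer hTK h.isPGroup ?_
      rw [congrArg (fun R : Subgroup G => (Cfsg.pLayer 2 ↥R).map R.subtype) hHK]
      exact hw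
    set C' := centralizer (T.subgroupOf K : Set K) with hC'
    have hw'C : w' ∈ C' := fun t ht => Subtype.ext (hLH hw (t : G) (mem_subgroupOf.mp ht))
    have hu'C : u' ∈ C' := fun t ht => Subtype.ext (by
      show (t : G) * (K.subtype u') = K.subtype u' * t
      rw [hu'e]; exact huT (t : G) (mem_subgroupOf.mp ht))
    have hCmap : C'.map f = centralizer (((T.subgroupOf K).map f : Subgroup _) : Set _) :=
      (CfsgLib.PLoc.centralizer_map_eq (QuotientGroup.mk'_surjective _) ker_coprime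
        (h.isPGroup.of_equiv (subgroupOfEquivOfLe hTK).symm)).symm
    obtain ⟨αi, hαi, αj, hαj, hαe⟩ := (CfsgLib.Solvable.mem_sup_of_le_normalizer
      (show T' ≤ normalizer (T : Set G) from fun x hx => centralizer_le_normalizer _
        fun t ht => h.comm t ht x hx)).mp ha
    have hloc := commutator_layer_mem_core (p := 2) (T := (T.subgroupOf K).map f)
      (T' := (T'.subgroupOf K).map f) pPrimeCore_quotient_self
      (a := f ⟨a, haK⟩) (αi := f ⟨αi, hTK hαi⟩) (αj := f ⟨αj, hT'K hαj⟩)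
      (mem_map_of_mem f (mem_subgroupOf.mpr hαi)) (mem_map_of_mem f (mem_subgroupOf.mpr hαj))
      (by rw [← map_mul]; exact congrArg f (Subtype.ext hαe.symm))
      (orderOf_image (h.elemSup.2 a ha) ha1 haK)
      (fun E hE => h.sep_quotient ha'A ha'1 hE)
      (V := X'.map f) (image_core_le (h.elemSup.2 a ha) haK) (u := f u')
      (by rw [← map_commutator]; exact mem_map_of_mem f hu')
      (hCmap ▸ mem_map_of_mem f hu'C)
      (image_core_le (h.elemSup.2 a ha) haK (mem_map_of_mem f (mem_subgroupOf.mpr (show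
        K.subtype u' ∈ O by rw [hu'e]; exact huX.1))))
      (y := f w') (by rw [← pLayer_map_mk]; exact mem_map_of_mem f hw')
      (hCmap ▸ mem_map_of_mem f hw'C)
    rw [← map_commutatorElement] at hloc
    have hmem := mem_coreP_of_map (p := 2) (f := f) ker_coprime (C := C')
      (coreP_coprime 2 _) (hCmap ▸ le_normalizer_coreP 2 _)
      (show ⁅u', w'⁆ ∈ C' from C'.mul_mem (C'.mul_mem (C'.mul_mem hu'C hw'C) (C'.inv_mem hu'C))
        (C'.inv_mem hw'C)) hloc
    have hle : (coreP 2 C').map K.subtype ≤ coreP 2 H := by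
      have e1 : C'.map K.subtype = H := (map_centralizer_subgroupOf hTK).trans hHK
      refine le_coreP ((map_mono (coreP_le 2 _)).trans e1.le) ?_
        ((coreP_coprime 2 _).coprime_dvd_left (card_map_dvd _ _))
      exact e1.ge.trans ((map_mono (le_normalizer_coreP 2 C')).trans (le_normalizer_map K.subtype))
    have := hle (mem_map_of_mem K.subtype hmem)
    rwa [map_commutatorElement, hu'e] at this
  -- decompose `c`
  have hQY : O ⊓ coreP 2 H ≤ normalizer (Y : Set G) :=
    inf_le_left.trans (CfsgLib.Solvable.le_normalizer_commutator_left O T)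
  obtain ⟨v, hv, q, hq, rfl⟩ := (CfsgLib.Solvable.mem_sup_of_le_normalizer hQY).mp hc.1
  have hqH : q ∈ H := coreP_le 2 _ hq.2
  have hvH : v ∈ H := by
    have := H.mul_mem hc.2 (H.inv_mem hqH)
    rwa [mul_inv_cancel_right] at this
  refine S.mul_mem (hgen (CommFix.fixed_le_gen _ G T T Y rfl hacts ⟨hv, hvH⟩)) ⟨hqH, fun w hw => ?_⟩
  rw [commutatorElement_def, mul_assoc q, mul_assoc q]
  exact mul_mem hq.2 (le_normalizer_iff.mp hcore w (hLH hw) _ (inv_mem hq.2))

/-- The factor centralizes the components of `C(b)` centralized by `T`, modulo the core. -/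
theorem Pair.image_centralizes {a b : G} (ha : a ∈ T ⊔ T') (ha1 : a ≠ 1) (hb : b ∈ T ⊔ T')
    (hb1 : b ≠ 1)
    {E : Subgroup (↥(centralizer ({b} : Set G)) ⧸ Cfsg.pPrimeCore 2 ↥(centralizer ({b} : Set G)))}
    (hE : Cfsg.IsComponent E)
    (hET : E ≤ centralizer (((T.subgroupOf (centralizer ({b} : Set G))).map
        (QuotientGroup.mk' (Cfsg.pPrimeCore 2 ↥(centralizer ({b} : Set G)))) : Subgroup _) : Set _))
    {x : G} (hx : x ∈ part T a) (hxb : x ∈ centralizer ({b} : Set G)) :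
    QuotientGroup.mk' (Cfsg.pPrimeCore 2 ↥(centralizer ({b} : Set G))) ⟨x, hxb⟩ ∈
      centralizer (E : Set _) := by
  haveI : Fact (Nat.Prime 2) := ⟨Nat.prime_two⟩
  revert E
  set K := centralizer ({b} : Set G) with hK
  intro E hE hET
  set f := QuotientGroup.mk' (Cfsg.pPrimeCore 2 ↥K) with hf
  set H := centralizer (T : Set G) with hH
  have hTK : T ≤ K := le_sup_left.trans (le_centralizer_singleton h.elemSup hb)
  have haK : a ∈ K := mem_centralizer_singleton_iff.mpr (elementary_commute h.elemSup ha hb)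
  set Xb := part T a ⊓ K with hXb
  have hTX : T ≤ normalizer (Xb : Set G) :=
    le_normalizer_inf (le_sup_left.trans (h.le_normalizer_part ha)) (hTK.trans le_normalizer)
  have hXodd : (Nat.card Xb).Coprime 2 :=
    (core_odd a).coprime_dvd_left (card_dvd_of_le (inf_le_left.trans (h.part_le ha)))
  have hnorm : ∀ z : ↥K, (z : G) ∈ Xb → f z ∈ normalizer (E : Set _) := fun z hz =>
    (component_facts (H := ↥K ⧸ Cfsg.pPrimeCore 2 ↥K) pPrimeCore_quotient_self
      (orderOf_image (h.elemSup.2 a ha) ha1 haK) (image_core_le (h.elemSup.2 a ha) haK) hE).2.1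
      (mem_map_of_mem f (mem_subgroupOf.mpr (h.part_le ha hz.1)))
  have hdec := CfsgLib.Solvable.commutator_sup_centralizer hTX (h.coprime_four hXodd)
    (Or.inl (Group.isSolvable_of_comm fun x y => h.elem.1.is_comm.comm x y))
  obtain ⟨m, hm, c, hc, hmc⟩ := (CfsgLib.Solvable.mem_sup_of_le_normalizer
    (inf_le_left.trans (CfsgLib.Solvable.le_normalizer_commutator_left Xb T))).mp
    (by rw [hdec]; exact ⟨hx, hxb⟩)
  have hcK : c ∈ K := hc.1.2
  obtain ⟨m', hm', hme⟩ : m ∈ (⁅Xb.subgroupOf K, T.subgroupOf K⁆).map K.subtype := by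
    rw [map_commutator, map_subgroupOf_eq_of_le inf_le_right, map_subgroupOf_eq_of_le hTK]
    exact hm
  have h1 : f m' ∈ centralizer (E : Set _) := by
    refine commutator_le_centralizer_of (V := (Xb.subgroupOf K).map f) ?_ hET ?_
    · rintro _ ⟨z, hz, rfl⟩
      exact hnorm z (mem_subgroupOf.mp hz)
    · rw [← map_commutator]
      exact mem_map_of_mem f hm'
  -- the fixed part
  set C' := centralizer (T.subgroupOf K : Set K) with hC'
  set Q₀ := centralizer (((T.subgroupOf K).map f : Subgroup _) :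
    Set (↥K ⧸ Cfsg.pPrimeCore 2 ↥K)) with hQ₀
  have hTK2 : IsPGroup 2 ↥(T.subgroupOf K) := h.isPGroup.of_equiv (subgroupOfEquivOfLe hTK).symm
  have hCmap : C'.map f = Q₀ :=
    (CfsgLib.PLoc.centralizer_map_eq (QuotientGroup.mk'_surjective _) ker_coprime hTK2).symm
  let g : ↥C' →* ↥Q₀ := (f.comp C'.subtype).codRestrict Q₀ fun z => hCmap ▸ mem_map_of_mem f z.2
  have hgs : Function.Surjective g := by
    rintro ⟨z, hz⟩
    rw [← hCmap] at hz
    obtain ⟨w, hw, rfl⟩ := hz
    exact ⟨⟨w, hw⟩, rfl⟩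
  have hgk : (Nat.card g.ker).Coprime 2 := by
    refine (ker_coprime (K := K)).coprime_dvd_left ?_
    rw [← card_map_of_injective (K := g.ker) C'.subtype_injective]
    refine card_dvd_of_le ?_
    rintro _ ⟨z, hz, rfl⟩
    exact congrArg Subtype.val (MonoidHom.mem_ker.mp hz)
  set N := coreP 2 Q₀ with hN
  have hEN : E ≤ centralizer (N : Set _) := by
    rcases component_le_or_commutator_normal (component_subgroupOf hE hET)
      (Cfsg.pPrimeCore_normal 2 ↥Q₀) with hle | hcomm
    · exfalso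
      have hd : 2 ∣ Nat.card E :=
        dvd_card_of_component_of_core_eq_bot pPrimeCore_quotient_self hE
      have h2 := card_dvd_of_le hle
      rw [Nat.card_congr (subgroupOfEquivOfLe hET).toEquiv] at h2
      exact Nat.prime_two.ne_one
        (Nat.eq_one_of_dvd_coprimes (coprime_card_pPrimeCore (G := ↥Q₀) 2) (hd.trans h2) dvd_rfl)
    · refine le_centralizer_of_commutator_eq_bot ?_
      have := congrArg (Subgroup.map Q₀.subtype) hcomm
      rwa [map_commutator, map_subgroupOf_eq_of_le hET, Subgroup.map_bot] at this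
  have hcC : (⟨c, hcK⟩ : ↥K) ∈ C' := fun t ht => Subtype.ext (hc.2 (t : G) (mem_subgroupOf.mp ht))
  have hz₀ : f ⟨c, hcK⟩ ∈ Q₀ := hCmap ▸ mem_map_of_mem f hcC
  have h2 : f ⟨c, hcK⟩ ∈ centralizer (E : Set _) := by
    refine mem_centralizer_of_perfect (component_commutator_self hE) hEN
      (hnorm ⟨c, hcK⟩ hc.1) fun e he => ?_
    have hmem := component_le_map_pLayer (p := 2) hgs hgk (component_subgroupOf hE hET)
      (show (⟨e, hET he⟩ : ↥Q₀) ∈ E.subgroupOf Q₀ from mem_subgroupOf.mpr he)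
    obtain ⟨_, ⟨w, hw, rfl⟩, o, ho, hwo⟩ := mem_sup_of_normal_right.mp hmem
    have hwe : f (w : ↥K) * (o : ↥K ⧸ Cfsg.pPrimeCore 2 ↥K) = e := congrArg Subtype.val hwo
    have hoN : (o : ↥K ⧸ Cfsg.pPrimeCore 2 ↥K) ∈ N := mem_map_of_mem Q₀.subtype ho
    have hwQ : f (w : ↥K) ∈ Q₀ := hCmap ▸ mem_map_of_mem f w.2
    have hNn : Q₀ ≤ normalizer (N : Set _) := le_normalizer_coreP 2 Q₀
    have hwL : ((w : ↥K) : G) ∈ (Cfsg.pLayer 2 ↥H).map H.subtype := by
      have hbH : zpowers b ≤ H := zpowers_le.mpr fun t ht =>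
        elementary_commute h.elemSup (mem_sup_left ht) hb
      have hb2 : IsPGroup 2 ↥(zpowers b) := isPGroup_zpowers (h.elemSup.2 b hb)
      have e1 : C'.map K.subtype = H ⊓ centralizer (zpowers b : Set G) := by
        rw [map_centralizer_subgroupOf hTK, CfsgLib.Balance.centralizer_zpowers, inf_comm]
      refine pLayer_le_of_centralizer hbH hb2 ?_
      rw [← congrArg (fun R : Subgroup G => (Cfsg.pLayer 2 ↥R).map R.subtype) e1,
        ← pLayer_map_map_eq]
      exact mem_map_of_mem K.subtype (mem_map_of_mem C'.subtype hw)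
    have hcw : f ⁅(⟨c, hcK⟩ : ↥K), (w : ↥K)⁆ ∈ N := by
      refine map_coreP_centralizer_le (p := 2) (QuotientGroup.mk'_surjective _) ker_coprime hTK2
        (mem_map_of_mem f (coreP_subgroupOf_le hTK (mem_subgroupOf.mpr ?_)))
      exact h.fixed_part_layer hFT ha ha1 ⟨hc.1.1, hc.2⟩ hwL
    rw [map_commutatorElement] at hcw
    have e2 : ⁅f ⟨c, hcK⟩, e⁆ = ⁅f ⟨c, hcK⟩, f (w : ↥K)⁆ *
        (f (w : ↥K) * (f ⟨c, hcK⟩ * o * (f ⟨c, hcK⟩)⁻¹ *
          (o : ↥K ⧸ Cfsg.pPrimeCore 2 ↥K)⁻¹) * (f (w : ↥K))⁻¹) := by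
      rw [← hwe]
      simp only [commutatorElement_def]
      group
    rw [e2]
    exact N.mul_mem hcw (le_normalizer_iff.mp hNn _ hwQ _
      (N.mul_mem (le_normalizer_iff.mp hNn _ hz₀ _ hoN) (N.inv_mem hoN)))
  have e : (⟨x, hxb⟩ : ↥K) = m' * ⟨c, hcK⟩ := Subtype.ext (by
    show x = K.subtype m' * c
    rw [hme]; exact hmc.symm)
  rw [e, map_mul]
  exact mul_mem h1 h2

/-- The two factors meet `C(b)` in the core of `C(b)`. -/
theorem Pair.inf_le_core {a b : G} (ha : a ∈ T ⊔ T') (ha1 : a ≠ 1) (hb : b ∈ T ⊔ T') (hb1 : b ≠ 1) :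
    part T a ⊓ part T' a ⊓ centralizer ({b} : Set G) ≤ Cfsg.centralizerPPrimeCore 2 b := by
  haveI : Fact (Nat.Prime 2) := ⟨Nat.prime_two⟩
  rintro x ⟨⟨hxT, hxT'⟩, hxb⟩
  set K := centralizer ({b} : Set G) with hK
  set f := QuotientGroup.mk' (Cfsg.pPrimeCore 2 ↥K) with hf
  have haK : a ∈ K := mem_centralizer_singleton_iff.mpr (elementary_commute h.elemSup ha hb)
  have hxO : x ∈ Cfsg.centralizerPPrimeCore 2 a := h.part_le ha hxT
  have hfx : f ⟨x, hxb⟩ ∈ coreP 2 (centralizer ({f ⟨a, haK⟩} : Set _)) :=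
    image_core_le (h.elemSup.2 a ha) haK (mem_map_of_mem f (mem_subgroupOf.mpr hxO))
  have hcop : (Nat.card (zpowers (f ⟨x, hxb⟩))).Coprime 2 := by
    refine (core_odd a).coprime_dvd_left ?_
    rw [Nat.card_zpowers]
    refine (orderOf_map_dvd f _).trans ?_
    rw [orderOf_mk]
    exact Subgroup.orderOf_dvd_natCard _ hxO
  have hbot := eq_bot_of_centralizes pPrimeCore_quotient_self hcop
    (zpowers_le.mpr (coreP_centralizer_le_centralizer_pCore (R := zpowers (f ⟨a, haK⟩))
      (IsPGroup.of_card (n := 1) (by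
        rw [Nat.card_zpowers, orderOf_image (h.elemSup.2 a ha) ha1 haK, pow_one]))
      (by rw [CfsgLib.Balance.centralizer_zpowers]; exact hfx)))
    (fun E hE => zpowers_le.mpr (by
      rcases h.sep_quotient hb hb1 hE with hs | hs
      · exact h.image_centralizes hFT ha ha1 hb hb1 hE hs hxT hxb
      · exact h.symm.image_centralizes hFT (sup_comm T T' ▸ ha) ha1 (sup_comm T T' ▸ hb) hb1 hE hs
          hxT' hxb))
  exact ⟨⟨x, hxb⟩, (QuotientGroup.eq_one_iff _).1 (zpowers_eq_bot.mp hbot), rfl⟩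

/-- Balance for one factor. -/
theorem Pair.inf_le_part {a b : G} (ha : a ∈ T ⊔ T') (ha1 : a ≠ 1) (hb : b ∈ T ⊔ T') (hb1 : b ≠ 1) :
    part T a ⊓ part T' a ⊓ centralizer ({b} : Set G) ≤ part T b := by
  haveI : Fact (Nat.Prime 2) := ⟨Nat.prime_two⟩
  set D := part T a ⊓ part T' a ⊓ centralizer ({b} : Set G) with hD
  have hDO := h.inf_le_core hFT ha ha1 hb hb1
  have hT' : T ≤ normalizer (part T' a : Set G) :=
    le_sup_right.trans (h.symm.le_normalizer_part (sup_comm T T' ▸ ha))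
  have hTD : T ≤ normalizer (D : Set G) :=
    le_normalizer_inf (le_normalizer_inf (le_sup_left.trans (h.le_normalizer_part ha)) hT')
      ((le_sup_left.trans (le_centralizer_singleton h.elemSup hb)).trans le_normalizer)
  have hcop := h.coprime_four ((core_odd b).coprime_dvd_left (card_dvd_of_le hDO))
  rw [← CfsgLib.Solvable.commutator_sup_centralizer hTD hcop
    (Or.inl (Group.isSolvable_of_comm fun x y => h.elem.1.is_comm.comm x y))]
  refine sup_le ((commutator_mono hDO le_rfl).trans le_sup_left) fun c hc => ?_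
  refine mem_sup_right ⟨hDO hc.1, ?_⟩
  set H := centralizer (T : Set G) with hH
  set f := QuotientGroup.mk' (Cfsg.pPrimeCore 2 ↥H) with hf
  have hbH : b ∈ H := fun t ht => elementary_commute h.elemSup (mem_sup_left ht) hb
  have hfx : f ⟨c, hc.2⟩ ∈ coreP 2 (centralizer ({f ⟨b, hbH⟩} : Set _)) :=
    image_core_le (h.elemSup.2 b hb) hbH (mem_map_of_mem f (mem_subgroupOf.mpr (hDO hc.1)))
  have hcop' : (Nat.card (zpowers (f ⟨c, hc.2⟩))).Coprime 2 := by
    refine (core_odd b).coprime_dvd_left ?_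
    rw [Nat.card_zpowers]
    refine (orderOf_map_dvd f _).trans ?_
    rw [orderOf_mk]
    exact Subgroup.orderOf_dvd_natCard _ (hDO hc.1)
  have hbot := eq_bot_of_centralizes pPrimeCore_quotient_self hcop'
    (zpowers_le.mpr (coreP_centralizer_le_centralizer_pCore (R := zpowers (f ⟨b, hbH⟩))
      (isPGroup_zpowers (by
        rw [← map_pow, show (⟨b, hbH⟩ : ↥H) ^ 2 = 1 from Subtype.ext (h.elemSup.2 b hb), map_one]))
      (by rw [CfsgLib.Balance.centralizer_zpowers]; exact hfx)))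
    (fun E hE => zpowers_le.mpr (by
      intro e he
      have he' : e ∈ Cfsg.layer (↥H ⧸ Cfsg.pPrimeCore 2 ↥H) := component_le_layer hE he
      rw [← pLayer_map_mk] at he'
      obtain ⟨w, hw, rfl⟩ := he'
      obtain ⟨z, hz, hze⟩ := h.fixed_part_layer hFT ha ha1 (c := c) ⟨hc.1.1.1, hc.2⟩
        (mem_map_of_mem H.subtype hw)
      have hz' : z = ⁅(⟨c, hc.2⟩ : ↥H), w⁆ := H.subtype_injective (by
        rw [hze, map_commutatorElement]; rfl)
      have h1 : f ⁅(⟨c, hc.2⟩ : ↥H), w⁆ = 1 := (QuotientGroup.eq_one_iff _).2 (hz' ▸ hz)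
      rw [map_commutatorElement, commutatorElement_eq_one_iff_mul_comm] at h1
      exact h1.symm))
  exact ⟨⟨c, hc.2⟩, (QuotientGroup.eq_one_iff _).1 (zpowers_eq_bot.mp hbot), rfl⟩

omit h hFT in
/-- The functor attached to a core-separated pair is a signalizer functor. -/
theorem isSignalizerFunctor (hFT : ∀ H : Subgroup G, Odd (Nat.card H) → Group.IsSolvable H)
    {A₁ A₂ : Subgroup G} (hcs : Cfsg.IsCoreSeparated A₁ A₂) :
    Cfsg.IsSignalizerFunctor 2 (A₁ ⊔ A₂) (fun a => part A₁ a ⊓ part A₂ a) := by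
  obtain ⟨h1, h2, hc1, hc2, -, -, hcomm, hsep⟩ := hcs
  have h : Pair A₁ A₂ := ⟨h1, h2, hc1, hc2, hcomm, hsep⟩
  refine ⟨fun a ha _ => (inf_le_left.trans (h.part_le ha)).trans (coreP_le 2 _),
    fun a ha _ hd => ?_, fun a ha _ b hb x hx => ?_, fun a ha ha1 b hb hb1 => ?_⟩
  · exact Nat.prime_two.ne_one (Nat.eq_one_of_dvd_coprimes (core_odd a)
      (hd.trans (card_dvd_of_le (inf_le_left.trans (h.part_le ha)))) dvd_rfl)
  · exact ⟨le_normalizer_iff.mp (h.le_normalizer_part ha) b hb x hx.1,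
      le_normalizer_iff.mp (h.symm.le_normalizer_part (sup_comm A₁ A₂ ▸ ha)) b
        (sup_comm A₁ A₂ ▸ hb) x hx.2⟩
  · refine le_inf (h.inf_le_part hFT ha ha1 hb hb1) ?_
    have h' := h.symm.inf_le_part hFT (sup_comm A₁ A₂ ▸ ha) ha1 (sup_comm A₁ A₂ ▸ hb) hb1
    exact le_trans (inf_le_inf_right _ (inf_comm (part A₁ a) (part A₂ a)).le) h'

end CfsgLib.Signalizer.CoreSep
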