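import Cfsg.Agent.Lib.Signalizer.SolvableFunctor
import Cfsg.Agent.Lib.Invol.NormalFour
import Cfsg.Agent.Lib.JComp.Hyper
import Cfsg.Agent.S1327

/-!
The cores of the centralizers of the involutions of a Sylow 2-subgroup with a normal elementary
abelian subgroup of order at least eight, when all 2-local subgroups are 2-constrained.
The solvability of the groups of odd order enters as a hypothesis.
-/

set_option autoImplicit false
set_option linter.style.haveILetI false
set_option linter.unusedVariables false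
set_option linter.unusedSectionVars false

open Subgroup CfsgLib.Components CfsgLib.Balance

universe u

namespace CfsgLib.Signalizer.CoresGenerate

variable {G : Type u} [Group G] [Finite G]

instance factTwo : Fact (Nat.Prime 2) := ⟨Nat.prime_two⟩

/-- An involution centralizes at least four elements of an elementary group of order eight. -/
theorem four_le_centralizer {E : Subgroup G} (hE : Cfsg.IsElementaryAbelian 2 E)
    (h8 : 2 ^ 3 ≤ Nat.card E) {u : G} (hu : u * u = 1) (hun : ∀ e ∈ E, u * e * u⁻¹ ∈ E) :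
    2 ^ 2 ≤ Nat.card ↥(E ⊓ centralizer ({u} : Set G)) := by
  have hsq : ∀ e ∈ E, e * e = 1 := fun e he => by rw [← pow_two]; exact hE.2 e he
  let φ : ↥E →* ↥E :=
    { toFun := fun e => ⟨(e : G) * (u * e * u⁻¹), E.mul_mem e.2 (hun e e.2)⟩
      map_one' := Subtype.ext (by simp)
      map_mul' := fun a b => Subtype.ext (by
        show (a : G) * b * (u * (a * b) * u⁻¹) = a * (u * a * u⁻¹) * (b * (u * b * u⁻¹))
        have h := elementary_commute hE b.2 (hun a a.2)
        calc (a : G) * b * (u * (a * b) * u⁻¹)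
            = a * (b * (u * a * u⁻¹)) * (u * b * u⁻¹) := by group
          _ = a * ((u * a * u⁻¹) * b) * (u * b * u⁻¹) := by rw [h]
          _ = a * (u * a * u⁻¹) * (b * (u * b * u⁻¹)) := by group) }
  have hmem : ∀ e : ↥E, φ e = 1 → (e : G) ∈ E ⊓ centralizer ({u} : Set G) := by
    intro e he
    have h : (e : G) * (u * e * u⁻¹) = 1 := congrArg Subtype.val he
    refine ⟨e.2, mem_centralizer_singleton_iff.mpr ?_⟩
    have h2 : u * (e : G) * u⁻¹ = e := by
      rw [eq_inv_of_mul_eq_one_right h, inv_eq_of_mul_eq_one_right (hsq e e.2)]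
    exact (mul_inv_eq_iff_eq_mul.mp h2).symm
  have hker : Nat.card φ.ker ≤ Nat.card ↥(E ⊓ centralizer ({u} : Set G)) := by
    rw [← card_map_of_injective E.subtype_injective]
    refine card_le_of_le ?_
    rintro _ ⟨e, he, rfl⟩
    exact hmem e he
  have hrange : Nat.card φ.range ≤ Nat.card φ.ker := by
    refine card_le_of_le ?_
    rintro _ ⟨e, rfl⟩
    refine MonoidHom.mem_ker.mpr (Subtype.ext ?_)
    show (e : G) * (u * e * u⁻¹) * (u * ((e : G) * (u * e * u⁻¹)) * u⁻¹) = 1
    have hu' : u⁻¹ = u := inv_eq_of_mul_eq_one_right hu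
    calc (e : G) * (u * e * u⁻¹) * (u * ((e : G) * (u * e * u⁻¹)) * u⁻¹)
        = e * ((u * e * u⁻¹) * (u * e * u⁻¹)) * ((u * u) * e * (u * u)⁻¹) := by group
      _ = 1 := by rw [hsq _ (hun e e.2), hu, mul_one, one_mul, inv_one, mul_one, hsq e e.2]
  have hmul := φ.ker.card_mul_index
  rw [index_ker] at hmul
  obtain ⟨n, hn⟩ :=
    (elementary_isPGroup (elementary_of_le hE (inf_le_left : E ⊓ centralizer ({u} : Set G) ≤ E))).exists_card_eq
  rw [hn] at hker ⊢
  refine Nat.pow_le_pow_right (by norm_num) ?_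
  by_contra hlt
  have h1 : (2 : ℕ) ^ n ≤ 2 := by
    rcases (show n = 0 ∨ n = 1 by omega) with rfl | rfl <;> norm_num
  have : Nat.card φ.ker * Nat.card φ.range ≤ 2 * 2 :=
    Nat.mul_le_mul (hker.trans h1) (hrange.trans (hker.trans h1))
  omega

/-- An element of two-power order greater than one has a power of order two. -/
theorem exists_pow_orderOf_eq_two {P : Subgroup G} (hP : IsPGroup 2 P) {b : G} (hb : b ∈ P)
    (hb1 : b ≠ 1) : ∃ t, orderOf t = 2 ∧ t ∈ zpowers b := by
  obtain ⟨k, hk⟩ := IsPGroup.iff_orderOf.mp hP ⟨b, hb⟩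
  rw [← Subgroup.orderOf_coe] at hk
  rcases k with _ | m
  · exact absurd (orderOf_eq_one_iff.mp (by simpa using hk)) hb1
  refine ⟨b ^ 2 ^ m, ?_, pow_mem (mem_zpowers b) _⟩
  rw [orderOf_pow' _ (pow_ne_zero _ two_ne_zero), hk,
    Nat.gcd_eq_right (pow_dvd_pow 2 (Nat.le_succ m))]
  exact Nat.div_eq_of_eq_mul_left (pow_pos (by norm_num) m) (by rw [pow_succ]; ring)

/-- The elements of order two of a self-paired abelian subgroup, inside another group. -/
theorem exists_normal_elementary {H : Type*} [Group H] [Finite H] (f : H →* G)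
    (hf : Function.Injective f) (A : Subgroup H) (hAn : A.Normal) (hAab : IsMulCommutative ↥A)
    (hA3 : ¬ Cfsg.PRankLE 2 2 ↥A) :
    ∃ E ≤ f.range, Cfsg.IsElementaryAbelian 2 E ∧ 2 ^ 3 ≤ Nat.card E ∧
      ∀ g ∈ f.range, ∀ e ∈ E, g * e * g⁻¹ ∈ E := by
  have hc : ∀ a ∈ A, ∀ b ∈ A, a * b = b * a := fun a ha b hb =>
    congrArg Subtype.val (hAab.is_comm.comm (⟨a, ha⟩ : A) ⟨b, hb⟩)
  let Ω : Subgroup H :=
    { carrier := {a | a ∈ A ∧ a ^ 2 = 1}
      one_mem' := ⟨A.one_mem, one_pow 2⟩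
      mul_mem' := fun {a b} ha hb => ⟨A.mul_mem ha.1 hb.1, by
        rw [(show Commute a b from hc a ha.1 b hb.1).mul_pow, ha.2, hb.2, one_mul]⟩
      inv_mem' := fun {a} ha => ⟨A.inv_mem ha.1, by rw [inv_pow, ha.2, inv_one]⟩ }
  have hel : Cfsg.IsElementaryAbelian 2 (Ω.map f) := by
    refine ⟨⟨⟨?_⟩⟩, ?_⟩
    · rintro ⟨_, a, ha, rfl⟩ ⟨_, b, hb, rfl⟩
      exact Subtype.ext (show f a * f b = f b * f a by
        rw [← map_mul, ← map_mul, hc a ha.1 b hb.1])
    · rintro _ ⟨a, ha, rfl⟩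
      rw [← map_pow, ha.2, map_one]
  refine ⟨Ω.map f, map_le_range f Ω, hel, Connected.pow_three_le_of_lt hel ?_, ?_⟩
  · rw [card_map_of_injective hf]
    unfold Cfsg.PRankLE at hA3
    push Not at hA3
    obtain ⟨B, hB, hBp, hlt⟩ := hA3
    refine hlt.trans_le ?_
    rw [← card_map_of_injective (K := B) A.subtype_injective]
    refine card_le_of_le ?_
    rintro _ ⟨a, ha, rfl⟩
    exact ⟨a.2, congrArg Subtype.val (hBp a ha)⟩
  · rintro _ ⟨x, rfl⟩ _ ⟨a, ha, rfl⟩
    exact ⟨x * a * x⁻¹, ⟨hAn.conj_mem a ha.1 x, by rw [conj_pow, ha.2, mul_one, mul_inv_cancel]⟩,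
      by simp⟩

/-- The balance of the cores of the centralizers, for a two element and an involution power. -/
theorem core_le_core {a b : G} (ha : IsPGroup 2 (zpowers a)) (hab : a * b = b * a)
    (hL : Cfsg.pLayer 2 ↥(centralizer ({b} : Set G)) = ⊥) :
    Cfsg.centralizerPPrimeCore 2 a ⊓ centralizer {b} ≤ Cfsg.centralizerPPrimeCore 2 b := by
  rintro x ⟨hx, hxb⟩
  set C := centralizer ({b} : Set G) with hC
  have haC : a ∈ C := mem_centralizer_singleton_iff.mpr hab
  set a' : C := ⟨a, haC⟩ with ha'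
  have hap : IsPGroup 2 ↥(zpowers a') := by
    obtain ⟨n, hn⟩ := ha.exists_card_eq
    refine IsPGroup.iff_card.mpr ⟨n, ?_⟩
    rw [Nat.card_zpowers, ha', orderOf_mk, ← Nat.card_zpowers, hn]
  have hle : (coreP 2 (centralizer ({a} : Set G))).subgroupOf C ≤
      coreP 2 (centralizer (zpowers a' : Set C)) := by
    rw [centralizer_zpowers]
    refine le_coreP (fun y hy => ?_) (le_normalizer_iff.mpr fun g hg y hy => ?_) ?_
    · rw [mem_centralizer_singleton_iff]
      exact Subtype.ext (mem_centralizer_singleton_iff.mp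
        (coreP_le 2 _ (mem_subgroupOf.mp hy)))
    · rw [mem_subgroupOf] at hy ⊢
      exact le_normalizer_iff.mp (le_normalizer_coreP 2 _) (g : G)
        (mem_centralizer_singleton_iff.mpr
          (congrArg Subtype.val (mem_centralizer_singleton_iff.mp hg))) (y : G) hy
    · exact (coreP_coprime 2 _).coprime_dvd_left
        (card_comap_dvd_of_injective _ _ C.subtype_injective)
  exact ⟨⟨x, hxb⟩, coreP_centralizer_le hL hap (hle (mem_subgroupOf.mpr hx)), rfl⟩

section

variable (hFT : ∀ H : Subgroup G, Odd (Nat.card H) → Group.IsSolvable H)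
  (h2c : ∀ T : Subgroup G, IsPGroup 2 T → T ≠ ⊥ →
    Cfsg.IsPConstrained 2 ↥(Subgroup.normalizer (T : Set G)))

include h2c in
theorem pLayer_centralizer {t : G} (ht : orderOf t = 2) :
    Cfsg.pLayer 2 ↥(centralizer ({t} : Set G)) = ⊥ := by
  have hsq : t * t = 1 := by rw [← pow_two, ← ht, pow_orderOf_eq_one]
  have ht1 : t ≠ 1 := fun h => by simp [h] at ht
  have h := h2c (zpowers t) (CfsgLib.JComp.isPGroup_zpowers_of_sq hsq)
    (fun h => ht1 (zpowers_eq_bot.mp h))
  rw [CfsgLib.JComp.normalizer_zpowers_eq_centralizer hsq] at h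
  exact (Cfsg.Agent.S1327.result 2).mp h

variable {P E : Subgroup G}

include hFT h2c

/-- All Klein four-subgroups of `P` give the same closure. -/
theorem closure_eq_closure (hP : IsPGroup 2 P) (hEP : E ≤ P)
    (hE : Cfsg.IsElementaryAbelian 2 E) (h8 : 2 ^ 3 ≤ Nat.card E)
    (hn : ∀ g ∈ P, ∀ e ∈ E, g * e * g⁻¹ ∈ E)
    {U : Subgroup G} (hUP : U ≤ P) (hU : Cfsg.IsElementaryAbelian 2 U)
    (h4 : 2 ^ 2 ≤ Nat.card U) :
    Cfsg.signalizerClosure U (fun x => Cfsg.centralizerPPrimeCore 2 x) =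
      Cfsg.signalizerClosure E (fun x => Cfsg.centralizerPPrimeCore 2 x) := by
  set θ : G → Subgroup G := fun x => Cfsg.centralizerPPrimeCore 2 x with hθ
  have hC : ∀ a : G, Connected.Dom 2 a → θ a ≤ centralizer ({a} : Set G) ∧
      ¬ 2 ∣ Nat.card ↥(θ a) ∧ Group.IsSolvable ↥(θ a) := fun a _ => by
    have h : (Nat.card ↥(θ a)).Coprime 2 := coreP_coprime 2 (centralizer ({a} : Set G))
    exact ⟨coreP_le 2 _, Nat.two_dvd_ne_zero.mpr
      (Nat.odd_iff.mp (Nat.coprime_two_right.mp h)),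
      hFT _ (Nat.coprime_two_right.mp h)⟩
  have heq : ∀ a g : G, Connected.Dom 2 a →
      θ (g * a * g⁻¹) = (θ a).map (MulAut.conj g).toMonoidHom :=
    fun a g _ => Connected.centralizerPPrimeCore_conj a g
  have hbal : ∀ a b : G, Connected.Dom 2 a → Connected.Dom 2 b → a * b = b * a →
      θ a ⊓ centralizer {b} ≤ θ b :=
    fun a b ha hb hab => Connected.balance_of_pLayer_eq_bot ha.1 hab
      (pLayer_centralizer h2c hb.1)
  -- equality of the closures inside one elementary group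
  have same : ∀ {A B : Subgroup G}, Cfsg.IsElementaryAbelian 2 A → B ≤ A →
      2 ^ 2 ≤ Nat.card B → Cfsg.signalizerClosure B θ = Cfsg.signalizerClosure A θ := by
    intro A B hA hBA hB
    by_cases h : 2 ^ 2 < Nat.card A
    · exact Connected.closure_eq (functorTheorem 2 G) hC heq hbal hA
        (Connected.pow_three_le_of_lt hA h) hBA hB
    · rw [eq_of_le_of_card_ge hBA ((not_lt.mp h).trans hB)]
  haveI hEPn : (E.subgroupOf P).Normal :=
    ⟨fun e he g => mem_subgroupOf.mpr (hn g g.2 e (mem_subgroupOf.mp he))⟩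
  obtain ⟨z0, hz0E, hz0c, hz01⟩ := CfsgLib.Invol.exists_mem_center_ne_one hP (E.subgroupOf P)
    (fun h => by
      rw [← card_eq_one, Nat.card_congr (subgroupOfEquivOfLe hEP).toEquiv] at h
      omega)
  set z : G := (z0 : G) with hz
  have hzE : z ∈ E := mem_subgroupOf.mp hz0E
  have hz1 : z ≠ 1 := fun h => hz01 (Subtype.ext h)
  have hzc : ∀ g ∈ P, g * z = z * g := fun g hg =>
    congrArg Subtype.val (mem_center_iff.mp hz0c ⟨g, hg⟩)
  have hzo : orderOf z = 2 := orderOf_eq_prime (hE.2 z hzE) hz1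
  have hzel := Connected.elementary_zpowers hzo
  have hzcomm : ∀ {V : Subgroup G}, V ≤ P → ∀ a ∈ V, ∀ c ∈ zpowers z, a * c = c * a := by
    rintro V hV a ha _ ⟨i, rfl⟩
    exact ((show Commute a z from hzc a (hV ha)).zpow_right i).eq
  -- a member of `U` outside `⟨z⟩`
  obtain ⟨u, huU, huz⟩ : ∃ u ∈ U, u ∉ zpowers z := by
    by_contra hcon
    push Not at hcon
    have := card_le_of_le (show U ≤ zpowers z from hcon)
    rw [Nat.card_zpowers, hzo] at this
    omega
  have huP : u ∈ P := hUP huU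
  have hu1 : u ≠ 1 := fun h => huz (h ▸ one_mem _)
  have hu2 : u ^ 2 = 1 := hU.2 u huU
  have huo : orderOf u = 2 := orderOf_eq_prime hu2 hu1
  have huel := Connected.elementary_zpowers huo
  set F := zpowers u ⊔ zpowers z with hF
  have hUz := Connected.elementary_sup hU hzel (hzcomm hUP)
  have hFle : F ≤ U ⊔ zpowers z := sup_le ((zpowers_le.mpr huU).trans le_sup_left) le_sup_right
  have hFel := elementary_of_le hUz hFle
  have hF4 : 2 ^ 2 ≤ Nat.card F := by
    have hlt : zpowers z < F := lt_of_le_of_ne le_sup_right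
      fun h => huz (h ▸ mem_sup_left (mem_zpowers u))
    obtain ⟨n, hn'⟩ := (elementary_isPGroup hFel).exists_card_eq
    have h2 : 2 < Nat.card F := by
      have := Set.ncard_lt_ncard (SetLike.coe_ssubset_coe.mpr hlt) (Set.toFinite _)
      rw [← Nat.card_coe_set_eq, ← Nat.card_coe_set_eq] at this
      simpa [Nat.card_zpowers, hzo] using this
    rw [hn'] at h2 ⊢
    exact Nat.pow_le_pow_right (by norm_num)
      ((Nat.pow_lt_pow_iff_right (by norm_num)).mp (show 2 ^ 1 < 2 ^ n by simpa using h2))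
  have h1 : Cfsg.signalizerClosure U θ = Cfsg.signalizerClosure F θ :=
    (same hUz le_sup_left h4).trans (same hUz hFle hF4).symm
  rw [h1]
  by_cases huE : u ∈ E
  · exact same hE (sup_le (zpowers_le.mpr huE) (zpowers_le.mpr hzE)) hF4
  set D := E ⊓ centralizer ({u} : Set G) with hD
  have hD4 : 2 ^ 2 ≤ Nat.card D :=
    four_le_centralizer hE h8 (by rw [← pow_two]; exact hu2) (hn u huP)
  have hDel := elementary_of_le hE (inf_le_left : D ≤ E)
  have huD : Cfsg.IsElementaryAbelian 2 (zpowers u ⊔ D) := Connected.elementary_sup huel hDel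
    (by
      rintro _ ⟨i, rfl⟩ d hd
      exact ((show Commute u d from
        (mem_centralizer_singleton_iff.mp hd.2).symm).zpow_left i).eq)
  have hzD : z ∈ D := ⟨hzE, mem_centralizer_singleton_iff.mpr (hzc u huP).symm⟩
  exact ((same huD (sup_le le_sup_left ((zpowers_le.mpr hzD).trans le_sup_right)) hF4).trans
    (same huD le_sup_right hD4).symm).trans (same hE inf_le_left hD4)

/-- The cores of the centralizers generate one subgroup of odd order. -/
theorem exists_odd_generated (hP : IsPGroup 2 P) (hEP : E ≤ P)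
    (hE : Cfsg.IsElementaryAbelian 2 E) (h8 : 2 ^ 3 ≤ Nat.card E)
    (hn : ∀ g ∈ P, ∀ e ∈ E, g * e * g⁻¹ ∈ E) :
    ∃ W : Subgroup G, Odd (Nat.card ↥W) ∧
      ∀ B : Subgroup G, B ≤ P → ¬ Cfsg.PRankLE 2 1 ↥B →
        W = (⨆ b : {b : G // b ∈ B ∧ b ≠ 1}, Cfsg.centralizerPPrimeCore 2 (b : G)) ∧
        Subgroup.normalizer (B : Set G) ≤ Subgroup.normalizer (W : Set G) := by
  set θ : G → Subgroup G := fun x => Cfsg.centralizerPPrimeCore 2 x with hθ
  set W := Cfsg.signalizerClosure E θ with hW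
  have hodd : ∀ x : G, Odd (Nat.card ↥(θ x)) := fun x =>
    Nat.coprime_two_right.mp (coreP_coprime 2 (centralizer ({x} : Set G)))
  have hfun : Cfsg.IsSolvableSignalizerFunctor 2 E θ :=
    Connected.functor_of_big
      (fun a _ => ⟨coreP_le 2 _, Nat.two_dvd_ne_zero.mpr (Nat.odd_iff.mp (hodd a)),
        hFT _ (hodd a)⟩)
      (fun a g _ => Connected.centralizerPPrimeCore_conj a g)
      (fun a b ha hb hab => Connected.balance_of_pLayer_eq_bot ha.1 hab
        (pLayer_centralizer h2c hb.1)) hE h8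
  refine ⟨W, Nat.odd_iff.mpr (Nat.two_dvd_ne_zero.mp ((functorTheorem 2 G) E θ hE h8 hfun).1), ?_⟩
  have hle : ∀ b ∈ P, b ≠ 1 → θ b ≤ W := by
    intro b hb hb1
    obtain ⟨t, ht, htb⟩ := exists_pow_orderOf_eq_two hP hb hb1
    have htP : t ∈ P := zpowers_le.mpr hb htb
    have hcomm : ∀ x, x * b = b * x → x * t = t * x := by
      intro x hx
      obtain ⟨i, rfl⟩ := htb
      exact ((show Commute x b from hx).zpow_right i).eq
    have hbt : θ b ≤ θ t := fun x hx => core_le_core (hP.to_le (zpowers_le.mpr hb))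
      (hcomm b rfl) (pLayer_centralizer h2c ht)
      ⟨hx, mem_centralizer_singleton_iff.mpr
        (hcomm x (mem_centralizer_singleton_iff.mp (coreP_le 2 _ hx)))⟩
    refine hbt.trans ?_
    have ht1 : t ≠ 1 := fun h => by simp [h] at ht
    by_cases htE : t ∈ E
    · exact le_iSup (fun a : {a : G // a ∈ E ∧ a ≠ 1} => θ a) ⟨t, htE, ht1⟩
    haveI hEPn : (E.subgroupOf P).Normal :=
      ⟨fun e he g => mem_subgroupOf.mpr (hn g g.2 e (mem_subgroupOf.mp he))⟩
    obtain ⟨z0, hz0E, hz0c, hz01⟩ := CfsgLib.Invol.exists_mem_center_ne_one hP (E.subgroupOf P)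
      (fun h => by
        rw [← card_eq_one, Nat.card_congr (subgroupOfEquivOfLe hEP).toEquiv] at h
        omega)
    have hzE : (z0 : G) ∈ E := mem_subgroupOf.mp hz0E
    have hzo : orderOf (z0 : G) = 2 :=
      orderOf_eq_prime (hE.2 _ hzE) fun h => hz01 (Subtype.ext h)
    have hU := Connected.elementary_sup (Connected.elementary_zpowers ht)
      (Connected.elementary_zpowers hzo) (by
        rintro _ ⟨i, rfl⟩ _ ⟨j, rfl⟩
        exact ((show Commute t (z0 : G) from
          congrArg Subtype.val (mem_center_iff.mp hz0c ⟨t, htP⟩)).zpow_zpow i j).eq)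
    have hU4 : 2 ^ 2 ≤ Nat.card ↥(zpowers t ⊔ zpowers (z0 : G)) := by
      have hlt : zpowers (z0 : G) < zpowers t ⊔ zpowers (z0 : G) := lt_of_le_of_ne le_sup_right
        fun h => htE (zpowers_le.mpr hzE (h ▸ mem_sup_left (mem_zpowers t)))
      obtain ⟨n, hn'⟩ := (elementary_isPGroup hU).exists_card_eq
      have h2 := Set.ncard_lt_ncard (SetLike.coe_ssubset_coe.mpr hlt) (Set.toFinite _)
      rw [← Nat.card_coe_set_eq, ← Nat.card_coe_set_eq] at h2
      simp only [SetLike.coe_sort_coe, Nat.card_zpowers, hzo, hn'] at h2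
      rw [hn']
      exact Nat.pow_le_pow_right (by norm_num)
        ((Nat.pow_lt_pow_iff_right (by norm_num)).mp (show 2 ^ 1 < 2 ^ n by simpa using h2))
    rw [hW, ← closure_eq_closure hFT h2c hP hEP hE h8 hn
      (sup_le (zpowers_le.mpr htP) (zpowers_le.mpr z0.2)) hU hU4]
    exact le_iSup (fun a : {a : G // a ∈ zpowers t ⊔ zpowers (z0 : G) ∧ a ≠ 1} => θ a)
      ⟨t, mem_sup_left (mem_zpowers t), ht1⟩
  intro B hBP hB2
  have hWB : W = ⨆ b : {b : G // b ∈ B ∧ b ≠ 1}, θ b := by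
    refine le_antisymm ?_ (iSup_le fun b => hle b (hBP b.2.1) b.2.2)
    unfold Cfsg.PRankLE at hB2
    push Not at hB2
    obtain ⟨V, hV, hVp, hlt⟩ := hB2
    have hel : Cfsg.IsElementaryAbelian 2 (V.map B.subtype) := by
      refine ⟨⟨⟨?_⟩⟩, ?_⟩
      · rintro ⟨_, a, ha, rfl⟩ ⟨_, c, hc, rfl⟩
        exact Subtype.ext (congrArg (fun w : V => ((w : B) : G))
          (hV.is_comm.comm ⟨a, ha⟩ ⟨c, hc⟩))
      · rintro _ ⟨a, ha, rfl⟩
        rw [← map_pow, hVp a ha, map_one]
    have hV4 : 2 ^ 2 ≤ Nat.card ↥(V.map B.subtype) := by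
      obtain ⟨n, hn'⟩ := (elementary_isPGroup hel).exists_card_eq
      rw [← card_map_of_injective (K := V) B.subtype_injective, hn'] at hlt
      rw [hn']
      exact Nat.pow_le_pow_right (by norm_num) ((Nat.pow_lt_pow_iff_right (by norm_num)).mp hlt)
    rw [hW, ← closure_eq_closure hFT h2c hP hEP hE h8 hn ((map_subtype_le V).trans hBP) hel hV4]
    exact iSup_le fun a => le_iSup_of_le
      (⟨a.1, map_subtype_le V a.2.1, a.2.2⟩ : {b : G // b ∈ B ∧ b ≠ 1}) le_rfl
  refine ⟨hWB, fun g hg => mem_normalizer_iff_map_conj_eq.mpr ?_⟩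
  have hmem : ∀ x, x ∈ B ↔ g * x * g⁻¹ ∈ B := fun x => mem_normalizer_iff.mp hg x
  rw [hWB, Subgroup.map_iSup]
  refine le_antisymm (iSup_le fun b => le_iSup_of_le (⟨g * b * g⁻¹, (hmem b).mp b.2.1,
      fun h => b.2.2 (by simpa using h)⟩ : {b : G // b ∈ B ∧ b ≠ 1})
      (le_of_eq (Connected.centralizerPPrimeCore_conj (b : G) g).symm))
    (iSup_le fun b => le_iSup_of_le (⟨g⁻¹ * b * g, by
        rw [hmem, show g * (g⁻¹ * (b : G) * g) * g⁻¹ = b by group]; exact b.2.1,
      fun h => b.2.2 (by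
        rw [show (b : G) = g * (g⁻¹ * (b : G) * g) * g⁻¹ by group, h, mul_one, mul_inv_cancel])⟩ :
        {b : G // b ∈ B ∧ b ≠ 1}) ?_)
  have h := Connected.centralizerPPrimeCore_conj (p := 2) (g⁻¹ * (b : G) * g) g
  rw [show g * (g⁻¹ * (b : G) * g) * g⁻¹ = b by group] at h
  exact le_of_eq h

end

/-- The statement for an arbitrary Sylow 2-subgroup. -/
theorem exists_odd_generated_of_normal_abelian
    (hFT : ∀ H : Subgroup G, Odd (Nat.card H) → Group.IsSolvable H)
    (h2c : ∀ T : Subgroup G, IsPGroup 2 T → T ≠ ⊥ →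
      Cfsg.IsPConstrained 2 ↥(Subgroup.normalizer (T : Set G)))
    (S : Sylow 2 G) (A : Subgroup ↥(S : Subgroup G)) (hAn : A.Normal)
    (hAab : IsMulCommutative ↥A) (hA3 : ¬ Cfsg.PRankLE 2 2 ↥A) (S' : Sylow 2 G) :
    ∃ W : Subgroup G, Odd (Nat.card ↥W) ∧
      ∀ B : Subgroup G, B ≤ (S' : Subgroup G) → ¬ Cfsg.PRankLE 2 1 ↥B →
        W = (⨆ b : {b : G // b ∈ B ∧ b ≠ 1}, Cfsg.centralizerPPrimeCore 2 (b : G)) ∧
        Subgroup.normalizer (B : Set G) ≤ Subgroup.normalizer (W : Set G) := by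
  let e : ↥(S : Subgroup G) ≃* ↥(S' : Subgroup G) := S.equiv S'
  let f : ↥(S : Subgroup G) →* G := (S' : Subgroup G).subtype.comp e.toMonoidHom
  have hf : Function.Injective f := (S' : Subgroup G).subtype_injective.comp e.injective
  have hr : f.range = (S' : Subgroup G) := by
    refine le_antisymm ?_ fun x hx => ⟨e.symm ⟨x, hx⟩, by simp [f]⟩
    rintro _ ⟨s, rfl⟩
    exact (e s).2
  obtain ⟨E, hEr, hE, h8, hn⟩ := exists_normal_elementary f hf A hAn hAab hA3
  rw [hr] at hEr hn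
  exact exists_odd_generated hFT h2c S'.2 hEr hE h8 hn

end CfsgLib.Signalizer.CoresGenerate
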