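import Cfsg.Agent.Lib.Signalizer.InvertedCore
import Cfsg.Agent.Lib.Solvable.InvariantHall

/-!
The odd cores of the values generate a member under a maximal one.
-/

set_option autoImplicit false
set_option linter.style.haveILetI false
set_option linter.unusedVariables false
set_option linter.unusedSectionVars false

open scoped Pointwise commutatorElement
open Subgroup

universe u

namespace CfsgLib.Signalizer

variable {G : Type u} [Group G] [Finite G] {p : ℕ} [hp : Fact p.Prime] {A : Subgroup G}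
  {θ : G → Subgroup G}

/-- `[K,Z]` is generated by the `[C_K(L),Z]`, `L` a line, for `Z` centralizing `A`. -/
theorem commutator_le_iSup_lines' (hA : Cfsg.IsElementaryAbelian p A) (hA3 : Nat.card A = p ^ 3)
    {K Z : Subgroup G} (hKs : Group.IsSolvable K) (hK : ¬ p ∣ Nat.card K)
    (hAK : A ≤ normalizer (K : Set G)) (hZK : Z ≤ normalizer (K : Set G))
    (hZA : Z ≤ centralizer (A : Set G)) (hcop : (Nat.card Z).Coprime (Nat.card K)) :
    ⁅K, Z⁆ ≤ ⨆ L : {L : Subgroup G // IsLine p A L},
      ⁅K ⊓ centralizer ((L : Subgroup G) : Set G), Z⁆ := by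
  set S := ⨆ L : {L : Subgroup G // IsLine p A L},
      ⁅K ⊓ centralizer ((L : Subgroup G) : Set G), Z⁆ with hS
  have hZL : ∀ L : {L : Subgroup G // IsLine p A L},
      Z ≤ normalizer ((K ⊓ centralizer ((L : Subgroup G) : Set G) : Subgroup G) : Set G) := fun L =>
    le_normalizer_inf hZK ((hZA.trans (centralizer_le L.2.1)).trans le_normalizer)
  have hAZ : A ≤ normalizer (Z : Set G) :=
    (le_centralizer_iff.mp hZA).trans (centralizer_le_normalizer _)
  have hAS : A ≤ normalizer (S : Set G) := le_normalizer_iSup fun L =>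
    (le_inf (le_normalizer_inf_centralizer hA hAK L.2.1) hAZ).trans
      (normalizer_inf_le_normalizer_commutator _ _)
  have hZS : Z ≤ normalizer (S : Set G) := le_normalizer_iSup fun L =>
    (le_inf (hZL L) le_normalizer).trans (normalizer_inf_le_normalizer_commutator _ _)
  have hSK : S ≤ K := iSup_le fun L =>
    (commutator_mono inf_le_left le_rfl).trans (CfsgLib.Solvable.commutator_le_of_normalizes hZK)
  set Ds : ℕ → Subgroup G := fun i => (derivedSeries K i).map K.subtype with hDs
  have hDK : ∀ i, Ds i ≤ K := fun i => map_subtype_le _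
  have hKD : ∀ i, normalizer (K : Set G) ≤ normalizer (Ds i : Set G) := fun i =>
    map_subtype_characteristic K (derivedSeries_characteristic _ i)
  have claim : ∀ i, ⁅K, Z⁆ ≤ S ⊔ Ds i := by
    intro i
    induction i with
    | zero =>
      refine (CfsgLib.Solvable.commutator_le_of_normalizes hZK).trans (le_sup_of_le_right ?_)
      simp [hDs, derivedSeries_zero, ← MonoidHom.range_eq_map]
    | succ i ih =>
      set U := Ds i with hU
      set N := Ds (i + 1) with hN
      have hUN : ⁅U, U⁆ = N := by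
        rw [hU, hN, hDs]
        simp [derivedSeries_succ, map_commutator]
      have hNU : N ≤ U := by
        rw [← hUN]
        exact CfsgLib.Solvable.commutator_le_of_normalizes le_normalizer
      set W := (S ⊔ N) ⊓ U with hW
      have hNW : N ≤ W := le_inf le_sup_right hNU
      have hUW : U ≤ normalizer (W : Set G) := by
        rw [le_normalizer_iff]
        intro u hu w hw
        have h1 : u * w * u⁻¹ * w⁻¹ ∈ N := by
          rw [← hUN]
          exact commutator_mem_commutator hu hw.2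
        simpa [mul_assoc] using W.mul_mem (hNW h1) hw
      have hAW : A ≤ normalizer (W : Set G) := le_normalizer_inf
        (le_normalizer_sup hAS (hAK.trans (hKD (i + 1)))) (hAK.trans (hKD i))
      have hU' : U ≤ centralizerMod W Z := by
        refine le_trans (le_inf le_rfl ?_) inf_le_right (b := U ⊓ centralizerMod W Z)
        refine le_of_lines hA hA3 (not_dvd_of_le (hDK i) hK) (hAK.trans (hKD i)) fun L hL => ?_
        rintro u ⟨hu, huL⟩
        refine mem_centralizerMod.mpr ⟨hUW hu, fun z hz => ⟨?_, ?_⟩⟩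
        · exact mem_sup_left (le_iSup (fun L : {L : Subgroup G // IsLine p A L} =>
            ⁅K ⊓ centralizer ((L : Subgroup G) : Set G), Z⁆) ⟨L, hL⟩
              (commutator_mem_commutator ⟨hDK i hu, huL⟩ hz))
        · exact CfsgLib.Solvable.commutator_le_of_normalizes (hZK.trans (hKD i))
            (commutator_mem_commutator hu hz)
      have hidem : ⁅⁅K, Z⁆, Z⁆ = ⁅K, Z⁆ :=
        CfsgLib.Solvable.commutator_commutator_eq hZK hcop (Or.inr hKs)
      rw [← hidem]
      refine (commutator_mono ih le_rfl).trans ?_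
      rw [commutator_le]
      intro y hy z hz
      obtain ⟨u, hu, s, hs, hus⟩ := (CfsgLib.Solvable.mem_sup_of_le_normalizer
        (hSK.trans (le_normalizer.trans (hKD i)))).mp (show y⁻¹ ∈ U ⊔ S from by
          rw [sup_comm]; exact inv_mem hy)
      obtain rfl : y = s⁻¹ * u⁻¹ := by rw [← inv_inv y, ← hus, mul_inv_rev]
      have h1 : ⁅u⁻¹, z⁆ ∈ S ⊔ N := ((mem_centralizerMod.mp (hU' (inv_mem hu))).2 z hz).1
      have h2 : ⁅s⁻¹, z⁆ ∈ S :=
        CfsgLib.Solvable.commutator_le_of_normalizes hZS (commutator_mem_commutator (inv_mem hs) hz)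
      rw [show ⁅s⁻¹ * u⁻¹, z⁆ = s⁻¹ * ⁅u⁻¹, z⁆ * s⁻¹⁻¹ * ⁅s⁻¹, z⁆ by
        simp only [commutatorElement_def]; group]
      exact mul_mem (mul_mem (mul_mem (mem_sup_left (inv_mem hs)) h1)
        (inv_mem (mem_sup_left (inv_mem hs)))) (mem_sup_left h2)
  obtain ⟨n, hn⟩ := hKs.solvable
  have h := claim n
  have hb : Ds n = ⊥ := by simp [hDs, hn]
  rwa [hb, sup_bot_eq] at h

/-- An odd invariant subgroup between `J ∩ C` and `C` lies in the invariant Hall subgroup `J`. -/
theorem le_of_odd_between {M J A R : Subgroup G} (hM : Group.IsSolvable M)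
    (hAM : A ≤ normalizer (M : Set G)) (hcop : (Nat.card A).Coprime (Nat.card M))
    (hJ : Cfsg.IsPiHallOf {q | q ≠ 2} J M) (hAJ : A ≤ normalizer (J : Set G))
    {C : Subgroup G} (hC : centralizer (A : Set G) ≤ normalizer (C : Set G))
    (hJR : J ⊓ C ≤ R) (hR : R ≤ M) (hRC : R ≤ C) (hAR : A ≤ normalizer (R : Set G))
    (hodd : (Nat.card R).Coprime 2) : R ≤ J := by
  obtain ⟨J', hJ', hAJ', hRJ'⟩ := CfsgLib.Solvable.exists_invariant_isPiHallOf_ge_aux
    {q : ℕ | q ≠ 2} _ G A M rfl hAM hcop hM R hR hAR (fun q hq hd h2 => by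
      subst h2
      exact Nat.prime_two.ne_one (Nat.eq_one_of_dvd_coprimes hodd hd dvd_rfl))
  obtain ⟨c, hc, hcJ⟩ :=
    CfsgLib.Solvable.exists_centralizer_conj_isPiHallOf hAM hcop hM hJ hAJ hJ' hAJ'
  rw [CfsgLib.Solvable.conj_smul_eq_map] at hcJ
  have hcC : C.map (MulAut.conj c).toMonoidHom = C := le_normalizer_map_conj (hC hc.2)
  have hcard : Nat.card ↥(J' ⊓ C) = Nat.card ↥(J ⊓ C) := by
    rw [← hcJ, ← hcC, ← Subgroup.map_inf _ _ _ (MulAut.conj c).injective, hcC]
    exact card_map_of_injective (MulAut.conj c).injective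
  have hle : R ≤ J' ⊓ C := le_inf hRJ' hRC
  rw [← eq_of_le_of_card_ge (hJR.trans hle) hcard.le] at hle
  exact hle.trans inf_le_left

namespace IsMinimalIncomplete

theorem exists_isCoreMember (h : IsMinimalIncomplete p A θ) :
    ∃ N, IsCoreMember p A θ N := by
  have hA := h.elem
  haveI : Fact (Nat.Prime 2) := ⟨Nat.prime_two⟩
  set D := Cfsg.signalizerInf A θ with hDdef
  set Z := zo p A θ with hZdef
  have hZD : Z ≤ D := h.zo_le_fixed
  have hDA : D ≤ centralizer (A : Set G) := h.fixed_le_centralizer_elem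
  have hZA : Z ≤ centralizer (A : Set G) := hZD.trans hDA
  have hAZ : A ≤ normalizer (Z : Set G) :=
    (le_centralizer_iff.mp hZA).trans (centralizer_le_normalizer _)
  have hZf := h.zo_mem_family
  have hDθ : ∀ {a : G}, a ∈ A → a ≠ 1 → D ≤ θ a := fun ha ha1 => signalizerInf_le ha ha1
  obtain ⟨a₀, ha₀, ha₀1⟩ := exists_ne_one_of_card_le (n := 3) (by norm_num) h.card_eq.ge
  have hDf : D ∈ Cfsg.signalizerFamily p A θ :=
    signalizerInf_mem_family hA h.functor le_rfl ha₀ ha₀1
  obtain ⟨n₀, hn₀⟩ := h.zo_isPGroup.exists_card_eq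
  have hcopZ : ∀ {K : Subgroup G}, (Nat.card K).Coprime 2 → (Nat.card Z).Coprime (Nat.card K) :=
    fun hK => by rw [hn₀]; exact (hK.pow_right n₀).symm
  have hoodd : ∀ a : G, (Nat.card (opr 2 (θ a))).Coprime 2 := fun a => opr_coprime 2 _
  have hAo : ∀ {a : G}, a ∈ A → a ≠ 1 → A ≤ normalizer (opr 2 (θ a) : Set G) := fun ha ha1 =>
    (functor_le_normalizer h.functor ha ha1).trans (normalizer_le_normalizer_opr 2 _)
  have hDCL : ∀ {R L : Subgroup G}, IsLine p A L → D ≤ normalizer (R : Set G) →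
      D ≤ normalizer ((R ⊓ centralizer (L : Set G) : Subgroup G) : Set G) := fun hL hDR =>
    le_normalizer_inf hDR ((hDA.trans (centralizer_le hL.1)).trans le_normalizer)
  -- the inverted part of an odd piece on a line lies in every odd core over it
  have hinv : ∀ {K L : Subgroup G}, K ∈ Cfsg.signalizerFamily p A θ → (Nat.card K).Coprime 2 →
      D ≤ normalizer (K : Set G) → IsLine p A L → K ≤ centralizer (L : Set G) →
      ∀ {H : Subgroup G}, H ∈ Cfsg.signalizerFamily p A θ → D ≤ H → ⁅K, Z⁆ ≤ H →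
      ⁅K, Z⁆ ≤ opr 2 H := by
    intro K L hK hKo hDK hL hKL H hH hDH hTH
    have hTK : ⁅K, Z⁆ ≤ K := CfsgLib.Solvable.commutator_le_of_normalizes (hZD.trans hDK)
    refine h.le_opr_two_of_inverted hL (family_of_le hK hTK
      ((le_inf (family_le_normalizer hK) hAZ).trans (normalizer_inf_le_normalizer_commutator _ _)))
      (hKo.coprime_dvd_left (card_dvd_of_le hTK))
      ((le_inf hDK h.fixed_le_normalizer_zo).trans (normalizer_inf_le_normalizer_commutator _ _))
      (hTK.trans hKL) ?_ hH hDH hTH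
    exact CfsgLib.Solvable.commutator_commutator_eq (hZD.trans hDK) (hcopZ hKo)
      (Or.inr (family_isSolvable hK))
  -- the auxiliary functor
  obtain ⟨M, hM, -, -, hMall⟩ := h.exists_normalizer_max hZf h.zo_ne_bot
  set M0 := M ⊓ normalizer (Z : Set G) with hM0
  have hM0f : M0 ∈ Cfsg.signalizerFamily p A θ :=
    family_inf_left hM.1 (hAZ.trans le_normalizer)
  have hA0 := family_le_normalizer hM0f
  have hcop0 := elementary_coprime hA (family_not_dvd hM0f)
  have hs0 := family_isSolvable hM0f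
  obtain ⟨J, hJ, hAJ⟩ :=
    CfsgLib.Solvable.exists_invariant_isPiHallOf hA0 hcop0 hs0 {q : ℕ | q ≠ 2}
  have hJodd : (Nat.card J).Coprime 2 :=
    (Nat.prime_two.coprime_iff_not_dvd.mpr fun hd => hJ.2.1 2 Nat.prime_two hd rfl).symm
  have hJf : J ∈ Cfsg.signalizerFamily p A θ := family_of_le hM0f hJ.1 hAJ
  have hJθ : ∀ {a : G}, a ∈ A → a ≠ 1 → J ⊓ centralizer ({a} : Set G) ≤ θ a :=
    fun ha ha1 => family_inf_le hJf ha ha1
  set φ : G → Subgroup G := fun a => opr 2 (θ a) ⊔ (J ⊓ centralizer ({a} : Set G)) with hφ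
  have hAJa : ∀ {a : G}, a ∈ A →
      A ≤ normalizer ((J ⊓ centralizer ({a} : Set G) : Subgroup G) : Set G) :=
    fun ha => le_normalizer_inf_centralizer_elem hA hAJ ha
  have hφle : ∀ {a : G}, a ∈ A → a ≠ 1 → φ a ≤ θ a := fun ha ha1 =>
    sup_le (opr_le 2 _) (hJθ ha ha1)
  have hφodd : ∀ {a : G}, a ∈ A → a ≠ 1 → (Nat.card (φ a)).Coprime 2 := by
    intro a ha ha1
    have := CfsgLib.Components.card_sup_dvd ((hJθ ha ha1).trans (le_normalizer_opr 2 (θ a)))
    rw [sup_comm] at this
    exact Nat.Coprime.coprime_dvd_left this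
      (Nat.Coprime.mul_left (hJodd.coprime_dvd_left (card_dvd_of_le inf_le_left)) (hoodd a))
  have hfun : Cfsg.IsSolvableSignalizerFunctor p A φ := by
    refine ⟨⟨fun a ha ha1 => (hφle ha ha1).trans (functor_le_centralizer h.functor ha ha1),
      fun a ha ha1 => not_dvd_of_le (hφle ha ha1) (h.functor.1.2.1 a ha ha1),
      fun a ha ha1 => conj_mem_iff_le_normalizer.mpr (le_normalizer_sup (hAo ha ha1) (hAJa ha)),
      fun a ha ha1 b hb hb1 => ?_⟩, fun a ha ha1 => ?_⟩
    swap
    · haveI := h.functor.2 a ha ha1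
      exact Group.isSolvable_of_isSolvable_injective (inclusion_injective (hφle ha ha1))
    rintro x ⟨hxφ, hxb⟩
    have hnorm : J ⊓ centralizer ({a} : Set G) ≤ normalizer (opr 2 (θ a) : Set G) :=
      (hJθ ha ha1).trans (le_normalizer_opr 2 _)
    obtain ⟨o, ho, j, hj, rfl⟩ := (CfsgLib.Solvable.mem_sup_of_le_normalizer hnorm).mp hxφ
    rw [← centralizer_zpowers] at hxb
    obtain ⟨o', ho', j', hj', he⟩ := CfsgLib.Solvable.centralizer_of_product
      (A := zpowers b) (K := φ a) (X := opr 2 (θ a)) (Y := J ⊓ centralizer ({a} : Set G))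
      (zpowers_coprime hA (not_dvd_of_le (hφle ha ha1) (h.functor.1.2.1 a ha ha1)) hb)
      (zpowers_solvable_or hA hb) le_sup_left ((zpowers_le.mpr hb).trans (hAo ha ha1))
      ((zpowers_le.mpr hb).trans (hAJa ha)) ho hj hxb
    rw [he]
    rw [centralizer_zpowers] at ho' hj'
    refine Subgroup.mul_mem _ ?_ (mem_sup_right ⟨hj'.1.1, hj'.2⟩)
    -- the part in the odd core
    by_cases hba : b ∈ zpowers a
    · have hz : zpowers b = zpowers a := eq_of_le_of_card_ge (zpowers_le.mpr hba) (by
        rw [card_zpowers_elementary hA ha ha1, card_zpowers_elementary hA hb hb1])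
      have hc : centralizer ({b} : Set G) = centralizer ({a} : Set G) := by
        rw [← centralizer_zpowers, hz, centralizer_zpowers]
      have hθeq : θ a = θ b := le_antisymm
        ((le_inf le_rfl ((functor_le_centralizer h.functor ha ha1).trans hc.ge)).trans
          (h.functor.1.2.2.2 a ha ha1 b hb hb1))
        ((le_inf le_rfl ((functor_le_centralizer h.functor hb hb1).trans hc.le)).trans
          (h.functor.1.2.2.2 b hb hb1 a ha ha1))
      exact mem_sup_left (hθeq ▸ ho'.1)
    set L := zpowers a ⊔ zpowers b with hL'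
    have haL : a ∈ L := mem_sup_left (mem_zpowers a)
    have hbL : b ∈ L := mem_sup_right (mem_zpowers b)
    have hL : IsLine p A L := ⟨sup_le (zpowers_le.mpr ha) (zpowers_le.mpr hb), by
      rw [card_sup_zpowers_elementary hA (zpowers_le.mpr ha) hb hba,
        card_zpowers_elementary hA ha ha1, pow_two]⟩
    set K := opr 2 (θ a) ⊓ centralizer ({b} : Set G) with hK
    have hAK : A ≤ normalizer (K : Set G) :=
      le_normalizer_inf_centralizer_elem hA (hAo ha ha1) hb
    have hKθa : K ≤ θ a := inf_le_left.trans (opr_le 2 _)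
    have hKf : K ∈ Cfsg.signalizerFamily p A θ :=
      family_of_le (functor_mem_family h.functor ha ha1) hKθa hAK
    have hKo : (Nat.card K).Coprime 2 := (hoodd a).coprime_dvd_left (card_dvd_of_le inf_le_left)
    have hKb : K ≤ θ b :=
      (inf_le_inf_right _ (opr_le 2 _)).trans (h.functor.1.2.2.2 a ha ha1 b hb hb1)
    have hKL : K ≤ centralizer (L : Set G) := by
      rw [le_centralizer_iff, hL']
      exact sup_le (zpowers_le.mpr fun k hk => mem_centralizer_singleton_iff.mp
          (functor_le_centralizer h.functor ha ha1 (hKθa hk)))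
        (zpowers_le.mpr fun k hk => mem_centralizer_singleton_iff.mp hk.2)
    have hDb : D ≤ centralizer ({b} : Set G) :=
      hDA.trans (centralizer_le (Set.singleton_subset_iff.mpr hb))
    have hDK : D ≤ normalizer (K : Set G) := le_normalizer_inf
      ((hDθ ha ha1).trans (le_normalizer_opr 2 _)) (hDb.trans le_normalizer)
    have hT : ⁅K, Z⁆ ≤ opr 2 (θ b) := hinv hKf hKo hDK hL hKL
      (functor_mem_family h.functor hb hb1) (hDθ hb hb1)
      ((CfsgLib.Solvable.commutator_le_of_normalizes (hZD.trans hDK)).trans hKb)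
    set R := K ⊓ centralizer (Z : Set G) with hR
    have hRf : R ∈ Cfsg.signalizerFamily p A θ := family_inf_centralizer hA hKf hZf
    have hRJ : R ≤ J := by
      have hRM : R ≤ M0 := le_inf (hMall R hRf (inf_le_right.trans (centralizer_le_normalizer _)))
        (inf_le_right.trans (centralizer_le_normalizer _))
      have hJLn : J ⊓ centralizer (L : Set G) ≤ normalizer (R : Set G) := by
        refine le_normalizer_inf (le_normalizer_inf ?_ ?_) (inf_le_left.trans
          (hJ.1.trans (inf_le_right.trans (normalizer_le_normalizer_centralizer Z))))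
        · exact ((inf_le_inf_left _ (centralizer_le (Set.singleton_subset_iff.mpr haL))).trans
            (hJθ ha ha1)).trans (le_normalizer_opr 2 _)
        · exact (inf_le_right.trans (centralizer_le (Set.singleton_subset_iff.mpr hbL))).trans
            le_normalizer
      have hdvd := CfsgLib.Components.card_sup_dvd hJLn
      rw [sup_comm] at hdvd
      exact le_trans le_sup_left (le_of_odd_between hs0 hA0 hcop0 hJ hAJ
        (C := centralizer (L : Set G)) ((centralizer_le hL.1).trans le_normalizer)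
        (le_sup_right (a := R)) (sup_le hRM (inf_le_left.trans hJ.1))
        (sup_le (inf_le_left.trans hKL) inf_le_right)
        (le_normalizer_sup (family_le_normalizer hRf) (le_normalizer_inf_centralizer hA hAJ hL.1))
        (Nat.Coprime.coprime_dvd_left hdvd
          (Nat.Coprime.mul_left (hJodd.coprime_dvd_left (card_dvd_of_le inf_le_left))
            (hKo.coprime_dvd_left (card_dvd_of_le inf_le_left)))))
    have hoK : o' ∈ ⁅K, Z⁆ ⊔ R := by
      rw [CfsgLib.Solvable.commutator_sup_centralizer (hZD.trans hDK) (hcopZ hKo)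
        (Or.inr (family_isSolvable hKf))]
      exact ho'
    exact sup_le (hT.trans le_sup_left)
      (le_sup_of_le_right (le_inf hRJ (inf_le_left.trans inf_le_right))) hoK
  have hlt : functorTotal A φ < functorTotal A θ := by
    refine Finset.sum_lt_sum (fun b hb => ?_) ⟨a₀, (Set.Finite.mem_toFinset _).mpr ⟨ha₀, ha₀1⟩, ?_⟩
    · rw [Set.Finite.mem_toFinset] at hb
      exact card_le_of_le (hφle hb.1 hb.2)
    · refine lt_of_le_of_ne (card_le_of_le (hφle ha₀ ha₀1)) fun he =>
        h.zo_ne_bot (card_eq_one.mp ?_)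
      refine Nat.eq_one_of_dvd_coprimes (hcopZ (hφodd ha₀ ha₀1)) dvd_rfl ?_
      rw [he]
      exact card_dvd_of_le (hZD.trans (hDθ ha₀ ha₀1))
  obtain ⟨W, hW, hWa⟩ := h.smaller G A φ hA h.card_eq hfun hlt
  have hWf : W ∈ Cfsg.signalizerFamily p A θ := ⟨hW.1, hW.2.1, hW.2.2.1,
    fun a ha ha1 => (hW.2.2.2 a ha ha1).trans (hφle ha ha1)⟩
  -- the member generated by the inverted parts of the odd cores
  set Hc := ⨆ a : {a : G // a ∈ A ∧ a ≠ 1}, ⁅opr 2 (θ (a : G)), Z⁆ with hHc
  have hK1 : ∀ {a : G}, a ∈ A → a ≠ 1 → ⁅opr 2 (θ a), Z⁆ ≤ Hc := fun {a} ha ha1 =>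
    le_iSup (fun a : {a : G // a ∈ A ∧ a ≠ 1} => ⁅opr 2 (θ (a : G)), Z⁆) ⟨a, ha, ha1⟩
  have hZo : ∀ {a : G}, a ∈ A → a ≠ 1 → Z ≤ normalizer (opr 2 (θ a) : Set G) := fun ha ha1 =>
    (hZD.trans (hDθ ha ha1)).trans (le_normalizer_opr 2 _)
  have hHcW : Hc ≤ W := iSup_le fun a =>
    (CfsgLib.Solvable.commutator_le_of_normalizes (hZo a.2.1 a.2.2)).trans
      (le_sup_left.trans (hWa a a.2.1 a.2.2))
  have hHcf : Hc ∈ Cfsg.signalizerFamily p A θ := family_of_le hWf hHcW
    (le_normalizer_iSup fun a =>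
      (le_inf (hAo a.2.1 a.2.2) hAZ).trans (normalizer_inf_le_normalizer_commutator _ _))
  have hpiece : ∀ {R L : Subgroup G}, R ∈ Cfsg.signalizerFamily p A θ → (Nat.card R).Coprime 2 →
      D ≤ normalizer (R : Set G) → IsLine p A L → ∀ {e : G}, e ∈ L → e ≠ 1 →
      ⁅R ⊓ centralizer (L : Set G), Z⁆ ≤ ⁅opr 2 (θ e), Z⁆ := by
    intro R L hR hRo hDR hL e he he1
    set K := R ⊓ centralizer (L : Set G) with hK
    have hKf : K ∈ Cfsg.signalizerFamily p A θ :=
      family_of_le hR inf_le_left (le_normalizer_inf_centralizer hA (family_le_normalizer hR) hL.1)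
    have hKo : (Nat.card K).Coprime 2 := hRo.coprime_dvd_left (card_dvd_of_le inf_le_left)
    have hDK := hDCL hL hDR
    have hKe : K ≤ θ e := fun x hx =>
      family_inf_le hKf (hL.1 he) he1 ⟨hx, centralizer_le (Set.singleton_subset_iff.mpr he) hx.2⟩
    have hT := hinv hKf hKo hDK hL inf_le_right (functor_mem_family h.functor (hL.1 he) he1)
      (hDθ (hL.1 he) he1)
      ((CfsgLib.Solvable.commutator_le_of_normalizes (hZD.trans hDK)).trans hKe)
    rw [← CfsgLib.Solvable.commutator_commutator_eq (hZD.trans hDK) (hcopZ hKo)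
      (Or.inr (family_isSolvable hKf))]
    exact commutator_mono hT le_rfl
  have hlinesum : ∀ {R : Subgroup G}, R ∈ Cfsg.signalizerFamily p A θ → (Nat.card R).Coprime 2 →
      D ≤ normalizer (R : Set G) →
      ⁅R, Z⁆ ≤ ⨆ L : {L : Subgroup G // IsLine p A L},
        ⁅R ⊓ centralizer ((L : Subgroup G) : Set G), Z⁆ := fun hR hRo hDR =>
    commutator_le_iSup_lines' hA h.card_eq (family_isSolvable hR) (family_not_dvd hR)
      (family_le_normalizer hR) (hZD.trans hDR) hZA (hcopZ hRo)
  have hnorm : ∀ {a : G}, a ∈ A → a ≠ 1 →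
      θ a ⊓ normalizer (Z : Set G) ≤ normalizer (Hc : Set G) := by
    intro a ha ha1
    have hSf : θ a ⊓ normalizer (Z : Set G) ∈ Cfsg.signalizerFamily p A θ :=
      family_inf_left (functor_mem_family h.functor ha ha1) (hAZ.trans le_normalizer)
    refine le_of_lines hA h.card_eq (family_not_dvd hSf) (family_le_normalizer hSf) fun B hB => ?_
    refine le_trans (le_inf (family_inf_centralizer_le hSf hB.1) (inf_le_left.trans inf_le_right))
      (le_normalizer_iff.mpr fun y hy => ?_)
    suffices hle : Hc ≤ Hc.comap (MulAut.conj y).toMonoidHom from fun x hx => hle hx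
    refine iSup_le fun c => ?_
    have hof := family_opr (functor_mem_family h.functor c.2.1 c.2.2) 2
    have hDo : D ≤ normalizer (opr 2 (θ (c : G)) : Set G) :=
      (hDθ c.2.1 c.2.2).trans (le_normalizer_opr 2 _)
    refine (hlinesum hof (hoodd _) hDo).trans (iSup_le fun L => ?_)
    obtain ⟨e, heL, heB, he1⟩ := L.2.exists_mem_inf hA h.card_eq hB
    refine (hpiece hof (hoodd _) hDo L.2 heL he1).trans fun x hx => hK1 (L.2.1 heL) he1 ?_
    exact (mem_normalizer_iff.mp (normalizer_inf_le_normalizer_commutator _ _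
      ⟨le_normalizer_opr 2 _ (signalizerInf_le heB he1 hy.1), hy.2⟩) x).mp hx
  obtain ⟨L₀, T, hL₀, hTf, hTo, hDT, hTL, hTZ, hT1⟩ := h.exists_inverted
  have hHc1 : Hc ≠ ⊥ := by
    obtain ⟨l, hl, hl1⟩ := hL₀.exists_ne_one
    have h1 := (hpiece hTf hTo hDT hL₀ hl hl1).trans (hK1 (hL₀.1 hl) hl1)
    rw [inf_eq_left.mpr hTL, hTZ] at h1
    exact fun h0 => hT1 (le_bot_iff.mp (h1.trans h0.le))
  obtain ⟨N, hN, hHN, -, hall⟩ := h.exists_normalizer_max hHcf hHc1
  have hCle : ∀ H ∈ Cfsg.signalizerFamily p A θ, H ≤ normalizer (Z : Set G) → H ≤ N :=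
    fun H hH hHZ => hall H hH (h.member_le_of_centralizers hH fun a ha ha1 =>
      (inf_le_inf_left _ hHZ).trans (hnorm ha ha1))
  have hodd : ∀ R ∈ Cfsg.signalizerFamily p A θ, (Nat.card R).Coprime 2 →
      D ≤ normalizer (R : Set G) → R ≤ N := by
    intro R hR hRo hDR
    rw [← CfsgLib.Solvable.commutator_sup_centralizer (hZD.trans hDR) (hcopZ hRo)
      (Or.inr (family_isSolvable hR))]
    refine sup_le ?_ (hCle _ (family_inf_centralizer hA hR hZf)
      (inf_le_right.trans (centralizer_le_normalizer _)))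
    refine ((hlinesum hR hRo hDR).trans (iSup_le fun L => ?_)).trans hHN
    obtain ⟨e, he, he1⟩ := L.2.exists_ne_one
    exact (hpiece hR hRo hDR L.2 he he1).trans (hK1 (L.2.1 he) he1)
  refine ⟨N, hN, hCle D hDf h.fixed_le_normalizer_zo, hodd,
    fun H hH hHZ => hCle H hH (hHZ.trans (centralizer_le_normalizer _)), ?_⟩
  have hTN : T ≤ opr 2 N := h.le_opr_two_of_inverted hL₀ hTf hTo hDT hTL hTZ hN.1
    (hCle D hDf h.fixed_le_normalizer_zo) (hodd T hTf hTo hDT)
  have hne : opr 2 N ≠ ⊥ := fun h0 => hT1 (le_bot_iff.mp (hTN.trans h0.le))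
  obtain ⟨r, hr, hrne⟩ := exists_oq_ne_bot (family_isSolvable (family_opr hN.1 2)) hne
  haveI := Fact.mk hr
  refine ⟨r, hr, fun h2 => ?_, fun h0 => hrne (le_bot_iff.mp (le_trans ?_ h0.le))⟩
  · subst h2
    obtain ⟨m, hm⟩ := (oq_isPGroup 2 (opr 2 N)).exists_card_eq
    have hc := (opr_coprime 2 N).coprime_dvd_left (card_dvd_of_le (oq_le 2 (opr 2 N)))
    rw [hm] at hc
    rcases Nat.eq_zero_or_pos m with hm0 | hm0
    · rw [hm0, pow_zero] at hm
      exact hrne (card_eq_one.mp hm)
    · exact absurd ((Nat.coprime_pow_left_iff hm0 _ _).mp hc) (by norm_num)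
  · exact le_oq_of ((oq_le r _).trans (opr_le 2 N))
      ((le_normalizer_opr 2 N).trans (normalizer_le_normalizer_oq r _)) (oq_isPGroup r _)

end IsMinimalIncomplete

end CfsgLib.Signalizer
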