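import Cfsg.Agent.Lib.Signalizer.CoreMember
import Cfsg.Agent.Lib.Signalizer.OddCore

/-!
Solvable signalizer functors have completions.
-/

set_option autoImplicit false
set_option linter.style.haveILetI false
set_option linter.unusedVariables false
set_option linter.unusedSectionVars false

open scoped Pointwise commutatorElement
open Subgroup

universe u

namespace CfsgLib.Signalizer

variable {G : Type u} [Group G] [Finite G] {p : ℕ} [hp : Fact p.Prime] {A : Subgroup G}
  {θ : G → Subgroup G}

theorem IsCoreMember.impossible {N : Subgroup G} (h : IsMinimalIncomplete p A θ)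
    (hN : IsCoreMember p A θ N) : False := by
  obtain ⟨u, hu, hu2, hne⟩ := hN.exists_odd
  haveI := Fact.mk hu
  have hA := h.elem
  set V := oq u N with hV
  obtain ⟨L, hL, hVL⟩ := hN.exists_line_centralizing h hu2
  have key : ∀ B, IsLine p A B → B ≠ L → Cfsg.signalizerInf B θ ≤ N := by
    intro B hB hBL
    obtain ⟨e, heL, heB, he1⟩ := hL.exists_mem_inf hA h.card_eq hB
    obtain ⟨K, hK, heK, hor⟩ := hN.exists_max_over_point h (hL.1 heL) he1
    obtain ⟨hVK, hO⟩ := hN.point_core_le h hu2 hne hL hVL heL he1 hK heK hor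
    obtain ⟨b, hbL, hbe⟩ : ∃ b ∈ L, b ∉ zpowers e := by
      by_contra hcon
      push Not at hcon
      have hc := card_le_of_le (show L ≤ zpowers e from hcon)
      rw [hL.2, card_zpowers_elementary hA (hL.1 heL) he1] at hc
      exact absurd hc (not_le.mpr (by
        calc p = p ^ 1 := (pow_one p).symm
          _ < p ^ 2 := Nat.pow_lt_pow_right hp.out.one_lt one_lt_two))
    have hbB : b ∉ B := fun hbB =>
      hBL (hL.eq_of_mem hA h.card_eq hB heL heB hbL hbB he1 hbe).symm
    set T := Cfsg.signalizerInf B θ with hT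
    have hTf : T ∈ Cfsg.signalizerFamily p A θ :=
      signalizerInf_mem_family hA h.functor hB.1 heB he1
    have hTe : T ≤ θ e := signalizerInf_le heB he1
    have hAT := family_le_normalizer hTf
    rw [← sup_centralizer_eq hA (family_not_dvd hTf) hAT (hL.1 hbL)]
    refine sup_le ?_ ?_
    · refine h.le_max_of_normalizes hN.max (oq_le u N)
        (hN.max.le_normalizer'.trans (normalizer_le_normalizer_oq u N)) (le_normalizer_oq u N) hne
        (family_of_le hTf (commutator_zpowers_le (hAT (hL.1 hbL)))
          (le_normalizer_commutator_elem hA hAT (hL.1 hbL)))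
        (le_trans ?_ (centralizer_le_normalizer _))
      rw [commutator_le]
      intro x hx z hz v hv
      have hxe : x ∈ centralizer ({e} : Set G) :=
        functor_le_centralizer h.functor (hL.1 heL) he1 (hTe hx)
      have hv1 : x⁻¹ * v * x ∈ oq u K ⊓ centralizer ({e} : Set G) := by
        refine ⟨(mem_normalizer_iff''.mp (le_normalizer_oq u K (heK (hTe hx))) v).mp (hVK hv), ?_⟩
        exact Subgroup.mul_mem _ (Subgroup.mul_mem _ (Subgroup.inv_mem _ hxe)
          (centralizer_le (Set.singleton_subset_iff.mpr heL) (hVL hv))) hxe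
      have h1 : z * (x⁻¹ * v * x) = (x⁻¹ * v * x) * z :=
        hO hv1 z (zpowers_le.mpr hbL hz)
      have h2 : z * v = v * z := hVL hv z (zpowers_le.mpr hbL hz)
      have h3 : z⁻¹ * v = v * z⁻¹ := by
        rw [eq_mul_inv_iff_mul_eq, mul_assoc, ← h2, inv_mul_cancel_left]
      show v * ⁅x, z⁆ = ⁅x, z⁆ * v
      simp only [commutatorElement_def]
      calc v * (x * z * x⁻¹ * z⁻¹) = x * ((x⁻¹ * v * x) * z) * x⁻¹ * z⁻¹ := by group
        _ = x * z * x⁻¹ * (v * z⁻¹) := by rw [← h1]; group
        _ = x * z * x⁻¹ * z⁻¹ * v := by rw [← h3]; group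
    · refine le_trans ?_ hN.fixed_le
      refine le_trans (le_inf inf_le_left ?_) (family_inf_centralizer_le hTf le_rfl)
      rw [← hB.centralizer_inf hA h.card_eq (hL.1 hbL) hbB]
      refine le_inf (inf_le_left.trans ?_) inf_le_right
      rw [hT, signalizerInf_eq hA h.functor hB.1 heB he1]
      exact inf_le_right
  have hline : ∀ B, IsLine p A B → Cfsg.signalizerInf B θ ≤ N := by
    intro B hB
    by_cases hBL : B = L
    · subst hBL
      obtain ⟨k, hk, hk1⟩ := hB.exists_ne_one
      exact (signalizerInf_le hk hk1).trans (h.le_of_lines_avoiding hN.max (hB.1 hk) hk1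
        fun B' hB' hkB' => key B' hB' fun he => hkB' (he ▸ hk))
    · exact key B hB hBL
  exact h.not_complete ⟨N, hN.max.1, fun a ha ha1 =>
    h.theta_le_of_lines ha ha1 fun B hB _ => hline B hB⟩

theorem IsMinimalIncomplete.impossible (h : IsMinimalIncomplete p A θ) : False := by
  obtain ⟨N, hN⟩ := h.exists_isCoreMember
  exact hN.impossible h

/-- A solvable functor on a group of order `p^3` has a completion. -/
theorem hasCompletion_of_card_eq (hA : Cfsg.IsElementaryAbelian p A) (hA3 : Nat.card A = p ^ 3)
    (hθ : Cfsg.IsSolvableSignalizerFunctor p A θ) : HasCompletion p A θ :=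
  hasCompletion_of_no_minimal p (fun _ _ _ _ _ h => h.impossible) G A θ hA hA3 hθ

end CfsgLib.Signalizer
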