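import Cfsg.Agent.Lib.Signalizer.Technique

/-!
Odd subgroups inverted by `zo` lie in the odd cores.
-/

set_option autoImplicit false
set_option linter.style.haveILetI false
set_option linter.unusedVariables false
set_option linter.unusedSectionVars false

open scoped Pointwise commutatorElement
open Subgroup

universe u

namespace CfsgLib.Signalizer

variable {G : Type u} [Group G] [Finite G] {p : ℕ} [hp : Fact p.Prime] {A : Subgroup G}
  {θ : G → Subgroup G}

namespace IsMinimalIncomplete

/-- An element of the fixed part in `O_{2',2}(H)` fixes `T` modulo `O_{2'}(H)`. -/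
theorem fixed_inf_opq_le_centralizerMod {T H : Subgroup G} (hTodd : (Nat.card T).Coprime 2)
    (hDT : Cfsg.signalizerInf A θ ≤ normalizer (T : Set G)) (hTH : T ≤ H) :
    Cfsg.signalizerInf A θ ⊓ opq 2 H ≤ centralizerMod (opr 2 H) T := by
  haveI : Fact (Nat.Prime 2) := ⟨Nat.prime_two⟩
  rintro d ⟨hdD, hdO⟩
  refine mem_centralizerMod.mpr ⟨le_normalizer_opr 2 H (opq_le 2 H hdO), fun t ht =>
    inf_opq_le_opr hTodd hTH ⟨?_, ?_⟩⟩
  · exact T.mul_mem (le_normalizer_iff.mp hDT d hdD t ht) (T.inv_mem ht)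
  · rw [show d * t * d⁻¹ * t⁻¹ = d * (t * d⁻¹ * t⁻¹) by group]
    exact (opq 2 H).mul_mem hdO (le_normalizer_iff.mp
      (le_normalizer.trans (normalizer_le_normalizer_opq 2 H)) t (hTH ht) _
      ((opq 2 H).inv_mem hdO))

theorem le_opr_two_of_inverted (h : IsMinimalIncomplete p A θ) {L : Subgroup G}
    (hL : IsLine p A L) {T : Subgroup G} (hT : T ∈ Cfsg.signalizerFamily p A θ)
    (hTodd : (Nat.card T).Coprime 2)
    (hDT : Cfsg.signalizerInf A θ ≤ normalizer (T : Set G))
    (hTL : T ≤ centralizer (L : Set G)) (hTZ : ⁅T, zo p A θ⁆ = T) {H : Subgroup G}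
    (hH : H ∈ Cfsg.signalizerFamily p A θ) (hDH : Cfsg.signalizerInf A θ ≤ H) (hTH : T ≤ H) :
    T ≤ opr 2 H := by
  haveI : Fact (Nat.Prime 2) := ⟨Nat.prime_two⟩
  have hA := h.elem
  set D := Cfsg.signalizerInf A θ with hD
  obtain ⟨a, haL, a', ha'L, hax, ha'x, hna⟩ := h.exists_two_xPoints hL
  have hDA : D ≤ centralizer (A : Set G) := h.fixed_le_centralizer_elem
  set P := unitZ p A θ a ⊔ unitZ p A θ a' with hP
  have hPle : P ≤ D ⊓ omegaQ p A θ 2 :=
    sup_le (h.unitZ_le_fixed a hax.1 hax.2.1) (h.unitZ_le_fixed a' ha'x.1 ha'x.2.1)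
  have hPT : P ≤ centralizer (T : Set G) := by
    refine sup_le (le_centralizer_iff.mp ?_) (le_centralizer_iff.mp ?_)
    · exact h.le_centralizer_unitZ hax.1 hax.2.1 hT hTodd hDT
        (hTL.trans (centralizer_le (Set.singleton_subset_iff.mpr haL)))
    · exact h.le_centralizer_unitZ ha'x.1 ha'x.2.1 hT hTodd hDT
        (hTL.trans (centralizer_le (Set.singleton_subset_iff.mpr ha'L)))
  have hTP : T ≤ centralizer (P : Set G) := le_centralizer_iff.mp hPT
  refine le_opr_of_pxq hH.1 hTH hTodd ((hPle.trans inf_le_left).trans hDH)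
    ((h.omegaQ_isPGroup 2).to_le (hPle.trans inf_le_right)) hPT ?_
  set O := opr 2 H with hO
  set W := opq 2 H ⊓ centralizer (P : Set G) with hW
  have hAH := family_le_normalizer hH
  have hAP : A ≤ centralizer (P : Set G) :=
    le_centralizer_iff.mp ((hPle.trans inf_le_left).trans hDA)
  have hAW : A ≤ normalizer (W : Set G) :=
    le_normalizer_inf (hAH.trans (normalizer_le_normalizer_opq 2 H)) (hAP.trans le_normalizer)
  have hWf : W ∈ Cfsg.signalizerFamily p A θ :=
    family_of_le hH (inf_le_left.trans (opq_le 2 H)) hAW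
  have hWO : W ≤ normalizer (O : Set G) :=
    (inf_le_left.trans (opq_le 2 H)).trans (le_normalizer_opr 2 H)
  have hTW : T ≤ normalizer (W : Set G) :=
    le_normalizer_inf (hTH.trans (le_normalizer.trans (normalizer_le_normalizer_opq 2 H)))
      (hTP.trans le_normalizer)
  have hzD : zo p A θ ≤ D := h.zo_le_fixed
  have hzH : zo p A θ ≤ H := hzD.trans hDH
  have hzP : zo p A θ ≤ centralizer (P : Set G) :=
    inf_le_right.trans (centralizer_le (hPle.trans inf_le_right))
  have hzW : zo p A θ ≤ normalizer (W : Set G) :=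
    le_normalizer_inf (hzH.trans (le_normalizer.trans (normalizer_le_normalizer_opq 2 H)))
      (hzP.trans le_normalizer)
  have hzT : zo p A θ ≤ normalizer (T : Set G) := hzD.trans hDT
  have hW2 : ∀ x ∈ W, ∃ n : ℕ, x ^ 2 ^ n ∈ O := fun x hx => exists_pow_mem_opr hx.1
  have hfixW : ∀ {S : Subgroup G}, S ≤ W → S ≤ centralizer (A : Set G) →
      S ≤ centralizerMod O T := fun {S} hS hSA =>
    (le_inf ((le_inf hS hSA).trans (family_inf_centralizer_le hWf le_rfl))
      (hS.trans inf_le_left)).trans (fixed_inf_opq_le_centralizerMod hTodd hDT hTH)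
  refine le_centralizerMod_of_mixed hT.1 hTodd hWO (hTH.trans (le_normalizer_opr 2 H))
    (hzH.trans (le_normalizer_opr 2 H)) hTW hzW hzT hTZ hW2 ?_
  refine le_of_lines hA h.card_eq (family_not_dvd hWf) hAW fun L'' hL'' => ?_
  set X0 := W ⊓ centralizer (L'' : Set G) with hX0
  have hAX0 : A ≤ normalizer (X0 : Set G) := le_normalizer_inf_centralizer hA hAW hL''.1
  have hX0f : X0 ∈ Cfsg.signalizerFamily p A θ := family_of_le hWf inf_le_left hAX0
  by_cases hLL : L'' = L
  · subst hLL
    obtain ⟨c, hc, hcL⟩ : ∃ c ∈ A, c ∉ L'' := by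
      by_contra hcon
      push Not at hcon
      have := card_le_of_le (show A ≤ L'' from hcon)
      rw [h.card_eq, hL''.2] at this
      exact absurd ((Nat.pow_le_pow_iff_right hp.out.one_lt).mp this) (by norm_num)
    have hcA : centralizer (L'' : Set G) ⊓ centralizer {c} = centralizer (A : Set G) :=
      hL''.centralizer_inf hA h.card_eq hc hcL
    have hAT := family_le_normalizer hT
    have hTc : ⁅T, zpowers c⁆ = T := by
      refine le_antisymm ?_ ?_
      · exact commutator_zpowers_le (hAT hc)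
      set S := ⁅T, zpowers c⁆ with hS
      have hzc : zo p A θ ≤ normalizer (zpowers c : Set G) := by
        refine fun z hz => centralizer_le_normalizer _ ?_
        rw [centralizer_zpowers]
        exact mem_centralizer_singleton_iff.mpr (hDA (hzD hz) c hc).symm
      have hzS : zo p A θ ≤ normalizer (S : Set G) := fun z hz =>
        normalizer_inf_le_normalizer_commutator _ _ ⟨hzT hz, hzc hz⟩
      have hSup : S ⊔ (T ⊓ centralizer {c}) = T := sup_centralizer_eq hA (family_not_dvd hT) hAT hc
      have hTS : T ≤ normalizer (S : Set G) := CfsgLib.Solvable.le_normalizer_commutator_left T (zpowers c)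
      have hfix : T ⊓ centralizer {c} ≤ centralizer (zo p A θ : Set G) := by
        refine le_trans ?_ (h.odd_fixed_le_centralizer_zo hTodd hzT)
        refine le_inf inf_le_left ?_
        refine le_trans (le_inf inf_le_left ?_) (family_inf_centralizer_le hT le_rfl)
        rw [← hcA]
        exact le_inf (inf_le_left.trans hTL) inf_le_right
      refine hTZ.ge.trans (commutator_le.mpr fun t ht z hz => ?_)
      obtain ⟨u, hu, v, hv, rfl⟩ := (CfsgLib.Solvable.mem_sup_of_le_normalizer
        (inf_le_left.trans hTS)).mp (hSup.ge ht)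
      have hvz : v * z * v⁻¹ = z := by rw [← hfix hv z hz]; group
      rw [show ⁅u * v, z⁆ = u * (v * z * v⁻¹) * u⁻¹ * z⁻¹ by
        simp [commutatorElement_def, mul_assoc], hvz]
      rw [show u * z * u⁻¹ * z⁻¹ = u * (z * u⁻¹ * z⁻¹) by group]
      exact S.mul_mem hu (le_normalizer_iff.mp hzS z hz _ (S.inv_mem hu))
    refine le_trans ?_ le_sup_left
    refine le_inf inf_le_left ?_
    refine le_centralizerMod_of_inert hp.out (hA.2 c hc) hX0f.1 hT.1 hTodd
      (inf_le_left.trans hWO) (hTH.trans (le_normalizer_opr 2 H))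
      ((hAH.trans (normalizer_le_normalizer_opr 2 H)) hc) ?_ (hAX0 hc) (hAT hc) hTc
      (fun x hx => hW2 x hx.1) (hp.out.coprime_iff_not_dvd.mpr (family_not_dvd hX0f))
      (hp.out.coprime_iff_not_dvd.mpr (family_not_dvd hT)) ?_
    · exact le_normalizer_inf hTW (hTL.trans le_normalizer)
    · refine hfixW (inf_le_left.trans inf_le_left) ?_
      rw [← hcA]
      exact le_inf (inf_le_left.trans inf_le_right) inf_le_right
  obtain ⟨g, hgx, hgP, hgL⟩ : ∃ g, IsXPoint p A θ g ∧ unitZ p A θ g ≤ P ∧ g ∉ L'' := by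
    by_contra hcon
    push Not at hcon
    exact hLL (IsLine.eq_of_mem hA h.card_eq hL'' hL (hcon a hax le_sup_left) haL
      (hcon a' ha'x le_sup_right) ha'L hax.2.1 hna)
  have hg := hgx.1
  rw [← sup_centralizer_eq hA (family_not_dvd hX0f) hAX0 hg]
  refine sup_le (le_trans ?_ le_sup_right) (le_trans ?_ le_sup_left)
  · have hle : ⁅X0, zpowers g⁆ ≤ X0 := commutator_zpowers_le (hAX0 hg)
    refine le_inf (hle.trans inf_le_left) ?_
    exact h.le_centralizer_zo_of_tech hL'' hgx hgL
      (family_of_le hX0f hle (le_normalizer_commutator_elem hA hAX0 hg))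
      (hle.trans inf_le_right) (commutator_idem hA (family_not_dvd hX0f) hAX0 hg)
      ((hle.trans (inf_le_left.trans inf_le_right)).trans (centralizer_le hgP))
  · refine le_inf (inf_le_left.trans inf_le_left) (hfixW (inf_le_left.trans inf_le_left) ?_)
    rw [← hL''.centralizer_inf hA h.card_eq hg hgL]
    exact le_inf (inf_le_left.trans inf_le_right) inf_le_right

theorem exists_inverted (h : IsMinimalIncomplete p A θ) :
    ∃ L T : Subgroup G, IsLine p A L ∧ T ∈ Cfsg.signalizerFamily p A θ ∧
      (Nat.card T).Coprime 2 ∧ Cfsg.signalizerInf A θ ≤ normalizer (T : Set G) ∧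
      T ≤ centralizer (L : Set G) ∧ ⁅T, zo p A θ⁆ = T ∧ T ≠ ⊥ := by
  haveI : Fact (Nat.Prime 2) := ⟨Nat.prime_two⟩
  by_contra hcon
  push Not at hcon
  have hA := h.elem
  have h2p : 2 ≠ p := Ne.symm h.ne_two
  set D := Cfsg.signalizerInf A θ with hD
  have hDA : D ≤ centralizer (A : Set G) := h.fixed_le_centralizer_elem
  have hzD : zo p A θ ≤ D := h.zo_le_fixed
  have hz2 := h.zo_isPGroup
  have key : ∀ l ∈ A, l ≠ 1 → zo p A θ ≤ oq 2 (θ l) := by
    intro l hl hl1
    have hfl := functor_mem_family h.functor hl hl1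
    have hDl : D ≤ θ l := signalizerInf_le hl hl1
    refine le_oq_of_centralizes_oq hfl.1 (hzD.trans hDl) hz2 fun r hr => ?_
    haveI := Fact.mk hr
    by_cases hr2 : r = 2
    · subst hr2
      exact inf_le_right.trans (centralizer_le (h.le_omegaQ h2p (family_oq hfl 2)
        (oq_isPGroup 2 (θ l)) (hDl.trans (le_normalizer_oq 2 (θ l)))))
    have hrf := family_oq hfl r
    refine le_centralizer_iff.mp (le_of_lines hA h.card_eq (family_not_dvd hrf)
      (family_le_normalizer hrf) fun L hL => ?_)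
    set R := oq r (θ l) ⊓ centralizer (L : Set G) with hR
    have hAR : A ≤ normalizer (R : Set G) :=
      le_normalizer_inf_centralizer hA (family_le_normalizer hrf) hL.1
    have hDL : D ≤ centralizer (L : Set G) := hDA.trans (centralizer_le hL.1)
    have hDR : D ≤ normalizer (R : Set G) :=
      le_normalizer_inf (hDl.trans (le_normalizer_oq r (θ l))) (hDL.trans le_normalizer)
    have hzR : zo p A θ ≤ normalizer (R : Set G) := hzD.trans hDR
    set T := ⁅R, zo p A θ⁆ with hTdef
    have hTR : T ≤ R := CfsgLib.Solvable.commutator_le_of_normalizes hzR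
    have hTf : T ∈ Cfsg.signalizerFamily p A θ := by
      refine family_of_le (family_of_le hrf inf_le_left hAR) hTR fun a ha => ?_
      refine normalizer_inf_le_normalizer_commutator _ _ ⟨hAR ha, centralizer_le_normalizer _ ?_⟩
      exact fun z hz => (hDA (hzD hz) a ha).symm
    have hRq : IsPGroup r R := (oq_isPGroup r (θ l)).to_le inf_le_left
    have hTodd : (Nat.card T).Coprime 2 := coprime_of_isPGroup (Ne.symm hr2) (hRq.to_le hTR)
    have hcop : (Nat.card (zo p A θ)).Coprime (Nat.card R) := by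
      obtain ⟨n, hn⟩ := hz2.exists_card_eq
      rw [hn]
      exact (coprime_of_isPGroup (Ne.symm hr2) hRq).symm.pow_left n
    have hDTn : D ≤ normalizer (T : Set G) := fun d hd =>
      normalizer_inf_le_normalizer_commutator _ _ ⟨hDR hd, h.fixed_le_normalizer_zo hd⟩
    have hTT : ⁅T, zo p A θ⁆ = T := CfsgLib.Solvable.commutator_commutator_eq hzR hcop
      (Or.inl h.zo_mem_family.1)
    have hbot : T = ⊥ := by
      by_contra hne
      exact hne (hcon L T hL hTf hTodd hDTn (hTR.trans inf_le_right) hTT)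
    exact commutator_eq_bot_iff_le_centralizer.mp hbot
  have hall : ∀ K, Cfsg.signalizerInf A θ ≤ K → K ∈ Cfsg.signalizerFamily p A θ →
      zo p A θ ≤ oq 2 K := by
    intro K hDK hK
    obtain ⟨l, hl, hl1⟩ := exists_ne_one_of_card_le (n := 3) (by norm_num) h.card_eq.ge
    obtain ⟨B, hB, -, -⟩ := exists_line_ge hA h.card_eq hl hl
    refine h.le_oq_of_line hK hB (hzD.trans hDK) hz2 fun b hb hb1 => ?_
    exact ⟨oq 2 (θ b), oq_isPGroup 2 _, key b (hB.1 hb) hb1, le_normalizer_oq 2 _⟩
  have hpts : ∀ a ∈ A, a ≠ 1 → IsQPoint p A θ 2 a := by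
    intro a ha ha1
    obtain ⟨K, hK, haK⟩ := exists_isMaxMember_ge (functor_mem_family h.functor ha ha1)
    have hDK := (signalizerInf_le ha ha1).trans haK
    exact ⟨K, ⟨hK, hDK, fun h0 => h.zo_ne_bot (le_bot_iff.mp ((hall K hDK hK.1).trans h0.le))⟩, haK⟩
  refine h.zo_ne_bot (le_bot_iff.mp ?_)
  rw [← h.rbar_eq_bot h2p hpts]
  exact le_rbar fun K hK => hall K hK.2.1 hK.1.1

end IsMinimalIncomplete

end CfsgLib.Signalizer
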