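import Cfsg.Agent.Lib.Signalizer.Commutators
import Cfsg.Agent.Lib.Signalizer.SubCore

/-!
A minimal incomplete solvable signalizer functor.
-/

set_option autoImplicit false
set_option linter.style.haveILetI false
set_option linter.unusedVariables false
set_option linter.unusedSectionVars false

open scoped Pointwise commutatorElement
open Subgroup

universe u

namespace CfsgLib.Signalizer

variable {G : Type u} [Group G] [Finite G] {p : ℕ} [hp : Fact p.Prime] {A : Subgroup G}
  {θ : G → Subgroup G}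

/-- Some member of the family contains every value of the functor. -/
def HasCompletion (p : ℕ) (A : Subgroup G) (θ : G → Subgroup G) : Prop :=
  ∃ W ∈ Cfsg.signalizerFamily p A θ, ∀ a ∈ A, a ≠ 1 → θ a ≤ W

/-- The sum of the orders of the values of the functor. -/
noncomputable def functorTotal (A : Subgroup G) (θ : G → Subgroup G) : ℕ :=
  ∑ a ∈ (Set.toFinite {a : G | a ∈ A ∧ a ≠ 1}).toFinset, Nat.card (θ a)

/-- `M` is a maximal member. -/
def IsMaxMember (p : ℕ) (A : Subgroup G) (θ : G → Subgroup G) (M : Subgroup G) : Prop :=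
  M ∈ Cfsg.signalizerFamily p A θ ∧ ∀ N ∈ Cfsg.signalizerFamily p A θ, M ≤ N → N = M

/-- A functor without completion, all smaller functors having one. -/
structure IsMinimalIncomplete (p : ℕ) (A : Subgroup G) (θ : G → Subgroup G) : Prop where
  elem : Cfsg.IsElementaryAbelian p A
  card_eq : Nat.card A = p ^ 3
  functor : Cfsg.IsSolvableSignalizerFunctor p A θ
  not_complete : ¬ HasCompletion p A θ
  smaller : ∀ (H : Type u) [Group H] [Finite H] (B : Subgroup H) (φ : H → Subgroup H),
    Cfsg.IsElementaryAbelian p B → Nat.card B = p ^ 3 →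
    Cfsg.IsSolvableSignalizerFunctor p B φ → functorTotal B φ < functorTotal A θ →
    HasCompletion p B φ

/-- It suffices to contradict the existence of a minimal incomplete functor. -/
theorem hasCompletion_of_no_minimal (p : ℕ) [Fact p.Prime]
    (h : ∀ (G : Type u) [Group G] [Finite G] (A : Subgroup G) (θ : G → Subgroup G),
      IsMinimalIncomplete p A θ → False) :
    ∀ (G : Type u) [Group G] [Finite G] (A : Subgroup G) (θ : G → Subgroup G),
      Cfsg.IsElementaryAbelian p A → Nat.card A = p ^ 3 →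
      Cfsg.IsSolvableSignalizerFunctor p A θ → HasCompletion p A θ := by
  suffices H : ∀ n, ∀ (G : Type u) [Group G] [Finite G] (A : Subgroup G) (θ : G → Subgroup G),
      Cfsg.IsElementaryAbelian p A → Nat.card A = p ^ 3 →
      Cfsg.IsSolvableSignalizerFunctor p A θ → functorTotal A θ = n → HasCompletion p A θ by
    intro G _ _ A θ hA hc hθ
    exact H _ G A θ hA hc hθ rfl
  intro n
  induction n using Nat.strong_induction_on with
  | _ n ih =>
    intro G _ _ A θ hA hc hθ hn
    by_contra hcon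
    exact h G A θ ⟨hA, hc, hθ, hcon, fun H _ _ B φ hB hBc hφ hlt =>
      ih _ (hn ▸ hlt) H B φ hB hBc hφ rfl⟩

theorem exists_isMaxMember_ge {U : Subgroup G} (hU : U ∈ Cfsg.signalizerFamily p A θ) :
    ∃ M, IsMaxMember p A θ M ∧ U ≤ M := by
  obtain ⟨M, hUM, hM⟩ :=
    (Set.toFinite (Cfsg.signalizerFamily p A θ)).exists_le_maximal (a := U) hU
  exact ⟨M, ⟨hM.prop, fun N hN hle => le_antisymm (hM.2 hN hle) hle⟩, hUM⟩

theorem IsMaxMember.solvable {M : Subgroup G} (hM : IsMaxMember p A θ M) : Group.IsSolvable M :=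
  family_isSolvable hM.1

theorem IsMaxMember.le_normalizer' {M : Subgroup G} (hM : IsMaxMember p A θ M) :
    A ≤ normalizer (M : Set G) :=
  family_le_normalizer hM.1

theorem IsMaxMember.not_dvd {M : Subgroup G} (hM : IsMaxMember p A θ M) :
    ¬ p ∣ Nat.card M :=
  family_not_dvd hM.1

theorem family_oq {M : Subgroup G} (hM : M ∈ Cfsg.signalizerFamily p A θ) (q : ℕ) :
    oq q M ∈ Cfsg.signalizerFamily p A θ :=
  family_of_le hM (oq_le q M) ((family_le_normalizer hM).trans (normalizer_le_normalizer_oq q M))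

theorem family_zq {M : Subgroup G} (hM : M ∈ Cfsg.signalizerFamily p A θ) (q : ℕ) :
    zq q M ∈ Cfsg.signalizerFamily p A θ :=
  family_of_le hM (zq_le q M) ((family_le_normalizer hM).trans (normalizer_le_normalizer_zq q M))

theorem family_opr {M : Subgroup G} (hM : M ∈ Cfsg.signalizerFamily p A θ) (q : ℕ) :
    opr q M ∈ Cfsg.signalizerFamily p A θ :=
  family_of_le hM (opr_le q M) ((family_le_normalizer hM).trans (normalizer_le_normalizer_opr q M))

theorem family_inf_left {M X : Subgroup G} (hM : M ∈ Cfsg.signalizerFamily p A θ)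
    (hX : A ≤ normalizer (X : Set G)) : M ⊓ X ∈ Cfsg.signalizerFamily p A θ :=
  family_of_le hM inf_le_left (le_normalizer_inf (family_le_normalizer hM) hX)

namespace IsMinimalIncomplete

theorem card_ge (h : IsMinimalIncomplete p A θ) : p ^ 3 ≤ Nat.card A := h.card_eq.ge

theorem card_ge_sq (h : IsMinimalIncomplete p A θ) : p ^ 2 ≤ Nat.card A :=
  (Nat.pow_le_pow_right hp.out.pos (by norm_num)).trans h.card_ge

theorem member_le_of_centralizers (h : IsMinimalIncomplete p A θ) {K W : Subgroup G}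
    (hK : K ∈ Cfsg.signalizerFamily p A θ)
    (hle : ∀ a ∈ A, a ≠ 1 → θ a ⊓ K ≤ W) : K ≤ W :=
  le_of_centralizers h.elem h.card_ge_sq (family_not_dvd hK) (family_le_normalizer hK)
    fun a ha ha1 => (le_inf (family_inf_le hK ha ha1) inf_le_left).trans (hle a ha ha1)

/-- Every nontrivial member `U` lies in a member containing each `θ a ∩ N(U)`. -/
theorem exists_normalizer_member (h : IsMinimalIncomplete p A θ) {U : Subgroup G}
    (hU : U ∈ Cfsg.signalizerFamily p A θ) (hne : U ≠ ⊥) :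
    ∃ W ∈ Cfsg.signalizerFamily p A θ, U ≤ W ∧
      ∀ a ∈ A, a ≠ 1 → θ a ⊓ normalizer (U : Set G) ≤ W := by
  set θ' : G → Subgroup G := fun a => θ a ⊓ normalizer (U : Set G) with hθ'
  have hAU := family_le_normalizer hU
  have hθ'le : ∀ a, θ' a ≤ θ a := fun a => inf_le_left
  have hfun : Cfsg.IsSolvableSignalizerFunctor p A θ' := by
    refine ⟨⟨fun a ha ha1 => (hθ'le a).trans (functor_le_centralizer h.functor ha ha1),
      fun a ha ha1 => not_dvd_of_le (hθ'le a) (h.functor.1.2.1 a ha ha1), fun a ha ha1 b hb x hx => ?_,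
      fun a ha ha1 b hb hb1 x hx => ?_⟩, fun a ha ha1 => ?_⟩
    · exact ⟨h.functor.1.2.2.1 a ha ha1 b hb x hx.1,
        Subgroup.mul_mem _ (Subgroup.mul_mem _ (hAU hb) hx.2) (Subgroup.inv_mem _ (hAU hb))⟩
    · exact ⟨h.functor.1.2.2.2 a ha ha1 b hb hb1 ⟨hx.1.1, hx.2⟩, hx.1.2⟩
    · haveI := h.functor.2 a ha ha1
      exact Group.isSolvable_of_isSolvable_injective (inclusion_injective (hθ'le a))
  have hUle : ∀ W, (∀ a ∈ A, a ≠ 1 → θ' a ≤ W) → U ≤ W := fun W hW =>
    h.member_le_of_centralizers hU fun a ha ha1 =>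
      (le_inf inf_le_left (inf_le_right.trans le_normalizer)).trans (hW a ha ha1)
  by_cases hall : ∀ a ∈ A, a ≠ 1 → θ a ≤ normalizer (U : Set G)
  swap
  · push Not at hall
    obtain ⟨a, ha, ha1, hna⟩ := hall
    have hlt : functorTotal A θ' < functorTotal A θ := by
      refine Finset.sum_lt_sum (fun b _ => Subgroup.card_le_of_le (hθ'le b))
        ⟨a, (Set.Finite.mem_toFinset _).mpr ⟨ha, ha1⟩, ?_⟩
      refine lt_of_le_of_ne (Subgroup.card_le_of_le (hθ'le a)) fun he => hna ?_
      exact (eq_of_le_of_card_ge (hθ'le a) he.ge).ge.trans inf_le_right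
    obtain ⟨W, hW, hWa⟩ := h.smaller G A θ' h.elem h.card_eq hfun hlt
    exact ⟨W, ⟨hW.1, hW.2.1, hW.2.2.1, fun b hb hb1 => (hW.2.2.2 b hb hb1).trans (hθ'le b)⟩,
      hUle W hWa, hWa⟩
  -- every value normalises `U`: pass to `N(U)/U`
  set N := normalizer (U : Set G) with hN
  haveI : (U.subgroupOf N).Normal := normal_subgroupOf_of_le_normalizer le_rfl
  set f : N →* N ⧸ U.subgroupOf N := QuotientGroup.mk' _ with hf
  set B : Subgroup (N ⧸ U.subgroupOf N) := (A.subgroupOf N).map f with hB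
  have hAU' : Disjoint A U := disjoint_iff.mpr (inf_eq_bot_of_coprime
    (elementary_coprime h.elem (family_not_dvd hU)))
  have hinj : ∀ a b : N, (a : G) ∈ A → (b : G) ∈ A → f a = f b → a = b := by
    intro a b ha hb hab
    have h1 : (a⁻¹ * b : N) ∈ U.subgroupOf N := QuotientGroup.eq.mp hab
    have h2 : ((a : G)⁻¹ * b) ∈ A ⊓ U := ⟨A.mul_mem (A.inv_mem ha) hb, mem_subgroupOf.mp h1⟩
    rw [disjoint_iff.mp hAU', mem_bot, inv_mul_eq_one] at h2
    exact Subtype.ext h2
  let e : ↥(A.subgroupOf N) ≃ B := Equiv.ofBijective (fun a => ⟨f a, mem_map_of_mem f a.2⟩)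
    ⟨fun a b hab => Subtype.ext (hinj a b a.2 b.2 (congrArg Subtype.val hab)), by
      rintro ⟨_, a, ha, rfl⟩
      exact ⟨⟨a, ha⟩, rfl⟩⟩
  have hBc : Nat.card B = p ^ 3 := by
    rw [← Nat.card_congr e, Nat.card_congr (subgroupOfEquivOfLe hAU).toEquiv, h.card_eq]
  have hBe : Cfsg.IsElementaryAbelian p B := by
    refine ⟨⟨⟨?_⟩⟩, ?_⟩
    · rintro ⟨_, a, ha, rfl⟩ ⟨_, b, hb, rfl⟩
      refine Subtype.ext ?_
      show f a * f b = f b * f a
      rw [← map_mul, ← map_mul]
      exact congrArg f (Subtype.ext (elementary_commute h.elem ha hb))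
    · rintro _ ⟨a, ha, rfl⟩
      rw [← map_pow, show a ^ p = 1 from Subtype.ext (by simpa using h.elem.2 _ ha), map_one]
  set φ : N ⧸ U.subgroupOf N → Subgroup (N ⧸ U.subgroupOf N) :=
    fun y => ⨆ a : {a : N // (a : G) ∈ A ∧ f a = y}, ((θ (a.1 : G)).subgroupOf N).map f with hφ
  have hφeq : ∀ a : N, (a : G) ∈ A → φ (f a) = ((θ (a : G)).subgroupOf N).map f := by
    intro a ha
    refine le_antisymm (iSup_le fun b => ?_) (le_iSup (fun b : {b : N // (b : G) ∈ A ∧ f b = f a} =>
      ((θ (b.1 : G)).subgroupOf N).map f) ⟨a, ha, rfl⟩)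
    rw [hinj b.1 a b.2.1 ha b.2.2]
  have hne1 : ∀ a : N, f a ≠ 1 → (a : G) ≠ 1 := fun a ha h1 =>
    ha (by rw [show a = 1 from Subtype.ext h1, map_one])
  have hφfun : Cfsg.IsSolvableSignalizerFunctor p B φ := by
    refine ⟨⟨?_, ?_, ?_, ?_⟩, ?_⟩
    · rintro _ ⟨a, ha, rfl⟩ ha1
      rw [hφeq a ha]
      rintro _ ⟨x, hx, rfl⟩
      refine mem_centralizer_singleton_iff.mpr ?_
      rw [← map_mul, ← map_mul]
      exact congrArg f (Subtype.ext (mem_centralizer_singleton_iff.mp
        (functor_le_centralizer h.functor ha (hne1 a ha1) hx)))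
    · rintro _ ⟨a, ha, rfl⟩ ha1 hd
      rw [hφeq a ha] at hd
      refine h.functor.1.2.1 _ ha (hne1 a ha1) (hd.trans ((card_map_dvd _ f).trans ?_))
      exact (Nat.card_congr (subgroupOfEquivOfLe (hall _ ha (hne1 a ha1))).toEquiv).dvd
    · rintro _ ⟨a, ha, rfl⟩ ha1 _ ⟨b, hb, rfl⟩ x hx
      rw [hφeq a ha] at hx ⊢
      obtain ⟨x, hx', rfl⟩ := hx
      rw [← map_inv, ← map_mul, ← map_mul]
      exact mem_map_of_mem f (h.functor.1.2.2.1 _ ha (hne1 a ha1) _ hb _ hx')
    · rintro _ ⟨a, ha, rfl⟩ ha1 _ ⟨b, hb, rfl⟩ hb1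
      rw [hφeq a ha, hφeq b hb]
      rintro _ ⟨⟨x, hx, rfl⟩, hc⟩
      have ha' := hne1 a ha1
      have hb' := hne1 b hb1
      have hbn : zpowers (b : G) ≤ normalizer (θ (a : G) : Set G) :=
        (zpowers_le.mpr (show (b : G) ∈ A from hb)).trans (functor_le_normalizer h.functor ha ha')
      have hbU : zpowers (b : G) ≤ normalizer ((θ (a : G) ⊓ U : Subgroup G) : Set G) :=
        le_normalizer_inf hbn ((zpowers_le.mpr (show (b : G) ∈ A from hb)).trans hAU)
      have hfix : ∀ c ∈ zpowers (b : G), (x : G)⁻¹ * (c * x * c⁻¹) ∈ θ (a : G) ⊓ U := by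
        intro c hcz
        refine ⟨Subgroup.mul_mem _ (Subgroup.inv_mem _ hx) (le_normalizer_iff.mp hbn c hcz _ hx), ?_⟩
        obtain ⟨i, rfl⟩ := hcz
        have h1 : Commute (f b) (f x) := (mem_centralizer_singleton_iff.mp hc).symm
        have h2 : f (x⁻¹ * (b ^ i * x * (b ^ i)⁻¹)) = 1 := by
          rw [map_mul, map_mul, map_mul, map_inv, map_inv, map_zpow, (h1.zpow_left i).eq]
          group
        have h3 := mem_subgroupOf.mp ((QuotientGroup.eq_one_iff _).mp h2)
        simpa using h3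
      obtain ⟨d, hd, hxd⟩ := CfsgLib.Solvable.exists_fixed_mem_coset hbn inf_le_left hbU
        (zpowers_coprime h.elem (h.functor.1.2.1 _ ha ha') (show (b : G) ∈ A from hb))
        (zpowers_solvable_or h.elem (show (b : G) ∈ A from hb)) hx hfix
      have hxd' : (x : G) * d ∈ θ (b : G) := h.functor.1.2.2.2 _ ha ha' _ hb hb'
        ⟨hxd.1, centralizer_le (Set.singleton_subset_iff.mpr (mem_zpowers (b : G))) hxd.2⟩
      refine ⟨⟨(x : G) * d, N.mul_mem x.2 (le_normalizer hd.2)⟩, hxd', ?_⟩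
      exact (QuotientGroup.eq.mpr (show x⁻¹ * (⟨(x : G) * d, _⟩ : N) ∈ U.subgroupOf N from
        mem_subgroupOf.mpr (by simpa using hd.2))).symm
    · rintro _ ⟨a, ha, rfl⟩ ha1
      rw [hφeq a ha]
      haveI := h.functor.2 _ ha (hne1 a ha1)
      haveI : Group.IsSolvable ↥((θ (a : G)).subgroupOf N) :=
        Group.isSolvable_of_isSolvable_injective
          (f := (subgroupOfEquivOfLe (hall _ ha (hne1 a ha1))).toMonoidHom)
          (subgroupOfEquivOfLe (hall _ ha (hne1 a ha1))).injective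
      exact Group.isSolvable_of_surjective (f.subgroupMap_surjective _)
  -- the total drops
  obtain ⟨a₀, ha₀, ha₀1, hU0⟩ : ∃ a ∈ A, a ≠ 1 ∧ U ⊓ centralizer {a} ≠ ⊥ := by
    by_contra hcon
    push Not at hcon
    exact hne (le_bot_iff.mp (le_of_centralizers h.elem h.card_ge_sq (family_not_dvd hU) hAU
      fun a ha ha1 => (hcon a ha ha1).le))
  have hlt : functorTotal B φ < functorTotal A θ := by
    classical
    set s := (Set.toFinite {a : G | a ∈ A ∧ a ≠ 1}).toFinset with hs
    set t := (Set.toFinite {y | y ∈ B ∧ y ≠ 1}).toFinset with ht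
    let g : G → N ⧸ U.subgroupOf N := fun a => if ha : a ∈ N then f ⟨a, ha⟩ else 1
    have hg : ∀ a : N, g a = f a := fun a => dif_pos a.2
    have hts : functorTotal B φ = ∑ a ∈ s, Nat.card (φ (g a)) := by
      refine Finset.sum_nbij' (fun y => if hy : y ∈ B then ((e.symm ⟨y, hy⟩ : N) : G) else 1) g
        ?_ ?_ ?_ ?_ ?_
      · intro y hy
        rw [Set.Finite.mem_toFinset] at hy ⊢
        obtain ⟨hyB, hy1⟩ := hy
        rw [dif_pos hyB]
        refine ⟨(e.symm ⟨y, hyB⟩).2, fun h1 => hy1 ?_⟩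
        have h2 : (e (e.symm ⟨y, hyB⟩) : N ⧸ U.subgroupOf N) = y := by rw [e.apply_symm_apply]
        rw [← h2]
        show f (e.symm ⟨y, hyB⟩ : N) = 1
        rw [show (e.symm ⟨y, hyB⟩ : N) = 1 from Subtype.ext h1, map_one]
      · intro a ha
        rw [Set.Finite.mem_toFinset] at ha ⊢
        rw [show g a = f ⟨a, hAU ha.1⟩ from dif_pos (hAU ha.1)]
        refine ⟨mem_map_of_mem f (mem_subgroupOf.mpr ha.1), fun h1 => ha.2 ?_⟩
        exact congrArg Subtype.val (hinj ⟨a, hAU ha.1⟩ 1 ha.1 A.one_mem (by rw [h1, map_one]))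
      · intro y hy
        rw [Set.Finite.mem_toFinset] at hy
        obtain ⟨hyB, hy1⟩ := hy
        rw [dif_pos hyB, hg]
        exact congrArg Subtype.val (e.apply_symm_apply ⟨y, hyB⟩)
      · intro a ha
        rw [Set.Finite.mem_toFinset] at ha
        rw [show g a = f ⟨a, hAU ha.1⟩ from dif_pos (hAU ha.1)]
        rw [dif_pos (mem_map_of_mem f (mem_subgroupOf.mpr ha.1))]
        have h2 : e.symm ⟨f ⟨a, hAU ha.1⟩, mem_map_of_mem f (mem_subgroupOf.mpr ha.1)⟩ =
            ⟨⟨a, hAU ha.1⟩, mem_subgroupOf.mpr ha.1⟩ := e.symm_apply_eq.mpr rfl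
        rw [h2]
      · intro y hy
        rw [Set.Finite.mem_toFinset] at hy
        obtain ⟨hyB, hy1⟩ := hy
        rw [dif_pos hyB, hg]
        exact congrArg (fun z => Nat.card (φ z)) (congrArg Subtype.val (e.apply_symm_apply ⟨y, hyB⟩)).symm
    rw [hts]
    refine Finset.sum_lt_sum (fun a ha => ?_) ⟨a₀, (Set.Finite.mem_toFinset _).mpr ⟨ha₀, ha₀1⟩, ?_⟩
    · rw [Set.Finite.mem_toFinset] at ha
      rw [show g a = f ⟨a, hAU ha.1⟩ from dif_pos (hAU ha.1), hφeq ⟨a, hAU ha.1⟩ ha.1]
      exact (Nat.le_of_dvd Nat.card_pos (card_map_dvd _ f)).trans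
        (Nat.card_congr (subgroupOfEquivOfLe (hall _ ha.1 ha.2)).toEquiv).le
    · rw [show g a₀ = f ⟨a₀, hAU ha₀⟩ from dif_pos (hAU ha₀), hφeq ⟨a₀, hAU ha₀⟩ ha₀]
      refine lt_of_lt_of_le ?_ (Nat.card_congr (subgroupOfEquivOfLe (hall _ ha₀ ha₀1)).toEquiv).le
      refine lt_of_le_of_ne (Nat.le_of_dvd Nat.card_pos (card_map_dvd _ f)) fun he => hU0 ?_
      rw [eq_bot_iff_forall]
      intro x hx
      have hxN : x ∈ N := le_normalizer hx.1
      have hxθ : (⟨x, hxN⟩ : N) ∈ (θ a₀).subgroupOf N :=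
        mem_subgroupOf.mpr (family_inf_le hU ha₀ ha₀1 hx)
      have hb : Function.Bijective (f.subgroupMap ((θ a₀).subgroupOf N)) :=
        (Nat.bijective_iff_surjective_and_card _).mpr ⟨f.subgroupMap_surjective _, he.symm⟩
      have h1 : (⟨⟨x, hxN⟩, hxθ⟩ : (θ a₀).subgroupOf N) = 1 := by
        refine hb.1 (Subtype.ext ?_)
        show f ⟨x, hxN⟩ = f 1
        rw [map_one]
        exact (QuotientGroup.eq_one_iff _).mpr (mem_subgroupOf.mpr hx.1)
      exact congrArg (fun z : (θ a₀).subgroupOf N => ((z : N) : G)) h1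
  obtain ⟨W, hW, hWa⟩ := h.smaller _ B φ hBe hBc hφfun hlt
  set V := (W.comap f).map N.subtype with hV
  have hUV : U ≤ V := fun x hx => ⟨⟨x, le_normalizer hx⟩, by
    show f _ ∈ W
    rw [show f ⟨x, le_normalizer hx⟩ = 1 from (QuotientGroup.eq_one_iff _).mpr
      (mem_subgroupOf.mpr hx)]
    exact W.one_mem, rfl⟩
  have hker : f.ker = U.subgroupOf N := QuotientGroup.ker_mk' _
  have hcard : Nat.card V = Nat.card U * Nat.card W := by
    rw [hV, card_map_of_injective N.subtype_injective,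
      CfsgLib.PLoc.card_comap_of_surjective (QuotientGroup.mk'_surjective _), hker,
      Nat.card_congr (subgroupOfEquivOfLe (le_normalizer (H := U))).toEquiv]
  have hVd : ¬ p ∣ Nat.card V := by
    rw [hcard, hp.out.dvd_mul]
    exact fun hd => hd.elim (family_not_dvd hU) hW.2.1
  have hAV : A ≤ normalizer (V : Set G) := by
    rw [le_normalizer_iff]
    rintro a ha _ ⟨v, hv, rfl⟩
    refine ⟨⟨a, hAU ha⟩ * v * ⟨a, hAU ha⟩⁻¹, ?_, rfl⟩
    show f _ ∈ W
    rw [map_mul, map_mul, map_inv]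
    exact hW.2.2.1 _ (mem_map_of_mem f ha) _ hv
  have hVC : ∀ a ∈ A, a ≠ 1 → V ⊓ centralizer {a} ≤ θ a := by
    rintro a ha ha1 x ⟨⟨v, hv, rfl⟩, hxa⟩
    have hfa : f ⟨a, hAU ha⟩ ≠ 1 := fun h1 =>
      ha1 (congrArg Subtype.val (hinj ⟨a, hAU ha⟩ 1 ha A.one_mem (by rw [h1, map_one])))
    have hc : f v ∈ W ⊓ centralizer {f ⟨a, hAU ha⟩} := ⟨hv, mem_centralizer_singleton_iff.mpr (by
      rw [← map_mul, ← map_mul]
      exact congrArg f (Subtype.ext (mem_centralizer_singleton_iff.mp hxa)))⟩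
    have h4 := hW.2.2.2 _ (mem_map_of_mem f (mem_subgroupOf.mpr ha)) hfa hc
    rw [hφeq ⟨a, hAU ha⟩ ha] at h4
    obtain ⟨t, ht, htv⟩ := h4
    have hu : (t : G)⁻¹ * v ∈ U := by
      simpa using mem_subgroupOf.mp (QuotientGroup.eq.mp htv)
    have hua : (t : G)⁻¹ * v ∈ centralizer {a} := mul_mem
      (inv_mem (functor_le_centralizer h.functor ha ha1 ht)) hxa
    have := Subgroup.mul_mem (θ a) ht (family_inf_le hU ha ha1 ⟨hu, hua⟩)
    simpa [mul_assoc] using this
  have hVs : Group.IsSolvable V := by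
    have h1 : Group.IsSolvable ↥(W.comap f) := by
      haveI := hW.1
      haveI := family_isSolvable hU
      let g : ↥(W.comap f) →* W := (f.comp (W.comap f).subtype).codRestrict W fun x => x.2
      let i : U →* ↥(W.comap f) :=
          ((inclusion (le_normalizer (H := U))).codRestrict (W.comap f) fun x => by
            show f _ ∈ W
            rw [show f (inclusion (le_normalizer (H := U)) x) = 1 from
              (QuotientGroup.eq_one_iff _).mpr (mem_subgroupOf.mpr x.2)]
            exact W.one_mem)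
      refine Group.isSolvable_of_ker_le_range i g fun x hx => ?_
      have hx' : f (x : N) = 1 := congrArg Subtype.val hx
      exact ⟨⟨((x : N) : G), mem_subgroupOf.mp ((QuotientGroup.eq_one_iff _).mp hx')⟩,
        Subtype.ext (Subtype.ext rfl)⟩
    haveI := h1
    exact Group.isSolvable_of_surjective (N.subtype.subgroupMap_surjective (W.comap f))
  have hWF : V ∈ Cfsg.signalizerFamily p A θ := mem_family_iff.mpr ⟨hVs, hVd, hAV, hVC⟩
  refine absurd ⟨V, hWF, fun a ha ha1 x hx => ?_⟩ h.not_complete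
  refine ⟨⟨x, hall a ha ha1 hx⟩, ?_, rfl⟩
  have hfa : f ⟨a, hAU ha⟩ ≠ 1 := fun h1 =>
    ha1 (congrArg Subtype.val (hinj ⟨a, hAU ha⟩ 1 ha A.one_mem (by rw [h1, map_one])))
  refine hWa _ (mem_map_of_mem f (mem_subgroupOf.mpr ha)) hfa ?_
  rw [hφeq ⟨a, hAU ha⟩ ha]
  exact mem_map_of_mem f hx

/-- A maximal member above `U` containing every member that normalises `U`. -/
theorem exists_normalizer_max (h : IsMinimalIncomplete p A θ) {U : Subgroup G}
    (hU : U ∈ Cfsg.signalizerFamily p A θ) (hne : U ≠ ⊥) :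
    ∃ N, IsMaxMember p A θ N ∧ U ≤ N ∧ (∀ a ∈ A, a ≠ 1 → θ a ⊓ normalizer (U : Set G) ≤ N) ∧
      ∀ H ∈ Cfsg.signalizerFamily p A θ, H ≤ normalizer (U : Set G) → H ≤ N := by
  obtain ⟨W, hW, hUW, hWa⟩ := h.exists_normalizer_member hU hne
  obtain ⟨N, hN, hWN⟩ := exists_isMaxMember_ge hW
  refine ⟨N, hN, hUW.trans hWN, fun a ha ha1 => (hWa a ha ha1).trans hWN, fun H hH hHU => ?_⟩
  exact h.member_le_of_centralizers hH fun a ha ha1 =>
    (le_inf inf_le_left (inf_le_right.trans hHU)).trans ((hWa a ha ha1).trans hWN)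

/-- A member normalising a nontrivial normal subgroup of a maximal member lies in it. -/
theorem le_max_of_normalizes (h : IsMinimalIncomplete p A θ) {M : Subgroup G}
    (hM : IsMaxMember p A θ M) {U : Subgroup G} (hU : U ≤ M)
    (hAU : A ≤ normalizer (U : Set G)) (hMU : M ≤ normalizer (U : Set G)) (hne : U ≠ ⊥)
    {H : Subgroup G} (hH : H ∈ Cfsg.signalizerFamily p A θ) (hHU : H ≤ normalizer (U : Set G)) :
    H ≤ M := by
  obtain ⟨N, hN, -, -, hall⟩ := h.exists_normalizer_max (family_of_le hM.1 hU hAU) hne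
  rw [← hM.2 N hN.1 (hall M hM.1 hMU)]
  exact hall H hH hHU

/-- No nontrivial member is normalised by every value. -/
theorem eq_bot_of_normalized (h : IsMinimalIncomplete p A θ) {U : Subgroup G}
    (hU : U ∈ Cfsg.signalizerFamily p A θ)
    (hn : ∀ a ∈ A, a ≠ 1 → θ a ≤ normalizer (U : Set G)) : U = ⊥ := by
  by_contra hne
  obtain ⟨W, hW, -, hWa⟩ := h.exists_normalizer_member hU hne
  exact h.not_complete ⟨W, hW, fun a ha ha1 => (le_inf le_rfl (hn a ha ha1)).trans (hWa a ha ha1)⟩

/-- A maximal member cannot contain `θ B` for every line `B` avoiding `k` unless it contains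
`θ k`. -/
theorem le_of_lines_avoiding (h : IsMinimalIncomplete p A θ) {M : Subgroup G}
    (hM : IsMaxMember p A θ M) {k : G} (hk : k ∈ A) (hk1 : k ≠ 1)
    (hlines : ∀ B, IsLine p A B → k ∉ B → Cfsg.signalizerInf B θ ≤ M) : θ k ≤ M := by
  have hA := h.elem
  have hAM := hM.le_normalizer'
  have hbound : ∀ d ∈ A, d ∉ zpowers k → ⁅θ d, zpowers k⁆ ≤ ⁅M, zpowers k⁆ := by
    intro d hd hdk
    have hd1 : d ≠ 1 := fun h1 => hdk (h1 ▸ (zpowers k).one_mem)
    have hθd := functor_mem_family h.functor hd hd1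
    have hle : ⁅θ d, zpowers k⁆ ≤ M := by
      -- a line through `k` avoiding `d`
      obtain ⟨e, he, hek⟩ : ∃ e ∈ A, e ∉ zpowers k ⊔ zpowers d := by
        by_contra hcon
        push Not at hcon
        have hc := card_le_of_le (show A ≤ zpowers k ⊔ zpowers d from hcon)
        rw [h.card_eq, card_sup_zpowers_elementary hA (zpowers_le.mpr hk) hd hdk,
          card_zpowers_elementary hA hk hk1, ← pow_two] at hc
        exact absurd ((Nat.pow_le_pow_iff_right hp.out.one_lt).mp hc) (by norm_num)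
      obtain ⟨L, hL, hkL, heL⟩ := exists_line_ge hA h.card_eq hk he
      have hdL : d ∉ L := by
        intro hdL
        have hle2 : zpowers k ⊔ zpowers d = L := eq_of_le_of_card_ge
          (sup_le (zpowers_le.mpr hkL) (zpowers_le.mpr hdL)) (by
            rw [card_sup_zpowers_elementary hA (zpowers_le.mpr hk) hd hdk,
              card_zpowers_elementary hA hk hk1, hL.2, pow_two])
        exact hek (hle2 ▸ heL)
      refine (commutator_le_iSup_centralizer hA hL.1 (hL.not_isCyclic hA) hkL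
        (family_isSolvable hθd) (family_not_dvd hθd) (family_le_normalizer hθd)).trans
          (iSup_le fun c => ?_)
      obtain ⟨c, hcL, hck⟩ := c
      have hc1 : c ≠ 1 := fun h1 => hck (h1 ▸ (zpowers k).one_mem)
      obtain ⟨B, hB, hdB, hcB⟩ := exists_line_ge hA h.card_eq hd (hL.1 hcL)
      refine le_trans ?_ (hlines B hB fun hkB => hdL ?_)
      · refine le_signalizerInf fun b hb hb1 => ?_
        refine le_trans ?_ (h.functor.1.2.2.2 d hd hd1 b (hB.1 hb) hb1)
        rintro x ⟨hx, hxc⟩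
        refine ⟨hx, ?_⟩
        have hxd := functor_le_centralizer h.functor hd hd1 hx
        have hxB : B ≤ centralizer ({x} : Set G) := by
          have hdc : c ∉ zpowers d := by
            intro hcd
            have hz : zpowers c = zpowers d := eq_of_le_of_card_ge (zpowers_le.mpr hcd) (by
              rw [card_zpowers_elementary hA hd hd1, card_zpowers_elementary hA (hL.1 hcL) hc1])
            exact hdL ((hz.symm ▸ zpowers_le.mpr hcL : zpowers d ≤ L) (mem_zpowers d))
          rw [← eq_of_le_of_card_ge (sup_le (zpowers_le.mpr hdB) (zpowers_le.mpr hcB)) (by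
            rw [card_sup_zpowers_elementary hA (zpowers_le.mpr hd) (hL.1 hcL) hdc,
              card_zpowers_elementary hA hd hd1, hB.2, pow_two])]
          exact sup_le (zpowers_le.mpr (mem_centralizer_singleton_iff.mpr (hxd d rfl)))
            (zpowers_le.mpr (mem_centralizer_singleton_iff.mpr (hxc c rfl)))
        exact mem_centralizer_singleton_iff.mpr (mem_centralizer_singleton_iff.mp (hxB hb)).symm
      · rw [hB.eq_of_mem hA h.card_eq hL hkB hkL hcB hcL hk1 hck] at hdB
        exact hdB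
    have h2 := commutator_idem hA (family_not_dvd hθd) (family_le_normalizer hθd) hk
    rw [← h2]
    exact commutator_mono hle le_rfl
  set Y := ⁅M, zpowers k⁆ with hY
  have hYM : Y ≤ M := commutator_zpowers_le (hAM hk)
  have hYW : Y ∈ Cfsg.signalizerFamily p A θ :=
    family_of_le hM.1 hYM (le_normalizer_commutator_elem hA hAM hk)
  have hMY : M ≤ normalizer (Y : Set G) := CfsgLib.Solvable.le_normalizer_commutator_left _ _
  have hBY : ∀ B, IsLine p A B → Cfsg.signalizerInf B θ ≤ normalizer (Y : Set G) := by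
    intro B hB
    by_cases hkB : k ∈ B
    swap
    · exact (hlines B hB hkB).trans hMY
    have heq : Y = ⨆ d : {d : G // d ∈ B ∧ d ∉ zpowers k}, ⁅θ (d : G), zpowers k⁆ := by
      refine le_antisymm ?_ (iSup_le fun d => hbound d (hB.1 d.2.1) d.2.2)
      refine (commutator_le_iSup_commutator hA hB.1 hB.2 hkB hk1 (family_isSolvable hM.1)
        hM.not_dvd hAM).trans (iSup_mono fun d => commutator_mono ?_ le_rfl)
      exact family_inf_le hM.1 (hB.1 d.2.1) fun h1 => d.2.2 (h1 ▸ (zpowers k).one_mem)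
    rw [heq]
    refine le_normalizer_iSup fun d x hx => normalizer_inf_le_normalizer_commutator _ _ ⟨?_, ?_⟩
    · exact le_normalizer (signalizerInf_le d.2.1 (fun h1 => d.2.2 (h1 ▸ (zpowers k).one_mem)) hx)
    · refine centralizer_le_normalizer _ ?_
      rw [centralizer_zpowers]
      exact functor_le_centralizer h.functor hk hk1 (signalizerInf_le hkB hk1 hx)
  have hY1 : Y = ⊥ := by
    refine h.eq_bot_of_normalized hYW fun a ha ha1 => ?_
    have hθa := functor_mem_family h.functor ha ha1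
    exact le_of_lines hA h.card_eq (family_not_dvd hθa) (family_le_normalizer hθa) fun B hB =>
      (family_inf_centralizer_le hθa hB.1).trans (hBY B hB)
  have hMk : M ≤ θ k := fun x hx => family_inf_le hM.1 hk hk1
    ⟨hx, le_centralizer_singleton_of_commutator_eq_bot hY1 hx⟩
  exact (hM.2 _ (functor_mem_family h.functor hk hk1) hMk).le

end IsMinimalIncomplete

end CfsgLib.Signalizer
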