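import Cfsg.Agent.Lib.RankOne.ConstStab
import Cfsg.Agent.Lib.NilpPerm.Bound
import Cfsg.Agent.Lib.Solvable.CoprimeGeneration
import Mathlib

/-!
A nilpotent group of odd order acting faithfully and coprimely on an abelian group `V ≠ 1` of odd order
has order at most `|V| / 2`.
-/

set_option autoImplicit false
set_option linter.style.haveILetI false
set_option linter.unusedSectionVars false

open Subgroup

namespace CfsgLib.Signalizer

universe u

namespace NilpBound

variable {V : Type u} [CommGroup V]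

/-- Fixed points of an automorphism. -/
def fixSub (x : MulAut V) : Subgroup V where
  carrier := {v | x v = v}
  one_mem' := map_one x
  mul_mem' := fun {a b} (ha : x a = a) (hb : x b = b) => show x (a * b) = a * b by rw [map_mul, ha, hb]
  inv_mem' := fun {a} (ha : x a = a) => show x a⁻¹ = a⁻¹ by rw [map_inv, ha]

theorem mem_fixSub {x : MulAut V} {v : V} : v ∈ fixSub x ↔ x v = v := Iff.rfl

theorem mem_fixSub_of_commute {x g : MulAut V} (h : Commute g x) {v : V} (hv : v ∈ fixSub x) :
    g v ∈ fixSub x := by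
  show x (g v) = g v
  rw [← MulAut.mul_apply, ← h.eq, MulAut.mul_apply, mem_fixSub.1 hv]

theorem pow_fix {g : MulAut V} {v : V} (h : g v = v) : ∀ n : ℕ, (g ^ n) v = v
  | 0 => rfl
  | n + 1 => by rw [pow_succ, MulAut.mul_apply, h, pow_fix h n]

/-- Restriction to an invariant subgroup. -/
def resHom (P : Subgroup (MulAut V)) (W : Subgroup V) (hW : ∀ g ∈ P, ∀ w ∈ W, g w ∈ W) :
    P →* MulAut W where
  toFun g :=
    { toFun := fun w => ⟨(g : MulAut V) w.1, hW g g.2 w.1 w.2⟩
      invFun := fun w => ⟨((g : MulAut V)⁻¹ : MulAut V) w.1, hW _ (inv_mem g.2) w.1 w.2⟩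
      left_inv := fun w => Subtype.ext (MulAut.inv_apply_self V (g : MulAut V) w.1)
      right_inv := fun w => Subtype.ext (MulAut.apply_inv_self V (g : MulAut V) w.1)
      map_mul' := fun a b => Subtype.ext (map_mul (g : MulAut V) a.1 b.1) }
  map_one' := rfl
  map_mul' _ _ := rfl

theorem fix_of_resHom_eq_one {P : Subgroup (MulAut V)} {W : Subgroup V}
    {hW : ∀ g ∈ P, ∀ w ∈ W, g w ∈ W} {g : P} (h : resHom P W hW g = 1) :
    ∀ w ∈ W, (g : MulAut V) w = w :=
  fun w hw => by
    have h1 := congrArg Subtype.val (DFunLike.congr_fun h (⟨w, hw⟩ : W))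
    exact h1

/-- The endomorphism underlying an automorphism. -/
def toEnd : MulAut V →* Monoid.End V where
  toFun g := g.toMonoidHom
  map_one' := rfl
  map_mul' _ _ := rfl

/-- The norm of an automorphism. -/
def nrm (x : MulAut V) (r : ℕ) : V →* V where
  toFun v := ∏ k ∈ Finset.range r, (x ^ k) v
  map_one' := by simp
  map_mul' a b := by simp [Finset.prod_mul_distrib]

theorem nrm_apply (x : MulAut V) (r : ℕ) (v : V) : nrm x r v = ∏ k ∈ Finset.range r, (x ^ k) v := rfl

theorem apply_nrm {x : MulAut V} {r : ℕ} (hx : x ^ r = 1) (v : V) : x (nrm x r v) = nrm x r v := by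
  rw [nrm_apply, map_prod]
  have h1 := Finset.prod_range_succ' (fun k => (x ^ k) v) r
  have h2 := Finset.prod_range_succ (fun k => (x ^ k) v) r
  rw [h2, hx, pow_zero] at h1
  refine Eq.trans (Finset.prod_congr rfl fun k _ => ?_) (mul_right_cancel h1).symm
  rw [pow_succ', MulAut.mul_apply]

theorem commute_apply_nrm {x g : MulAut V} (h : Commute g x) {r : ℕ} (v : V) :
    g (nrm x r v) = nrm x r (g v) := by
  rw [nrm_apply, nrm_apply, map_prod]
  refine Finset.prod_congr rfl fun k _ => ?_
  rw [← MulAut.mul_apply, (h.pow_right k).eq, MulAut.mul_apply]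

theorem nrm_of_fix {x : MulAut V} {r : ℕ} {v : V} (h : x v = v) : nrm x r v = v ^ r := by
  rw [nrm_apply, Finset.prod_congr rfl (fun k _ => pow_fix h k), Finset.prod_const, Finset.card_range]

theorem eq_one_of_pow [Finite V] {r : ℕ} (hr : r.Coprime (Nat.card V)) {v : V} (h : v ^ r = 1) :
    v = 1 := by
  rw [← orderOf_eq_one_iff]
  exact Nat.eq_one_of_dvd_coprimes hr (orderOf_dvd_of_pow_eq_one h) (orderOf_dvd_natCard v)

/-- A subgroup containing a normal Sylow `r`-subgroup and all elements of order prime to `r`. -/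
theorem eq_top_of_contains {P : Type*} [Group P] [Finite P] {r : ℕ} [Fact r.Prime] (R : Sylow r P)
    [hR : (R : Subgroup P).Normal] (K : Subgroup P) (h1 : (R : Subgroup P) ≤ K)
    (h2 : ∀ g : P, (orderOf g).Coprime r → g ∈ K) : K = ⊤ := by
  rw [eq_top_iff]
  intro g _
  have hr := (Fact.out : r.Prime)
  obtain ⟨a, m, hm, hgm⟩ := Nat.exists_eq_pow_mul_and_not_dvd (orderOf_pos g).ne' r hr.ne_one
  have hm0 : 0 < m := by
    rcases Nat.eq_zero_or_pos m with h | h
    · exact absurd (h ▸ dvd_zero r) hm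
    · exact h
  have hA : g ^ (r ^ a) ∈ K := by
    refine h2 _ ?_
    rw [orderOf_pow, hgm, Nat.gcd_mul_right_left, Nat.mul_div_cancel_left _ (pow_pos hr.pos _)]
    exact ((hr.coprime_iff_not_dvd).2 hm).symm
  have hB : g ^ m ∈ K := by
    refine h1 ?_
    have hz : IsPGroup r (zpowers (g ^ m)) := by
      refine IsPGroup.of_card (n := a) ?_
      rw [Nat.card_zpowers, orderOf_pow, hgm, Nat.gcd_mul_left_left, Nat.mul_div_cancel _ hm0]
    exact (R.is_maximal' (hz.to_sup_of_normal_right R.2) le_sup_right).le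
      (mem_sup_left (mem_zpowers _))
  have hco : Nat.gcd (r ^ a) m = 1 := Nat.Coprime.pow_left a ((hr.coprime_iff_not_dvd).2 hm)
  have hb := Nat.gcd_eq_gcd_ab (r ^ a) m
  rw [hco, Nat.cast_one] at hb
  rw [← zpow_one g, hb, zpow_add, zpow_mul, zpow_mul, zpow_natCast, zpow_natCast]
  exact mul_mem (zpow_mem hA _) (zpow_mem hB _)

theorem aut_bound : ∀ (n : ℕ) (V : Type u) [CommGroup V] [Finite V], Nat.card V = n → 1 < n →
    ∀ P : Subgroup (MulAut V), Group.IsNilpotent P → Odd (Nat.card P) → Odd (Nat.card V) →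
      (Nat.card P).Coprime (Nat.card V) → 2 * Nat.card P ≤ Nat.card V := by
  intro n
  induction n using Nat.strong_induction_on with
  | _ n IH =>
  intro V _ _ hVn hn P hP hPo hVo hcop
  haveI : Finite P := inferInstance
  have step : ∀ (Q : Subgroup (MulAut V)) (W : Subgroup V) (hW : ∀ g ∈ Q, ∀ w ∈ W, g w ∈ W),
      Q ≤ P → W ≠ ⊥ → W ≠ ⊤ → 2 * Nat.card (resHom Q W hW).range ≤ Nat.card W := by
    intro Q W hW hQP hW1 hW2
    have hlt : Nat.card W < n := hVn ▸ lt_of_le_of_ne
      (Nat.le_of_dvd Nat.card_pos (card_subgroup_dvd_card W)) fun h => hW2 (eq_top_of_card_eq W h)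
    have hdvd : Nat.card (resHom Q W hW).range ∣ Nat.card P :=
      (card_range_dvd _).trans (card_dvd_of_le hQP)
    haveI := hP
    haveI : Group.IsNilpotent Q := Group.nilpotent_of_mulEquiv (subgroupOfEquivOfLe hQP)
    refine IH _ hlt W rfl ?_ _ (Group.nilpotent_of_surjective (resHom Q W hW).rangeRestrict
        (resHom Q W hW).rangeRestrict_surjective)
      (hPo.of_dvd_nat hdvd) (hVo.of_dvd_nat (card_subgroup_dvd_card W))
      ((hcop.coprime_dvd_left hdvd).coprime_dvd_right (card_subgroup_dvd_card W))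
    exact (one_lt_card_iff_ne_bot W).2 hW1
  have hrcop : ∀ x ∈ P, (orderOf x).Coprime (Nat.card V) := fun x hx =>
    hcop.coprime_dvd_left (by simpa using orderOf_dvd_natCard (⟨x, hx⟩ : P))
  by_cases hA : ∃ z : P, z ∈ center P ∧ (orderOf (z : MulAut V)).Prime ∧ fixSub (z : MulAut V) ≠ ⊥
  · obtain ⟨z, hzc, hzr, hzf⟩ := hA
    set r := orderOf (z : MulAut V) with hr
    have hzp : (z : MulAut V) ^ r = 1 := pow_orderOf_eq_one _
    have hcomm : ∀ g ∈ P, Commute g (z : MulAut V) := fun g hg =>
      congrArg Subtype.val (mem_center_iff.1 hzc ⟨g, hg⟩)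
    set V1 := fixSub (z : MulAut V) with hV1
    set V2 := (nrm (z : MulAut V) r).ker with hV2
    have hi1 : ∀ g ∈ P, ∀ w ∈ V1, g w ∈ V1 := fun g hg w hw => mem_fixSub_of_commute (hcomm g hg) hw
    have hi2 : ∀ g ∈ P, ∀ w ∈ V2, g w ∈ V2 := fun g hg w hw => by
      rw [hV2, MonoidHom.mem_ker] at hw ⊢
      rw [← commute_apply_nrm (hcomm g hg), hw, map_one]
    have hsplit : ∀ g : MulAut V, (∀ w ∈ V1, g w = w) → (∀ w ∈ V2, g w = w) → g = 1 := by
      intro g h1 h2
      ext v
      rw [MulAut.one_apply]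
      have hk : ∀ k, v * ((z : MulAut V) ^ k) v⁻¹ ∈ V2 := by
        intro k
        rw [hV2, MonoidHom.mem_ker, map_mul, ← commute_apply_nrm ((Commute.refl _).pow_left k),
          pow_fix (apply_nrm hzp v⁻¹) k, map_inv, mul_inv_cancel]
      have hv : v ^ r = nrm (z : MulAut V) r v * ∏ k ∈ Finset.range r, v * ((z : MulAut V) ^ k) v⁻¹ := by
        rw [nrm_apply, ← Finset.prod_mul_distrib]
        conv_lhs => rw [← Finset.card_range r, ← Finset.prod_const]
        refine Finset.prod_congr rfl fun k _ => ?_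
        rw [map_inv, ← div_eq_mul_inv, mul_div_cancel]
      have hg : g (v ^ r) = v ^ r := by
        rw [hv, map_mul, h1 _ (mem_fixSub.2 (apply_nrm hzp v)),
          h2 _ (prod_mem fun k _ => hk k)]
      rw [map_pow] at hg
      have : (g v * v⁻¹) ^ r = 1 := by rw [mul_pow, hg, inv_pow, mul_inv_cancel]
      exact mul_inv_eq_one.1 (eq_one_of_pow (hrcop _ z.2) this)
    have hdis : ∀ w, w ∈ V1 → w ∈ V2 → w = 1 := by
      intro w h1 h2
      refine eq_one_of_pow (hrcop _ z.2) ?_
      rw [← nrm_of_fix (mem_fixSub.1 h1)]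
      exact h2
    have hV1top : V1 ≠ ⊤ := by
      intro h
      have : (z : MulAut V) = 1 := MulEquiv.ext fun v => mem_fixSub.1 (h ▸ mem_top v : v ∈ V1)
      rw [hr, this, orderOf_one] at hzr
      exact Nat.not_prime_one hzr
    have hV2bot : V2 ≠ ⊥ := by
      intro h
      have : (z : MulAut V) = 1 := hsplit _ (fun w hw => hw) fun w hw => by
        rw [h, mem_bot] at hw
        rw [hw, map_one]
      rw [hr, this, orderOf_one] at hzr
      exact Nat.not_prime_one hzr
    have hV2top : V2 ≠ ⊤ := by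
      intro h
      apply hzf
      rw [eq_bot_iff]
      intro w hw
      exact mem_bot.2 (hdis w hw (h ▸ mem_top w))
    have hb1 := step P V1 hi1 le_rfl hzf hV1top
    have hb2 := step P V2 hi2 le_rfl hV2bot hV2top
    have hinj : Function.Injective ((resHom P V1 hi1).rangeRestrict.prod (resHom P V2 hi2).rangeRestrict) := by
      rw [← MonoidHom.ker_eq_bot_iff, eq_bot_iff]
      intro g hg
      rw [MonoidHom.mem_ker, MonoidHom.prod_apply, Prod.mk_eq_one] at hg
      exact mem_bot.2 (Subtype.ext (hsplit _ (fix_of_resHom_eq_one (congrArg Subtype.val hg.1))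
        (fix_of_resHom_eq_one (congrArg Subtype.val hg.2))))
    have hP12 := Nat.card_le_card_of_injective _ hinj
    rw [Nat.card_prod] at hP12
    have hV12 : Nat.card V1 * Nat.card V2 ≤ Nat.card V := by
      rw [← Nat.card_prod]
      refine Nat.card_le_card_of_injective (fun w : V1 × V2 => (w.1 : V) * w.2) ?_
      rintro ⟨a, b⟩ ⟨a', b'⟩ (h : (a : V) * b = a' * b')
      have h1 : (a : V) * (a' : V)⁻¹ = b' * (b : V)⁻¹ := by
        rw [← div_eq_mul_inv, ← div_eq_mul_inv, div_eq_div_iff_mul_eq_mul, h, mul_comm]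
      have h2 := hdis _ (mul_mem a.2 (inv_mem a'.2)) (h1 ▸ mul_mem b'.2 (inv_mem b.2))
      have h3 : (a : V) = a' := mul_inv_eq_one.1 h2
      exact Prod.ext (Subtype.ext h3) (Subtype.ext (mul_left_cancel (h3 ▸ h)))
    nlinarith [Nat.mul_le_mul hb1 hb2]
  push Not at hA
  by_cases hB : ∀ x : P, (orderOf (x : MulAut V)).Prime → x ∈ center P
  · -- semiregular action
    have hfpf : ∀ g ∈ P, g ≠ 1 → ∀ v : V, g v = v → v = 1 := by
      intro g hg hg1 v hv
      obtain ⟨r, hr, hrd⟩ := Nat.exists_prime_and_dvd (mt orderOf_eq_one_iff.1 hg1)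
      have hord : orderOf (g ^ (orderOf g / r)) = r :=
        orderOf_pow_orderOf_div (orderOf_pos g).ne' hrd
      have hr' : (orderOf ((⟨g ^ (orderOf g / r), pow_mem hg _⟩ : P) : MulAut V)).Prime := by
        show (orderOf (g ^ (orderOf g / r))).Prime
        rw [hord]; exact hr
      have h1 := hA _ (hB _ hr') hr'
      exact (eq_bot_iff.1 h1) (pow_fix hv _)
    obtain ⟨v, hv⟩ : ∃ v : V, v ≠ 1 := by
      haveI : Nontrivial V := Finite.one_lt_card_iff_nontrivial.1 (hVn ▸ hn)
      exact exists_ne 1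
    have key : ∀ g ∈ P, g v = v⁻¹ → False := by
      intro g hg h
      have h2 : (g ^ 2) v = v := by rw [pow_two, MulAut.mul_apply, h, map_inv, h, inv_inv]
      have hg2 : g ^ 2 = 1 := by
        by_contra hne
        exact hv (hfpf _ (pow_mem hg 2) hne v h2)
      have hg1 : g = 1 := orderOf_eq_one_iff.1 (Nat.eq_one_of_dvd_coprimes
        (Nat.coprime_two_left.2 hPo) (orderOf_dvd_of_pow_eq_one hg2)
        (by simpa using orderOf_dvd_natCard (⟨g, hg⟩ : P)))
      rw [hg1, MulAut.one_apply] at h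
      refine hv (eq_one_of_pow (Nat.coprime_two_left.2 hVo) ?_)
      rw [pow_two]
      exact eq_inv_iff_mul_eq_one.1 h
    have hinj : Function.Injective (fun gb : P × Bool => (gb.1 : MulAut V) (cond gb.2 v v⁻¹)) := by
      rintro ⟨g, b⟩ ⟨g', b'⟩ (h : (g : MulAut V) _ = (g' : MulAut V) _)
      have h' : ((g' : MulAut V)⁻¹ * g) (cond b v v⁻¹) = cond b' v v⁻¹ := by
        rw [MulAut.mul_apply, h, MulAut.inv_apply_self]
      have hmem : (g' : MulAut V)⁻¹ * g ∈ P := mul_mem (inv_mem g'.2) g.2
      have hsame : ((g' : MulAut V)⁻¹ * g) v = v → g = g' := by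
        intro h1
        by_contra hne
        refine hv (hfpf _ hmem (fun h2 => hne ?_) v h1)
        exact Subtype.ext (inv_mul_eq_one.1 h2).symm
      cases b <;> cases b'
      · simp only [cond_false, map_inv, inv_inj] at h'
        rw [hsame h']
      · simp only [cond_false, cond_true, map_inv, inv_eq_iff_eq_inv] at h'
        exact (key _ hmem h').elim
      · simp only [cond_false, cond_true] at h'
        exact (key _ hmem h').elim
      · simp only [cond_true] at h'
        rw [hsame h']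
    have h := Nat.card_le_card_of_injective _ hinj
    rw [Nat.card_prod, Nat.card_eq_fintype_card (α := Bool), Fintype.card_bool] at h
    omega
  -- a normal elementary subgroup of order `r²`
  push Not at hB
  obtain ⟨x, hxr, hxc⟩ := hB
  set r := orderOf (x : MulAut V) with hr
  haveI := Fact.mk hxr
  have hrP : r ∣ Nat.card P := by rw [hr, orderOf_coe]; exact orderOf_dvd_natCard x
  have hr2 : r ≠ 2 := by
    intro h
    have := hPo.of_dvd_nat hrP
    rw [h] at this
    exact absurd this (by decide)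
  haveI := hP
  obtain ⟨R⟩ : Nonempty (Sylow r P) := inferInstance
  haveI : (R : Subgroup P).Normal :=
    Sylow.normal_of_normalizerCondition Group.normalizerCondition_of_isNilpotent R
  have hcopcomm : ∀ {a b : P}, a ∈ (R : Subgroup P) → (orderOf b).Coprime r → Commute a b := by
    intro a b ha hb
    obtain ⟨i, hi⟩ := IsPGroup.iff_orderOf.1 R.2 ⟨a, ha⟩
    refine CfsgLib.NilpPerm.commute_of_coprime_order ?_
    rw [← orderOf_mk a ha, hi]
    exact (hb.symm.pow_left i)
  have hxR : x ∈ (R : Subgroup P) := by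
    have hz : IsPGroup r (zpowers x) := IsPGroup.of_card (n := 1) (by
      rw [Nat.card_zpowers, pow_one, hr, orderOf_coe])
    exact (R.is_maximal' (hz.to_sup_of_normal_right R.2) le_sup_right).le (mem_sup_left (mem_zpowers _))
  have hnc : ¬ IsCyclic (R : Subgroup P) := by
    intro h
    letI := h.commGroup
    apply hxc
    have hK : centralizer ({x} : Set P) = ⊤ := eq_top_of_contains R _
      (fun a ha => mem_centralizer_singleton_iff.2
        (congrArg Subtype.val (mul_comm (⟨x, hxR⟩ : (R : Subgroup P)) ⟨a, ha⟩)).symm)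
      (fun g hg => mem_centralizer_singleton_iff.2 (hcopcomm hxR hg).eq.symm)
    exact mem_center_iff.2 fun g => mem_centralizer_singleton_iff.1 (hK ▸ mem_top g)
  obtain ⟨z, e, hzc, hzo, her, hez, hconj⟩ :=
    CfsgLib.RankOne.ConstStab.exists_central_and_noncentral hr2 R.2 hnc
  set Z : MulAut V := ((z : P) : MulAut V) with hZdef
  set E : MulAut V := ((e : P) : MulAut V) with hEdef
  have hZr : Z ^ r = 1 := by
    have h : z ^ r = 1 := orderOf_dvd_iff_pow_eq_one.1 hzo.dvd
    exact congrArg (fun t : (R : Subgroup P) => ((t : P) : MulAut V)) h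
  have hEr : E ^ r = 1 := congrArg (fun t : (R : Subgroup P) => ((t : P) : MulAut V)) her
  have hzcP : (z : P) ∈ center P := by
    have hK : centralizer ({(z : P)} : Set P) = ⊤ := eq_top_of_contains R _
      (fun a ha => mem_centralizer_singleton_iff.2
        (congrArg Subtype.val (mem_center_iff.1 hzc ⟨a, ha⟩)))
      (fun g hg => mem_centralizer_singleton_iff.2 (hcopcomm z.2 hg).eq.symm)
    exact mem_center_iff.2 fun g => mem_centralizer_singleton_iff.1 (hK ▸ mem_top g)
  have hZcomm : ∀ g ∈ P, Commute g Z := fun g hg =>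
    congrArg Subtype.val (mem_center_iff.1 hzcP ⟨g, hg⟩)
  have hEP : E ∈ P := (e : P).2
  have hEZ : Commute E Z := hZcomm E hEP
  have hZord : orderOf Z = r := by rw [hZdef, orderOf_coe, orderOf_coe, hzo]
  have hconjP : ∀ g : P, ∃ i : ℕ, (g : MulAut V) * E * (g : MulAut V)⁻¹ = E * Z ^ i := by
    let K : Subgroup P :=
      { carrier := {g | ∃ i : ℕ, (g : MulAut V) * E * (g : MulAut V)⁻¹ = E * Z ^ i}
        one_mem' := ⟨0, by simp⟩
        mul_mem' := by
          rintro g h ⟨i, hi⟩ ⟨j, hj⟩
          refine ⟨i + j, ?_⟩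
          calc ((g * h : P) : MulAut V) * E * ((g * h : P) : MulAut V)⁻¹
              = (g : MulAut V) * ((h : MulAut V) * E * (h : MulAut V)⁻¹) * (g : MulAut V)⁻¹ := by
                rw [Subgroup.coe_mul]; group
            _ = (g : MulAut V) * E * (g : MulAut V)⁻¹ * ((g : MulAut V) * Z ^ j * (g : MulAut V)⁻¹) := by
                rw [hj]; group
            _ = E * Z ^ (i + j) := by
                rw [hi, ((hZcomm _ g.2).pow_right j).eq, mul_inv_cancel_right, mul_assoc, ← pow_add]
        inv_mem' := by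
          rintro g ⟨i, hi⟩
          refine ⟨(r - 1) * i, ?_⟩
          have h1 : Z ^ ((r - 1) * i) = (Z ^ i)⁻¹ := by
            refine eq_inv_of_mul_eq_one_left ?_
            rw [← pow_add, ← Nat.succ_mul, Nat.succ_eq_add_one,
              Nat.sub_add_cancel hxr.one_lt.le, pow_mul, hZr, one_pow]
          have h2 : E = (g : MulAut V)⁻¹ * (E * Z ^ i) * (g : MulAut V) := by rw [← hi]; group
          rw [h1, Subgroup.coe_inv, inv_inv]
          conv_rhs => rw [h2]
          have h3 := ((hZcomm _ g.2).pow_right i).eq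
          rw [mul_assoc ((g : MulAut V)⁻¹ * (E * Z ^ i)),
            ((hZcomm _ g.2).pow_right i).inv_right.eq]
          group }
    have hK : K = ⊤ := eq_top_of_contains R _ (fun a ha => by
      obtain ⟨i, hi⟩ := hconj ⟨a, ha⟩
      exact ⟨i, congrArg (fun t : (R : Subgroup P) => ((t : P) : MulAut V)) hi⟩)
      (fun g hg => ⟨0, by
        have h : (g : MulAut V) * E = E * (g : MulAut V) :=
          congrArg Subtype.val (hcopcomm e.2 hg).eq.symm
        rw [h, mul_inv_cancel_right, pow_zero, mul_one]⟩)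
    intro g
    exact (hK ▸ mem_top g : g ∈ K)
  -- the lines
  set xl : ℕ → MulAut V := fun i => E * Z ^ i with hxl
  have hxlP : ∀ i, xl i ∈ P := fun i => mul_mem hEP (pow_mem (z : P).2 _)
  have hxlr : ∀ i, xl i ^ r = 1 := fun i => by
    rw [hxl]
    simp only
    rw [(hEZ.pow_right i).mul_pow, hEr, one_mul, ← pow_mul, mul_comm, pow_mul, hZr, one_pow]
  have hxl1 : ∀ i, xl i ≠ 1 := by
    intro i h
    apply hez
    have h' : e * z ^ i = 1 := Subtype.ext (Subtype.ext h)
    rw [eq_inv_of_mul_eq_one_left h']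
    exact inv_mem (npow_mem_zpowers z i)
  have hxlmod : ∀ i j : ℕ, (i : ZMod r) = j → xl i = xl j := by
    intro i j h
    show E * Z ^ i = E * Z ^ j
    have := (ZMod.natCast_eq_natCast_iff' i j r).1 h
    rw [← pow_mod_orderOf Z i, ← pow_mod_orderOf Z j, hZord, this]
  have hZfix : fixSub Z = ⊥ := hA (z : P) hzcP (by rw [hZord]; exact hxr)
  have hrV : ¬ r ∣ Nat.card V := fun h => hxr.ne_one
    (Nat.eq_one_of_dvd_coprimes hcop hrP h)
  have hgen : ∀ g : MulAut V, (∀ i : ℕ, ∀ w ∈ fixSub (xl i), g w = w) → g = 1 := by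
    intro g hg
    refine MulEquiv.ext fun v => ?_
    show g v = v
    refine CfsgLib.Solvable.mem_of_lines_fixed hrV (toEnd E) (toEnd Z)
      (by rw [← map_pow, hEr, map_one]) (by rw [← map_pow, hZr, map_one]) (hEZ.map toEnd)
      (fixSub g) (fun i w hw => ?_) (fun w hw => ?_) v
    · rw [← map_pow, ← map_mul] at hw
      exact hg i w hw
    · have h1 : w ∈ fixSub Z := hw
      rw [hZfix, mem_bot] at h1
      rw [h1]
      exact one_mem _
  obtain ⟨i0, hi0⟩ : ∃ i0, fixSub (xl i0) ≠ ⊥ := by
    by_contra h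
    push Not at h
    have hZ1 : Z = 1 := hgen Z fun i w hw => by
      rw [h i, mem_bot] at hw
      rw [hw, map_one]
    rw [hZ1, orderOf_one] at hZord
    exact hxr.ne_one hZord.symm
  have hxlord : orderOf (xl i0) = r := orderOf_eq_prime (hxlr i0) (hxl1 i0)
  obtain ⟨g0, hg0⟩ : ∃ g : P, (g : MulAut V) * xl i0 * (g : MulAut V)⁻¹ ≠ xl i0 := by
    by_contra h
    push Not at h
    refine hi0 (hA ⟨xl i0, hxlP i0⟩ (mem_center_iff.2 fun g => Subtype.ext ?_) ?_)
    · exact mul_inv_eq_iff_eq_mul.1 (h g)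
    · show (orderOf (xl i0)).Prime
      rw [hxlord]; exact hxr
  have hconjxl : ∀ (g : P) (d : ℕ), (g : MulAut V) * E * (g : MulAut V)⁻¹ = E * Z ^ d → ∀ i,
      (g : MulAut V) * xl i * (g : MulAut V)⁻¹ = xl (d + i) := by
    intro g d hd i
    calc (g : MulAut V) * (E * Z ^ i) * (g : MulAut V)⁻¹
        = (g : MulAut V) * E * (g : MulAut V)⁻¹ * ((g : MulAut V) * Z ^ i * (g : MulAut V)⁻¹) := by group
      _ = E * Z ^ (d + i) := by
          rw [hd, ((hZcomm _ g.2).pow_right i).eq, mul_inv_cancel_right, mul_assoc, ← pow_add]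
  obtain ⟨d, hd⟩ := hconjP g0
  have hd0 : (d : ZMod r) ≠ 0 := fun h => hg0 (by
    rw [hconjxl g0 d hd]
    exact hxlmod _ _ (by rw [Nat.cast_add, h, zero_add]))
  have hshift : ∀ k : ℕ, fixSub (xl (k * d + i0)) ≠ ⊥ := by
    intro k
    induction k with
    | zero => rwa [zero_mul, zero_add]
    | succ k ih =>
      obtain ⟨⟨w, hw⟩, hw1⟩ := Subgroup.ne_bot_iff_exists_ne_one.1 ih
      refine fun hbot => hw1 (Subtype.ext ?_)
      have h1 : (g0 : MulAut V) w ∈ fixSub (xl ((k + 1) * d + i0)) := by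
        rw [show (k + 1) * d + i0 = d + (k * d + i0) by ring, ← hconjxl g0 d hd, mem_fixSub,
          MulAut.mul_apply, MulAut.mul_apply, MulAut.inv_apply_self, mem_fixSub.1 hw]
      rw [hbot, mem_bot, ← map_one (g0 : MulAut V)] at h1
      exact (g0 : MulAut V).injective h1
  have hline : ∀ i : ℕ, fixSub (xl i) ≠ ⊥ := by
    intro i
    have := hshift (((i : ZMod r) - i0) * (d : ZMod r)⁻¹).val
    rwa [hxlmod (_ * d + i0) i (by
      rw [Nat.cast_add, Nat.cast_mul, ZMod.natCast_zmod_val, inv_mul_cancel_right₀ hd0, sub_add_cancel])]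
      at this
  have hlinetop : ∀ i : ℕ, fixSub (xl i) ≠ ⊤ := fun i h =>
    hxl1 i (MulEquiv.ext fun v => mem_fixSub.1 (h ▸ mem_top v : v ∈ fixSub (xl i)))
  -- the centraliser of `E`
  set N : Subgroup (MulAut V) := P ⊓ centralizer {E} with hN
  have hNcomm : ∀ g ∈ N, ∀ i, Commute g (xl i) := fun g hg i => by
    have h1 : Commute g E := mem_centralizer_singleton_iff.1 hg.2
    exact h1.mul_right ((hZcomm g hg.1).pow_right i)
  have hNinv : ∀ i, ∀ g ∈ N, ∀ w ∈ fixSub (xl i), g w ∈ fixSub (xl i) := fun i g hg w hw =>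
    mem_fixSub_of_commute (hNcomm g hg i) hw
  have hbound : ∀ i : Fin r, 2 * Nat.card (resHom N (fixSub (xl i)) (hNinv i)).range
      ≤ Nat.card (fixSub (xl i)) := fun i => step N _ (hNinv i) inf_le_left (hline i) (hlinetop i)
  have hNle : Nat.card N ≤ ∏ i : Fin r, Nat.card (resHom N (fixSub (xl i)) (hNinv i)).range := by
    rw [← Nat.card_pi]
    refine Nat.card_le_card_of_injective
      (fun g i => (resHom N (fixSub (xl i)) (hNinv i)).rangeRestrict g) ?_
    intro g g' h
    have hres : ∀ i : Fin r, resHom N (fixSub (xl i)) (hNinv i) (g'⁻¹ * g) = 1 := by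
      intro i
      rw [map_mul, map_inv, inv_mul_eq_one]
      exact (congrArg Subtype.val (congrFun h i)).symm
    have h1 := hgen ((g'⁻¹ * g : N) : MulAut V) fun i w hw => by
      have hi : xl i = xl (⟨i % r, Nat.mod_lt _ hxr.pos⟩ : Fin r) :=
        hxlmod _ _ (ZMod.natCast_mod i r).symm
      exact fix_of_resHom_eq_one (hres _) w (hi ▸ hw)
    exact (inv_mul_eq_one.1 (Subtype.ext h1 : g'⁻¹ * g = 1)).symm
  have hVle : ∏ i : Fin r, Nat.card (fixSub (xl i)) ≤ Nat.card V := by
    rw [← Nat.card_pi]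
    refine Nat.card_le_card_of_injective
      (fun w : (∀ i : Fin r, fixSub (xl i)) => ∏ i : Fin r, ((w i : fixSub (xl i)) : V)) ?_
    intro w w' h
    have hq : ∏ i, ((w i : V) * (w' i : V)⁻¹) = 1 := by
      rw [Finset.prod_mul_distrib, Finset.prod_inv_distrib]
      exact mul_inv_eq_one.2 h
    funext j
    refine Subtype.ext (mul_inv_eq_one.1 (eq_one_of_pow (hrcop Z (z : P).2 |> fun h => hZord ▸ h) ?_))
    have h1 := congrArg (nrm (xl j) r) hq
    rw [map_one, map_prod, Finset.prod_eq_single j] at h1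
    · rw [← h1, nrm_of_fix]
      exact mem_fixSub.1 (mul_mem (w j).2 (inv_mem (w' j).2))
    · intro i _ hij
      set u := (w i : V) * (w' i : V)⁻¹
      have hu : u ∈ fixSub (xl i) := mul_mem (w i).2 (inv_mem (w' i).2)
      have hc : Commute (xl i) (xl j) :=
        ((Commute.refl E).mul_right (hEZ.pow_right j)).mul_left
          ((hEZ.symm.pow_left i).mul_right (Commute.pow_pow_self Z i j))
      have f1 : nrm (xl j) r u ∈ fixSub (xl i) := by
        rw [mem_fixSub, commute_apply_nrm hc, mem_fixSub.1 hu]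
      have f2 : nrm (xl j) r u ∈ fixSub (xl j) := apply_nrm (hxlr j) u
      set v := nrm (xl j) r u
      have hlt : (i : ℕ) ≠ j := fun h => hij (Fin.ext h)
      have f3 : (Z ^ (i : ℕ)) v = (Z ^ (j : ℕ)) v := by
        have := (mem_fixSub.1 f1).trans (mem_fixSub.1 f2).symm
        simp only [hxl, MulAut.mul_apply] at this
        exact E.injective this
      have hzi : ∀ a b : ℕ, a < b → b < r → (Z ^ a) v = (Z ^ b) v → v = 1 := by
        intro a b hab hbr hv
        rw [show b = a + (b - a) by omega, pow_add, MulAut.mul_apply] at hv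
        have hfix := (Z ^ a).injective hv
        obtain ⟨m, hm⟩ := exists_pow_eq_self_of_coprime (n := b - a) (x := Z) (by
          rw [hZord]
          exact ((hxr.coprime_iff_not_dvd).2 fun hd => by
            have := Nat.le_of_dvd (by omega) hd; omega).symm)
        have : v ∈ fixSub Z := by
          rw [mem_fixSub]
          conv_lhs => rw [← hm]
          exact pow_fix hfix.symm m
        rwa [hZfix, mem_bot] at this
      rcases Nat.lt_or_gt_of_ne hlt with hl | hl
      · exact hzi _ _ hl j.2 f3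
      · exact hzi _ _ hl i.2 f3.symm
    · simp
  have hindex : Nat.card P ≤ r * Nat.card N := by
    choose dd hdd using hconjP
    have hsub : (N.subgroupOf P).index ≤ r := by
      rw [Subgroup.index, ← Nat.card_zmod r]
      refine Nat.card_le_card_of_injective (fun q : P ⧸ N.subgroupOf P => ((dd q.out : ℕ) : ZMod r)) ?_
      intro q q' h
      rw [← QuotientGroup.out_eq' q, ← QuotientGroup.out_eq' q', QuotientGroup.eq]
      set a := q.out
      set b := q'.out
      have h1 : (a : MulAut V) * E * (a : MulAut V)⁻¹ = (b : MulAut V) * E * (b : MulAut V)⁻¹ := by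
        rw [hdd a, hdd b]
        exact hxlmod _ _ h
      rw [mem_subgroupOf]
      refine ⟨(a⁻¹ * b).2, mem_centralizer_singleton_iff.2 ?_⟩
      calc ((a⁻¹ * b : P) : MulAut V) * E
          = (a : MulAut V)⁻¹ * ((b : MulAut V) * E * (b : MulAut V)⁻¹) * b := by
            rw [Subgroup.coe_mul, Subgroup.coe_inv]; group
        _ = E * ((a⁻¹ * b : P) : MulAut V) := by
            rw [← h1, Subgroup.coe_mul, Subgroup.coe_inv]; group
    have hc := (N.subgroupOf P).card_mul_index
    rw [Nat.card_congr (subgroupOfEquivOfLe (inf_le_left : N ≤ P)).toEquiv] at hc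
    rw [← hc, mul_comm r]
    exact Nat.mul_le_mul le_rfl hsub
  have h2 : 2 ^ r * Nat.card N ≤ Nat.card V := by
    refine le_trans (Nat.mul_le_mul le_rfl hNle) (le_trans ?_ hVle)
    calc 2 ^ r * ∏ i : Fin r, Nat.card (resHom N (fixSub (xl i)) (hNinv i)).range
        = ∏ i : Fin r, 2 * Nat.card (resHom N (fixSub (xl i)) (hNinv i)).range := by
          rw [Finset.prod_mul_distrib, Finset.prod_const, Finset.card_univ, Fintype.card_fin]
      _ ≤ _ := Finset.prod_le_prod' fun i _ => hbound i
  have h3 : 2 * r ≤ 2 ^ r := by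
    have hk : ∀ k : ℕ, 2 * (k + 1) ≤ 2 ^ (k + 1) := fun k => by
      rw [pow_succ, mul_comm]
      exact Nat.mul_le_mul_right 2 Nat.lt_two_pow_self
    have := hk (r - 1)
    rwa [Nat.sub_add_cancel hxr.one_lt.le] at this
  calc 2 * Nat.card P ≤ 2 * (r * Nat.card N) := Nat.mul_le_mul le_rfl hindex
    _ = 2 * r * Nat.card N := by ring
    _ ≤ 2 ^ r * Nat.card N := Nat.mul_le_mul_right _ h3
    _ ≤ Nat.card V := h2

end NilpBound

/-- A nilpotent group of odd order acting faithfully and coprimely on an abelian group of odd order. -/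
theorem two_mul_card_le_of_nilpotent_odd {G : Type*} [Group G] [Finite G] {P V : Subgroup G}
    (hP : Group.IsNilpotent P) (hPo : Odd (Nat.card P)) (hV : IsMulCommutative V)
    (hVo : Odd (Nat.card V)) (hPV : P ≤ normalizer (V : Set G))
    (hcop : (Nat.card P).Coprime (Nat.card V)) (hfaith : P ⊓ centralizer (V : Set G) = ⊥)
    (hne : V ≠ ⊥) : 2 * Nat.card P ≤ Nat.card V := by
  letI : CommGroup V :=
    { (inferInstance : Group V) with mul_comm := fun a b => Subtype.ext (setLike_mul_comm a.2 b.2) }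
  haveI : (V.subgroupOf (normalizer (V : Set G))).Normal := Subgroup.normal_in_normalizer
  let φ : P →* MulAut V :=
    { toFun := fun g =>
        { toFun := fun v => ⟨g * v * (g : G)⁻¹, (mem_normalizer_iff.1 (hPV g.2) v).1 v.2⟩
          invFun := fun v => ⟨(g : G)⁻¹ * v * g, (mem_normalizer_iff''.1 (hPV g.2) v).1 v.2⟩
          left_inv := fun v => Subtype.ext (by simp [mul_assoc])
          right_inv := fun v => Subtype.ext (by simp [mul_assoc])
          map_mul' := fun a b => Subtype.ext (by simp [mul_assoc]) }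
      map_one' := MulEquiv.ext fun v => Subtype.ext (by simp)
      map_mul' := fun a b => MulEquiv.ext fun v => Subtype.ext (by simp [mul_assoc]) }
  have hinj : Function.Injective φ := by
    rw [← MonoidHom.ker_eq_bot_iff, eq_bot_iff]
    intro g hg
    rw [MonoidHom.mem_ker] at hg
    have h1 : (g : G) ∈ P ⊓ centralizer (V : Set G) := by
      refine ⟨g.2, fun v hv => ?_⟩
      have h2 := congrArg Subtype.val (DFunLike.congr_fun hg (⟨v, hv⟩ : V))
      change (g : G) * v * (g : G)⁻¹ = v at h2
      exact (mul_inv_eq_iff_eq_mul.1 h2).symm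
    rw [hfaith, mem_bot] at h1
    exact mem_bot.2 (Subtype.ext h1)
  have hcard : Nat.card φ.range = Nat.card P :=
    (Nat.card_congr (MonoidHom.ofInjective hinj).toEquiv).symm
  haveI := hP
  rw [← hcard] at hPo hcop ⊢
  exact NilpBound.aut_bound _ V rfl ((one_lt_card_iff_ne_bot V).2 hne) φ.range
    (Group.nilpotent_of_mulEquiv (MonoidHom.ofInjective hinj)) hPo hVo hcop

end CfsgLib.Signalizer
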