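import Cfsg.Agent.Lib.Signalizer.Core
import Cfsg.Agent.Lib.Signalizer.CoreCriterion
import Cfsg.Agent.Lib.Solvable.InvariantHall

/-!
No value of a minimal incomplete functor is a maximal member.
-/

set_option autoImplicit false
set_option linter.style.haveILetI false
set_option linter.unusedVariables false
set_option linter.unusedSectionVars false

open scoped Pointwise commutatorElement
open Subgroup

universe u

namespace CfsgLib.Signalizer

variable {G : Type u} [Group G] [Finite G] {p : ℕ} [hp : Fact p.Prime] {A : Subgroup G}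
  {θ : G → Subgroup G}

/-- An invariant `π`-subgroup between `J ∩ C` and `C` lies in the invariant Hall subgroup `J`. -/
theorem le_of_pi_between {π : Set ℕ} {M J R C : Subgroup G} (hM : Group.IsSolvable M)
    (hAM : A ≤ normalizer (M : Set G)) (hcop : (Nat.card A).Coprime (Nat.card M))
    (hJ : Cfsg.IsPiHallOf π J M) (hAJ : A ≤ normalizer (J : Set G))
    (hC : centralizer (A : Set G) ≤ normalizer (C : Set G))
    (hJR : J ⊓ C ≤ R) (hR : R ≤ M) (hRC : R ≤ C) (hAR : A ≤ normalizer (R : Set G))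
    (hπ : ∀ q : ℕ, q.Prime → q ∣ Nat.card R → q ∈ π) : R ≤ J := by
  obtain ⟨J', hJ', hAJ', hRJ'⟩ := CfsgLib.Solvable.exists_invariant_isPiHallOf_ge_aux
    π _ G A M rfl hAM hcop hM R hR hAR hπ
  obtain ⟨c, hc, hcJ⟩ :=
    CfsgLib.Solvable.exists_centralizer_conj_isPiHallOf hAM hcop hM hJ hAJ hJ' hAJ'
  rw [CfsgLib.Solvable.conj_smul_eq_map] at hcJ
  have hcC : C.map (MulAut.conj c).toMonoidHom = C := le_normalizer_map_conj (hC hc.2)
  have hcard : Nat.card ↥(J' ⊓ C) = Nat.card ↥(J ⊓ C) := by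
    rw [← hcJ, ← hcC, ← Subgroup.map_inf _ _ _ (MulAut.conj c).injective, hcC]
    exact card_map_of_injective (MulAut.conj c).injective
  have hle : R ≤ J' ⊓ C := le_inf hRJ' hRC
  rw [← eq_of_le_of_card_ge (hJR.trans hle) hcard.le] at hle
  exact hle.trans inf_le_left

/-- `[M,b]` has order prime to `u` if `b` centralizes every `u`-member. -/
theorem coprime_commutator_of_members_fixed (hA : Cfsg.IsElementaryAbelian p A) {b : G}
    (hb : b ∈ A) {u : ℕ} [Fact u.Prime]
    (hfix : ∀ U ∈ Cfsg.signalizerFamily p A θ, IsPGroup u U → U ≤ centralizer ({b} : Set G))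
    {M : Subgroup G} (hM : M ∈ Cfsg.signalizerFamily p A θ) :
    (Nat.card ↥⁅M, zpowers b⁆).Coprime u := by
  set K := ⁅M, zpowers b⁆ with hK
  have hKM : K ≤ M := commutator_zpowers_le (family_le_normalizer hM hb)
  have hKf : K ∈ Cfsg.signalizerFamily p A θ :=
    family_of_le hM hKM (le_normalizer_commutator_elem hA (family_le_normalizer hM) hb)
  have hAK := family_le_normalizer hKf
  have hKb : ⁅K, zpowers b⁆ = K := commutator_idem hA (family_not_dvd hM) (family_le_normalizer hM) hb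
  set O := opr u K with hO
  set F := opq u K with hF
  have hAF : A ≤ normalizer (F : Set G) := hAK.trans (normalizer_le_normalizer_opq u K)
  have hAO : A ≤ normalizer (O : Set G) := hAK.trans (normalizer_le_normalizer_opr u K)
  have hKO : K ≤ normalizer (O : Set G) := le_normalizer_opr u K
  have hFK : F ≤ K := opq_le u K
  haveI hKs := family_isSolvable hKf
  haveI hFs : Group.IsSolvable F := Group.isSolvable_of_isSolvable_injective (inclusion_injective hFK)
  -- `b` centralizes `F` modulo `O`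
  have hFb : F ≤ centralizerMod O (zpowers b) := by
    rw [← subgroupOf_eq_top]
    refine eq_of_le_of_card_ge le_top ?_
    rw [card_top]
    refine Nat.le_of_dvd Nat.card_pos
      ((Nat.dvd_iff_prime_pow_dvd_dvd _ _).2 fun s k hs hd => ?_)
    haveI := Fact.mk hs
    obtain ⟨S, hS⟩ := CfsgLib.Solvable.exists_invariant_sylow hAF
      (elementary_coprime hA (not_dvd_of_le hFK (family_not_dvd hKf))) (Or.inr hFs) s
    set S' := (S : Subgroup F).map F.subtype with hS'
    have hS'F : S' ≤ F := map_subtype_le _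
    suffices hle : S' ≤ centralizerMod O (zpowers b) by
      refine dvd_trans ?_ (card_dvd_of_le (show (S : Subgroup F) ≤ _ from
        fun x hx => mem_subgroupOf.mpr (hle (mem_map_of_mem F.subtype hx))))
      rw [S.card_eq_multiplicity]
      exact Nat.pow_dvd_pow s ((hs.pow_dvd_iff_le_factorization Nat.card_pos.ne').1 hd)
    intro x hx
    refine mem_centralizerMod.mpr ⟨hKO (hFK (hS'F hx)), fun z hz => ?_⟩
    by_cases hsu : s = u
    · subst hsu
      have h1 : x ∈ centralizer ({b} : Set G) :=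
        hfix S' (family_of_le hKf (hS'F.trans hFK) hS) (S.2.map _) hx
      rw [← centralizer_zpowers] at h1
      have h2 : x * z * x⁻¹ * z⁻¹ = 1 := by rw [← h1 z hz]; group
      rw [h2]
      exact O.one_mem
    · have hxO : x ∈ O := inf_opq_le_opr (T := S')
        (coprime_of_isPGroup (Ne.symm hsu) (S.2.map _)) (hS'F.trans hFK) ⟨hx, hS'F hx⟩
      have h3 : z * x⁻¹ * z⁻¹ ∈ O :=
        le_normalizer_iff.mp hAO z (zpowers_le.mpr hb hz) _ (O.inv_mem hxO)
      simpa [mul_assoc] using O.mul_mem hxO h3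
  -- so `K` centralizes `F` modulo `O`
  have hKF : K ≤ centralizerMod O F := by
    conv_lhs => rw [← hKb]
    rw [commutator_le]
    intro x hx z hz
    have hzA : z ∈ A := zpowers_le.mpr hb hz
    have hy : ⁅x, z⁆ ∈ K := commutator_zpowers_le (hAK hb) (commutator_mem_commutator hx hz)
    refine mem_centralizerMod.mpr ⟨hKO hy, fun v hv => ?_⟩
    have hzF : z⁻¹ * v * z ∈ F := (mem_normalizer_iff''.mp (hAF hzA) v).mp hv
    set v' := x⁻¹ * (z⁻¹ * v * z) * x with hv'
    have hv'F : v' ∈ F :=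
      (mem_normalizer_iff''.mp (le_normalizer_opq u K hx) _).mp hzF
    -- `[v',z]` and `[v,z⁻¹]` lie in `O`
    have h1 := (mem_centralizerMod.mp (hFb hv'F)).2 z hz
    have h2 := (mem_centralizerMod.mp (hFb hv)).2 z⁻¹ (inv_mem hz)
    have h1' : x * (v' * z * v'⁻¹ * z⁻¹) * x⁻¹ ∈ O :=
      (mem_normalizer_iff.mp (hKO hx) _).mp h1
    have e : ⁅x, z⁆ * v * ⁅x, z⁆⁻¹ * v⁻¹ =
        (x * (v' * z * v'⁻¹ * z⁻¹) * x⁻¹)⁻¹ * (v * z⁻¹ * v⁻¹ * z⁻¹⁻¹)⁻¹ := by
      rw [hv', commutatorElement_def]; group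
    rw [e]
    exact O.mul_mem (O.inv_mem h1') (O.inv_mem h2)
  have htop : (Cfsg.pPrimePCore u K) = ⊤ := by
    rw [eq_top_iff]
    intro k _
    show QuotientGroup.mk' (Cfsg.pPrimeCore u K) k ∈ Cfsg.pCore u (K ⧸ Cfsg.pPrimeCore u K)
    haveI : Group.IsSolvable (K ⧸ Cfsg.pPrimeCore u K) :=
      Group.isSolvable_of_surjective (QuotientGroup.mk'_surjective _)
    refine CfsgLib.OddOrder.centralizer_pCore_le CfsgLib.Components.pPrimeCore_quotient_self ?_
    rw [mem_centralizer_iff]
    rintro w hw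
    obtain ⟨v, rfl⟩ := QuotientGroup.mk'_surjective (Cfsg.pPrimeCore u K) w
    have hvF : (v : G) ∈ F := mem_map_of_mem K.subtype hw
    have h1 : k * v * k⁻¹ * v⁻¹ ∈ Cfsg.pPrimeCore u K :=
      (mem_map_iff_mem K.subtype_injective).mp ((mem_centralizerMod.mp (hKF k.2)).2 v hvF)
    have h2 : QuotientGroup.mk' (Cfsg.pPrimeCore u K) (k * v * k⁻¹ * v⁻¹) = 1 :=
      (QuotientGroup.eq_one_iff _).mpr h1
    rw [map_mul, map_mul, map_mul, map_inv, map_inv, mul_inv_eq_one, mul_inv_eq_iff_eq_mul] at h2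
    exact h2.symm
  have hKle : K ≤ O := by
    conv_lhs => rw [← hKb]
    rw [commutator_le]
    intro x hx z hz
    have hxF : x ∈ F := ⟨⟨x, hx⟩, htop.ge (mem_top _), rfl⟩
    exact (mem_centralizerMod.mp (hFb hxF)).2 z hz
  exact (opr_coprime u K).coprime_dvd_left (card_dvd_of_le hKle)

namespace IsMinimalIncomplete

/-- No prime of `θ b` has all its members centralized by `b`. -/
theorem false_of_members_fixed (h : IsMinimalIncomplete p A θ) {b : G} (hb : b ∈ A) (hb1 : b ≠ 1)
    {u : ℕ} [Fact u.Prime] (hu : u ∣ Nat.card (θ b))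
    (hfix : ∀ U ∈ Cfsg.signalizerFamily p A θ, IsPGroup u U → U ≤ centralizer ({b} : Set G)) :
    False := by
  have hA := h.elem
  have hθb := functor_mem_family h.functor hb hb1
  have hAb := family_le_normalizer hθb
  obtain ⟨J, hJ, hAJ⟩ := CfsgLib.Solvable.exists_invariant_isPiHallOf hAb
    (elementary_coprime hA (family_not_dvd hθb)) (family_isSolvable hθb) {q : ℕ | q ≠ u}
  have hJu : (Nat.card J).Coprime u :=
    ((Fact.out : u.Prime).coprime_iff_not_dvd.mpr fun hd => hJ.2.1 u Fact.out hd rfl).symm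
  have hJf : J ∈ Cfsg.signalizerFamily p A θ := family_of_le hθb hJ.1 hAJ
  have hJb : J ≤ centralizer ({b} : Set G) :=
    hJ.1.trans (functor_le_centralizer h.functor hb hb1)
  set φ : G → Subgroup G := fun a => ⁅θ a, zpowers b⁆ ⊔ (J ⊓ centralizer ({a} : Set G)) with hφ
  have hK0 : ∀ {a : G}, a ∈ A → a ≠ 1 → ⁅θ a, zpowers b⁆ ≤ θ a := fun ha ha1 =>
    commutator_zpowers_le (functor_le_normalizer h.functor ha ha1 hb)
  have hAK0 : ∀ {a : G}, a ∈ A → a ≠ 1 →
      A ≤ normalizer ((⁅θ a, zpowers b⁆ : Subgroup G) : Set G) :=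
    fun ha ha1 => le_normalizer_commutator_elem hA (functor_le_normalizer h.functor ha ha1) hb
  have hK0u : ∀ {a : G}, a ∈ A → a ≠ 1 → (Nat.card ↥⁅θ a, zpowers b⁆).Coprime u := fun ha ha1 =>
    coprime_commutator_of_members_fixed hA hb hfix (functor_mem_family h.functor ha ha1)
  have hJθ : ∀ {a : G}, a ∈ A → a ≠ 1 → J ⊓ centralizer ({a} : Set G) ≤ θ a :=
    fun ha ha1 => family_inf_le hJf ha ha1
  have hθn : ∀ a : G, θ a ≤ normalizer ((⁅θ a, zpowers b⁆ : Subgroup G) : Set G) := fun a =>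
    CfsgLib.Solvable.le_normalizer_commutator_left _ _
  have hAJa : ∀ {a : G}, a ∈ A →
      A ≤ normalizer ((J ⊓ centralizer ({a} : Set G) : Subgroup G) : Set G) :=
    fun ha => le_normalizer_inf_centralizer_elem hA hAJ ha
  have hφle : ∀ {a : G}, a ∈ A → a ≠ 1 → φ a ≤ θ a := fun ha ha1 =>
    sup_le (hK0 ha ha1) (hJθ ha ha1)
  have hfun : Cfsg.IsSolvableSignalizerFunctor p A φ := by
    refine ⟨⟨fun a ha ha1 => (hφle ha ha1).trans (functor_le_centralizer h.functor ha ha1),
      fun a ha ha1 => not_dvd_of_le (hφle ha ha1) (h.functor.1.2.1 a ha ha1),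
      fun a ha ha1 => conj_mem_iff_le_normalizer.mpr (le_normalizer_sup (hAK0 ha ha1) (hAJa ha)),
      fun a ha ha1 c hc hc1 => ?_⟩, fun a ha ha1 => ?_⟩
    swap
    · haveI := h.functor.2 a ha ha1
      exact Group.isSolvable_of_isSolvable_injective (inclusion_injective (hφle ha ha1))
    rintro x ⟨hxφ, hxc⟩
    obtain ⟨o, ho, j, hj, rfl⟩ := (CfsgLib.Solvable.mem_sup_of_le_normalizer
      ((hJθ ha ha1).trans (hθn a))).mp hxφ
    rw [← centralizer_zpowers] at hxc
    obtain ⟨o', ho', j', hj', he⟩ := CfsgLib.Solvable.centralizer_of_product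
      (A := zpowers c) (K := φ a) (X := ⁅θ a, zpowers b⁆) (Y := J ⊓ centralizer ({a} : Set G))
      (zpowers_coprime hA (not_dvd_of_le (hφle ha ha1) (h.functor.1.2.1 a ha ha1)) hc)
      (zpowers_solvable_or hA hc) le_sup_left ((zpowers_le.mpr hc).trans (hAK0 ha ha1))
      ((zpowers_le.mpr hc).trans (hAJa ha)) ho hj hxc
    rw [he]
    rw [centralizer_zpowers] at ho' hj'
    refine Subgroup.mul_mem _ ?_ (mem_sup_right ⟨hj'.1.1, hj'.2⟩)
    set Y := ⁅θ a, zpowers b⁆ ⊓ centralizer ({c} : Set G) with hY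
    have hAY : A ≤ normalizer (Y : Set G) :=
      le_normalizer_inf_centralizer_elem hA (hAK0 ha ha1) hc
    have hYa : Y ≤ θ a := inf_le_left.trans (hK0 ha ha1)
    have hYf : Y ∈ Cfsg.signalizerFamily p A θ :=
      family_of_le (functor_mem_family h.functor ha ha1) hYa hAY
    have hYc : Y ≤ θ c :=
      (inf_le_inf_right _ (hK0 ha ha1)).trans (h.functor.1.2.2.2 a ha ha1 c hc hc1)
    have hYu : (Nat.card Y).Coprime u := (hK0u ha ha1).coprime_dvd_left (card_dvd_of_le inf_le_left)
    set R := Y ⊓ centralizer ({b} : Set G) with hR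
    set C := centralizer ({a} : Set G) ⊓ centralizer ({c} : Set G) with hC
    have hRb : R ≤ θ b := family_inf_le hYf hb hb1
    have hRC : R ≤ C := le_inf ((inf_le_left.trans hYa).trans (functor_le_centralizer h.functor ha ha1))
      (inf_le_left.trans inf_le_right)
    have hJCn : J ⊓ C ≤ normalizer (R : Set G) := le_normalizer_inf (le_normalizer_inf
      (((inf_le_inf_left _ inf_le_left).trans (hJθ ha ha1)).trans (hθn a))
      ((inf_le_right.trans inf_le_right).trans le_normalizer))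
      ((inf_le_left.trans hJb).trans le_normalizer)
    have hdvd := CfsgLib.Components.card_sup_dvd hJCn
    rw [sup_comm] at hdvd
    have hAC : A ≤ normalizer (C : Set G) := le_normalizer_inf
      ((le_centralizer_singleton hA ha).trans le_normalizer)
      ((le_centralizer_singleton hA hc).trans le_normalizer)
    have hcopR : (Nat.card ↥(R ⊔ J ⊓ C)).Coprime u := Nat.Coprime.coprime_dvd_left hdvd
      (Nat.Coprime.mul_left (hJu.coprime_dvd_left (card_dvd_of_le inf_le_left))
        (hYu.coprime_dvd_left (card_dvd_of_le inf_le_left)))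
    have hRJ : R ≤ J := le_trans le_sup_left (le_of_pi_between (family_isSolvable hθb) hAb
      (elementary_coprime hA (family_not_dvd hθb)) hJ hAJ
      (le_normalizer_inf ((centralizer_le (Set.singleton_subset_iff.mpr ha)).trans le_normalizer)
        ((centralizer_le (Set.singleton_subset_iff.mpr hc)).trans le_normalizer))
      (le_sup_right (a := R)) (sup_le hRb (inf_le_left.trans hJ.1)) (sup_le hRC inf_le_right)
      (le_normalizer_sup (le_normalizer_inf_centralizer_elem hA hAY hb) (le_normalizer_inf hAJ hAC))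
      (fun q hq hd hqu => hq.ne_one (Nat.eq_one_of_dvd_coprimes hcopR hd (hqu ▸ dvd_rfl))))
    have hoY : o' ∈ ⁅Y, zpowers b⁆ ⊔ R := by
      rw [sup_centralizer_eq hA (family_not_dvd hYf) hAY hb]; exact ho'
    exact sup_le ((commutator_mono hYc le_rfl).trans le_sup_left)
      (le_sup_of_le_right (le_inf hRJ (inf_le_left.trans inf_le_right))) hoY
  have hlt : functorTotal A φ < functorTotal A θ := by
    refine Finset.sum_lt_sum (fun a ha => ?_) ⟨b, (Set.Finite.mem_toFinset _).mpr ⟨hb, hb1⟩, ?_⟩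
    · rw [Set.Finite.mem_toFinset] at ha
      exact card_le_of_le (hφle ha.1 ha.2)
    · have hφb : φ b = J := by
        simp only [hφ]
        rw [commutator_eq_bot_of_le_centralizer_singleton (functor_le_centralizer h.functor hb hb1),
          bot_sup_eq, inf_eq_left.mpr hJb]
      rw [hφb]
      refine lt_of_le_of_ne (card_le_of_le hJ.1) fun he =>
        (Fact.out : u.Prime).ne_one (Nat.eq_one_of_dvd_coprimes hJu ?_ dvd_rfl)
      rw [he]
      exact hu
  obtain ⟨W, hW, hWa⟩ := h.smaller G A φ hA h.card_eq hfun hlt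
  have hWf : W ∈ Cfsg.signalizerFamily p A θ := ⟨hW.1, hW.2.1, hW.2.2.1,
    fun a ha ha1 => (hW.2.2.2 a ha ha1).trans (hφle ha ha1)⟩
  set H := ⨆ a : {a : G // a ∈ A ∧ a ≠ 1}, ⁅θ (a : G), zpowers b⁆ with hH
  have hHf : H ∈ Cfsg.signalizerFamily p A θ := family_of_le hWf
    (iSup_le fun a => le_sup_left.trans (hWa a a.2.1 a.2.2))
    (le_normalizer_iSup fun a => hAK0 a.2.1 a.2.2)
  have hline : ∀ L, IsLine p A L → b ∈ L → Cfsg.signalizerInf L θ ≤ normalizer (H : Set G) := by
    intro L hL hbL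
    have heq : H = ⨆ d : {d : G // d ∈ L ∧ d ∉ zpowers b}, ⁅θ (d : G), zpowers b⁆ := by
      refine le_antisymm (iSup_le fun a => ?_) (iSup_le fun d => ?_)
      · refine (commutator_le_iSup_commutator hA hL.1 hL.2 hbL hb1 (h.functor.2 _ a.2.1 a.2.2)
          (h.functor.1.2.1 _ a.2.1 a.2.2) (functor_le_normalizer h.functor a.2.1 a.2.2)).trans
          (iSup_mono fun d => commutator_mono ?_ le_rfl)
        exact h.functor.1.2.2.2 _ a.2.1 a.2.2 _ (hL.1 d.2.1)
          fun h1 => d.2.2 (h1 ▸ (zpowers b).one_mem)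
      · exact le_iSup (fun a : {a : G // a ∈ A ∧ a ≠ 1} => ⁅θ (a : G), zpowers b⁆)
          ⟨d, hL.1 d.2.1, fun h1 => d.2.2 (h1 ▸ (zpowers b).one_mem)⟩
    rw [heq]
    exact le_normalizer_iSup fun d =>
      (signalizerInf_le d.2.1 fun h1 => d.2.2 (h1 ▸ (zpowers b).one_mem)).trans (hθn d)
  have hbH : θ b ≤ normalizer (H : Set G) := by
    refine le_of_lines hA h.card_eq (family_not_dvd hθb) hAb fun B hB => ?_
    by_cases hbB : b ∈ B
    · exact (family_inf_centralizer_le hθb hB.1).trans (hline B hB hbB)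
    · obtain ⟨L, hL, hbL, -⟩ := exists_line_ge hA h.card_eq hb hb
      refine le_trans ?_ (hline L hL hbL)
      refine le_trans ?_ (le_signalizerInf fun x hx hx1 =>
        signalizerInf_le (B := A) (hL.1 hx) hx1)
      refine le_trans (le_inf inf_le_left ?_) (family_inf_centralizer_le hθb le_rfl)
      rw [← hB.centralizer_inf hA h.card_eq hb hbB]
      exact le_inf inf_le_right (inf_le_left.trans (functor_le_centralizer h.functor hb hb1))
  have hH1 : H = ⊥ := h.eq_bot_of_normalized hHf fun a ha ha1 => by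
    rw [← sup_centralizer_eq hA (h.functor.1.2.1 a ha ha1) (functor_le_normalizer h.functor ha ha1) hb]
    exact sup_le ((le_iSup (fun a : {a : G // a ∈ A ∧ a ≠ 1} => ⁅θ (a : G), zpowers b⁆)
      ⟨a, ha, ha1⟩).trans le_normalizer) ((h.functor.1.2.2.2 a ha ha1 b hb hb1).trans hbH)
  refine h.not_complete ⟨θ b, hθb, fun a ha ha1 => ?_⟩
  have h0 : ⁅θ a, zpowers b⁆ = ⊥ := le_bot_iff.mp
    ((le_iSup (fun a : {a : G // a ∈ A ∧ a ≠ 1} => ⁅θ (a : G), zpowers b⁆) ⟨a, ha, ha1⟩).trans
      hH1.le)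
  exact (le_inf le_rfl (le_centralizer_singleton_of_commutator_eq_bot h0)).trans
    (h.functor.1.2.2.2 a ha ha1 b hb hb1)

theorem not_isMaxMember_theta (h : IsMinimalIncomplete p A θ) {c : G} (hc : c ∈ A) (hc1 : c ≠ 1) :
    ¬ IsMaxMember p A θ (θ c) := by
  intro hmax
  have hA := h.elem
  have hne : θ c ≠ ⊥ := fun h0 => h.not_complete ⟨θ c, hmax.1, fun a ha ha1 =>
    (hmax.2 _ (functor_mem_family h.functor ha ha1) (h0.le.trans bot_le)).le⟩
  obtain ⟨u, hu, huR⟩ := exists_oq_ne_bot hmax.solvable hne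
  haveI := Fact.mk hu
  set R := oq u (θ c) with hR
  have hud : u ∣ Nat.card (θ c) := by
    obtain ⟨n, hn⟩ := (oq_isPGroup u (θ c)).exists_card_eq
    refine (dvd_pow_self u (fun h0 => huR (card_eq_one.mp ?_))).trans
      (hn.symm.dvd.trans (card_dvd_of_le (oq_le u _)))
    rw [hn, h0, pow_zero]
  have hup : u ≠ p := fun e => family_not_dvd hmax.1 (e ▸ hud)
  obtain ⟨Q, hQ, hQu, hRQ, hQmax⟩ := exists_maximal_ge (family_oq hmax.1 u) (oq_isPGroup u (θ c))
  have hcQ : zpowers c ≤ centralizer (Q : Set G) := by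
    refine CfsgLib.Solvable.thompson_pxq (oq_isPGroup u (θ c)) ?_ hQu ?_ (hRQ.trans le_normalizer)
      ((zpowers_le.mpr hc).trans (family_le_normalizer hQ)) ?_
    · rw [Nat.card_zpowers, orderOf_eq_prime (hA.2 c hc) hc1]
      exact (Nat.coprime_primes hp.out hu).mpr hup.symm
    · rw [centralizer_zpowers]
      exact (oq_le u _).trans (functor_le_centralizer h.functor hc hc1)
    · rw [centralizer_zpowers]
      exact (h.le_max_of_normalizes hmax (oq_le u _)
        (hmax.le_normalizer'.trans (normalizer_le_normalizer_oq u _)) (le_normalizer_oq u _) huR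
        (family_inf_centralizer hA hQ (family_oq hmax.1 u))
        (inf_le_right.trans (centralizer_le_normalizer _))).trans
        (functor_le_centralizer h.functor hc hc1)
  refine h.false_of_members_fixed hc hc1 hud fun U hU hUu => ?_
  obtain ⟨Q', hQ', hQ'u, hUQ', hQ'max⟩ := exists_maximal_ge hU hUu
  obtain ⟨d, hd, rfl⟩ := transitivity hA h.card_ge h.functor hup hQ hQu hQmax hQ' hQ'u hQ'max
  refine hUQ'.trans ?_
  rintro _ ⟨y, hy, rfl⟩
  have hdc : d ∈ centralizer ({c} : Set G) :=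
    functor_le_centralizer h.functor hc hc1 (signalizerInf_le hc hc1 hd)
  have hyc : y ∈ centralizer ({c} : Set G) := by
    rw [← centralizer_zpowers]
    exact le_centralizer_iff.mp hcQ hy
  exact Subgroup.mul_mem _ (Subgroup.mul_mem _ hdc hyc) (Subgroup.inv_mem _ hdc)

theorem exists_moved_prime (h : IsMinimalIncomplete p A θ) {c : G} (hc : c ∈ A) (hc1 : c ≠ 1)
    {K : Subgroup G} (hK : IsMaxMember p A θ K) (hcK : θ c ≤ K) :
    ∃ q : ℕ, q.Prime ∧ ¬ oq q K ≤ centralizer ({c} : Set G) := by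
  by_contra hcon
  push Not at hcon
  have hKc : K ≤ centralizer ({c} : Set G) := by
    refine le_centralizer_singleton_of_commutator_eq_bot ?_
    rw [← commutator_idem h.elem hK.not_dvd hK.le_normalizer' hc]
    refine commutator_eq_bot_of_le_centralizer_singleton ?_
    exact le_of_centralizes_oq hK.solvable (commutator_zpowers_le (hK.le_normalizer' hc))
      (fun r hr => commutator_zpowers_le_centralizer (le_normalizer_oq r K) (hcon r hr))
      fun r hr => (zq_le_oq r K).trans (hcon r hr)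
  have hKθ : K ≤ θ c := fun x hx => family_inf_le hK.1 hc hc1 ⟨hx, hKc hx⟩
  exact h.not_isMaxMember_theta hc hc1 (le_antisymm hcK hKθ ▸ hK)

theorem two_moved (h : IsMinimalIncomplete p A θ) {g : G} (hg : IsXPoint p A θ g)
    {K : Subgroup G} (hK : IsMaxMember p A θ K) (hgK : θ g ≤ K) :
    ¬ oq 2 K ≤ centralizer ({g} : Set G) := by
  obtain ⟨q, hq, hmoved⟩ := h.exists_moved_prime hg.1 hg.2.1 hK hgK
  by_cases hq2 : q = 2
  · exact hq2 ▸ hmoved
  · exact absurd (hg.oq_le hK hgK hq hq2) hmoved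

theorem ne_two_of_isXPoint (h : IsMinimalIncomplete p A θ) {g : G} (hg : IsXPoint p A θ g) :
    p ≠ 2 := by
  obtain ⟨K, hK, hgK⟩ := exists_isMaxMember_ge (functor_mem_family h.functor hg.1 hg.2.1)
  intro hp2
  haveI : Fact (Nat.Prime 2) := ⟨Nat.prime_two⟩
  refine h.two_moved hg hK hgK ?_
  obtain ⟨n, hn⟩ := (oq_isPGroup 2 K).exists_card_eq
  have hn0 : n = 0 := by
    by_contra hn0
    exact family_not_dvd hK.1 (hp2 ▸ (dvd_pow_self 2 hn0).trans (hn.symm.dvd.trans
      (card_dvd_of_le (oq_le 2 K))))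
  rw [hn0, pow_zero] at hn
  rw [card_eq_one.mp hn]
  exact bot_le

end IsMinimalIncomplete

end CfsgLib.Signalizer
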