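import Cfsg.Agent.Lib.Signalizer.Absorb
import Cfsg.Agent.Lib.Signalizer.NoMax

/-!
Every line of a minimal incomplete functor has two independent points whose odd Fitting parts are
fixed.
-/

set_option autoImplicit false
set_option linter.style.haveILetI false
set_option linter.unusedVariables false
set_option linter.unusedSectionVars false

open scoped Pointwise commutatorElement
open Subgroup

universe u

namespace CfsgLib.Signalizer

variable {G : Type u} [Group G] [Finite G] {p : ℕ} [hp : Fact p.Prime] {A : Subgroup G}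
  {θ : G → Subgroup G}

namespace IsMinimalIncomplete

/-- A moved odd prime at `c` gives a `q`-line, and `c` is a point of `q`. -/
theorem moved_data (h : IsMinimalIncomplete p A θ) {c : G} (hc : c ∈ A) (hc1 : c ≠ 1)
    {K : Subgroup G} (hK : IsMaxMember p A θ K) (hcK : θ c ≤ K) {q : ℕ} [Fact q.Prime] (hq : q ≠ 2)
    (hmoved : ¬ oq q K ≤ centralizer ({c} : Set G)) :
    IsQMax p A θ q K ∧ q ≠ p ∧ rbar p A θ q ≠ ⊥ ∧
      ∃ B, IsLine p A B ∧ ∀ b ∈ B, b ≠ 1 → IsQPoint p A θ q b := by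
  have hne : oq q K ≠ ⊥ := fun h0 => hmoved (h0.le.trans bot_le)
  obtain ⟨B, U, hU⟩ := exists_isAbsorbed_of_moved h hc hc1 hK hcK hq hmoved
  exact ⟨⟨hK, (functor_mem_fixed_le hc hc1).trans hcK, hne⟩, hU.ne_prime,
    fun h0 => hU.ne_bot (le_bot_iff.mp ((IsAbsorbed.le_rbar h hU).trans h0.le)),
    B, hU.line, fun b hb hb1 => IsAbsorbed.isQPoint h hU hb hb1⟩

/-- `[O_q(K),c] = [rbar,c]` is normalized by `θ c`. -/
theorem theta_le_normalizer_commutator_rbar (h : IsMinimalIncomplete p A θ) {c : G} (hc : c ∈ A)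
    (hc1 : c ≠ 1) {K : Subgroup G} (hK : IsMaxMember p A θ K) (hcK : θ c ≤ K) {q : ℕ}
    [Fact q.Prime] (hq : q ≠ 2) (hKq : IsQMax p A θ q K) :
    ⁅rbar p A θ q, zpowers c⁆ = ⁅oq q K, zpowers c⁆ ∧
      θ c ≤ normalizer ((⁅oq q K, zpowers c⁆ : Subgroup G) : Set G) := by
  refine ⟨le_antisymm (commutator_mono (rbar_le hKq) le_rfl) ?_, fun x hx =>
    normalizer_inf_le_normalizer_commutator _ _ ⟨le_normalizer_oq q K (hcK hx), ?_⟩⟩
  · have hf := family_oq (p := p) hK.1 q
    calc ⁅oq q K, zpowers c⁆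
        = ⁅⁅oq q K, zpowers c⁆, zpowers c⁆ :=
          (commutator_idem h.elem (family_not_dvd hf) (family_le_normalizer hf) hc).symm
      _ ≤ _ := commutator_mono (h.commutator_oq_le_rbar hc hc1 hK hcK hq) le_rfl
  · refine centralizer_le_normalizer _ ?_
    rw [centralizer_zpowers]
    exact functor_le_centralizer h.functor hc hc1 hx

/-- A moved odd prime at `c` puts `θ c` in the normalizer of the meet of the `O_q(K)`. -/
theorem theta_le_normalizer_rbar (h : IsMinimalIncomplete p A θ) {c : G} (hc : c ∈ A) (hc1 : c ≠ 1)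
    {K : Subgroup G} (hK : IsMaxMember p A θ K) (hcK : θ c ≤ K) {q : ℕ} [Fact q.Prime] (hq : q ≠ 2)
    (hmoved : ¬ oq q K ≤ centralizer ({c} : Set G)) :
    θ c ≤ normalizer (rbar p A θ q : Set G) := by
  obtain ⟨hKq, hqp, -, B, hB, hBpt⟩ := h.moved_data hc hc1 hK hcK hq hmoved
  have hA := h.elem
  set R := rbar p A θ q with hR
  have hRf := h.rbar_mem_family hKq
  have hAR := family_le_normalizer hRf
  obtain ⟨hP, hcP⟩ := h.theta_le_normalizer_commutator_rbar hc hc1 hK hcK hq hKq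
  refine h.theta_le_of_lines hc hc1 fun L hL hcL => ?_
  have hLc : Cfsg.signalizerInf L θ ≤ θ c := signalizerInf_le hcL hc1
  by_cases hall : ∀ b ∈ L, b ≠ 1 → IsQPoint p A θ q b
  · exact h.signalizerInf_le_normalizer_rbar hqp hL hall
  push Not at hall
  obtain ⟨g, hgL, hg1, hgn⟩ := hall
  have hfix0 : R ⊓ centralizer ({g} : Set G) = ⊥ :=
    h.rbar_inf_centralizer_eq_bot hB hBpt (hL.1 hgL) hg1 hgn
  have hRL : R ⊓ centralizer (L : Set G) = ⊥ :=
    le_bot_iff.mp ((inf_le_inf_left R (centralizer_le (Set.singleton_subset_iff.mpr hgL))).trans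
      hfix0.le)
  set P := ⁅oq q K, zpowers c⁆ with hPdef
  set F := R ⊓ centralizer ({c} : Set G) with hF
  have hRsup : P ⊔ F = R := by
    rw [← hP]; exact sup_centralizer_eq hA (family_not_dvd hRf) hAR hc
  by_cases hex : ∃ e ∈ L, e ∉ zpowers c ∧ IsQPoint p A θ q e
  · obtain ⟨e, heL, hec, Ke, hKe, heKe⟩ := hex
    have he1 : e ≠ 1 := fun h1 => hec (h1 ▸ (zpowers c).one_mem)
    have hFe : F ⊓ centralizer ({e} : Set G) ≤ R ⊓ centralizer (L : Set G) := by
      rintro x ⟨⟨hx, hxc⟩, hxe⟩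
      refine ⟨hx, ?_⟩
      have hle : L ≤ centralizer ({x} : Set G) := by
        have hcard := card_sup_zpowers_elementary hA (zpowers_le.mpr (hL.1 hcL)) (hL.1 heL) hec
        rw [card_zpowers_elementary hA hc hc1, ← pow_two] at hcard
        rw [← eq_of_le_of_card_ge (sup_le (zpowers_le.mpr hcL) (zpowers_le.mpr heL))
          (by rw [hcard, hL.2])]
        exact sup_le (zpowers_le.mpr (mem_centralizer_singleton_iff.mpr (hxc c rfl)))
          (zpowers_le.mpr (mem_centralizer_singleton_iff.mpr (hxe e rfl)))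
      exact fun l hl => mem_centralizer_singleton_iff.mp (hle hl)
    by_cases hme : oq q Ke ≤ centralizer ({e} : Set G)
    · -- `e` fixes `rbar`
      have hF1 : F = ⊥ := le_bot_iff.mp
        (((le_inf le_rfl ((inf_le_left.trans (rbar_le hKe)).trans hme)).trans hFe).trans hRL.le)
      rw [← hRsup, hF1, sup_bot_eq]
      exact hLc.trans hcP
    · obtain ⟨hPe, hePe⟩ :=
        h.theta_le_normalizer_commutator_rbar (hL.1 heL) he1 hKe.1 heKe hq hKe
      set Pe := ⁅oq q Ke, zpowers e⁆ with hPedef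
      have hAF : A ≤ normalizer (F : Set G) := le_normalizer_inf_centralizer_elem hA hAR hc
      have hFd : ¬ p ∣ Nat.card F := not_dvd_of_le inf_le_left (family_not_dvd hRf)
      have hFP : F ≤ Pe := by
        rw [← sup_centralizer_eq hA hFd hAF (hL.1 heL)]
        refine sup_le ?_ ((hFe.trans hRL.le).trans bot_le)
        exact (commutator_mono inf_le_left le_rfl).trans hPe.le
      have heq : P ⊔ Pe = R := le_antisymm
        (sup_le (h.commutator_oq_le_rbar hc hc1 hK hcK hq)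
          (h.commutator_oq_le_rbar (hL.1 heL) he1 hKe.1 heKe hq))
        (hRsup.symm.le.trans (sup_le_sup_left hFP P))
      rw [← heq]
      exact le_normalizer_sup (hLc.trans hcP) ((signalizerInf_le heL he1).trans hePe)
  · -- no further point on `L`: `rbar` is fixed by `c`
    exfalso
    push Not at hex
    have hRc : R ≤ centralizer ({c} : Set G) := by
      haveI := (elementary_of_le hA hL.1).1
      refine CfsgLib.Solvable.le_of_centralizer_le (hL.not_isCyclic hA) (hL.1.trans hAR)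
        ((elementary_coprime hA (family_not_dvd hRf)).coprime_dvd_left (card_dvd_of_le hL.1))
        fun b hb hb1 => ?_
      by_cases hbc : b ∈ zpowers c
      · have hz : zpowers b = zpowers c := eq_of_le_of_card_ge (zpowers_le.mpr hbc) (by
          rw [card_zpowers_elementary hA hc hc1, card_zpowers_elementary hA (hL.1 hb) hb1])
        refine inf_le_right.trans ?_
        rw [← centralizer_zpowers, hz, centralizer_zpowers]
      · rw [h.rbar_inf_centralizer_eq_bot hB hBpt (hL.1 hb) hb1 (hex b hb hbc)]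
        exact bot_le
    exact hmoved (le_centralizer_singleton_of_commutator_eq_bot
      (le_bot_iff.mp (hP.symm.le.trans (commutator_eq_bot_of_le_centralizer_singleton hRc).le)))

/-- A member over the members normalizing one `rbar` contains those normalizing any other. -/
theorem normalizer_rbar_max_eq (h : IsMinimalIncomplete p A θ) {q r : ℕ} [Fact q.Prime]
    [Fact r.Prime] (hqr : q ≠ r) (hq : rbar p A θ q ≠ ⊥) (hr : rbar p A θ r ≠ ⊥)
    {Kq Kr Bq Br Nq Nr : Subgroup G} (hKq : IsQMax p A θ q Kq) (hKr : IsQMax p A θ r Kr)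
    (hBq : IsLine p A Bq) (hBr : IsLine p A Br)
    (hptq : ∀ b ∈ Bq, b ≠ 1 → IsQPoint p A θ q b) (hptr : ∀ b ∈ Br, b ≠ 1 → IsQPoint p A θ r b)
    (hNq : IsMaxMember p A θ Nq)
    (hallq : ∀ H ∈ Cfsg.signalizerFamily p A θ, H ≤ normalizer (rbar p A θ q : Set G) → H ≤ Nq)
    (hNr : IsMaxMember p A θ Nr)
    (hallr : ∀ H ∈ Cfsg.signalizerFamily p A θ, H ≤ normalizer (rbar p A θ r : Set G) → H ≤ Nr) :
    Nr = Nq := by
  have hA := h.elem
  have hqf := h.rbar_mem_family hKq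
  have hrf := h.rbar_mem_family hKr
  have hcomm : rbar p A θ r ≤ centralizer (rbar p A θ q : Set G) := by
    refine le_centralizer_iff.mp (le_of_lines hA h.card_eq (family_not_dvd hqf)
      (family_le_normalizer hqf) fun B hB => le_centralizer_iff.mp
        (le_of_lines hA h.card_eq (family_not_dvd hrf) (family_le_normalizer hrf) fun B' hB' => ?_))
    obtain ⟨g, hgB, hgB', hg1⟩ := hB.exists_mem_inf hA h.card_eq hB'
    have hgA := hB.1 hgB
    have hθg := functor_mem_family h.functor hgA hg1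
    have hpiece : ∀ {S T : Subgroup G}, S ∈ Cfsg.signalizerFamily p A θ → g ∈ T → T ≤ A →
        S ⊓ centralizer (T : Set G) ≤ S ⊓ θ g := fun hS hgT hTA => le_inf inf_le_left
      ((inf_le_inf_left _ (centralizer_le (Set.singleton_subset_iff.mpr hgT))).trans
        (family_inf_le hS (hTA hgT) hg1))
    refine ((hpiece hrf hgB' hB'.1).trans (h.rbar_inf_le_oq hBr hptr hθg)).trans ?_
    exact (oq_le_centralizer_oq hqr.symm (θ g)).trans
      (centralizer_le ((hpiece hqf hgB hB.1).trans (h.rbar_inf_le_oq hBq hptq hθg)))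
  have hqNq : rbar p A θ q ≤ oq q Nq :=
    (le_inf le_rfl (hallq _ hqf le_normalizer)).trans (h.rbar_inf_le_oq hBq hptq hNq.1)
  have hrNq : rbar p A θ r ≤ oq r Nq :=
    (le_inf le_rfl (hallq _ hrf (hcomm.trans (centralizer_le_normalizer _)))).trans
      (h.rbar_inf_le_oq hBr hptr hNq.1)
  have hqN : rbar p A θ q ≤ oq q Nr :=
    (le_inf le_rfl (hallr _ hqf ((le_centralizer_iff.mp hcomm).trans
      (centralizer_le_normalizer _)))).trans (h.rbar_inf_le_oq hBq hptq hNr.1)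
  have hne : oq q Nq ≠ ⊥ := fun h0 => hq (le_bot_iff.mp (hqNq.trans h0.le))
  have hmix : IsMixed Nq :=
    ⟨q, r, Fact.out, Fact.out, hqr, hne, fun h0 => hr (le_bot_iff.mp (hrNq.trans h0.le))⟩
  refine h.eq_of_zq_le hNq hmix hNr (fun s hs => ?_) (fun w hw hw0 => ?_)
  · haveI := Fact.mk hs
    refine hallr _ (family_zq hNq.1 s) (le_trans ?_ (centralizer_le_normalizer _))
    refine le_trans ?_ (centralizer_le hrNq)
    by_cases hsr : s = r
    · subst hsr; exact zq_le_centralizer s Nq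
    · exact (zq_le_oq s Nq).trans (oq_le_centralizer_oq hsr Nq)
  · haveI := Fact.mk hw
    have hwq : w ≠ q := fun he => hne (he ▸ hw0)
    exact hallq _ (family_oq hNr.1 w) (((oq_le_centralizer_oq hwq Nr).trans
      (centralizer_le hqN)).trans (centralizer_le_normalizer _))

/-- One maximal member contains the values of all points that are not `IsXPoint`. -/
theorem exists_max_over_odd_points (h : IsMinimalIncomplete p A θ)
    (hodd : ∃ c ∈ A, c ≠ 1 ∧ ¬ IsXPoint p A θ c) :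
    ∃ N, IsMaxMember p A θ N ∧ ∀ c ∈ A, c ≠ 1 → ¬ IsXPoint p A θ c → θ c ≤ N := by
  have key : ∀ c ∈ A, c ≠ 1 → ¬ IsXPoint p A θ c →
      ∃ q : ℕ, ∃ _ : Fact q.Prime, q ≠ 2 ∧ rbar p A θ q ≠ ⊥ ∧ (∃ K, IsQMax p A θ q K) ∧
        (∃ B, IsLine p A B ∧ ∀ b ∈ B, b ≠ 1 → IsQPoint p A θ q b) ∧
        θ c ≤ normalizer (rbar p A θ q : Set G) := by
    intro c hc hc1 hx
    have hx' : ¬ ∀ K, IsMaxMember p A θ K → θ c ≤ K → ∀ q : ℕ, q.Prime → q ≠ 2 →
        oq q K ≤ centralizer ({c} : Set G) := fun hh => hx ⟨hc, hc1, hh⟩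
    push Not at hx'
    obtain ⟨K, hK, hcK, q, hqpr, hq2, hmoved⟩ := hx'
    haveI := Fact.mk hqpr
    obtain ⟨hKq, -, hne, hB⟩ := h.moved_data hc hc1 hK hcK hq2 hmoved
    exact ⟨q, inferInstance, hq2, hne, ⟨K, hKq⟩, hB,
      h.theta_le_normalizer_rbar hc hc1 hK hcK hq2 hmoved⟩
  obtain ⟨c₀, hc₀, hc₀1, hx₀⟩ := hodd
  obtain ⟨q₀, _, hq₀2, hne₀, ⟨K₀, hK₀⟩, ⟨B₀, hB₀, hpt₀⟩, -⟩ := key c₀ hc₀ hc₀1 hx₀
  obtain ⟨N, hN, -, -, hall⟩ := h.exists_normalizer_max (h.rbar_mem_family hK₀) hne₀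
  refine ⟨N, hN, fun c hc hc1 hx => ?_⟩
  obtain ⟨q, _, hq2, hne, ⟨K, hK⟩, ⟨B, hB, hpt⟩, hcn⟩ := key c hc hc1 hx
  by_cases hqq : q₀ = q
  · subst hqq
    exact hall _ (functor_mem_family h.functor hc hc1) hcn
  obtain ⟨M, hM, -, -, hallM⟩ := h.exists_normalizer_max (h.rbar_mem_family hK) hne
  rw [← h.normalizer_rbar_max_eq hqq hne₀ hne hK₀ hK hB₀ hB hpt₀ hpt hN hall hM hallM]
  exact hallM _ (functor_mem_family h.functor hc hc1) hcn

theorem exists_two_xPoints (h : IsMinimalIncomplete p A θ) {L : Subgroup G} (hL : IsLine p A L) :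
    ∃ a ∈ L, ∃ a' ∈ L, IsXPoint p A θ a ∧ IsXPoint p A θ a' ∧ a' ∉ zpowers a := by
  by_contra hcon
  push Not at hcon
  have hA := h.elem
  -- all special points of `L` lie in one cyclic subgroup
  obtain ⟨x₀, hx₀L, hx₀1, hx₀⟩ : ∃ x₀ ∈ L, x₀ ≠ 1 ∧
      ∀ a ∈ L, IsXPoint p A θ a → a ∈ zpowers x₀ := by
    by_cases hex : ∃ a ∈ L, IsXPoint p A θ a
    · obtain ⟨a, haL, ha⟩ := hex
      exact ⟨a, haL, ha.2.1, fun b hb hbx => hcon a haL b hb ha hbx⟩
    · obtain ⟨a, haL, ha1⟩ := hL.exists_ne_one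
      exact ⟨a, haL, ha1, fun b hb hbx => absurd ⟨b, hb, hbx⟩ hex⟩
  obtain ⟨k, hkL, hk⟩ : ∃ k ∈ L, k ∉ zpowers x₀ := by
    by_contra hcon'
    push Not at hcon'
    have hc := card_le_of_le (show L ≤ zpowers x₀ from hcon')
    rw [hL.2, card_zpowers_elementary hA (hL.1 hx₀L) hx₀1] at hc
    have h1 : p * 1 < p * p := Nat.mul_lt_mul_of_pos_left hp.out.one_lt hp.out.pos
    rw [pow_two] at hc
    omega
  have hodd : ∀ g ∈ L, g ∉ zpowers x₀ → ¬ IsXPoint p A θ g := fun g hg hgx hX => hgx (hx₀ g hg hX)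
  obtain ⟨N, hN, hNc⟩ := h.exists_max_over_odd_points
    ⟨k, hL.1 hkL, fun h1 => hk (h1 ▸ (zpowers x₀).one_mem), hodd k hkL hk⟩
  have hline : ∀ B, IsLine p A B → x₀ ∉ B → Cfsg.signalizerInf B θ ≤ N := by
    intro B hB hxB
    obtain ⟨g, hgB, hgL, hg1⟩ := hB.exists_mem_inf hA h.card_eq hL
    refine (signalizerInf_le hgB hg1).trans (hNc g (hL.1 hgL) hg1 (hodd g hgL fun hgx => hxB ?_))
    have hz : zpowers g = zpowers x₀ := eq_of_le_of_card_ge (zpowers_le.mpr hgx) (by
      rw [card_zpowers_elementary hA (hL.1 hx₀L) hx₀1, card_zpowers_elementary hA (hL.1 hgL) hg1])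
    exact zpowers_le.mpr hgB (hz.symm ▸ mem_zpowers x₀)
  have hx0N : θ x₀ ≤ N := h.le_of_lines_avoiding hN (hL.1 hx₀L) hx₀1 hline
  refine h.not_complete ⟨N, hN.1, fun a ha ha1 => h.theta_le_of_lines ha ha1 fun B hB _ => ?_⟩
  by_cases hxB : x₀ ∈ B
  · exact (signalizerInf_le hxB hx₀1).trans hx0N
  · exact hline B hB hxB

theorem exists_xPoint_notMem (h : IsMinimalIncomplete p A θ) {L : Subgroup G} (hL : IsLine p A L) :
    ∃ a, IsXPoint p A θ a ∧ a ∉ L := by
  have hA := h.elem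
  obtain ⟨l, hlL, hl1⟩ := hL.exists_ne_one
  obtain ⟨x, hx, hxL⟩ : ∃ x ∈ A, x ∉ L := by
    by_contra hcon
    push Not at hcon
    have hc := card_le_of_le (show A ≤ L from hcon)
    rw [h.card_eq, hL.2] at hc
    exact absurd ((Nat.pow_le_pow_iff_right hp.out.one_lt).mp hc) (by norm_num)
  obtain ⟨L', hL', hlL', hxL'⟩ := exists_line_ge hA h.card_eq (hL.1 hlL) hx
  obtain ⟨a, haL', a', ha'L', ha, ha', hind⟩ := h.exists_two_xPoints hL'
  by_contra hcon
  push Not at hcon
  have heq := hL.eq_of_mem hA h.card_eq hL' (hcon a ha) haL' (hcon a' ha') ha'L' ha.2.1 hind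
  exact hxL (heq ▸ hxL')

theorem ne_two (h : IsMinimalIncomplete p A θ) : p ≠ 2 := by
  obtain ⟨a, ha, ha1⟩ := exists_ne_one_of_card_le (n := 3) (by norm_num) h.card_ge
  obtain ⟨L, hL, -, -⟩ := exists_line_ge h.elem h.card_eq ha ha
  obtain ⟨g, hg, -⟩ := h.exists_xPoint_notMem hL
  exact h.ne_two_of_isXPoint hg

end IsMinimalIncomplete

end CfsgLib.Signalizer
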