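import Cfsg.Agent.Lib.Signalizer.Basic

/-!
The subgroups of order `p^2` of an elementary abelian group of order `p^3`.
-/

set_option autoImplicit false
set_option linter.style.haveILetI false
set_option linter.unusedVariables false
set_option linter.unusedSectionVars false

open Subgroup

namespace CfsgLib.Signalizer

variable {G : Type*} [Group G] [Finite G] {p : ℕ} [hp : Fact p.Prime]

/-- A subgroup of order `p^2` of `A`. -/
def IsLine (p : ℕ) (A B : Subgroup G) : Prop := B ≤ A ∧ Nat.card B = p ^ 2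

namespace IsLine

variable {A B B' : Subgroup G}

theorem le (h : IsLine p A B) : B ≤ A := h.1

theorem card (h : IsLine p A B) : Nat.card B = p ^ 2 := h.2

theorem exists_ne_one (h : IsLine p A B) : ∃ b ∈ B, b ≠ 1 :=
  exists_ne_one_of_card_le (n := 2) (by norm_num) h.2.ge

theorem not_isCyclic (h : IsLine p A B) (hA : Cfsg.IsElementaryAbelian p A) : ¬ IsCyclic B :=
  elementary_not_isCyclic (elementary_of_le hA h.1) h.2.ge

end IsLine

theorem elementary_card_pow {A : Subgroup G} (hA : Cfsg.IsElementaryAbelian p A) {H : Subgroup G}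
    (hH : H ≤ A) : ∃ n : ℕ, Nat.card H = p ^ n :=
  ((elementary_isPGroup hA).to_le hH).exists_card_eq

theorem card_zpowers_elementary {A : Subgroup G} (hA : Cfsg.IsElementaryAbelian p A) {a : G}
    (ha : a ∈ A) (ha1 : a ≠ 1) : Nat.card (zpowers a) = p := by
  rw [Nat.card_zpowers]
  exact orderOf_eq_prime (hA.2 a ha) ha1

theorem card_sup_zpowers_elementary {A : Subgroup G} (hA : Cfsg.IsElementaryAbelian p A)
    {H : Subgroup G} (hH : H ≤ A) {a : G} (ha : a ∈ A) (haH : a ∉ H) :
    Nat.card ↥(H ⊔ zpowers a) = Nat.card H * p := by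
  have ha1 : a ≠ 1 := fun h => haH (h ▸ H.one_mem)
  have hn : zpowers a ≤ normalizer (H : Set G) := zpowers_le.mpr (centralizer_le_normalizer _
    fun h hh => elementary_commute hA (hH hh) ha)
  have hdis : Disjoint H (zpowers a) := by
    rw [disjoint_iff, eq_bot_iff_forall]
    rintro x ⟨hx, hxa⟩
    by_contra hx1
    have hz : zpowers x = zpowers a := by
      refine eq_of_le_of_card_ge (zpowers_le.mpr hxa) ?_
      rw [card_zpowers_elementary hA ha ha1,
        card_zpowers_elementary hA (hH hx) hx1]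
    exact haH (zpowers_le.mpr hx (hz ▸ mem_zpowers a))
  rw [CfsgLib.Solvable.card_sup_of_disjoint hn hdis, card_zpowers_elementary hA ha ha1]

variable {A : Subgroup G}

/-- A line contains any two given elements. -/
theorem exists_line_ge (hA : Cfsg.IsElementaryAbelian p A) (hA3 : Nat.card A = p ^ 3)
    {a b : G} (ha : a ∈ A) (hb : b ∈ A) : ∃ B, IsLine p A B ∧ a ∈ B ∧ b ∈ B := by
  set H := zpowers a ⊔ zpowers b with hH
  have hHA : H ≤ A := sup_le (zpowers_le.mpr ha) (zpowers_le.mpr hb)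
  obtain ⟨n, hn⟩ := elementary_card_pow hA hHA
  have hn2 : n ≤ 2 := by
    have hle : Nat.card H ≤ p * p := by
      have hzn : zpowers a ≤ normalizer (zpowers b : Set G) := by
        refine (zpowers_le.mpr ?_)
        exact centralizer_le_normalizer _ fun h hh => elementary_commute hA (zpowers_le.mpr hb hh) ha
      refine (Nat.le_of_dvd (Nat.mul_pos Nat.card_pos Nat.card_pos)
        (CfsgLib.Components.card_sup_dvd hzn)).trans ?_
      refine Nat.mul_le_mul ?_ ?_ <;> rw [Nat.card_zpowers]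
      · exact Nat.le_of_dvd hp.out.pos (orderOf_dvd_of_pow_eq_one (hA.2 a ha))
      · exact Nat.le_of_dvd hp.out.pos (orderOf_dvd_of_pow_eq_one (hA.2 b hb))
    rw [hn, ← pow_two] at hle
    exact (Nat.pow_le_pow_iff_right hp.out.one_lt).mp hle
  have key : ∀ m : ℕ, ∀ K : Subgroup G, K ≤ A → Nat.card K = p ^ (2 - m) → m ≤ 2 →
      ∃ B, IsLine p A B ∧ K ≤ B := by
    intro m
    induction m with
    | zero => exact fun K hK hc _ => ⟨K, ⟨hK, by simpa using hc⟩, le_rfl⟩
    | succ m ih =>
      intro K hK hc hm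
      obtain ⟨x, hx, hxK⟩ : ∃ x ∈ A, x ∉ K := by
        by_contra hcon
        push Not at hcon
        have h := card_le_of_le (show A ≤ K from hcon)
        rw [hA3, hc] at h
        have h' := (Nat.pow_le_pow_iff_right hp.out.one_lt).mp h
        omega
      have hcx := card_sup_zpowers_elementary hA hK hx hxK
      rw [hc, ← pow_succ] at hcx
      obtain ⟨B, hB, hle⟩ := ih (K ⊔ zpowers x) (sup_le hK (zpowers_le.mpr hx))
        (by rw [hcx]; congr 1; omega) (by omega)
      exact ⟨B, hB, le_sup_left.trans hle⟩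
  obtain ⟨B, hB, hle⟩ := key (2 - n) H hHA (by rw [hn]; congr 1; omega) (by omega)
  exact ⟨B, hB, hle (mem_sup_left (mem_zpowers a)), hle (mem_sup_right (mem_zpowers b))⟩

theorem IsLine.sup_zpowers (hA : Cfsg.IsElementaryAbelian p A) (hA3 : Nat.card A = p ^ 3)
    {B : Subgroup G} (hB : IsLine p A B) {c : G} (hc : c ∈ A) (hcB : c ∉ B) :
    B ⊔ zpowers c = A :=
  eq_of_le_of_card_ge (sup_le hB.1 (zpowers_le.mpr hc)) (by
    rw [card_sup_zpowers_elementary hA hB.1 hc hcB, hB.2, hA3]; exact le_of_eq (by ring))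

theorem IsLine.centralizer_inf (hA : Cfsg.IsElementaryAbelian p A) (hA3 : Nat.card A = p ^ 3)
    {B : Subgroup G} (hB : IsLine p A B) {c : G} (hc : c ∈ A) (hcB : c ∉ B) :
    centralizer (B : Set G) ⊓ centralizer {c} = centralizer (A : Set G) := by
  refine le_antisymm ?_ (le_inf (centralizer_le hB.1)
    (centralizer_le (Set.singleton_subset_iff.mpr hc)))
  rintro x ⟨hxB, hxc⟩
  have hle : A ≤ centralizer ({x} : Set G) := by
    rw [← hB.sup_zpowers hA hA3 hc hcB]
    exact sup_le (fun b hb => mem_centralizer_singleton_iff.mpr (hxB b hb))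
      (zpowers_le.mpr (mem_centralizer_singleton_iff.mpr (hxc c rfl)))
  exact fun a ha => mem_centralizer_singleton_iff.mp (hle ha)

theorem IsLine.eq_of_mem (hA : Cfsg.IsElementaryAbelian p A) (hA3 : Nat.card A = p ^ 3)
    {B B' : Subgroup G} (hB : IsLine p A B) (hB' : IsLine p A B') {a b : G} (ha : a ∈ B)
    (ha' : a ∈ B') (hb : b ∈ B) (hb' : b ∈ B') (ha1 : a ≠ 1) (hba : b ∉ zpowers a) : B = B' := by
  have hc := card_sup_zpowers_elementary hA (zpowers_le.mpr (hB.1 ha)) (hB.1 hb) hba
  rw [card_zpowers_elementary hA (hB.1 ha) ha1, ← pow_two] at hc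
  have h1 : zpowers a ⊔ zpowers b = B := eq_of_le_of_card_ge
    (sup_le (zpowers_le.mpr ha) (zpowers_le.mpr hb)) (by rw [hc, hB.2])
  have h2 : zpowers a ⊔ zpowers b = B' := eq_of_le_of_card_ge
    (sup_le (zpowers_le.mpr ha') (zpowers_le.mpr hb')) (by rw [hc, hB'.2])
  exact h1.symm.trans h2

/-- Two lines meet. -/
theorem IsLine.exists_mem_inf (hA : Cfsg.IsElementaryAbelian p A) (hA3 : Nat.card A = p ^ 3)
    {B B' : Subgroup G} (hB : IsLine p A B) (hB' : IsLine p A B') :
    ∃ g, g ∈ B ∧ g ∈ B' ∧ g ≠ 1 := by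
  by_contra hcon
  push Not at hcon
  have hdis : Disjoint B B' := by
    rw [disjoint_iff, eq_bot_iff_forall]
    rintro x ⟨hx, hx'⟩
    exact hcon x hx hx'
  have hn : B' ≤ normalizer (B : Set G) := fun x hx => centralizer_le_normalizer _
    fun y hy => elementary_commute hA (hB.1 hy) (hB'.1 hx)
  have h := CfsgLib.Solvable.card_sup_of_disjoint hn hdis
  have h2 := card_le_of_le (sup_le hB.1 hB'.1)
  rw [h, hB.2, hB'.2, hA3, ← pow_add] at h2
  have := (Nat.pow_le_pow_iff_right hp.out.one_lt).mp h2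
  omega

/-- A `p'`-subgroup is generated by the centralizers of the lines. -/
theorem le_of_lines (hA : Cfsg.IsElementaryAbelian p A) (hA3 : Nat.card A = p ^ 3)
    {K W : Subgroup G} (hK : ¬ p ∣ Nat.card K) (hAK : A ≤ normalizer (K : Set G))
    (h : ∀ B, IsLine p A B → K ⊓ centralizer (B : Set G) ≤ W) : K ≤ W := by
  haveI := hA.1
  refine CfsgLib.Solvable.le_of_cyclic_quotient_centralizer_le hAK (elementary_coprime hA hK)
    fun B hB hBa => ?_
  obtain ⟨a, ha, hBa⟩ := hBa
  obtain ⟨n, hn⟩ := elementary_card_pow hA hB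
  have hc := card_le_index_mul hA hB ha hBa
  rw [hA3, hn, ← pow_succ'] at hc
  have hn2 : 2 ≤ n := by
    have := (Nat.pow_le_pow_iff_right hp.out.one_lt).mp hc
    omega
  obtain ⟨b, hb, hb1⟩ := exists_ne_one_of_card_le (p := p) (n := n) (by omega) hn.ge
  obtain ⟨c, hc', hcb⟩ : ∃ c ∈ B, c ∉ zpowers b := by
    by_contra hcon
    push Not at hcon
    have h3 := card_le_of_le (show B ≤ zpowers b from hcon)
    rw [hn, card_zpowers_elementary hA (hB hb) hb1] at h3
    exact absurd h3 (not_le.mpr (lt_of_lt_of_le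
      (show p ^ 1 < p ^ 2 from Nat.pow_lt_pow_right hp.out.one_lt one_lt_two |>.trans_le le_rfl)
      (Nat.pow_le_pow_right hp.out.pos hn2) |>.trans_eq' (by simp)))
  obtain ⟨L, hL, hbL, hcL⟩ := exists_line_ge hA hA3 (hB hb) (hB hc')
  refine le_trans ?_ (h L hL)
  have hLB : L ≤ B := by
    have hcard := card_sup_zpowers_elementary hA (zpowers_le.mpr (hB hb)) (hB hc') hcb
    rw [card_zpowers_elementary hA (hB hb) hb1, ← pow_two] at hcard
    rw [← eq_of_le_of_card_ge (sup_le (zpowers_le.mpr hbL) (zpowers_le.mpr hcL))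
      (by rw [hcard, hL.2])]
    exact sup_le (zpowers_le.mpr hb) (zpowers_le.mpr hc')
  exact inf_le_inf_left _ (centralizer_le hLB)

section Two

variable {A : Subgroup G}

theorem mul_self_two (hA : Cfsg.IsElementaryAbelian 2 A) {a : G} (ha : a ∈ A) : a * a = 1 := by
  rw [← pow_two]; exact hA.2 a ha

theorem inv_eq_self_two (hA : Cfsg.IsElementaryAbelian 2 A) {a : G} (ha : a ∈ A) : a⁻¹ = a :=
  inv_eq_of_mul_eq_one_left (mul_self_two hA ha)

theorem mem_zpowers_two (hA : Cfsg.IsElementaryAbelian 2 A) {a b : G} (ha : a ∈ A)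
    (hb : b ∈ zpowers a) : b = 1 ∨ b = a := by
  obtain ⟨k, rfl⟩ := hb
  rcases Int.even_or_odd' k with ⟨m, rfl | rfl⟩
  · left; simp [zpow_mul, show a ^ (2 : ℤ) = 1 by exact_mod_cast hA.2 a ha]
  · right; simp [zpow_add, zpow_mul, show a ^ (2 : ℤ) = 1 by exact_mod_cast hA.2 a ha]

/-- A line of a group of order 8 contains the product of two elements outside it. -/
theorem IsLine.mul_mem_two (hA : Cfsg.IsElementaryAbelian 2 A) (hA3 : Nat.card A = 2 ^ 3)
    {B : Subgroup G} (hB : IsLine 2 A B) {a b : G} (ha : a ∈ A) (hb : b ∈ A) (haB : a ∉ B)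
    (hbB : b ∉ B) : a * b ∈ B := by
  haveI : Fact (Nat.Prime 2) := ⟨Nat.prime_two⟩
  have h := hB.sup_zpowers hA hA3 ha haB
  have hb' : b ∈ B ⊔ zpowers a := h.symm ▸ hb
  have hn : zpowers a ≤ normalizer (B : Set G) := zpowers_le.mpr (centralizer_le_normalizer _
    fun h hh => elementary_commute hA (hB.1 hh) ha)
  obtain ⟨x, hx, y, hy, rfl⟩ := (CfsgLib.Solvable.mem_sup_of_le_normalizer hn).mp hb'
  rcases mem_zpowers_two hA ha hy with rfl | rfl
  · exact absurd (by simpa using hx) hbB
  · rw [show y * (x * y) = x by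
      rw [← mul_assoc, elementary_commute hA ha (hB.1 hx), mul_assoc, mul_self_two hA ha, mul_one]]
    exact hx

end Two

end CfsgLib.Signalizer
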