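import Cfsg.Agent.Lib.Signalizer.Units
import Cfsg.Agent.Lib.Signalizer.CoreCriterion

/-!
Moved subgroups centralizing the units' derived groups centralize `zo`.

For `x` in such a subgroup and `z` in `zo`, the conjugate `x z x⁻¹` centralizes every unit of `g`,
hence `[O_2(K), g]` for every maximal `K` over `θ g`, hence commutes with `g`.
-/

set_option autoImplicit false
set_option linter.style.haveILetI false
set_option linter.unusedVariables false
set_option linter.unusedSectionVars false

open scoped Pointwise commutatorElement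
open Subgroup

universe u

namespace CfsgLib.Signalizer

variable {G : Type u} [Group G] [Finite G] {p : ℕ} [hp : Fact p.Prime] {A : Subgroup G}
  {θ : G → Subgroup G}

/-- A conjugate of `z ∈ zo` by a moved subgroup of `C(L)` lying in `C(unitZ g)` centralizes each
`[O_2(K),g]`. -/
theorem IsMinimalIncomplete.conj_zo_mem_centralizer_moved (h : IsMinimalIncomplete p A θ)
    {L : Subgroup G} (hL : IsLine p A L) {g : G} (hg : IsXPoint p A θ g) {X : Subgroup G}
    (hX : X ∈ Cfsg.signalizerFamily p A θ) (hXL : X ≤ centralizer (L : Set G))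
    (hXZ : X ≤ centralizer (unitZ p A θ g : Set G)) {x z : G} (hx : x ∈ X) (hz : z ∈ zo p A θ)
    {K : Subgroup G} (hK : IsMaxMember p A θ K) (hgK : θ g ≤ K) :
    x * z * x⁻¹ ∈ centralizer ((⁅oq 2 K, zpowers g⁆ : Subgroup G) : Set G) := by
  haveI : Fact (Nat.Prime 2) := ⟨Nat.prime_two⟩
  have hA := h.elem
  have hgA := hg.1
  have hg1 := hg.2.1
  have hp2 : p ≠ 2 := h.ne_two_of_isXPoint hg
  set u := x * z * x⁻¹ with hu
  have hAO : A ≤ normalizer (oq 2 K : Set G) :=
    hK.le_normalizer'.trans (normalizer_le_normalizer_oq 2 K)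
  haveI hOs : Group.IsSolvable ↥(oq 2 K) := family_isSolvable (family_oq hK.1 2)
  suffices hle : ⁅oq 2 K, zpowers g⁆ ≤ centralizer ({u} : Set G) from
    fun y hy => mem_centralizer_singleton_iff.mp (hle hy)
  refine (commutator_le_iSup_lines hA h.card_eq hOs
    (not_dvd_of_le (oq_le 2 K) hK.not_dvd) hAO hgA).trans (iSup_le ?_)
  rintro ⟨B, hB, hgB⟩
  show unitAt g K B ≤ centralizer ({u} : Set G)
  obtain ⟨e, heB, heL, he1⟩ := hB.exists_mem_inf hA h.card_eq hL
  have heA : e ∈ A := hL.le heL
  set O := oq 2 K ⊓ centralizer (B : Set G) with hO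
  set Y := unitAt g K B with hY
  have hY' : Y = ⁅O, zpowers g⁆ := rfl
  have hAOB : A ≤ normalizer (O : Set G) := le_normalizer_inf_centralizer hA hAO hB.le
  have hOK : O ≤ K := inf_le_left.trans (oq_le 2 K)
  have hYO : Y ≤ O := commutator_zpowers_le (hAOB hgA)
  have hAY : A ≤ normalizer (Y : Set G) := le_normalizer_commutator_elem hA hAOB hgA
  have hYg : ⁅Y, zpowers g⁆ = Y :=
    commutator_idem hA (not_dvd_of_le hOK hK.not_dvd) hAOB hgA
  have hY2 : IsPGroup 2 ↥Y := (oq_isPGroup 2 K).to_le (hYO.trans inf_le_left)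
  have hYθ : Y ≤ θ e := fun y hy =>
    family_inf_le hK.1 heA he1 ⟨hOK (hYO hy),
      centralizer_le (Set.singleton_subset_iff.mpr heB) (hYO hy).2⟩
  have hXθ : X ≤ θ e := fun y hy =>
    family_inf_le hX heA he1 ⟨hy, centralizer_le (Set.singleton_subset_iff.mpr heL) (hXL hy)⟩
  set Y1 : Subgroup G := ⁅Y, Y⁆ with hY1
  set N1 := θ e ⊓ centralizer (Y1 : Set G) with hN1
  have hYN : Y ≤ N1 :=
    le_inf hYθ (h.unit_le_centralizer_commutator hgA hg1 hK hgK hB hgB)
  have hY1Z : Y1 ≤ unitZ p A θ g :=
    le_iSup (fun i : {i : Subgroup G × Subgroup G //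
        IsMaxMember p A θ i.1 ∧ θ g ≤ i.1 ∧ IsLine p A i.2 ∧ g ∉ i.2} =>
      ⁅unitAt g i.1.1 i.1.2, unitAt g i.1.1 i.1.2⁆) ⟨(K, B), hK, hgK, hB, hgB⟩
  have hXN : X ≤ N1 := le_inf hXθ (hXZ.trans (centralizer_le hY1Z))
  have hAY1 : A ≤ normalizer (Y1 : Set G) := fun a ha =>
    normalizer_inf_le_normalizer_commutator _ _ ⟨hAY ha, hAY ha⟩
  have hθe := functor_mem_family h.functor heA he1
  have hN1f : N1 ∈ Cfsg.signalizerFamily p A θ :=
    family_inf_left hθe (le_normalizer_centralizer hAY1)
  -- the fixed part normalizes `N1`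
  have hDA := h.fixed_le_centralizer_elem
  have hDY : Cfsg.signalizerInf A θ ≤ normalizer (Y : Set G) := by
    intro d hd
    have hdA := hDA hd
    refine normalizer_inf_le_normalizer_commutator _ _ ⟨inf_normalizer_le_normalizer_inf
      ⟨le_normalizer_oq 2 K (hgK (signalizerInf_le hgA hg1 hd)), ?_⟩, ?_⟩
    · exact le_normalizer (centralizer_le hB.le hdA)
    · refine centralizer_le_normalizer _ ?_
      rw [centralizer_zpowers]
      exact centralizer_le (Set.singleton_subset_iff.mpr hgA) hdA
  have hDY1 : Cfsg.signalizerInf A θ ≤ normalizer (Y1 : Set G) := fun d hd =>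
    normalizer_inf_le_normalizer_commutator _ _ ⟨hDY hd, hDY hd⟩
  have hDN1 : Cfsg.signalizerInf A θ ≤ normalizer (N1 : Set G) :=
    le_normalizer_inf ((signalizerInf_le heA he1).trans le_normalizer)
      (le_normalizer_centralizer hDY1)
  -- the unit lies in `O_2(N1)`
  have hYQ : Y ≤ oq 2 N1 := by
    refine le_oq_of_inert_of_commutator hp.out (hA.2 g hgA) (Ne.symm hp2)
      (family_isSolvable hN1f) hYN hY2 (le_centralizer_iff.mp inf_le_right)
      (family_le_normalizer hN1f hgA) (hAY hgA) hYg (family_not_dvd hN1f) ?_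
    rintro t ⟨ht, htg⟩
    exact ⟨oq 2 K, oq_isPGroup 2 K, hYO.trans inf_le_left,
      le_normalizer_oq 2 K (hgK (family_inf_le hθe hgA hg1 ⟨ht.1, htg⟩))⟩
  have hQz : oq 2 N1 ≤ centralizer (zo p A θ : Set G) :=
    h.two_member_le_centralizer_zo (family_oq hN1f 2) (oq_isPGroup 2 N1)
      (hDN1.trans (normalizer_le_normalizer_oq 2 N1))
  intro y hy
  have h1 : x⁻¹ * y * x ∈ oq 2 N1 := by
    have := le_normalizer_iff.mp (le_normalizer_oq 2 N1) x⁻¹ (N1.inv_mem (hXN hx)) y (hYQ hy)
    simpa using this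
  have h2 : z * (x⁻¹ * y * x) = x⁻¹ * y * x * z := hQz h1 z hz
  rw [mem_centralizer_singleton_iff, hu]
  calc y * (x * z * x⁻¹) = x * ((x⁻¹ * y * x) * z) * x⁻¹ := by group
    _ = x * (z * (x⁻¹ * y * x)) * x⁻¹ := by rw [h2]
    _ = x * z * x⁻¹ * y := by group

namespace IsMinimalIncomplete

theorem le_centralizer_zo_of_tech (h : IsMinimalIncomplete p A θ) {L : Subgroup G}
    (hL : IsLine p A L) {g : G} (hg : IsXPoint p A θ g) (hgL : g ∉ L) {X : Subgroup G}
    (hX : X ∈ Cfsg.signalizerFamily p A θ) (hXL : X ≤ centralizer (L : Set G))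
    (hXg : ⁅X, zpowers g⁆ = X) (hXZ : X ≤ centralizer (unitZ p A θ g : Set G)) :
    X ≤ centralizer (zo p A θ : Set G) := by
  haveI : Fact (Nat.Prime 2) := ⟨Nat.prime_two⟩
  have hA := h.elem
  have hgA := hg.1
  have hg1 := hg.2.1
  have hDA := h.fixed_le_centralizer_elem
  -- the conjugates of `z` commute with `g`
  have key : ∀ x ∈ X, ∀ z ∈ zo p A θ, x * z * x⁻¹ ∈ centralizer ({g} : Set G) := by
    intro x hx z hz
    set u := x * z * x⁻¹ with hu
    have hzD := h.zo_le_fixed hz
    have huθ : u ∈ Cfsg.signalizerInf L θ := by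
      have hxθ : x ∈ Cfsg.signalizerInf L θ := family_inf_centralizer_le hX hL.le ⟨hx, hXL hx⟩
      obtain ⟨b, hb, hb1⟩ := hL.exists_ne_one
      have hzθ : z ∈ Cfsg.signalizerInf L θ :=
        le_signalizerInf (U := Cfsg.signalizerInf A θ)
          (fun c hc hc1 => signalizerInf_le (hL.le hc) hc1) hzD
      exact Subgroup.mul_mem _ (Subgroup.mul_mem _ hxθ hzθ) (Subgroup.inv_mem _ hxθ)
    obtain ⟨K, hK, hgK⟩ := exists_isMaxMember_ge (functor_mem_family h.functor hgA hg1)
    have hAO : A ≤ normalizer (oq 2 K : Set G) :=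
      hK.le_normalizer'.trans (normalizer_le_normalizer_oq 2 K)
    set M : Subgroup G := ⁅oq 2 K, zpowers g⁆ with hM
    have hAM : A ≤ normalizer (M : Set G) := le_normalizer_commutator_elem hA hAO hgA
    have hMf : M ∈ Cfsg.signalizerFamily p A θ :=
      family_of_le hK.1 ((commutator_zpowers_le (hAO hgA)).trans (oq_le 2 K)) hAM
    have hMne : M ≠ ⊥ := fun h0 =>
      h.two_moved hg hK hgK (le_centralizer_singleton_of_commutator_eq_bot h0)
    obtain ⟨K', hK', -, -, hall⟩ := h.exists_normalizer_max hMf hMne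
    have hgK' : θ g ≤ K' := hall _ (functor_mem_family h.functor hgA hg1) fun y hy => by
      refine normalizer_inf_le_normalizer_commutator _ _
        ⟨le_normalizer_oq 2 K (hgK hy), centralizer_le_normalizer _ ?_⟩
      rw [centralizer_zpowers]
      exact functor_le_centralizer h.functor hgA hg1 hy
    set E := oq 2 K' with hE
    have hAE : A ≤ normalizer (E : Set G) :=
      hK'.le_normalizer'.trans (normalizer_le_normalizer_oq 2 K')
    have hEd : ¬ p ∣ Nat.card E := not_dvd_of_le (oq_le 2 K') hK'.not_dvd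
    set M' : Subgroup G := ⁅E, zpowers g⁆ with hM'
    have hAM' : A ≤ normalizer (M' : Set G) := le_normalizer_commutator_elem hA hAE hgA
    have hM'E : M' ≤ E := commutator_zpowers_le (hAE hgA)
    obtain ⟨b, hb, hb1⟩ := hL.exists_ne_one
    have hθL := signalizerInf_mem_family hA h.functor hL.le hb hb1
    have huK' : u ∈ K' :=
      hall _ (family_inf_left hθL (le_normalizer_centralizer hAM))
        (inf_le_right.trans (centralizer_le_normalizer _))
        ⟨huθ, h.conj_zo_mem_centralizer_moved hL hg hX hXL hXZ hx hz hK hgK⟩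
    set U := (Cfsg.signalizerInf L θ ⊓ K') ⊓ centralizer (M' : Set G) with hU
    have hUf : U ∈ Cfsg.signalizerFamily p A θ :=
      family_inf_left (family_inf_left hθL hK'.le_normalizer') (le_normalizer_centralizer hAM')
    have huU : u ∈ U :=
      ⟨⟨huθ, huK'⟩, h.conj_zo_mem_centralizer_moved hL hg hX hXL hXZ hx hz hK' hgK'⟩
    suffices hUg : U ≤ centralizer ({g} : Set G) from hUg huU
    have hUK' : U ≤ K' := inf_le_left.trans inf_le_right
    have hUM' : U ≤ centralizer (M' : Set G) := inf_le_right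
    -- an abelian piece of `M'` is fixed, so `C_E(M')` is fixed
    have hZ : M' ⊓ centralizer (M' : Set G) ≤ centralizer ({g} : Set G) :=
      h.abelian_two_fixed hgA hg1 hK' hgK' (inf_le_left.trans hM'E)
        (le_normalizer_inf hAM' (le_normalizer_centralizer hAM'))
        ⟨⟨fun a c => Subtype.ext (c.2.2 a a.2.1)⟩⟩
    set W := E ⊓ centralizer (M' : Set G) with hW
    have hAW : A ≤ normalizer (W : Set G) :=
      le_normalizer_inf hAE (le_normalizer_centralizer hAM')
    have hWg : W ≤ centralizer ({g} : Set G) := by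
      refine le_centralizer_singleton_of_commutator_eq_bot ?_
      rw [← commutator_idem hA (not_dvd_of_le inf_le_left hEd) hAW hgA]
      refine commutator_eq_bot_of_le_centralizer_singleton (le_trans ?_ hZ)
      exact le_inf (commutator_mono inf_le_left le_rfl)
        ((commutator_zpowers_le (hAW hgA)).trans inf_le_right)
    set C := E ⊓ centralizer ({g} : Set G) with hC
    -- `[C,U] ≤ C_E(M')`
    have hCU : ⁅C, U⁆ ≤ W := by
      rw [commutator_le]
      intro c hc v hv
      refine ⟨?_, ?_⟩
      · have h1 := le_normalizer_iff.mp (le_normalizer_oq 2 K') v (hUK' hv) c⁻¹ (E.inv_mem hc.1)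
        have h2 := E.mul_mem hc.1 h1
        simpa [commutatorElement_def, mul_assoc, hE] using h2
      · have hcM' : c ∈ normalizer (M' : Set G) :=
          CfsgLib.Solvable.le_normalizer_commutator_left E _ hc.1
        have h1 := le_normalizer_iff.mp (le_normalizer_centralizer
          (U := normalizer (M' : Set G)) (X := M') le_rfl) c hcM' v (hUM' hv)
        rw [commutatorElement_def]
        exact Subgroup.mul_mem _ h1 (Subgroup.inv_mem _ (hUM' hv))
    -- three subgroups
    have hUC : ⁅U, zpowers g⁆ ≤ centralizer (C : Set G) := by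
      rw [← commutator_eq_bot_iff_le_centralizer]
      refine commutator_commutator_eq_bot_of_rotate ?_ ?_
      · rw [commutator_comm (zpowers g) C,
          commutator_eq_bot_of_le_centralizer_singleton (inf_le_right : C ≤ _), commutator_bot_left]
      · exact commutator_eq_bot_of_le_centralizer_singleton (hCU.trans hWg)
    have hUU : ⁅U, zpowers g⁆ ≤ U := commutator_zpowers_le (family_le_normalizer hUf hgA)
    have hUE : ⁅U, zpowers g⁆ ≤ centralizer (E : Set G) := by
      rw [← sup_centralizer_eq hA hEd hAE hgA, ← le_centralizer_iff]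
      exact sup_le (le_centralizer_iff.mp (hUU.trans hUM')) (le_centralizer_iff.mp hUC)
    -- `[U,g]` centralizes the Fitting subgroup of `K'`
    have hUF : ⁅U, zpowers g⁆ ≤ centralizer ({g} : Set G) := by
      refine le_of_centralizes_oq hK'.solvable (hUU.trans hUK') (fun r hr => ?_) fun r hr => ?_
      · by_cases hr2 : r = 2
        · subst hr2; exact hUE
        · exact commutator_zpowers_le_centralizer (hUK'.trans (le_normalizer_oq r K'))
            (hg.oq_le hK' hgK' hr hr2)
      · by_cases hr2 : r = 2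
        · subst hr2
          exact h.abelian_two_fixed hgA hg1 hK' hgK' (zq_le_oq 2 K')
            (family_le_normalizer (family_zq hK'.1 2))
            ⟨⟨fun a c => Subtype.ext (c.2.2 a a.2.1)⟩⟩
        · exact (zq_le_oq r K').trans (hg.oq_le hK' hgK' hr hr2)
    refine le_centralizer_singleton_of_commutator_eq_bot ?_
    rw [← commutator_idem hA (family_not_dvd hUf) (family_le_normalizer hUf) hgA]
    exact commutator_eq_bot_of_le_centralizer_singleton hUF
  refine hXg.symm.le.trans ?_
  rw [commutator_le]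
  intro x hx k hk z hz
  rw [← centralizer_zpowers] at key
  have h1 : Commute k (x⁻¹ * z * x) := by
    have := key x⁻¹ (X.inv_mem hx) z hz k hk
    rw [inv_inv] at this
    exact this
  have h2 : Commute k z := hDA (h.zo_le_fixed hz) k (zpowers_le.mpr hgA hk)
  have h3 : Commute (x * k * x⁻¹) z := by
    show x * k * x⁻¹ * z = z * (x * k * x⁻¹)
    calc x * k * x⁻¹ * z = x * (k * (x⁻¹ * z * x)) * x⁻¹ := by group
      _ = x * ((x⁻¹ * z * x) * k) * x⁻¹ := by rw [h1.eq]
      _ = z * (x * k * x⁻¹) := by group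
  show z * ⁅x, k⁆ = ⁅x, k⁆ * z
  rw [commutatorElement_def]
  exact (h3.mul_left h2.inv_left).eq.symm

end IsMinimalIncomplete

end CfsgLib.Signalizer
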