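import Cfsg.Agent.Lib.Signalizer.TwoMixed

/-!
Every value of a minimal incomplete `2`-functor is maximal, granted uniqueness for the maximal
members with one Fitting prime.
-/

set_option autoImplicit false
set_option linter.style.haveILetI false
set_option linter.unusedVariables false
set_option linter.unusedSectionVars false

open scoped Pointwise commutatorElement
open Subgroup

universe u

namespace CfsgLib.Signalizer

variable {G : Type u} [Group G] [Finite G] {A : Subgroup G} {θ : G → Subgroup G}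

namespace IsMinimalIncomplete

theorem signalizerInf_le_of_theta_le (h : IsMinimalIncomplete 2 A θ) {g : G} (hg : g ∈ A)
    (hg1 : g ≠ 1) {M : Subgroup G} (hgM : θ g ≤ M) : Cfsg.signalizerInf A θ ≤ M :=
  (signalizerInf_le hg hg1).trans hgM

/-- The values are maximal members, once members with a single Fitting prime are unique. -/
theorem isMaxMember_theta_of_unique (h : IsMinimalIncomplete 2 A θ)
    (huniq : ∀ (q : ℕ) [Fact q.Prime] {M N : Subgroup G}, IsMaxMember 2 A θ M →
      IsMaxMember 2 A θ N → oq q M ≠ ⊥ → oq q N ≠ ⊥ → ¬ IsMixed M → ¬ IsMixed N →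
      Cfsg.signalizerInf A θ ≤ M → Cfsg.signalizerInf A θ ≤ N → M = N)
    {c : G} (hc : c ∈ A) (hc1 : c ≠ 1) : IsMaxMember 2 A θ (θ c) := by
  haveI : Fact (Nat.Prime 2) := ⟨Nat.prime_two⟩
  have hA := h.elem
  obtain ⟨M, hM, hcM⟩ := exists_isMaxMember_ge (functor_mem_family h.functor hc hc1)
  by_cases hMc : M = θ c
  · exact hMc ▸ hM
  exfalso
  have hnm : ¬ IsMixed M := fun hmix => h.not_isBadPair hc hc1 ⟨hM, hcM, hmix, hMc⟩
  obtain ⟨q, hq, hnle⟩ : ∃ q : ℕ, q.Prime ∧ ¬ oq q M ≤ centralizer ({c} : Set G) := by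
    by_contra hcon
    push Not at hcon
    exact hMc (h.eq_theta_of_oq_le hM hc hc1 hcon)
  haveI := Fact.mk hq
  have hqM : oq q M ≠ ⊥ := fun h0 => hnle (h0.le.trans bot_le)
  have hEf := family_oq hM.1 q
  have hq2 : q ≠ 2 := by
    rintro rfl
    obtain ⟨n, hn⟩ := (oq_isPGroup 2 M).exists_card_eq
    rcases Nat.eq_zero_or_pos n with h0 | h0
    · rw [h0, pow_zero] at hn
      exact hqM (card_eq_one.mp hn)
    · exact family_not_dvd hEf (hn ▸ dvd_pow_self 2 h0.ne')
  obtain ⟨B, hB, hBle⟩ : ∃ B, IsLine 2 A B ∧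
      ¬ oq q M ⊓ centralizer (B : Set G) ≤ centralizer ({c} : Set G) := by
    by_contra hcon
    push Not at hcon
    exact hnle (le_of_lines hA h.card_eq (family_not_dvd hEf) (family_le_normalizer hEf) hcon)
  set X := ⁅oq q M ⊓ centralizer (B : Set G), zpowers c⁆ with hX
  have hAEB := le_normalizer_inf_centralizer hA (family_le_normalizer hEf) hB.1
  have hXle : X ≤ oq q M ⊓ centralizer (B : Set G) := commutator_zpowers_le (hAEB hc)
  have hAX : A ≤ normalizer (X : Set G) := le_normalizer_commutator_elem hA hAEB hc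
  have hXc : ⁅X, zpowers c⁆ = X :=
    commutator_idem hA (not_dvd_of_le inf_le_left (family_not_dvd hEf)) hAEB hc
  have hXne : X ≠ ⊥ := fun h0 => hBle (le_centralizer_singleton_of_commutator_eq_bot h0)
  have hXf : X ∈ Cfsg.signalizerFamily 2 A θ :=
    family_of_le hM.1 ((hXle.trans inf_le_left).trans (oq_le q M)) hAX
  obtain ⟨g, hg, hg1⟩ := hB.exists_ne_one
  have hgA := hB.1 hg
  have hgc : c ≠ g := fun e => hBle (inf_le_right.trans
    (centralizer_le (Set.singleton_subset_iff.mpr (e ▸ hg))))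
  obtain ⟨K, hK, hgK⟩ := exists_isMaxMember_ge (functor_mem_family h.functor hgA hg1)
  have hXK : X ≤ K := fun x hx => hgK (family_inf_le hXf hgA hg1
    ⟨hx, centralizer_le (Set.singleton_subset_iff.mpr hg) (hXle hx).2⟩)
  have hqK : oq q K ≠ ⊥ := fun h0 => hXne (eq_bot_of_centralizes_oq hK.solvable hXK
    ((oq_isPGroup q M).to_le (hXle.trans inf_le_left)) h0 fun r hr hrq => by
      haveI := Fact.mk hr
      exact h.inert hM hc hc1 hcM (hXle.trans inf_le_left) hAX hXc (family_oq hK.1 r)
        (coprime_of_isPGroup (Ne.symm hrq) (oq_isPGroup r K)) (hXK.trans (le_normalizer_oq r K)))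
  by_cases hmixK : IsMixed K
  · have hKg : K = θ g := by
      by_contra hne
      exact h.not_isBadPair hgA hg1 ⟨hK, hgK, hmixK, hne⟩
    subst hKg
    have hqg : oq q M ≤ centralizer ({g} : Set G) :=
      (h.le_theta_of_good hgA hg1 hK hq2 hqK hEf (oq_isPGroup q M)).trans
        (functor_le_centralizer h.functor hgA hg1)
    have hMg : M = θ g := h.eq_theta_of_oq_le hM hgA hg1 fun r hr => by
      by_cases hrq : r = q
      · subst hrq; exact hqg
      · have h0 : oq r M = ⊥ := by
          by_contra hne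
          exact hnm ⟨r, q, hr, hq, hrq, hne, hqM⟩
        rw [h0]; exact bot_le
    exact hgc (h.eq_of_theta_le hM hc hc1 hgA hg1 hcM hMg.ge)
  · have hMK := huniq q hM hK hqM hqK hnm hmixK (h.signalizerInf_le_of_theta_le hc hc1 hcM)
      (h.signalizerInf_le_of_theta_le hgA hg1 hgK)
    exact hgc (h.eq_of_theta_le hM hc hc1 hgA hg1 hcM (hgK.trans hMK.ge))

end IsMinimalIncomplete

end CfsgLib.Signalizer
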