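import Cfsg.Agent.Lib.Signalizer.TwoPiece

/-!
A minimal incomplete `2`-functor has no bad pair.
-/

set_option autoImplicit false
set_option linter.style.haveILetI false
set_option linter.unusedVariables false
set_option linter.unusedSectionVars false

open scoped Pointwise commutatorElement
open Subgroup

universe u

namespace CfsgLib.Signalizer

variable {G : Type u} [Group G] [Finite G] {A : Subgroup G} {θ : G → Subgroup G}

namespace IsMinimalIncomplete

/-- At every point of the line of a controlled piece, either `θ g` is maximal with `q` in its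
Fitting subgroup, or `g` inverts every other Fitting factor of `M`. -/
theorem point_cases (h : IsMinimalIncomplete 2 A θ) {c : G} {M : Subgroup G}
    (hb : IsBestPair A θ c M) (hc : c ∈ A) (hc1 : c ≠ 1) {q : ℕ} [Fact q.Prime]
    (hq : q ∈ movedPrimes c M) {B X : Subgroup G} (hB : IsLine 2 A B) (hcB : c ∉ B)
    (hX : X ≤ oq q M) (hAX : A ≤ normalizer (X : Set G)) (hXB : X ≤ centralizer (B : Set G))
    (hXc : ⁅X, zpowers c⁆ = X) (hXne : X ≠ ⊥)
    (hctrl : ∀ H ∈ Cfsg.signalizerFamily 2 A θ, H ≤ normalizer (X : Set G) → H ≤ M)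
    {g : G} (hg : g ∈ B) (hg1 : g ≠ 1) :
    (IsMaxMember 2 A θ (θ g) ∧ oq q (θ g) ≠ ⊥ ∧ X ≤ θ g ∧
      ∀ s : ℕ, s.Prime → s ≠ q → X ≤ centralizer (oq s (θ g) : Set G)) ∨
    ∀ v : ℕ, v.Prime → v ≠ q → oq v M ⊓ centralizer ({g} : Set G) = ⊥ := by
  haveI : Fact (Nat.Prime 2) := ⟨Nat.prime_two⟩
  have hA := h.elem
  have hM := hb.1.1
  have hcM := hb.1.2.1
  have hgA := hB.1 hg
  have hgc : g ≠ c := fun e => hcB (e ▸ hg)
  have hXf : X ∈ Cfsg.signalizerFamily 2 A θ := family_of_le hM.1 (hX.trans (oq_le q M)) hAX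
  have hXg : X ≤ θ g := fun x hx => family_inf_le hXf hgA hg1
    ⟨hx, centralizer_le (Set.singleton_subset_iff.mpr hg) (hXB hx)⟩
  -- choose the maximal member at `g`
  obtain ⟨K, hK, hgK, hbest⟩ : ∃ K, IsMaxMember 2 A θ K ∧ θ g ≤ K ∧
      (IsMixed K → K ≠ θ g → IsBestPair A θ g K) := by
    by_cases hex : ∃ K, IsBadPair A θ g K
    · obtain ⟨K, hK⟩ := exists_isBestPair hex
      exact ⟨K, hK.1.1, hK.1.2.1, fun _ _ => hK⟩
    · obtain ⟨K, hK, hgK⟩ := exists_isMaxMember_ge (functor_mem_family h.functor hgA hg1)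
      exact ⟨K, hK, hgK, fun h1 h2 => absurd ⟨K, hK, hgK, h1, h2⟩ hex⟩
  have hXK : X ≤ K := hXg.trans hgK
  have hinert : ∀ s : ℕ, s.Prime → s ≠ q → X ≤ centralizer (oq s K : Set G) := fun s hs hsq =>
    haveI := Fact.mk hs
    h.inert hM hc hc1 hcM hX hAX hXc (family_oq hK.1 s)
      (coprime_of_isPGroup (Ne.symm hsq) (oq_isPGroup s K)) (hXK.trans (le_normalizer_oq s K))
  have hqK : oq q K ≠ ⊥ := fun h0 => hXne (eq_bot_of_centralizes_oq hK.solvable hXK
    ((oq_isPGroup q M).to_le hX) h0 fun r hr hrq => hinert r hr hrq)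
  by_cases hKg : K = θ g
  · subst hKg
    exact Or.inl ⟨hK, hqK, hXg, hinert⟩
  right
  intro v hv hvq
  haveI := Fact.mk hv
  set T := oq v M ⊓ centralizer ({g} : Set G) with hT
  have hvf := family_oq hM.1 v
  have hTK : T ≤ K := (family_inf_le hvf hgA hg1).trans hgK
  have hsM : ∀ s : ℕ, s.Prime → s ≠ q → oq s K ≤ M := fun s hs hsq =>
    hctrl _ (family_oq hK.1 s)
      ((le_centralizer_iff.mp (hinert s hs hsq)).trans (centralizer_le_normalizer _))
  -- `I = O_v(K) ∩ O_v(M)` is trivial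
  have hI : oq v K ⊓ oq v M = ⊥ := by
    by_contra hI
    set I := oq v K ⊓ oq v M with hIdef
    have hIle : I ≤ oq v M := inf_le_right
    have hIf : I ∈ Cfsg.signalizerFamily 2 A θ := family_inf_left (family_oq hK.1 v)
      (hM.le_normalizer'.trans (normalizer_le_normalizer_oq v M))
    have hqIM : oq q K ≤ M := by
      refine h.controlled hb hc hc1 hq hIf hI (fun r hr => ?_) ?_ (family_oq hK.1 q)
        (((oq_le_centralizer_oq hvq.symm K).trans (centralizer_le inf_le_left)).trans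
          (centralizer_le_normalizer _))
      · haveI := Fact.mk hr
        refine le_trans ?_ (centralizer_le hIle)
        by_cases hrv : r = v
        · subst hrv; exact zq_le_centralizer r M
        · exact (zq_le_oq r M).trans (oq_le_centralizer_oq hrv M)
      · exact ((h.moved_inert_hyps hM hc q).1.trans (oq_le_centralizer_oq hvq.symm M)).trans
          (centralizer_le hIle)
    have hvK : oq v K ≠ ⊥ := fun h0 => hI (le_bot_iff.mp (inf_le_left.trans h0.le))
    have hKbest := hbest ⟨q, v, Fact.out, hv, hvq.symm, hqK, hvK⟩ hKg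
    have hallM : ∀ s : ℕ, s.Prime → oq s K ≤ M := fun s hs => by
      by_cases hsq : s = q
      · subst hsq; exact hqIM
      · exact hsM s hs hsq
    obtain ⟨r, hr⟩ := IsBadPair.exists_moved h hKbest.1 hgA hg1
    have hMK : M = K := h.eq_of_moved_le hKbest hgA hg1 hr hM
      (fun s hs => (zq_le_oq s K).trans (hallM s hs))
      ((h.moved_inert_hyps hK hgA r).1.trans (hallM r hr.1))
    exact hgc (h.eq_of_theta_le hM hgA hg1 hc hc1 (hgK.trans hMK.ge) hcM)
  have hall : ∀ s : ℕ, s.Prime → T ≤ centralizer (oq s K : Set G) := by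
    intro s hs
    haveI := Fact.mk hs
    by_cases hsq : s = q
    · subst hsq
      exact h.le_centralizer_of_oq hvq.symm hM hX hAX hXne inf_le_left
        (le_normalizer_inf (family_le_normalizer hvf)
          ((le_centralizer_singleton hA hgA).trans le_normalizer))
        (family_oq hK.1 s) (oq_isPGroup s K) (hXK.trans (le_normalizer_oq s K))
        (hTK.trans (le_normalizer_oq s K))
    · refine le_centralizer_of_inf_eq_bot inf_le_left (hTK.trans (le_normalizer_oq s K))
        ((hsM s hs hsq).trans (le_normalizer_oq v M)) ?_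
      by_cases hsv : s = v
      · subst hsv; exact hI
      · exact inf_eq_bot_of_isPGroup hsv (oq_isPGroup s K) (oq_isPGroup v M)
  exact le_bot_iff.mp ((le_inf (le_oq_of_centralizes_oq hK.solvable hTK
    ((oq_isPGroup v M).to_le inf_le_left) hall) inf_le_left).trans hI.le)

/-- There is no bad pair. -/
theorem not_isBadPair (h : IsMinimalIncomplete 2 A θ) {c : G} (hc : c ∈ A) (hc1 : c ≠ 1)
    {M : Subgroup G} : ¬ IsBadPair A θ c M := by
  intro hbad
  haveI : Fact (Nat.Prime 2) := ⟨Nat.prime_two⟩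
  obtain ⟨M, hb⟩ := exists_isBestPair ⟨M, hbad⟩
  clear hbad
  have hA := h.elem
  have hM := hb.1.1
  have hcM := hb.1.2.1
  obtain ⟨q, B, X, hq, hB, hcB, hX, hAX, hXB, hXc, hXne, hctrl⟩ := h.exists_controlled_piece hb hc hc1
  haveI := Fact.mk hq.1
  have hq2 : q ≠ 2 := by
    rintro rfl
    obtain ⟨n, hn⟩ := (oq_isPGroup 2 M).exists_card_eq
    rcases Nat.eq_zero_or_pos n with h0 | h0
    · rw [h0, pow_zero] at hn
      exact oq_ne_bot_of_moved hq (card_eq_one.mp hn)
    · exact family_not_dvd (family_oq hM.1 2) (hn ▸ dvd_pow_self 2 h0.ne')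
  have hcases := fun g (hg : g ∈ B) (hg1 : g ≠ 1) =>
    h.point_cases hb hc hc1 hq hB hcB hX hAX hXB hXc hXne hctrl hg hg1
  -- `C_W(L) = 1` on every line `L` meeting `B` in an inverting point
  by_cases hgood : ∃ g, g ∈ B ∧ g ≠ 1 ∧ IsMaxMember 2 A θ (θ g) ∧ oq q (θ g) ≠ ⊥
  · obtain ⟨g₀, hg₀, hg₀1, hmax₀, hq₀⟩ := hgood
    have hg₀A := hB.1 hg₀
    have hqle : oq q M ≤ centralizer ({g₀} : Set G) :=
      (h.le_theta_of_good hg₀A hg₀1 hmax₀ hq2 hq₀ (family_oq hM.1 q) (oq_isPGroup q M)).trans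
        (functor_le_centralizer h.functor hg₀A hg₀1)
    have hall : ∀ r : ℕ, r.Prime → oq r M ≤ centralizer ({g₀} : Set G) := by
      intro r hr
      by_cases hrq : r = q
      · subst hrq; exact hqle
      have hrf := family_oq hM.1 r
      refine le_of_lines hA h.card_eq (family_not_dvd hrf) (family_le_normalizer hrf) fun L hL => ?_
      obtain ⟨g, hgL, hgB, hg1⟩ := hL.exists_mem_inf hA h.card_eq hB
      by_cases hgg : g = g₀
      · subst hgg
        exact inf_le_right.trans (centralizer_le (Set.singleton_subset_iff.mpr hgL))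
      rcases hcases g hgB hg1 with ⟨hmg, hqg, hXg, hCg⟩ | hinv
      · have hXg₀ : X ≤ θ g₀ := fun x hx => family_inf_le
          (family_of_le hM.1 (hX.trans (oq_le q M)) hAX) hg₀A hg₀1
          ⟨hx, centralizer_le (Set.singleton_subset_iff.mpr hg₀) (hXB hx)⟩
        refine absurd (h.eq_bot_of_two_good (hB.1 hgB) hg1 hg₀A hg₀1 hgg hmg hmax₀ hq2 hqg hq₀
          ((oq_isPGroup q M).to_le hX) hXg hXg₀ hCg fun s hs hsq => ?_) hXne
        haveI := Fact.mk hs
        exact h.inert hM hc hc1 hcM hX hAX hXc (family_oq hmax₀.1 s)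
          (coprime_of_isPGroup (Ne.symm hsq) (oq_isPGroup s _))
          (hXg₀.trans (le_normalizer_oq s _))
      · exact ((inf_le_inf_left _ (centralizer_le (Set.singleton_subset_iff.mpr hgL))).trans
          (hinv r hr hrq).le).trans bot_le
    have hMg := h.eq_theta_of_oq_le hM hg₀A hg₀1 hall
    exact hcB (h.eq_of_theta_le hM hc hc1 hg₀A hg₀1 hcM hMg.ge ▸ hg₀)
  · obtain ⟨v, hv, hvq, hvne⟩ := hb.1.2.2.1.exists_ne q
    have hvf := family_oq hM.1 v
    refine hvne (le_bot_iff.mp ?_)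
    refine le_of_lines hA h.card_eq (family_not_dvd hvf) (family_le_normalizer hvf) fun L hL => ?_
    obtain ⟨g, hgL, hgB, hg1⟩ := hL.exists_mem_inf hA h.card_eq hB
    rcases hcases g hgB hg1 with ⟨hmg, hqg, -, -⟩ | hinv
    · exact absurd ⟨g, hgB, hg1, hmg, hqg⟩ hgood
    · exact (inf_le_inf_left _ (centralizer_le (Set.singleton_subset_iff.mpr hgL))).trans
        (hinv v hv hvq).le

end IsMinimalIncomplete

end CfsgLib.Signalizer
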