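import Cfsg.Agent.Lib.Signalizer.TwoBasic

/-!
A best pair has a piece of `[O_q(M),c]` on a line avoiding `c` that controls its normalizing members.
-/

set_option autoImplicit false
set_option linter.style.haveILetI false
set_option linter.unusedVariables false
set_option linter.unusedSectionVars false

open scoped Pointwise commutatorElement
open Subgroup

universe u

namespace CfsgLib.Signalizer

section generic

variable {G : Type*} [Group G] [Finite G]

/-- The commutator with `g` and with `c` agree on a subgroup centralized by `g * c`. -/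
theorem commutator_zpowers_le_of_mul {R : Subgroup G} {g c : G} (hg : g * g = 1) (hc : c * c = 1)
    (hR : ∀ x ∈ R, x * (g * c) = g * c * x) :
    ⁅R, zpowers g⁆ ≤ ⁅R, zpowers c⁆ := by
  rw [commutator_le]
  intro x hx z hz
  obtain ⟨k, rfl⟩ := hz
  have h2 : g ^ (2 : ℤ) = 1 := by
    rw [show (2 : ℤ) = ((2 : ℕ) : ℤ) by rfl, zpow_natCast, pow_two, hg]
  rcases Int.even_or_odd' k with ⟨m, rfl | rfl⟩
  · simp [zpow_mul, h2]
  · have he : g ^ (2 * m + 1) = g := by simp [zpow_add, zpow_mul, h2]
    show ⁅x, g ^ (2 * m + 1)⁆ ∈ _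
    rw [he]
    have hxi : x⁻¹ * (g * c) = g * c * x⁻¹ := hR _ (R.inv_mem hx)
    have hgi : g⁻¹ = g := inv_eq_of_mul_eq_one_left hg
    have hci : c⁻¹ = c := inv_eq_of_mul_eq_one_left hc
    have h3 : g * x⁻¹ * g = c * x⁻¹ * c := by
      have h4 := congrArg (fun y => g * y * c) hxi
      simp only [mul_assoc, hc, mul_one] at h4
      rw [← mul_assoc g g, hg, one_mul] at h4
      simpa [mul_assoc] using h4
    have h5 : ⁅x, g⁆ = ⁅x, c⁆ := by
      rw [commutatorElement_def, commutatorElement_def, hgi, hci, mul_assoc x g, mul_assoc x (g * x⁻¹) g,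
        h3]
      simp [mul_assoc]
    rw [h5]
    exact commutator_mem_commutator hx (mem_zpowers c)

theorem commute_of_mem_centralizer {B : Subgroup G} {x b : G}
    (hx : x ∈ centralizer (B : Set G)) (hb : b ∈ B) : x * b = b * x := (hx b hb).symm

end generic

variable {G : Type u} [Group G] [Finite G] {A : Subgroup G} {θ : G → Subgroup G}

namespace IsMinimalIncomplete

/-- `[K,k]` lies in `W` when the pieces on the lines avoiding `k` do. -/
theorem commutator_le_of_lines (h : IsMinimalIncomplete 2 A θ) {k : G} (hk : k ∈ A) (hk1 : k ≠ 1)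
    {K W : Subgroup G} (hK : K ∈ Cfsg.signalizerFamily 2 A θ)
    (hW : ∀ L, IsLine 2 A L → k ∉ L →
      ⁅K ⊓ centralizer (L : Set G), zpowers k⁆ ≤ W) : ⁅K, zpowers k⁆ ≤ W := by
  haveI : Fact (Nat.Prime 2) := ⟨Nat.prime_two⟩
  have hA := h.elem
  obtain ⟨L₁, hL₁, hkL₁, -⟩ := exists_line_ge hA h.card_eq hk hk
  refine (commutator_le_iSup_commutator hA hL₁.1 hL₁.2 hkL₁ hk1 (family_isSolvable hK)
    (family_not_dvd hK) (family_le_normalizer hK)).trans (iSup_le fun d => ?_)
  obtain ⟨d, hd, hdk⟩ := d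
  have hdA := hL₁.1 hd
  have hd1 : d ≠ 1 := fun h1 => hdk (h1 ▸ (zpowers k).one_mem)
  have hKd : K ⊓ centralizer ({d} : Set G) ∈ Cfsg.signalizerFamily 2 A θ :=
    family_of_le hK inf_le_left (le_normalizer_inf_centralizer_elem hA (family_le_normalizer hK) hdA)
  obtain ⟨e₀, he₀, he₀k⟩ : ∃ e ∈ A, e ∉ L₁ := by
    by_contra hcon
    push Not at hcon
    have := card_le_of_le (show A ≤ L₁ from hcon)
    rw [h.card_eq, hL₁.2] at this
    norm_num at this
  obtain ⟨L₂, hL₂, hkL₂, he₀L₂⟩ := exists_line_ge hA h.card_eq hk he₀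
  have hdL₂ : d ∉ L₂ := fun hdL₂ => he₀k
    (hL₁.eq_of_mem hA h.card_eq hL₂ hkL₁ hkL₂ hd hdL₂ hk1 hdk ▸ he₀L₂)
  refine (commutator_le_iSup_commutator hA hL₂.1 hL₂.2 hkL₂ hk1 (family_isSolvable hKd)
    (family_not_dvd hKd) (family_le_normalizer hKd)).trans (iSup_le fun e => ?_)
  obtain ⟨e, he, hek⟩ := e
  have he1 : e ≠ 1 := fun h1 => hek (h1 ▸ (zpowers k).one_mem)
  obtain ⟨L, hL, hdL, heL⟩ := exists_line_ge hA h.card_eq hdA (hL₂.1 he)
  have hed : e ∉ zpowers d := fun hed => by
    rcases mem_zpowers_two hA hdA hed with h1 | h1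
    · exact he1 h1
    · exact hdL₂ (h1 ▸ he)
  have hLe : zpowers d ⊔ zpowers e = L :=
    eq_of_le_of_card_ge (sup_le (zpowers_le.mpr hdL) (zpowers_le.mpr heL)) (by
      rw [card_sup_zpowers_elementary hA (zpowers_le.mpr hdA) (hL₂.1 he) hed,
        card_zpowers_elementary hA hdA hd1, hL.2, pow_two])
  have hkL : k ∉ L := fun hkL => hdL₂
    (hL₂.eq_of_mem hA h.card_eq hL hkL₂ hkL he heL hk1 hek ▸ hdL)
  refine le_trans (commutator_mono ?_ le_rfl) (hW L hL hkL)
  rintro x ⟨⟨hx, hxd⟩, hxe⟩
  refine ⟨hx, fun l hl => mem_centralizer_singleton_iff.mp ((show L ≤ centralizer ({x} : Set G) from ?_) hl)⟩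
  rw [← hLe]
  exact sup_le (zpowers_le.mpr (mem_centralizer_singleton_iff.mpr (hxd d rfl)))
    (zpowers_le.mpr (mem_centralizer_singleton_iff.mpr (hxe e rfl)))

/-- A controlled piece of a best pair. -/
theorem exists_controlled_piece (h : IsMinimalIncomplete 2 A θ) {c : G} {M : Subgroup G}
    (hb : IsBestPair A θ c M) (hc : c ∈ A) (hc1 : c ≠ 1) :
    ∃ (q : ℕ) (B X : Subgroup G), q ∈ movedPrimes c M ∧ IsLine 2 A B ∧ c ∉ B ∧ X ≤ oq q M ∧
      A ≤ normalizer (X : Set G) ∧ X ≤ centralizer (B : Set G) ∧ ⁅X, zpowers c⁆ = X ∧ X ≠ ⊥ ∧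
      ∀ H ∈ Cfsg.signalizerFamily 2 A θ, H ≤ normalizer (X : Set G) → H ≤ M := by
  haveI : Fact (Nat.Prime 2) := ⟨Nat.prime_two⟩
  have hA := h.elem
  have hbad := hb.1
  have hM := hbad.1
  have hcM := hbad.2.1
  obtain ⟨q, hq⟩ := IsBadPair.exists_moved h hbad hc hc1
  haveI := Fact.mk hq.1
  set E := oq q M with hE
  have hAM := hM.le_normalizer'
  have hAE : A ≤ normalizer (E : Set G) := hAM.trans (normalizer_le_normalizer_oq q M)
  have hEf := family_oq hM.1 q
  obtain ⟨hX'le, hAX', hX'c⟩ := h.moved_inert_hyps hM hc q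
  set X' := ⁅E, zpowers c⁆ with hX'
  obtain ⟨i, hi, hi1⟩ := exists_zser_step (W := centralizer ({c} : Set G)) hq.2
  set Z0 := zser q M i with hZ0
  set Z1 := zser q M (i + 1) with hZ1
  have hAZ1 : A ≤ normalizer (Z1 : Set G) := hAM.trans (normalizer_le_normalizer_zser q M (i + 1))
  have hEZ0 : E ≤ normalizer (Z0 : Set G) :=
    ((oq_le q M).trans le_normalizer).trans (normalizer_le_normalizer_zser q M i)
  have hZ0X' : X' ≤ centralizer (Z0 : Set G) := commutator_zpowers_le_centralizer hEZ0 hi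
  set Y := ⁅Z1, zpowers c⁆ with hY
  have hAY : A ≤ normalizer (Y : Set G) := le_normalizer_commutator_elem hA hAZ1 hc
  have hYZ1 : Y ≤ Z1 := commutator_zpowers_le (hAZ1 hc)
  have hYE : Y ≤ E := hYZ1.trans (zser_le q M _)
  have hYX' : Y ≤ X' := commutator_mono (zser_le q M _) le_rfl
  have hcc : c * c = 1 := mul_self_two hA hc
  have hci : c⁻¹ = c := inv_eq_self_two hA hc
  -- `Y` centralizes `C_E(c)`
  have hYC : Y ≤ centralizer ((E ⊓ centralizer ({c} : Set G) : Subgroup G) : Set G) := by
    rw [hY, commutator_le]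
    intro x hx z hz o ho
    rcases mem_zpowers_two hA hc hz with rfl | rfl
    · simp
    have hzc : ⁅x, o⁆ * z = z * ⁅x, o⁆ := mem_centralizer_singleton_iff.mp
      (hi (commutator_zser_succ q M i (commutator_mem_commutator hx ho.1)))
    have hoc : o * z = z * o := mem_centralizer_singleton_iff.mp ho.2
    have e1 : z * o * z = o := by rw [← hoc, mul_assoc, hcc, mul_one]
    have e2 : z * ⁅x, o⁆ * z = ⁅x, o⁆ := by rw [← hzc, mul_assoc, hcc, mul_one]
    have e3 : ⁅z * x * z, o⁆ = ⁅x, o⁆ := by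
      conv_lhs => rw [← e1]
      rw [← e2]
      simp only [commutatorElement_def, mul_inv_rev, hci, mul_assoc]
      simp [← mul_assoc, hcc]
    have e4 : x * o * x⁻¹ = (z * x * z) * o * (z * x * z)⁻¹ := by
      have := congrArg (· * o) e3.symm
      simpa [commutatorElement_def, mul_assoc] using this
    rw [commutatorElement_def, hci]
    calc o * (x * z * x⁻¹ * z) = x * (x⁻¹ * o * x) * (z * x⁻¹ * z) := by group
      _ = x * (x⁻¹ * o * x) * (z * x * z)⁻¹ := by
          rw [show (z * x * z)⁻¹ = z * x⁻¹ * z by simp [hci, mul_assoc]]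
      _ = x * z * x⁻¹ * z * o := by
          have e5 : (x⁻¹ * o * x) * (z * x * z)⁻¹ = (z * x * z)⁻¹ * o := by
            have hxi : x⁻¹ ∈ Z1 := Subgroup.inv_mem _ hx
            have hzc' : ⁅x⁻¹, o⁆ * z = z * ⁅x⁻¹, o⁆ := mem_centralizer_singleton_iff.mp
              (hi (commutator_zser_succ q M i (commutator_mem_commutator hxi ho.1)))
            have f2 : z * ⁅x⁻¹, o⁆ * z = ⁅x⁻¹, o⁆ := by rw [← hzc', mul_assoc, hcc, mul_one]
            have f3 : ⁅z * x⁻¹ * z, o⁆ = ⁅x⁻¹, o⁆ := by
              conv_lhs => rw [← e1]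
              rw [← f2]
              simp only [commutatorElement_def, mul_inv_rev, hci, mul_assoc]
              simp [← mul_assoc, hcc]
            have f4 := congrArg (· * o) f3.symm
            simp only [commutatorElement_def, mul_inv_rev, inv_inv, hci, mul_assoc] at f4
            simp only [inv_mul_cancel, mul_one] at f4
            simp only [mul_inv_rev, hci, mul_assoc]
            rw [show x⁻¹ * (o * (x * (z * (x⁻¹ * z)))) = (x⁻¹ * (o * x)) * (z * (x⁻¹ * z)) by group, f4]
            simp [mul_assoc, ← mul_assoc z z, hcc]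
          rw [mul_assoc x, e5]
          simp [hci, mul_assoc]
  obtain ⟨B₀, hB₀, hnle⟩ : ∃ B, IsLine 2 A B ∧
      ¬ Y ⊓ centralizer (B : Set G) ≤ centralizer ({c} : Set G) := by
    by_contra hcon
    push Not at hcon
    have hYc : Y ≤ centralizer ({c} : Set G) := le_of_lines hA h.card_eq
      (not_dvd_of_le (hYE.trans (oq_le q M)) hM.not_dvd) hAY hcon
    refine hi1 (le_centralizer_singleton_of_commutator_eq_bot ?_)
    rw [← commutator_idem hA (not_dvd_of_le ((zser_le q M _).trans (oq_le q M)) hM.not_dvd) hAZ1 hc]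
    exact commutator_eq_bot_of_le_centralizer_singleton hYc
  have hcB : c ∉ B₀ := fun hcB =>
    hnle (inf_le_right.trans (centralizer_le (Set.singleton_subset_iff.mpr hcB)))
  set X := ⁅Y ⊓ centralizer (B₀ : Set G), zpowers c⁆ with hX
  have hAYB := le_normalizer_inf_centralizer hA hAY hB₀.1
  have hXYB : X ≤ Y ⊓ centralizer (B₀ : Set G) := commutator_zpowers_le (hAYB hc)
  have hXY : X ≤ Y := hXYB.trans inf_le_left
  have hXE : X ≤ E := hXY.trans hYE
  have hAX : A ≤ normalizer (X : Set G) := le_normalizer_commutator_elem hA hAYB hc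
  have hXB : X ≤ centralizer (B₀ : Set G) := hXYB.trans inf_le_right
  have hYBd : ¬ 2 ∣ Nat.card ↥(Y ⊓ centralizer (B₀ : Set G)) :=
    not_dvd_of_le ((inf_le_left.trans hYE).trans (oq_le q M)) hM.not_dvd
  have hXc : ⁅X, zpowers c⁆ = X := commutator_idem hA hYBd hAYB hc
  have hXne : X ≠ ⊥ := fun h0 => hnle (le_centralizer_singleton_of_commutator_eq_bot h0)
  have hXf : X ∈ Cfsg.signalizerFamily 2 A θ := family_of_le hM.1 (hXE.trans (oq_le q M)) hAX
  refine ⟨q, B₀, X, hq, hB₀, hcB, hXE, hAX, hXB, hXc, hXne, fun H hH hHn => ?_⟩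
  have hZX : ∀ r : ℕ, r.Prime → zq r M ≤ centralizer (X : Set G) := fun r hr =>
    haveI := Fact.mk hr
    (h.zq_le_normalizer_moved (q := q) hM hc).trans (centralizer_le (hXY.trans hYX'))
  -- another moved prime gives control at once
  by_cases hsole : ∃ r ∈ movedPrimes c M, r ≠ q
  · obtain ⟨r, hr, hrq⟩ := hsole
    haveI := Fact.mk hr.1
    exact h.controlled hb hc hc1 hr hXf hXne hZX ((h.moved_inert_hyps hM hc r).1.trans
      ((oq_le_centralizer_oq hrq M).trans (centralizer_le hXE))) hH hHn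
  push Not at hsole
  obtain ⟨N, hN, hXN, -, hall⟩ := h.exists_normalizer_max hXf hXne
  by_cases hNM : N = M
  · exact hNM ▸ hall H hH hHn
  exfalso
  have hcent : ∀ U ∈ Cfsg.signalizerFamily 2 A θ, U ≤ centralizer (X : Set G) → U ≤ N :=
    fun U hU hUC => hall U hU (hUC.trans (centralizer_le_normalizer _))
  have hZN : ∀ r : ℕ, r.Prime → zq r M ≤ N := fun r hr => hcent _ (family_zq hM.1 r) (hZX r hr)
  have hwN : ∀ w : ℕ, w.Prime → w ≠ q → oq w M ≤ N := fun w hw hwq =>
    haveI := Fact.mk hw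
    hcent _ (family_oq hM.1 w) ((oq_le_centralizer_oq hwq M).trans (centralizer_le hXE))
  have hEcf : E ⊓ centralizer ({c} : Set G) ∈ Cfsg.signalizerFamily 2 A θ :=
    family_inf_left hEf ((le_centralizer_singleton hA hc).trans le_normalizer)
  have hEcN : E ⊓ centralizer ({c} : Set G) ≤ N :=
    hcent _ hEcf (le_centralizer_iff.mp (hXY.trans hYC))
  obtain ⟨u, hu, huM, huN⟩ : ∃ u : ℕ, u.Prime ∧ oq u M = ⊥ ∧ ¬ oq u N ≤ M := by
    by_contra hcon
    push Not at hcon
    exact hNM (h.eq_of_zq_le hM hbad.2.2.1 hN hZN hcon)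
  haveI := Fact.mk hu
  have huq : u ≠ q := fun e => oq_ne_bot_of_moved hq (e ▸ huM)
  set V := oq u N with hV
  have hAV : A ≤ normalizer (V : Set G) := hN.le_normalizer'.trans (normalizer_le_normalizer_oq u N)
  have hVf := family_oq hN.1 u
  have hVu := oq_isPGroup u N
  have hXV : X ≤ centralizer (V : Set G) := h.inert hM hc hc1 hcM hXE hAX hXc hVf
    (coprime_of_isPGroup huq.symm hVu) (hXN.trans (le_normalizer_oq u N))
  have hqN : oq q N ≠ ⊥ := fun h0 => hXne (eq_bot_of_centralizes_oq hN.solvable hXN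
    ((oq_isPGroup q M).to_le hXE) h0 fun r hr hrq => by
      haveI := Fact.mk hr
      exact h.inert hM hc hc1 hcM hXE hAX hXc (family_oq hN.1 r)
        (coprime_of_isPGroup (Ne.symm hrq) (oq_isPGroup r N)) (hXN.trans (le_normalizer_oq r N)))
  have hqNM : oq q N ≤ M := h.oq_le_of_zq hM hbad.2.2.1 hN hZN (oq_ne_bot_of_moved hq)
  -- `V ∩ M = 1`
  have hV0 : V ⊓ M = ⊥ := by
    refine eq_bot_of_centralizes_oq hM.solvable inf_le_right (hVu.to_le inf_le_left) huM
      fun w hw hwu => ?_
    haveI := Fact.mk hw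
    by_cases hwq : w = q
    · subst hwq
      exact h.le_centralizer_of_oq hwu hN le_rfl
        (hN.le_normalizer'.trans (normalizer_le_normalizer_oq w N)) hqN inf_le_left
        (le_normalizer_inf hAV hAM) hEf (oq_isPGroup w M) (hqNM.trans (le_normalizer_oq w M))
        (inf_le_right.trans (le_normalizer_oq w M))
    · refine le_centralizer_of_inf_eq_bot inf_le_left (inf_le_right.trans (le_normalizer_oq w M))
        ((hwN w hw hwq).trans (le_normalizer_oq u N)) ?_
      exact inf_eq_bot_of_isPGroup hwu (oq_isPGroup w M) hVu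
  have hVc : V ⊓ centralizer ({c} : Set G) = ⊥ :=
    le_bot_iff.mp ((le_inf inf_le_left ((family_inf_le hVf hc hc1).trans hcM)).trans hV0.le)
  have hVctrl : ∀ P : Subgroup G, P ∈ Cfsg.signalizerFamily 2 A θ → P ≠ ⊥ →
      (∀ r : ℕ, r.Prime → zq r M ≤ centralizer (P : Set G)) →
      X' ≤ centralizer (P : Set G) → V ⊓ centralizer (P : Set G) = ⊥ := by
    intro P hP hP1 hPZ hPX
    refine le_bot_iff.mp ((le_inf inf_le_left ?_).trans hV0.le)
    exact h.controlled hb hc hc1 hq hP hP1 hPZ hPX (family_inf_centralizer hA hVf hP)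
      (inf_le_right.trans (centralizer_le_normalizer _))
  have hVne : V ≠ ⊥ := fun h0 => huN (h0.le.trans bot_le)
  -- `P ≤ Z0` is controlled and lies in `N`
  have hZ0ctrl : ∀ P : Subgroup G, P ≤ Z0 → A ≤ normalizer (P : Set G) → P ≠ ⊥ →
      P ≤ N ∧ V ⊓ centralizer (P : Set G) = ⊥ := by
    intro P hP hAP hP1
    have hPE : P ≤ E := hP.trans (zser_le q M i)
    have hPf := family_of_le hM.1 (hPE.trans (oq_le q M)) hAP
    have hX'P : X' ≤ centralizer (P : Set G) := hZ0X'.trans (centralizer_le hP)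
    refine ⟨hcent P hPf (le_centralizer_iff.mp ((hXY.trans hYX').trans hX'P)),
      hVctrl P hPf hP1 (fun r hr => ?_) hX'P⟩
    haveI := Fact.mk hr
    refine le_trans ?_ (centralizer_le hPE)
    by_cases hrq : r = q
    · subst hrq; exact zq_le_centralizer r M
    · exact (zq_le_oq r M).trans (oq_le_centralizer_oq hrq M)
  have hPZ0 : ∀ S : Subgroup G, S ≤ E → ⁅X, S⁆ ≤ Z0 := fun S hS =>
    (commutator_mono (hXY.trans hYZ1) hS).trans (commutator_zser_succ q M i)
  -- some piece of `E` does not commute with `X`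
  obtain ⟨B₁, hB₁, hcB₁, hP⟩ : ∃ B₁, IsLine 2 A B₁ ∧ c ∉ B₁ ∧
      ⁅X, ⁅E ⊓ centralizer (B₁ : Set G), zpowers c⁆⁆ ≠ ⊥ := by
    by_contra hcon
    push Not at hcon
    have hEX : E ≤ centralizer (X : Set G) := by
      refine le_of_lines hA h.card_eq (family_not_dvd hEf) hAE fun B hB => ?_
      have hEcX : E ⊓ centralizer ({c} : Set G) ≤ centralizer (X : Set G) :=
        le_centralizer_iff.mp (hXY.trans hYC)
      by_cases hcB' : c ∈ B
      · exact (inf_le_inf_left _ (centralizer_le (Set.singleton_subset_iff.mpr hcB'))).trans hEcX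
      · rw [← sup_centralizer_eq hA (not_dvd_of_le inf_le_left (family_not_dvd hEf))
          (le_normalizer_inf_centralizer hA hAE hB.1) hc]
        refine sup_le ?_ ((inf_le_inf_right _ inf_le_left).trans hEcX)
        have := hcon B hB hcB'
        rw [commutator_eq_bot_iff_le_centralizer] at this
        exact le_centralizer_iff.mp this
    exact hNM (h.eq_of_moved_le hb hc hc1 hq hN hZN
      (hcent _ (family_of_le hM.1 (hX'le.trans (oq_le q M)) hAX') (hX'le.trans hEX)))
  set X₁ := ⁅E ⊓ centralizer (B₁ : Set G), zpowers c⁆ with hX₁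
  have hAE₁ := le_normalizer_inf_centralizer hA hAE hB₁.1
  have hX₁E₁ : X₁ ≤ E ⊓ centralizer (B₁ : Set G) := commutator_zpowers_le (hAE₁ hc)
  have hX₁E : X₁ ≤ E := hX₁E₁.trans inf_le_left
  have hAX₁ : A ≤ normalizer (X₁ : Set G) := le_normalizer_commutator_elem hA hAE₁ hc
  have hX₁c : ⁅X₁, zpowers c⁆ = X₁ :=
    commutator_idem hA (not_dvd_of_le inf_le_left (family_not_dvd hEf)) hAE₁ hc
  have hAP : A ≤ normalizer ((⁅X, X₁⁆ : Subgroup G) : Set G) :=
    fun a ha => normalizer_inf_le_normalizer_commutator _ _ ⟨hAX ha, hAX₁ ha⟩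
  obtain ⟨-, hVP⟩ := hZ0ctrl _ (hPZ0 X₁ hX₁E) hAP hP
  -- a common point `g` of the two lines has no fixed points on `V`
  have step : ∀ g, g ∈ B₀ → g ∈ B₁ → g ≠ 1 → V ⊓ centralizer ({g} : Set G) = ⊥ := by
    intro g hg0 hg1' hg1
    have hgA := hB₀.1 hg0
    set T := V ⊓ centralizer ({g} : Set G) with hT
    obtain ⟨K, hK, hgK⟩ := exists_isMaxMember_ge (functor_mem_family h.functor hgA hg1)
    have hTf : T ∈ Cfsg.signalizerFamily 2 A θ :=
      family_inf_left hVf ((le_centralizer_singleton hA hgA).trans le_normalizer)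
    have hTK : T ≤ K := (family_inf_le hVf hgA hg1).trans hgK
    have hXf₁ : X₁ ∈ Cfsg.signalizerFamily 2 A θ :=
      family_of_le hM.1 (hX₁E.trans (oq_le q M)) hAX₁
    have hXK : X ≤ K := fun x hx => hgK (family_inf_le hXf hgA hg1
      ⟨hx, centralizer_le (Set.singleton_subset_iff.mpr hg0) (hXB hx)⟩)
    have hX₁K : X₁ ≤ K := fun x hx => hgK (family_inf_le hXf₁ hgA hg1
      ⟨hx, centralizer_le (Set.singleton_subset_iff.mpr hg1') (hX₁E₁ hx).2⟩)
    have hother : ∀ s : ℕ, s.Prime → s ≠ q →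
        X ≤ centralizer (oq s K : Set G) ∧ X₁ ≤ centralizer (oq s K : Set G) := by
      intro s hs hsq
      haveI := Fact.mk hs
      exact ⟨h.inert hM hc hc1 hcM hXE hAX hXc (family_oq hK.1 s)
          (coprime_of_isPGroup (Ne.symm hsq) (oq_isPGroup s K)) (hXK.trans (le_normalizer_oq s K)),
        h.inert hM hc hc1 hcM hX₁E hAX₁ hX₁c (family_oq hK.1 s)
          (coprime_of_isPGroup (Ne.symm hsq) (oq_isPGroup s K)) (hX₁K.trans (le_normalizer_oq s K))⟩
    have hI : oq u K ⊓ V = ⊥ := by
      refine le_bot_iff.mp ((le_inf inf_le_right (inf_le_left.trans ?_)).trans hVP.le)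
      exact le_centralizer_iff.mp (commutator_le_centralizer_of_le (hother u hu huq).1 (hother u hu huq).2)
    have hTall : ∀ s : ℕ, s.Prime → T ≤ centralizer (oq s K : Set G) := by
      intro s hs
      haveI := Fact.mk hs
      by_cases hsq : s = q
      · subst hsq
        refine h.le_centralizer_of_pxq ((oq_isPGroup s M).to_le hXE)
          (coprime_of_isPGroup huq.symm (hVu.to_le inf_le_left)) (oq_isPGroup s K)
          (hXV.trans (centralizer_le inf_le_left)) (inf_le_left.trans (oq_le_opr huq.symm N))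
          (hXK.trans (le_normalizer_oq s K)) (hTK.trans (le_normalizer_oq s K)) ?_
        exact hcent _ (family_inf_centralizer hA (family_oq hK.1 s) hXf) inf_le_right
      · have hsN : oq s K ≤ N :=
          hcent _ (family_oq hK.1 s) (le_centralizer_iff.mp (hother s hs hsq).1)
        refine le_centralizer_of_inf_eq_bot inf_le_left (hTK.trans (le_normalizer_oq s K))
          (hsN.trans (le_normalizer_oq u N)) ?_
        by_cases hsu : s = u
        · subst hsu; exact hI
        · exact inf_eq_bot_of_isPGroup hsu (oq_isPGroup s K) hVu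
    have hTu := le_oq_of_centralizes_oq hK.solvable hTK (hVu.to_le inf_le_left) hTall
    exact le_bot_iff.mp ((le_inf hTu inf_le_left).trans hI.le)
  obtain ⟨g, hg0, hg1', hg1⟩ := hB₀.exists_mem_inf hA h.card_eq hB₁
  have hgA := hB₀.1 hg0
  have hVg := step g hg0 hg1' hg1
  set k := g * c with hk
  have hkA : k ∈ A := A.mul_mem hgA hc
  have hgg : g * g = 1 := mul_self_two hA hgA
  have hgc : c ≠ g := fun e => hcB (e ▸ hg0)
  have hk1 : k ≠ 1 := fun h1 => hgc (by
    rw [← inv_eq_self_two hA hc]; exact (eq_inv_of_mul_eq_one_left h1).symm)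
  have hck : c = g * k := by rw [hk, ← mul_assoc, hgg, one_mul]
  have hkc : k * c = g := by rw [hk, mul_assoc, hcc, mul_one]
  have hkB₀ : k ∉ B₀ := fun hk0 => hcB (hck ▸ B₀.mul_mem hg0 hk0)
  have hkk : k * k = 1 := mul_self_two hA hkA
  -- `V` is centralized by `k`
  have hVk : V ≤ centralizer ({k} : Set G) := by
    refine le_of_lines hA h.card_eq (family_not_dvd hVf) hAV fun B hB => ?_
    by_cases hcB' : c ∈ B
    · exact ((inf_le_inf_left _ (centralizer_le (Set.singleton_subset_iff.mpr hcB'))).trans hVc.le).trans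
        bot_le
    by_cases hgB : g ∈ B
    · exact ((inf_le_inf_left _ (centralizer_le (Set.singleton_subset_iff.mpr hgB))).trans hVg.le).trans
        bot_le
    exact inf_le_right.trans
      (centralizer_le (Set.singleton_subset_iff.mpr (hB.mul_mem_two hA h.card_eq hgA hc hgB hcB')))
  -- pieces on lines through `k` commute with `X`
  have hcomm : ∀ B₂, IsLine 2 A B₂ → k ∈ B₂ → c ∉ B₂ →
      ⁅E ⊓ centralizer (B₂ : Set G), zpowers c⁆ ≤ centralizer (X : Set G) := by
    intro B₂ hB₂ hkB₂ hcB₂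
    set X₂ := ⁅E ⊓ centralizer (B₂ : Set G), zpowers c⁆ with hX₂
    have hAE₂ := le_normalizer_inf_centralizer hA hAE hB₂.1
    have hX₂E₂ : X₂ ≤ E ⊓ centralizer (B₂ : Set G) := commutator_zpowers_le (hAE₂ hc)
    have hAX₂ : A ≤ normalizer (X₂ : Set G) := le_normalizer_commutator_elem hA hAE₂ hc
    rw [le_centralizer_iff, ← commutator_eq_bot_iff_le_centralizer]
    by_contra hQ
    set Q₂ := ⁅X, X₂⁆ with hQ₂
    have hAQ : A ≤ normalizer (Q₂ : Set G) :=
      fun a ha => normalizer_inf_le_normalizer_commutator _ _ ⟨hAX ha, hAX₂ ha⟩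
    have hQZ : Q₂ ≤ Z0 := hPZ0 X₂ (hX₂E₂.trans inf_le_left)
    have hQf := family_of_le hM.1 ((hQZ.trans (zser_le q M i)).trans (oq_le q M)) hAQ
    obtain ⟨hQN, hVQ⟩ := hZ0ctrl Q₂ hQZ hAQ hQ
    have hXZ0 : X ≤ centralizer (Z0 : Set G) := (hXY.trans hYX').trans hZ0X'
    let S : Subgroup G :=
      { carrier := {x | x ∈ X ∧ ∀ e ∈ X₂, ⁅x, e⁆ ∈ ⁅Q₂, zpowers k⁆}
        one_mem' := ⟨X.one_mem, fun e _ => by simp⟩
        mul_mem' := fun {a b} ha hb => ⟨X.mul_mem ha.1 hb.1, fun e he => by
          have hz : ⁅b, e⁆ ∈ Z0 := hQZ (commutator_mem_commutator hb.1 he)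
          rw [show ⁅a * b, e⁆ = a * ⁅b, e⁆ * a⁻¹ * ⁅a, e⁆ by simp only [commutatorElement_def]; group,
            ← hXZ0 ha.1 _ hz, mul_inv_cancel_right]
          exact Subgroup.mul_mem _ (hb.2 e he) (ha.2 e he)⟩
        inv_mem' := fun {a} ha => ⟨X.inv_mem ha.1, fun e he => by
          have hz : ⁅a, e⁆⁻¹ ∈ Z0 :=
            Subgroup.inv_mem _ (hQZ (commutator_mem_commutator ha.1 he))
          rw [show ⁅a⁻¹, e⁆ = a⁻¹ * ⁅a, e⁆⁻¹ * a by simp only [commutatorElement_def]; group,
            ← hXZ0 (X.inv_mem ha.1) _ hz, inv_mul_cancel_right]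
          exact Subgroup.inv_mem _ (ha.2 e he)⟩ }
    have hgen : X ≤ S := by
      conv_lhs => rw [← hXc]
      rw [commutator_le]
      intro x hx z hz
      rcases mem_zpowers_two hA hc hz with rfl | rfl
      · simp
      set w := ⁅x, z⁆ with hw
      have hwX : w ∈ X := hXc ▸ commutator_mem_commutator hx (mem_zpowers z)
      refine ⟨hwX, fun e he => ?_⟩
      have hwc : z * w * z = w⁻¹ := by
        simp only [hw, commutatorElement_def, mul_inv_rev, inv_inv, hci, mul_assoc]
        simp [← mul_assoc, hcc]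
      have hwg : g * w * g = w := by
        rw [← commute_of_mem_centralizer (hXB hwX) hg0, mul_assoc, hgg, mul_one]
      have hwk : k * w * k = w⁻¹ := by
        rw [hk]
        calc g * z * w * (g * z) = g * (z * w * z) * g := by
              rw [elementary_commute hA hgA hc]
              simp only [mul_assoc]
              rw [← mul_assoc z g, elementary_commute hA hc hgA]
              simp only [mul_assoc]
          _ = (g * w * g)⁻¹ := by
              rw [hwc, mul_inv_rev, mul_inv_rev, inv_eq_of_mul_eq_one_left hgg, mul_assoc]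
          _ = w⁻¹ := by rw [hwg]
      have hek : k * e * k = e := by
        rw [← commute_of_mem_centralizer (hX₂E₂ he).2 hkB₂, mul_assoc, hkk, mul_one]
      set y := ⁅w, e⁆ with hy
      have hyQ : y ∈ Q₂ := commutator_mem_commutator hwX he
      have hyk : k * y * k = y⁻¹ := by
        have hwz : w⁻¹ * y⁻¹ * w = y⁻¹ := by
          have h6 := hXZ0 hwX _ (hQZ (Q₂.inv_mem hyQ))
          rw [mul_assoc, h6, ← mul_assoc, inv_mul_cancel, one_mul]
        calc k * y * k = ⁅k * w * k, k * e * k⁆ := by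
              simp only [hy, commutatorElement_def, mul_inv_rev, inv_eq_of_mul_eq_one_left hkk,
                mul_assoc]
              simp [← mul_assoc, hkk]
          _ = ⁅w⁻¹, e⁆ := by rw [hwk, hek]
          _ = w⁻¹ * y⁻¹ * w := by simp only [hy, commutatorElement_def]; group
          _ = y⁻¹ := hwz
      refine h.mem_of_sq_mem hQf hyQ ?_
      have h7 : ⁅y, k⁆ = y * y := by
        rw [commutatorElement_def, inv_eq_of_mul_eq_one_left hkk, mul_assoc y k, mul_assoc y,
          show k * y⁻¹ * k = (k * y * k)⁻¹ by simp [mul_assoc, inv_eq_of_mul_eq_one_left hkk], hyk,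
          inv_inv]
      exact h7 ▸ commutator_mem_commutator hyQ (mem_zpowers k)
    have hQk : Q₂ ≤ ⁅Q₂, zpowers k⁆ := by
      rw [hQ₂, commutator_le]
      exact fun x hx e he => (hgen hx).2 e he
    refine hVne (le_bot_iff.mp ((le_inf le_rfl (le_centralizer_iff.mp ?_)).trans hVQ.le))
    exact hQk.trans (commutator_zpowers_le_centralizer (hQN.trans (le_normalizer_oq u N)) hVk)
  -- `[O_w(M),g]` lies in `N` and centralizes `V`
  have hRO : ∀ w : ℕ, w.Prime → ⁅oq w M, zpowers g⁆ ≤ N ⊓ centralizer (V : Set G) := by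
    intro w hw
    haveI := Fact.mk hw
    have hOf := family_oq hM.1 w
    have hAO := family_le_normalizer hOf
    refine h.commutator_le_of_lines hgA hg1 hOf fun L hL hgL => ?_
    set R := ⁅oq w M ⊓ centralizer (L : Set G), zpowers g⁆ with hR
    have hAOL := le_normalizer_inf_centralizer hA hAO hL.1
    have hOLd : ¬ 2 ∣ Nat.card ↥(oq w M ⊓ centralizer (L : Set G)) :=
      not_dvd_of_le inf_le_left (family_not_dvd hOf)
    have hRle : R ≤ oq w M ⊓ centralizer (L : Set G) := commutator_zpowers_le (hAOL hgA)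
    by_cases hcL : c ∈ L
    · have hRN : R ≤ N := by
        by_cases hwq : w = q
        · subst hwq
          exact (hRle.trans (inf_le_inf_left _
            (centralizer_le (Set.singleton_subset_iff.mpr hcL)))).trans hEcN
        · exact (hRle.trans inf_le_left).trans (hwN w hw hwq)
      refine le_inf hRN ?_
      have hidem : ⁅R, zpowers g⁆ = R := commutator_idem hA hOLd hAOL hgA
      rw [← hidem]
      refine (commutator_zpowers_le_of_mul (g := g) (c := k) hgg hkk fun x hx => ?_).trans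
        (commutator_zpowers_le_centralizer (hRN.trans (le_normalizer_oq u N)) hVk)
      rw [hk, show g * (g * c) = c by rw [← mul_assoc, hgg, one_mul]]
      exact commute_of_mem_centralizer (hRle hx).2 hcL
    · by_cases hwq : w = q
      · subst hwq
        have hkL : k ∈ L := hL.mul_mem_two hA h.card_eq hgA hc hgL hcL
        have hle : R ≤ ⁅E ⊓ centralizer (L : Set G), zpowers c⁆ :=
          commutator_zpowers_le_of_mul hgg hcc fun x hx => commute_of_mem_centralizer hx.2 hkL
        have hX₂N : ⁅E ⊓ centralizer (L : Set G), zpowers c⁆ ≤ N :=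
          hcent _ (family_of_le hM.1 (((commutator_zpowers_le (hAOL hc)).trans inf_le_left).trans
            (oq_le w M)) (le_normalizer_commutator_elem hA hAOL hc)) (hcomm L hL hkL hcL)
        refine le_inf (hle.trans hX₂N) (hle.trans ?_)
        exact h.inert hM hc hc1 hcM ((commutator_zpowers_le (hAOL hc)).trans inf_le_left)
          (le_normalizer_commutator_elem hA hAOL hc) (commutator_idem hA hOLd hAOL hc) hVf
          (coprime_of_isPGroup huq.symm hVu) (hX₂N.trans (le_normalizer_oq u N))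
      · have hfix : oq w M ≤ centralizer ({c} : Set G) := by
          by_contra hn
          exact hwq (hsole w ⟨hw, hn⟩)
        have hbot : R = ⊥ := by
          refine commutator_eq_bot_of_le_centralizer_singleton ?_
          refine (le_inf inf_le_right (inf_le_left.trans hfix)).trans ?_
          rw [hL.centralizer_inf hA h.card_eq hc hcL]
          exact centralizer_le (Set.singleton_subset_iff.mpr hgA)
        rw [hbot]; exact bot_le
  -- `g` fixes `F(M)`, so `θ g ≤ M`
  have hfix : ∀ w : ℕ, w.Prime → oq w M ≤ centralizer ({g} : Set G) := by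
    intro w hw
    haveI := Fact.mk hw
    by_contra hn
    have hOf := family_oq hM.1 w
    have hRne : ⁅oq w M, zpowers g⁆ ≠ ⊥ :=
      fun h0 => hn (le_centralizer_singleton_of_commutator_eq_bot h0)
    set R := ⁅oq w M, zpowers g⁆ with hR
    have hRle : R ≤ oq w M := commutator_zpowers_le (family_le_normalizer hOf hgA)
    have hAR : A ≤ normalizer (R : Set G) :=
      le_normalizer_commutator_elem hA (family_le_normalizer hOf) hgA
    haveI : (R.subgroupOf (oq w M)).Normal := (normal_subgroupOf_iff_le_normalizer hRle).mpr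
      (CfsgLib.Solvable.le_normalizer_commutator_left _ _)
    obtain ⟨z, hz, hz1⟩ := CfsgLib.Solvable.exists_ne_one_mem_inf_center_of_normal (oq_isPGroup w M)
      (N := R.subgroupOf (oq w M)) fun h0 => hRne (by
        rw [← map_subgroupOf_eq_of_le hRle, h0, Subgroup.map_bot])
    set P := R ⊓ zq w M with hP'
    have hP1 : P ≠ ⊥ := fun h0 => by
      have hmem : (z : G) ∈ P := ⟨mem_subgroupOf.mp hz.1, z.2, fun y hy =>
        congrArg Subtype.val (mem_center_iff.mp hz.2 ⟨y, hy⟩)⟩
      rw [h0, mem_bot] at hmem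
      exact hz1 (Subtype.ext hmem)
    have hPf : P ∈ Cfsg.signalizerFamily 2 A θ :=
      family_of_le hM.1 (inf_le_left.trans (hRle.trans (oq_le w M)))
        (le_normalizer_inf hAR (hAM.trans (normalizer_le_normalizer_zq w M)))
    have hcp : ∀ r : ℕ, [Fact r.Prime] → oq r M ≤ centralizer (P : Set G) := by
      intro r _
      refine le_trans ?_ (centralizer_le (inf_le_right : P ≤ zq w M))
      by_cases hrw : r = w
      · subst hrw; exact oq_le_centralizer_zq r M
      · exact (oq_le_centralizer_oq hrw M).trans (centralizer_le (zq_le_oq w M))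
    refine hVne (le_bot_iff.mp ((le_inf le_rfl (le_centralizer_iff.mp
      (inf_le_left.trans ((hRO w hw).trans inf_le_right)))).trans
        (hVctrl P hPf hP1 (fun r hr => haveI := Fact.mk hr; (zq_le_oq r M).trans (hcp r))
          (hX'le.trans (hcp q))).le))
  have hMg : M = θ g := h.eq_theta_of_oq_le hM hgA hg1 hfix
  exact hgc (h.eq_of_theta_le hM hc hc1 hgA hg1 hcM hMg.ge)

end IsMinimalIncomplete

end CfsgLib.Signalizer
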