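import Cfsg.Agent.Lib.Signalizer.OddPoints

/-!
The units of a fixed-odd-part point and the centre of the meet of the maximal `2`-members.
-/

set_option autoImplicit false
set_option linter.style.haveILetI false
set_option linter.unusedVariables false
set_option linter.unusedSectionVars false

open scoped Pointwise commutatorElement
open Subgroup

universe u

namespace CfsgLib.Signalizer

section generic

variable {G : Type*} [Group G] [Finite G]

/-- If `Y = [Y,z]` is nilpotent and every abelian piece `W` of its lower central series below the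
top is centralized by `z`, then `Y` has class at most two. -/
theorem lowerCentralSeries_two_eq_bot {Y Z : Subgroup G} (hY : Group.IsNilpotent Y)
    (hYZ : ⁅Y, Z⁆ = Y)
    (hfix : ∀ n : ℕ, 1 ≤ n → IsMulCommutative (Y.lowerCentralSeries n) →
      Y.lowerCentralSeries n ≤ centralizer (Z : Set G)) :
    Y.lowerCentralSeries 2 = ⊥ := by
  obtain ⟨N, hN⟩ := (Subgroup.isNilpotent_iff_lowerCentralSeries Y).mp hY
  have step : ∀ m : ℕ, Y.lowerCentralSeries (m + 3) = ⊥ → Y.lowerCentralSeries (m + 2) = ⊥ := by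
    intro m hm
    set W := Y.lowerCentralSeries (m + 1) with hW
    have hW2 : ⁅⁅W, Y⁆, Y⁆ = ⊥ := hm
    have hW2' : ⁅⁅Y, W⁆, Y⁆ = ⊥ := by rw [commutator_comm Y W]; exact hW2
    have hY1 : ⁅⁅Y, Y⁆, W⁆ = ⊥ := commutator_commutator_eq_bot_of_rotate hW2' hW2
    have hle : W ≤ ⁅Y, Y⁆ := by
      show W ≤ Y.lowerCentralSeries 1
      exact Y.lowerCentralSeries_antitone (by omega)
    have hWW : ⁅W, W⁆ = ⊥ := le_bot_iff.mp (hY1 ▸ commutator_mono hle le_rfl)
    have habW : IsMulCommutative W := ⟨⟨fun a b => Subtype.ext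
      ((commutator_eq_bot_iff_le_centralizer.mp hWW) b.2 a a.2)⟩⟩
    have hV : Y.lowerCentralSeries (m + 2) ≤ W := Y.lowerCentralSeries_antitone (by omega)
    have habV : IsMulCommutative (Y.lowerCentralSeries (m + 2)) := ⟨⟨fun a b => Subtype.ext
      ((commutator_eq_bot_iff_le_centralizer.mp hWW) (hV b.2) a (hV a.2))⟩⟩
    have hWZ : ⁅Z, W⁆ = ⊥ := by
      rw [commutator_comm]
      exact commutator_eq_bot_iff_le_centralizer.mpr (hfix (m + 1) (by omega) habW)
    have hVZ : ⁅⁅W, Y⁆, Z⁆ = ⊥ :=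
      commutator_eq_bot_iff_le_centralizer.mpr (hfix (m + 2) (by omega) habV)
    have h3 : ⁅⁅Y, Z⁆, W⁆ = ⊥ :=
      commutator_commutator_eq_bot_of_rotate (by rw [hWZ, commutator_bot_left]) hVZ
    rw [hYZ, commutator_comm] at h3
    exact h3
  have down : ∀ k : ℕ, Y.lowerCentralSeries (k + 2) = ⊥ → Y.lowerCentralSeries 2 = ⊥ := by
    intro k
    induction k with
    | zero => exact id
    | succ k ih => exact fun h => ih (step k h)
  refine down N (le_bot_iff.mp (hN ▸ Y.lowerCentralSeries_antitone (by omega)))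

end generic

variable {G : Type u} [Group G] [Finite G] {p : ℕ} [hp : Fact p.Prime] {A : Subgroup G}
  {θ : G → Subgroup G}

namespace IsMinimalIncomplete

/-- No subgroup is absorbed for the prime two. -/
theorem not_isAbsorbed_two (h : IsMinimalIncomplete p A θ) {B U : Subgroup G} :
    ¬ IsAbsorbed p A θ 2 B U := by
  intro hU
  haveI : Fact (Nat.Prime 2) := ⟨Nat.prime_two⟩
  have h2p : 2 ≠ p := hU.ne_prime
  by_cases hall : ∀ a ∈ A, a ≠ 1 → IsQPoint p A θ 2 a
  · exact hU.ne_bot (le_bot_iff.mp (h.rbar_eq_bot h2p hall ▸ hU.le_rbar h))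
  push Not at hall
  obtain ⟨g, hg, hg1, hgn⟩ := hall
  obtain ⟨N, hN, hgN⟩ := exists_isMaxMember_ge (functor_mem_family h.functor hg hg1)
  have hDN : Cfsg.signalizerInf A θ ≤ N := (signalizerInf_le hg hg1).trans hgN
  have hN2 : oq 2 N = ⊥ := by
    by_contra hne
    exact hgn ⟨N, ⟨hN, hDN, hne⟩, hgN⟩
  obtain ⟨q, hq, hmoved⟩ := h.exists_moved_prime hg hg1 hN hgN
  haveI := Fact.mk hq
  have hq2 : q ≠ 2 := by
    rintro rfl
    exact hmoved (hN2.le.trans bot_le)
  have hV := family_oq hN.1 q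
  set P0 := ⁅oq q N, zpowers g⁆ with hP0
  have hgV : g ∈ normalizer (oq q N : Set G) := family_le_normalizer hV hg
  have hP0V : P0 ≤ oq q N := commutator_zpowers_le hgV
  have hP0W : P0 ∈ Cfsg.signalizerFamily p A θ := family_of_le hV hP0V
    (le_normalizer_commutator_elem h.elem (family_le_normalizer hV) hg)
  have hP0ne : P0 ≠ ⊥ := fun h0 => hmoved (le_centralizer_singleton_of_commutator_eq_bot h0)
  have hgP0 : θ g ≤ normalizer (P0 : Set G) := fun x hx =>
    normalizer_inf_le_normalizer_commutator _ _ ⟨le_normalizer_oq q N (hgN hx),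
      centralizer_le_normalizer _ (by
        rw [centralizer_zpowers]; exact functor_le_centralizer h.functor hg hg1 hx)⟩
  have hUP0 : U ≤ centralizer (P0 : Set G) := by
    rw [le_centralizer_iff]
    refine (commutator_le_iSup_lines h.elem h.card_eq (family_isSolvable hV) (family_not_dvd hV)
      (family_le_normalizer hV) hg).trans (iSup_le fun i => ?_)
    obtain ⟨B1, hB1, hgB1⟩ := i
    by_cases hne : ⁅oq q N ⊓ centralizer (B1 : Set G), zpowers g⁆ = ⊥
    · exact hne.le.trans bot_le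
    have hX := h.isAbsorbed_piece hg hg1 hN hgN hB1 hgB1 hq2 hne
    obtain ⟨e, heB, heB1, he1⟩ := hU.line.exists_mem_inf h.elem h.card_eq hB1
    have hle : oq q (θ e) ≤ centralizer (oq 2 (θ e) : Set G) :=
      le_centralizer_of_inf_eq_bot le_rfl
        ((oq_le q _).trans (le_normalizer_oq 2 _)) ((oq_le 2 _).trans (le_normalizer_oq q _))
        (inf_eq_bot_of_coprime (by
          obtain ⟨n, hn⟩ := (oq_isPGroup 2 (θ e)).exists_card_eq
          obtain ⟨m, hm⟩ := (oq_isPGroup q (θ e)).exists_card_eq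
          rw [hn, hm]
          exact Nat.Coprime.pow n m ((Nat.coprime_primes Nat.prime_two hq).mpr (Ne.symm hq2))))
    exact (hX.le_oq e heB1 he1).trans (hle.trans (centralizer_le (hU.le_oq e heB he1)))
  obtain ⟨M, hM, -, -, hall'⟩ := h.exists_normalizer_max hP0W hP0ne
  have hgM : θ g ≤ M := hall' _ (functor_mem_family h.functor hg hg1) hgP0
  have hUM : U ≤ M := hall' U hU.mem (hUP0.trans (centralizer_le_normalizer _))
  have hU2 : U ≤ oq 2 M := h.le_oq_of_line hM.1 hU.line hUM hU.isPGroup fun b hb hb1 =>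
    ⟨oq 2 (θ b), oq_isPGroup 2 _, hU.le_oq b hb hb1, le_normalizer_oq 2 _⟩
  exact hgn ⟨M, ⟨hM, (signalizerInf_le hg hg1).trans hgM,
    fun h0 => hU.ne_bot (le_bot_iff.mp (hU2.trans h0.le))⟩, hgM⟩

theorem abelian_two_fixed (h : IsMinimalIncomplete p A θ) {c : G} (hc : c ∈ A) (hc1 : c ≠ 1)
    {K : Subgroup G} (hK : IsMaxMember p A θ K) (hcK : θ c ≤ K) {V : Subgroup G}
    (hV : V ≤ oq 2 K) (hAV : A ≤ normalizer (V : Set G)) (hVc : IsMulCommutative V) :
    V ≤ centralizer ({c} : Set G) := by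
  haveI : Fact (Nat.Prime 2) := ⟨Nat.prime_two⟩
  have hVW : V ∈ Cfsg.signalizerFamily p A θ := family_of_le (family_oq hK.1 2) hV hAV
  refine le_centralizer_singleton_of_commutator_eq_bot (le_bot_iff.mp ?_)
  refine (commutator_le_iSup_lines h.elem h.card_eq (family_isSolvable hVW) (family_not_dvd hVW)
    hAV hc).trans (iSup_le fun i => ?_)
  obtain ⟨B, hB, hcB⟩ := i
  refine le_of_eq ?_
  by_contra hne
  have hAX := le_normalizer_inf_centralizer h.elem hAV hB.1
  have hXV : ⁅V ⊓ centralizer (B : Set G), zpowers c⁆ ≤ V ⊓ centralizer (B : Set G) :=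
    commutator_zpowers_le (hAX hc)
  refine h.not_isAbsorbed_two (h.isAbsorbed_of_inert hc hc1 hK hcK hB hcB
    (hXV.trans (inf_le_left.trans hV)) (le_normalizer_commutator_elem h.elem hAX hc)
    (hXV.trans inf_le_right)
    (commutator_idem h.elem (not_dvd_of_le inf_le_left (family_not_dvd hVW)) hAX hc)
    (Or.inr ?_) hne)
  exact ⟨⟨fun a b => Subtype.ext (show (a : G) * b = b * a from congrArg (fun z : V => (z : G))
    (hVc.is_comm.comm ⟨a, (hXV a.2).1⟩ ⟨b, (hXV b.2).1⟩))⟩⟩

theorem unitAt_le (h : IsMinimalIncomplete p A θ) {g : G} (hg : g ∈ A)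
    {K B : Subgroup G} (hK : IsMaxMember p A θ K) (hB : IsLine p A B) :
    unitAt g K B ≤ oq 2 K ⊓ centralizer (B : Set G) :=
  commutator_zpowers_le (le_normalizer_inf_centralizer h.elem
    (family_le_normalizer (family_oq hK.1 2)) hB.1 hg)

theorem le_normalizer_unitAt (h : IsMinimalIncomplete p A θ) {g : G} (hg : g ∈ A)
    {K B : Subgroup G} (hK : IsMaxMember p A θ K) (hB : IsLine p A B) :
    A ≤ normalizer (unitAt g K B : Set G) :=
  le_normalizer_commutator_elem h.elem (le_normalizer_inf_centralizer h.elem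
    (family_le_normalizer (family_oq hK.1 2)) hB.1) hg

theorem unitAt_lowerCentralSeries_two (h : IsMinimalIncomplete p A θ) {g : G} (hg : g ∈ A)
    (hg1 : g ≠ 1) {K B : Subgroup G} (hK : IsMaxMember p A θ K) (hgK : θ g ≤ K)
    (hB : IsLine p A B) : (unitAt g K B).lowerCentralSeries 2 = ⊥ := by
  haveI : Fact (Nat.Prime 2) := ⟨Nat.prime_two⟩
  have hV := family_oq hK.1 2
  have hY := h.unitAt_le hg hK hB
  have hAY := h.le_normalizer_unitAt hg hK hB
  refine lowerCentralSeries_two_eq_bot (Z := zpowers g)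
    ((oq_isPGroup 2 K).to_le (hY.trans inf_le_left)).isNilpotent ?_ fun n _ hn => ?_
  · exact commutator_idem h.elem (not_dvd_of_le inf_le_left (family_not_dvd hV))
      (le_normalizer_inf_centralizer h.elem (family_le_normalizer hV) hB.1) hg
  · rw [centralizer_zpowers]
    refine h.abelian_two_fixed hg hg1 hK hgK
      ((lowerCentralSeries_le_self _ n).trans (hY.trans inf_le_left)) ?_ hn
    have key : ∀ m, A ≤ normalizer ((unitAt g K B).lowerCentralSeries m : Set G) := by
      intro m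
      induction m with
      | zero => exact hAY
      | succ m ih =>
        exact fun a ha => normalizer_inf_le_normalizer_commutator _ _ ⟨ih ha, hAY ha⟩
    exact key n

theorem commutator_unit_le_fixed (h : IsMinimalIncomplete p A θ) {g : G} (hg : g ∈ A) (hg1 : g ≠ 1)
    {K B : Subgroup G} (hK : IsMaxMember p A θ K) (hgK : θ g ≤ K) (hB : IsLine p A B)
    (hgB : g ∉ B) :
    ⁅unitAt g K B, unitAt g K B⁆ ≤ Cfsg.signalizerInf A θ := by
  have hY := h.unitAt_le hg hK hB
  have hAY := h.le_normalizer_unitAt hg hK hB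
  set Y := unitAt g K B with hYdef
  have h2 : ⁅⁅Y, Y⁆, Y⁆ = ⊥ := h.unitAt_lowerCentralSeries_two hg hg1 hK hgK hB
  have hYY : ⁅Y, Y⁆ ≤ Y := Y.lowerCentralSeries_antitone (show 0 ≤ 1 by omega)
  have hab : IsMulCommutative (⁅Y, Y⁆ : Subgroup G) := ⟨⟨fun a b => Subtype.ext
    ((commutator_eq_bot_iff_le_centralizer.mp h2) b.2 a (hYY a.2)).symm.symm⟩⟩
  have hfix : ⁅Y, Y⁆ ≤ centralizer ({g} : Set G) :=
    h.abelian_two_fixed hg hg1 hK hgK (hYY.trans (hY.trans inf_le_left))
      (fun a ha => normalizer_inf_le_normalizer_commutator _ _ ⟨hAY ha, hAY ha⟩) hab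
  have hAc : ⁅Y, Y⁆ ≤ centralizer (A : Set G) := by
    rw [← hB.centralizer_inf h.elem h.card_eq hg hgB]
    exact le_inf (hYY.trans (hY.trans inf_le_right)) hfix
  exact (le_inf (hYY.trans ((hY.trans inf_le_left).trans (oq_le 2 K))) hAc).trans
    (family_inf_centralizer_le hK.1 le_rfl)

theorem unit_le_centralizer_commutator (h : IsMinimalIncomplete p A θ) {g : G} (hg : g ∈ A)
    (hg1 : g ≠ 1) {K B : Subgroup G} (hK : IsMaxMember p A θ K) (hgK : θ g ≤ K)
    (hB : IsLine p A B) (hgB : g ∉ B) :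
    unitAt g K B ≤ centralizer ((⁅unitAt g K B, unitAt g K B⁆ : Subgroup G) : Set G) :=
  le_centralizer_iff.mp (commutator_eq_bot_iff_le_centralizer.mp
    (h.unitAt_lowerCentralSeries_two hg hg1 hK hgK hB))

theorem commutator_unit_le_oq (h : IsMinimalIncomplete p A θ) {g : G} (hg : g ∈ A)
    {K B : Subgroup G} (hK : IsMaxMember p A θ K) (hB : IsLine p A B) :
    ⁅unitAt g K B, unitAt g K B⁆ ≤ oq 2 K :=
  ((CfsgLib.Solvable.commutator_le_of_normalizes le_normalizer).trans
    (h.unitAt_le hg hK hB)).trans inf_le_left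

theorem unitZ_le_fixed (h : IsMinimalIncomplete p A θ) (g : G) (hg : g ∈ A) (hg1 : g ≠ 1) :
    unitZ p A θ g ≤ Cfsg.signalizerInf A θ ⊓ omegaQ p A θ 2 := by
  haveI : Fact (Nat.Prime 2) := ⟨Nat.prime_two⟩
  refine iSup_le fun i => ?_
  obtain ⟨⟨K, B⟩, hK, hgK, hB, hgB⟩ := i
  exact le_inf (h.commutator_unit_le_fixed hg hg1 hK hgK hB hgB)
    ((h.commutator_unit_le_oq hg hK hB).trans
      (h.oq_le_omegaQ (Ne.symm h.ne_two) hK.1 ((signalizerInf_le hg hg1).trans hgK)))

theorem fixed_le_normalizer_unitZ (h : IsMinimalIncomplete p A θ) {g : G} (hg : g ∈ A)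
    (hg1 : g ≠ 1) : Cfsg.signalizerInf A θ ≤ normalizer (unitZ p A θ g : Set G) := by
  refine le_normalizer_iSup fun i => ?_
  obtain ⟨⟨K, B⟩, hK, hgK, hB, hgB⟩ := i
  intro d hd
  have hdA : d ∈ centralizer (A : Set G) := by
    obtain ⟨a, ha, ha1⟩ := exists_ne_one_of_card_le (n := 3) (by norm_num) h.card_eq.ge
    exact signalizerInf_top_le_centralizer h.elem h.functor
      (fun h0 => ha1 (mem_bot.mp (h0 ▸ ha))) hd
  have hdY : d ∈ normalizer (unitAt g K B : Set G) :=
    normalizer_inf_le_normalizer_commutator _ _ ⟨inf_normalizer_le_normalizer_inf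
      ⟨le_normalizer_oq 2 K (hgK (signalizerInf_le hg hg1 hd)),
        le_normalizer (centralizer_le hB.1 hdA)⟩,
      centralizer_le_normalizer _ (centralizer_le (SetLike.coe_subset_coe.mpr
        (zpowers_le.mpr hg)) hdA)⟩
  exact normalizer_inf_le_normalizer_commutator _ _ ⟨hdY, hdY⟩

theorem zo_le_omegaQ (p : ℕ) (A : Subgroup G) (θ : G → Subgroup G) :
    zo p A θ ≤ omegaQ p A θ 2 := inf_le_left

theorem zo_mem_family (h : IsMinimalIncomplete p A θ) :
    zo p A θ ∈ Cfsg.signalizerFamily p A θ :=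
  family_of_le (h.omegaQ_mem_family 2) inf_le_left
    (le_normalizer_inf (h.le_normalizer_omegaQ 2)
      (le_normalizer_centralizer (h.le_normalizer_omegaQ 2)))

theorem zo_isPGroup (h : IsMinimalIncomplete p A θ) : IsPGroup 2 (zo p A θ) :=
  (h.omegaQ_isPGroup 2).to_le inf_le_left

theorem fixed_le_normalizer_zo (h : IsMinimalIncomplete p A θ) :
    Cfsg.signalizerInf A θ ≤ normalizer (zo p A θ : Set G) :=
  le_normalizer_inf (h.fixed_le_normalizer_omegaQ 2)
    (le_normalizer_centralizer (h.fixed_le_normalizer_omegaQ 2))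

theorem fixed_le_centralizer_elem (h : IsMinimalIncomplete p A θ) :
    Cfsg.signalizerInf A θ ≤ centralizer (A : Set G) := by
  obtain ⟨a, ha, ha1⟩ := exists_ne_one_of_card_le (n := 3) (by norm_num) h.card_eq.ge
  exact signalizerInf_top_le_centralizer h.elem h.functor
    fun h0 => ha1 (mem_bot.mp (h0 ▸ ha))

theorem zo_le_fixed (h : IsMinimalIncomplete p A θ) : zo p A θ ≤ Cfsg.signalizerInf A θ := by
  haveI : Fact (Nat.Prime 2) := ⟨Nat.prime_two⟩
  have hz := h.zo_mem_family
  have key : ∀ g, IsXPoint p A θ g → zo p A θ ≤ centralizer ({g} : Set G) := by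
    intro g hx
    obtain ⟨hg, hg1, -⟩ := id hx
    obtain ⟨K, hK, hgK⟩ := exists_isMaxMember_ge (functor_mem_family h.functor hg hg1)
    have hne : oq 2 K ≠ ⊥ := fun h0 => h.two_moved hx hK hgK (h0.le.trans bot_le)
    have hΩ : oq 2 K ≤ omegaQ p A θ 2 :=
      h.oq_le_omegaQ (Ne.symm h.ne_two) hK.1 ((signalizerInf_le hg hg1).trans hgK)
    have hzO : zo p A θ ≤ centralizer (oq 2 K : Set G) :=
      inf_le_right.trans (centralizer_le hΩ)
    have hzK : zo p A θ ≤ K := h.le_max_of_normalizes hK (oq_le 2 K)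
      (family_le_normalizer (family_oq hK.1 2)) (le_normalizer_oq 2 K) hne hz
      (hzO.trans (centralizer_le_normalizer _))
    set C := ⁅zo p A θ, zpowers g⁆ with hC
    have hCz : C ≤ zo p A θ := commutator_zpowers_le (family_le_normalizer hz hg)
    have hC2 : C ≤ oq 2 K := le_oq_of_centralizes_oq hK.solvable (hCz.trans hzK)
      (h.zo_isPGroup.to_le hCz) fun r hr => by
        by_cases hr2 : r = 2
        · subst hr2; exact hCz.trans hzO
        · exact commutator_zpowers_le_centralizer (hzK.trans (le_normalizer_oq r K))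
            (hx.oq_le hK hgK hr hr2)
    have hCab : IsMulCommutative C := ⟨⟨fun a b => Subtype.ext
      ((hCz b.2).2 a (hCz a.2).1)⟩⟩
    have hCg := h.abelian_two_fixed hg hg1 hK hgK hC2
      (le_normalizer_commutator_elem h.elem (family_le_normalizer hz) hg) hCab
    refine le_centralizer_singleton_of_commutator_eq_bot ?_
    rw [← commutator_idem h.elem (family_not_dvd hz) (family_le_normalizer hz) hg]
    exact commutator_eq_bot_of_le_centralizer_singleton hCg
  obtain ⟨a0, ha0, -⟩ := exists_ne_one_of_card_le (n := 3) (by norm_num) h.card_eq.ge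
  obtain ⟨L, hL, -, -⟩ := exists_line_ge h.elem h.card_eq ha0 ha0
  obtain ⟨a, ha, a', ha', hxa, hxa', hne⟩ := h.exists_two_xPoints hL
  obtain ⟨c, hxc, hcL⟩ := h.exists_xPoint_notMem hL
  have hLgen : zpowers a ⊔ zpowers a' = L := eq_of_le_of_card_ge
    (sup_le (zpowers_le.mpr ha) (zpowers_le.mpr ha')) (by
      rw [card_sup_zpowers_elementary h.elem (zpowers_le.mpr (hL.1 ha)) (hL.1 ha') hne,
        card_zpowers_elementary h.elem (hL.1 ha) hxa.2.1, hL.2, pow_two])
  have hzL : zo p A θ ≤ centralizer (L : Set G) := by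
    rw [le_centralizer_iff, ← hLgen]
    refine sup_le (zpowers_le.mpr ?_) (zpowers_le.mpr ?_)
    · exact fun z hz => mem_centralizer_singleton_iff.mp (key a hxa hz)
    · exact fun z hz => mem_centralizer_singleton_iff.mp (key a' hxa' hz)
  have hzA : zo p A θ ≤ centralizer (A : Set G) := by
    rw [← hL.centralizer_inf h.elem h.card_eq hxc.1 hcL]
    exact le_inf hzL (key c hxc)
  exact (le_inf le_rfl hzA).trans (family_inf_centralizer_le hz le_rfl)

theorem zo_ne_bot (h : IsMinimalIncomplete p A θ) : zo p A θ ≠ ⊥ := by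
  haveI : Fact (Nat.Prime 2) := ⟨Nat.prime_two⟩
  obtain ⟨a0, ha0, -⟩ := exists_ne_one_of_card_le (n := 3) (by norm_num) h.card_eq.ge
  obtain ⟨L, hL, -, -⟩ := exists_line_ge h.elem h.card_eq ha0 ha0
  obtain ⟨g, hgL, -, -, hx, -, -⟩ := h.exists_two_xPoints hL
  obtain ⟨hg, hg1, -⟩ := id hx
  obtain ⟨K, hK, hgK⟩ := exists_isMaxMember_ge (functor_mem_family h.functor hg hg1)
  have hne : oq 2 K ≠ ⊥ := fun h0 => h.two_moved hx hK hgK (h0.le.trans bot_le)
  have hΩ : oq 2 K ≤ omegaQ p A θ 2 :=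
    h.oq_le_omegaQ (Ne.symm h.ne_two) hK.1 ((signalizerInf_le hg hg1).trans hgK)
  haveI : Nontrivial (omegaQ p A θ 2) := (Subgroup.nontrivial_iff_ne_bot _).mpr
    fun h0 => hne (le_bot_iff.mp (hΩ.trans h0.le))
  haveI := (h.omegaQ_isPGroup 2).center_nontrivial
  obtain ⟨z, hz⟩ := exists_ne (1 : Subgroup.center (omegaQ p A θ 2))
  intro h0
  refine hz (Subtype.ext (Subtype.ext (mem_bot.mp (h0 ▸ ?_ : ((z : omegaQ p A θ 2) : G) ∈ (⊥ : Subgroup G)))))
  exact ⟨(z : omegaQ p A θ 2).2, fun x hx => congrArg Subtype.val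
    (mem_center_iff.mp z.2 ⟨x, hx⟩)⟩

theorem two_member_le_centralizer_zo (h : IsMinimalIncomplete p A θ) {U : Subgroup G}
    (hU : U ∈ Cfsg.signalizerFamily p A θ) (hU2 : IsPGroup 2 U)
    (hD : Cfsg.signalizerInf A θ ≤ normalizer (U : Set G)) :
    U ≤ centralizer (zo p A θ : Set G) := by
  haveI : Fact (Nat.Prime 2) := ⟨Nat.prime_two⟩
  exact (h.le_omegaQ (Ne.symm h.ne_two) hU hU2 hD).trans (le_centralizer_iff.mp inf_le_right)

theorem odd_fixed_le_centralizer_zo (h : IsMinimalIncomplete p A θ) {R : Subgroup G}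
    (hR : (Nat.card R).Coprime 2) (hZ : zo p A θ ≤ normalizer (R : Set G)) :
    R ⊓ Cfsg.signalizerInf A θ ≤ centralizer (zo p A θ : Set G) := by
  haveI : Fact (Nat.Prime 2) := ⟨Nat.prime_two⟩
  refine le_centralizer_of_inf_eq_bot inf_le_left
    (inf_le_right.trans h.fixed_le_normalizer_zo) hZ (inf_eq_bot_of_coprime ?_)
  obtain ⟨n, hn⟩ := h.zo_isPGroup.exists_card_eq
  rw [hn]
  exact Nat.Coprime.pow_left n hR.symm

/-- An odd member centralized by a point centralizes its units' derived groups. -/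
theorem le_centralizer_unitZ (h : IsMinimalIncomplete p A θ) {a : G} (ha : a ∈ A) (ha1 : a ≠ 1)
    {T : Subgroup G} (hT : T ∈ Cfsg.signalizerFamily p A θ) (hTodd : (Nat.card T).Coprime 2)
    (hDT : Cfsg.signalizerInf A θ ≤ normalizer (T : Set G))
    (hTa : T ≤ centralizer ({a} : Set G)) : T ≤ centralizer (unitZ p A θ a : Set G) := by
  haveI : Fact (Nat.Prime 2) := ⟨Nat.prime_two⟩
  rw [le_centralizer_iff]
  refine iSup_le fun i => ?_
  obtain ⟨⟨K, B⟩, hK, haK, hB, haB⟩ := i
  have hTK : T ≤ K := (le_inf le_rfl hTa).trans ((family_inf_le hT ha ha1).trans haK)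
  refine le_centralizer_of_inf_eq_bot (h.commutator_unit_le_oq ha hK hB)
    ((h.commutator_unit_le_fixed ha ha1 hK haK hB haB).trans hDT)
    (hTK.trans (le_normalizer_oq 2 K)) (inf_eq_bot_of_coprime ?_)
  obtain ⟨n, hn⟩ := (oq_isPGroup 2 K).exists_card_eq
  rw [hn]
  exact Nat.Coprime.pow_right n hTodd

end IsMinimalIncomplete

end CfsgLib.Signalizer
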